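import Cfsg.Agent.Golay.CodeFacts

/-!
Checked stabiliser chains inside the group of the code: upper bounds for orbits come from
fixed octads, lower bounds from explicit transversal tables.
-/

set_option autoImplicit false

namespace Cfsg.Agent.Golay

open Cfsg
open scoped Pointwise

/-- Stabiliser in the group of the code of the sets `E` and of every point of the mask `F`. -/
def stabGrp (E : List ℕ) (F : ℕ) : Subgroup (Equiv.Perm GolayPt) where
  carrier := {σ | σ ∈ M24 ∧ (∀ e ∈ E, σ • ptSet e = ptSet e) ∧ ∀ p ∈ ptSet F, σ p = p}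
  one_mem' := ⟨one_mem _, fun _ _ => one_smul _ _, fun _ _ => rfl⟩
  mul_mem' := by
    rintro a b ⟨ha, ha1, ha2⟩ ⟨hb, hb1, hb2⟩
    refine ⟨mul_mem ha hb, fun e he => by rw [mul_smul, hb1 e he, ha1 e he], fun p hp => ?_⟩
    rw [Equiv.Perm.mul_apply, hb2 p hp, ha2 p hp]
  inv_mem' := by
    rintro a ⟨ha, ha1, ha2⟩
    refine ⟨inv_mem ha, fun e he => ?_, fun p hp => ?_⟩
    · rw [inv_smul_eq_iff, ha1 e he]
    · rw [Equiv.Perm.coe_inv, Equiv.symm_apply_eq, ha2 p hp]

lemma mem_stabGrp {E : List ℕ} {F : ℕ} {σ : Equiv.Perm GolayPt} :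
    σ ∈ stabGrp E F ↔
      σ ∈ M24 ∧ (∀ e ∈ E, σ • ptSet e = ptSet e) ∧ ∀ p ∈ ptSet F, σ p = p := Iff.rfl

lemma stabGrp_le_M24 (E : List ℕ) (F : ℕ) : stabGrp E F ≤ M24 := fun _ h => h.1

lemma stabGrp_nil_zero : stabGrp [] 0 = M24 := by
  refine le_antisymm (stabGrp_le_M24 _ _) fun σ hσ => ⟨hσ, by simp, ?_⟩
  simp [ptSet_zero]

lemma stabGrp_or (E : List ℕ) (F : ℕ) {b : ℕ} (hb : b < 24) :
    stabGrp E (F ||| 2 ^ b) = stabGrp E F ⊓ MulAction.stabilizer (Equiv.Perm GolayPt) (pt b) := by
  ext σ
  simp only [mem_stabGrp, Subgroup.mem_inf, MulAction.mem_stabilizer_iff, Equiv.Perm.smul_def,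
    ptSet_or, ptSet_two_pow hb, Finset.mem_union, Finset.mem_singleton]
  constructor
  · rintro ⟨h1, h2, h3⟩
    exact ⟨⟨h1, h2, fun p hp => h3 p (Or.inl hp)⟩, h3 _ (Or.inr rfl)⟩
  · rintro ⟨⟨h1, h2, h3⟩, h4⟩
    refine ⟨h1, h2, fun p hp => ?_⟩
    rcases hp with hp | rfl
    · exact h3 p hp
    · exact h4

/-- Apply `k` to `n`, evaluating `n` first (for kernel computations). -/
def forceN {α : Sort*} (n : ℕ) (k : ℕ → α) : α :=
  match n with
  | 0 => k 0
  | m + 1 => k (m + 1)

lemma forceN_eq {α : Sort*} (n : ℕ) (k : ℕ → α) : forceN n k = k n := by cases n <;> rfl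

/-- Apply `k` to a list, evaluating the list and its entries first. -/
def forceL {α : Sort*} : List ℕ → (List ℕ → α) → α
  | [], k => k []
  | a :: t, k => forceN a fun a' => forceL t fun t' => k (a' :: t')

lemma forceL_eq {α : Sort*} : ∀ (l : List ℕ) (k : List ℕ → α), forceL l k = k l
  | [], _ => rfl
  | a :: t, k => by rw [forceL, forceN_eq, forceL_eq t]

/-- Masks of sets mapped to themselves by every element of `stabGrp E F`. -/
def fixedSets (E : List ℕ) (F : ℕ) : List ℕ :=
  (((List.range 24).filter fun i => F.testBit i).map fun i => 2 ^ i) ++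
    (octadList.filter fun o => 5 ≤ popCnt (o &&& F)) ++ E

lemma smul_fixedSets {E : List ℕ} {F : ℕ} {σ : Equiv.Perm GolayPt} (hσ : σ ∈ stabGrp E F)
    {o : ℕ} (ho : o ∈ fixedSets E F) : σ • ptSet o = ptSet o := by
  obtain ⟨h1, h2, h3⟩ := hσ
  simp only [fixedSets, List.mem_append, List.mem_map, List.mem_filter, List.mem_range,
    decide_eq_true_eq] at ho
  rcases ho with (⟨i, ⟨hi, hF⟩, rfl⟩ | ⟨ho, h5⟩) | he
  · rw [ptSet_two_pow hi, Finset.smul_finset_singleton, Equiv.Perm.smul_def,
      h3 _ (by rw [mem_ptSet, idx_pt i hi]; exact hF)]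
  · refine smul_octad_eq h1 (ptSet_mem_octads ho) h3 ?_
    rw [← ptSet_and, card_ptSet]
    exact h5
  · exact h2 o he

/-- Intersection of the sets in `S` through position `i` and complements of the others. -/
def cellOf (S : List ℕ) (i : ℕ) : ℕ :=
  S.foldl (fun acc o => acc &&& (if o.testBit i then o else fullMask ^^^ o)) fullMask

lemma testBit_cellOf {S : List ℕ} {σ : Equiv.Perm GolayPt}
    (hS : ∀ o ∈ S, σ • ptSet o = ptSet o) {i : ℕ} (hi : i < 24) :
    (cellOf S i).testBit (idx (σ (pt i))) = true := by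
  have : ∀ acc : ℕ, acc.testBit (idx (σ (pt i))) = true →
      (S.foldl (fun acc o => acc &&& (if o.testBit i then o else fullMask ^^^ o)) acc).testBit
        (idx (σ (pt i))) = true := by
    induction S with
    | nil => exact fun _ h => h
    | cons o t ih =>
      intro acc hacc
      rw [List.foldl_cons]
      refine ih (fun x hx => hS x (List.mem_cons_of_mem _ hx)) _ ?_
      have hmem : o.testBit (idx (σ (pt i))) = o.testBit i := by
        refine Bool.eq_iff_iff.2 ?_
        rw [← mem_ptSet, ← hS o (by simp), mem_smul_finset_iff, Equiv.symm_apply_apply,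
          mem_ptSet, idx_pt i hi]
      rw [Nat.testBit_and, hacc, Bool.true_and]
      by_cases h : o.testBit i = true
      · rw [if_pos h, hmem, h]
      · rw [if_neg h, Nat.testBit_xor, hmem, fullMask, Nat.testBit_two_pow_sub_one,
          decide_eq_true (idx_lt _)]
        simpa using h
  exact this _ ((Nat.testBit_two_pow_sub_one 24 _).trans (decide_eq_true (idx_lt _)))

/-- Positions forced to be fixed. -/
def closeWith (S : List ℕ) (F : ℕ) : ℕ :=
  (List.range 24).foldl (fun acc i => if cellOf S i == 2 ^ i then acc ||| 2 ^ i else acc) F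

/-- Enlarge a set of fixed points by one round of octad intersections. -/
def closeFix (E : List ℕ) (F : ℕ) : ℕ :=
  forceN F fun F' => forceL (fixedSets E F') fun S => closeWith S F'

lemma closeFix_eq (E : List ℕ) (F : ℕ) : closeFix E F = closeWith (fixedSets E F) F := by
  rw [closeFix, forceN_eq, forceL_eq]

lemma fix_closeWith {E S : List ℕ} {F : ℕ} {σ : Equiv.Perm GolayPt}
    (hS : ∀ o ∈ S, σ • ptSet o = ptSet o) (hσ : σ ∈ stabGrp E F) :
    σ ∈ stabGrp E (closeWith S F) := by
  refine ⟨hσ.1, hσ.2.1, ?_⟩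
  have key : ∀ (l : List ℕ), (∀ i ∈ l, i < 24) → ∀ acc : ℕ, (∀ p ∈ ptSet acc, σ p = p) →
      ∀ p ∈ ptSet (l.foldl (fun acc i =>
        if cellOf S i == 2 ^ i then acc ||| 2 ^ i else acc) acc), σ p = p := by
    intro l
    induction l with
    | nil => exact fun _ _ h => h
    | cons i t ih =>
      intro hl acc hacc
      rw [List.foldl_cons]
      refine ih (fun j hj => hl j (List.mem_cons_of_mem _ hj)) _ ?_
      split
      · next hc =>
        have hi : i < 24 := hl i (by simp)
        intro p hp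
        rw [ptSet_or, Finset.mem_union, ptSet_two_pow hi, Finset.mem_singleton] at hp
        rcases hp with hp | rfl
        · exact hacc p hp
        · have hb := testBit_cellOf (S := S) (σ := σ) hS hi
          rw [eq_of_beq hc, Nat.testBit_two_pow, decide_eq_true_eq] at hb
          rw [← pt_idx (σ (pt i)), ← hb]
      · exact hacc
  exact key _ (fun i hi => List.mem_range.1 hi) F hσ.2.2

lemma fix_closeFix {E : List ℕ} {F : ℕ} {σ : Equiv.Perm GolayPt} (hσ : σ ∈ stabGrp E F) :
    σ ∈ stabGrp E (closeFix E F) := by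
  rw [closeFix_eq]
  exact fix_closeWith (fun o ho => smul_fixedSets hσ ho) hσ

/-- As `closeFix`, using only the first few stabilised sets. -/
def closeFixFew (E : List ℕ) (F : ℕ) : ℕ :=
  forceN F fun F' => forceL (E ++ (fixedSets E F').take 40) fun S => closeWith S F'

lemma fix_closeFixFew {E : List ℕ} {F : ℕ} {σ : Equiv.Perm GolayPt} (hσ : σ ∈ stabGrp E F) :
    σ ∈ stabGrp E (closeFixFew E F) := by
  rw [closeFixFew, forceN_eq, forceL_eq]
  refine fix_closeWith (fun o ho => ?_) hσ
  rcases List.mem_append.1 ho with ho | ho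
  · exact hσ.2.1 o ho
  · exact smul_fixedSets hσ (List.mem_of_mem_take ho)

/-- Three rounds of closing fix every point. -/
def isRigid (E : List ℕ) (F : ℕ) : Bool :=
  forceN F fun F' => F' == fullMask ||
    closeFixFew E (closeFixFew E (closeFixFew E F')) == fullMask ||
    closeFix E (closeFix E (closeFix E F')) == fullMask

lemma stabGrp_eq_bot {E : List ℕ} {F : ℕ} (h : isRigid E F = true) : stabGrp E F = ⊥ := by
  rw [Subgroup.eq_bot_iff_forall]
  intro σ hσ
  rw [isRigid, forceN_eq, Bool.or_eq_true, Bool.or_eq_true] at h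
  obtain ⟨F'', hσ', hF⟩ : ∃ F'', σ ∈ stabGrp E F'' ∧ F'' = fullMask := by
    rcases h with (h | h) | h
    · exact ⟨F, hσ, eq_of_beq h⟩
    · exact ⟨_, fix_closeFixFew (fix_closeFixFew (fix_closeFixFew hσ)), eq_of_beq h⟩
    · exact ⟨_, fix_closeFix (fix_closeFix (fix_closeFix hσ)), eq_of_beq h⟩
  have h' := hσ'.2.2
  rw [hF, ptSet_fullMask] at h'
  exact Equiv.ext fun p => h' p (Finset.mem_univ p)

/-- Octads through exactly four fixed points that are singled out among the octads with the
same fixed points by their intersection sizes with the stabilised sets. -/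
def profileSets (E : List ℕ) (F : ℕ) : List ℕ :=
  (octadList.filter fun o => popCnt (o &&& F) == 4).filter fun o =>
    (octadList.filter fun q =>
      (q &&& F == o &&& F) && E.all fun e => popCnt (q &&& e) == popCnt (o &&& e)) == [o]

lemma smul_ptSet_eq_of_fix {F : ℕ} {σ : Equiv.Perm GolayPt} (h : ∀ p ∈ ptSet F, σ p = p)
    (m : ℕ) : σ • ptSet (m &&& F) = ptSet (m &&& F) := by
  ext p
  rw [ptSet_and, mem_smul_finset_iff, Finset.mem_inter, Finset.mem_inter]
  constructor
  · rintro ⟨h1, h2⟩
    have := h _ h2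
    rw [Equiv.apply_symm_apply] at this
    rw [← this] at h1 h2
    exact ⟨h1, h2⟩
  · rintro ⟨h1, h2⟩
    rw [(Equiv.symm_apply_eq σ).2 (h p h2).symm]
    exact ⟨h1, h2⟩

lemma smul_profileSets {E : List ℕ} {F : ℕ} {σ : Equiv.Perm GolayPt} (hσ : σ ∈ stabGrp E F)
    {o : ℕ} (ho : o ∈ profileSets E F) : σ • ptSet o = ptSet o := by
  simp only [profileSets, List.mem_filter] at ho
  obtain ⟨⟨hoct, -⟩, huniq⟩ := ho
  have hm := mem_octads_iff.1 (smul_mem_octads hσ.1 (ptSet_mem_octads hoct))
  have hself : maskOf (σ • ptSet o) = o := by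
    refine List.mem_singleton.1 (eq_of_beq huniq ▸ List.mem_filter.2 ⟨hm, ?_⟩)
    rw [Bool.and_eq_true, List.all_eq_true]
    refine ⟨beq_iff_eq.2 ?_, fun e he => beq_iff_eq.2 ?_⟩
    · refine ptSet_injOn (and_lt_full (maskOf_lt _)) (and_lt_full (octadList_lt hoct)) ?_
      conv_rhs => rw [← smul_ptSet_eq_of_fix hσ.2.2 o, ptSet_and, Finset.smul_finset_inter]
      rw [ptSet_and, ptSet_maskOf]
      congr 1
      symm
      have h1 := smul_ptSet_eq_of_fix hσ.2.2 F
      rwa [Nat.and_self] at h1
    · rw [← card_ptSet, ← card_ptSet, ptSet_and, ptSet_and, ptSet_maskOf]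
      conv_lhs => rw [← hσ.2.1 e he, ← Finset.smul_finset_inter, Finset.card_smul_finset]
  conv_rhs => rw [← hself, ptSet_maskOf]

/-- The stabiliser is visibly trivial, possibly after adjoining singled-out octads. -/
def isTrivialStab (E : List ℕ) (F : ℕ) : Bool :=
  forceN F fun F' => isRigid E F' || forceL (profileSets E F' ++ E) fun E' => isRigid E' F' 

lemma stabGrp_eq_bot' {E : List ℕ} {F : ℕ} (h : isTrivialStab E F = true) : stabGrp E F = ⊥ := by
  rw [isTrivialStab, forceN_eq, forceL_eq] at h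
  rcases Bool.or_eq_true_iff.1 h with h | h
  · exact stabGrp_eq_bot h
  · rw [eq_bot_iff, ← stabGrp_eq_bot h]
    intro σ hσ
    refine ⟨hσ.1, fun e he => ?_, hσ.2.2⟩
    rcases List.mem_append.1 he with he | he
    · exact smul_profileSets hσ he
    · exact hσ.2.1 e he

/-- Orbit mask of a position under a list of tables. -/
def orbitMask (ts : List ℕ) (b : ℕ) : ℕ := ts.foldl (fun acc t => acc ||| 1 <<< app t b) 0

/-- A table fixes every position of a mask. -/
def fixesMask (t F : ℕ) : Bool := (List.range 24).all fun i => !F.testBit i || app t i == i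

/-- A table lies in `stabGrp E F`. -/
def inStab (E : List ℕ) (F t : ℕ) : Bool :=
  inM24 t && (E.all fun e => tblImg t e == e) && fixesMask t F

lemma mem_stabGrp_of_inStab {E : List ℕ} {F t : ℕ} (h : inStab E F t = true) :
    mkPerm t ∈ stabGrp E F := by
  simp only [inStab, Bool.and_eq_true] at h
  obtain ⟨⟨h1, h2⟩, h3⟩ := h
  have hT := validT_of_inM24 h1
  refine ⟨mem_M24_of_inM24 h1, fun e he => ?_, fun p hp => ?_⟩
  · rw [← ptSet_tblImg hT, eq_of_beq (List.all_eq_true.1 h2 e he)]
  · have h4 := List.all_eq_true.1 h3 (idx p) (List.mem_range.2 (idx_lt p))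
    rw [mem_ptSet.1 hp, Bool.not_true, Bool.false_or] at h4
    rw [mkPerm_apply hT, eq_of_beq h4, pt_idx]

lemma testBit_orbitMask (ts : List ℕ) (b j : ℕ) :
    (orbitMask ts b).testBit j = true ↔ ∃ t ∈ ts, app t b = j := by
  have : ∀ acc : ℕ, (ts.foldl (fun acc t => acc ||| 1 <<< app t b) acc).testBit j = true ↔
      (acc.testBit j = true ∨ ∃ t ∈ ts, app t b = j) := by
    induction ts with
    | nil => simp
    | cons a t ih =>
      intro acc
      rw [List.foldl_cons, ih, Nat.testBit_or, Bool.or_eq_true, Nat.one_shiftLeft,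
        Nat.testBit_two_pow, decide_eq_true_eq]
      simp only [List.mem_cons, exists_eq_or_imp]
      tauto
  rw [orbitMask, this]
  simp

/-- Check a stabiliser chain: base positions with transversal tables. -/
def checkChain (E : List ℕ) : ℕ → List (ℕ × List ℕ) → Bool
  | F, [] => isTrivialStab E F
  | F, (b, ts) :: rest =>
      (b < 24) && (ts.all (inStab E F)) && (orbitMask ts b == cellOf (fixedSets E F) b) &&
        (popCnt (orbitMask ts b) == ts.length) && checkChain E (F ||| 2 ^ b) rest

/-- Product of the orbit lengths. -/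
def chainCard : List (ℕ × List ℕ) → ℕ
  | [] => 1
  | (_, ts) :: rest => ts.length * chainCard rest

lemma card_eq_orbit_mul_stab {α : Type*} (H : Subgroup (Equiv.Perm α)) (x : α) :
    Nat.card H = (MulAction.orbit H x).ncard *
      Nat.card ↥(H ⊓ MulAction.stabilizer (Equiv.Perm α) x) := by
  have h1 : MulAction.stabilizer H x
      = (H ⊓ MulAction.stabilizer (Equiv.Perm α) x).subgroupOf H := by
    ext g
    simp [Subgroup.mem_subgroupOf, Subgroup.smul_def]
  have h2 := Subgroup.card_mul_index (MulAction.stabilizer H x)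
  rw [MulAction.index_stabilizer, h1] at h2
  rw [← h2, mul_comm,
    Nat.card_congr (Subgroup.subgroupOfEquivOfLe (show H ⊓ MulAction.stabilizer (Equiv.Perm α) x ≤ H
      from inf_le_left)).toEquiv]

lemma orbit_eq_of_check {E : List ℕ} {F b : ℕ} {ts : List ℕ} (hb : b < 24)
    (hts : ∀ t ∈ ts, inStab E F t = true) (ho : orbitMask ts b = cellOf (fixedSets E F) b)
    {H : Subgroup (Equiv.Perm GolayPt)} (hH : H ≤ stabGrp E F)
    (hmem : ∀ t ∈ ts, mkPerm t ∈ H) :
    MulAction.orbit H (pt b) = (ptSet (orbitMask ts b) : Set GolayPt) := by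
  ext q
  rw [MulAction.mem_orbit_iff, Finset.mem_coe, mem_ptSet]
  constructor
  · rintro ⟨g, rfl⟩
    rw [ho]
    exact testBit_cellOf (fun o h => smul_fixedSets (hH g.2) h) hb
  · intro hq
    obtain ⟨t, ht, hat⟩ := (testBit_orbitMask _ _ _).1 hq
    refine ⟨⟨mkPerm t, hmem t ht⟩, ?_⟩
    have hv : validT t = true := by
      have := hts t ht
      simp only [inStab, Bool.and_eq_true] at this
      exact validT_of_inM24 this.1.1
    rw [Subgroup.smul_def, Equiv.Perm.smul_def, mkPerm_pt hv hb, hat, pt_idx]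

lemma inStab_fixes {E : List ℕ} {F t : ℕ} (h : inStab E F t = true) {p : GolayPt}
    (hp : p ∈ ptSet F) : mkPerm t p = p := (mem_stabGrp_of_inStab h).2.2 p hp

lemma checkChain_mem (E : List ℕ) : ∀ (F : ℕ) (L : List (ℕ × List ℕ)),
    checkChain E F L = true → ∀ l ∈ L, ∀ t ∈ l.2, mkPerm t ∈ stabGrp E F
  | _, [], _, l, hl, _, _ => by simp at hl
  | F, (b, ts) :: rest, h, l, hl, t, ht => by
    simp only [checkChain, Bool.and_eq_true, decide_eq_true_eq, List.all_eq_true] at h
    obtain ⟨⟨⟨⟨hb, hts⟩, -⟩, -⟩, hrest⟩ := h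
    rcases List.mem_cons.1 hl with rfl | hl
    · exact mem_stabGrp_of_inStab (hts t ht)
    · have := checkChain_mem E _ rest hrest l hl t ht
      rw [stabGrp_or E F hb] at this
      exact this.1

/-- A group between the transversals and the stabiliser has the product of orbit lengths as order. -/
theorem checkChain_card (E : List ℕ) : ∀ (F : ℕ) (L : List (ℕ × List ℕ)),
    checkChain E F L = true → ∀ H : Subgroup (Equiv.Perm GolayPt), H ≤ stabGrp E F →
      (∀ l ∈ L, ∀ t ∈ l.2, mkPerm t ∈ H) → Nat.card H = chainCard L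
  | F, [], h, H, hH, _ => by
    rw [eq_bot_iff.2 (hH.trans_eq (stabGrp_eq_bot' h))]
    simp [chainCard]
  | F, (b, ts) :: rest, h, H, hH, hmem => by
    simp only [checkChain, Bool.and_eq_true, decide_eq_true_eq, List.all_eq_true] at h
    obtain ⟨⟨⟨⟨hb, hts⟩, ho⟩, hc⟩, hrest⟩ := h
    rw [card_eq_orbit_mul_stab H (pt b),
      orbit_eq_of_check hb hts (eq_of_beq ho) hH (fun t ht => hmem (b, ts) (by simp) t ht),
      Set.ncard_coe_finset, card_ptSet, eq_of_beq hc, chainCard]
    congr 1
    refine checkChain_card E _ rest hrest _ ?_ ?_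
    · rw [stabGrp_or E F hb]; exact inf_le_inf_right _ hH
    · intro l hl t ht
      refine ⟨hmem l (List.mem_cons_of_mem _ hl) t ht, ?_⟩
      have := checkChain_mem E _ rest hrest l hl t ht
      rw [stabGrp_or E F hb] at this
      exact this.2

theorem card_stabGrp {E : List ℕ} {F : ℕ} {L : List (ℕ × List ℕ)}
    (h : checkChain E F L = true) : Nat.card (stabGrp E F) = chainCard L :=
  checkChain_card E F L h _ le_rfl (checkChain_mem E F L h)

/-- The transversals generate. -/
theorem eq_stabGrp_of_mem {E : List ℕ} {F : ℕ} {L : List (ℕ × List ℕ)}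
    (h : checkChain E F L = true) {H : Subgroup (Equiv.Perm GolayPt)} (hH : H ≤ stabGrp E F)
    (hmem : ∀ l ∈ L, ∀ t ∈ l.2, mkPerm t ∈ H) : H = stabGrp E F :=
  Subgroup.eq_of_le_of_card_ge hH
    (by rw [card_stabGrp h, checkChain_card E F L h H hH hmem])

/-! ### Straight-line programs -/

/-- Check that each triple `(C, A, B)` has `C = A B` with `A`, `B` known earlier. -/
def checkSLP : List ℕ → List (ℕ × ℕ × ℕ) → Bool
  | _, [] => true
  | known, (C, A, B) :: rest =>
      known.contains A && known.contains B && (tblMul A B == C) && checkSLP (C :: known) rest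

theorem checkSLP_mem {H : Subgroup (Equiv.Perm GolayPt)} : ∀ (known : List ℕ)
    (L : List (ℕ × ℕ × ℕ)), checkSLP known L = true →
    (∀ A ∈ known, validT A = true ∧ mkPerm A ∈ H) →
    ∀ c ∈ known ++ L.map (fun n => n.1), validT c = true ∧ mkPerm c ∈ H
  | known, [], _, hk, c, hc => hk c (by simpa using hc)
  | known, (C, A, B) :: rest, h, hk, c, hc => by
    simp only [checkSLP, Bool.and_eq_true, List.contains_iff_mem] at h
    obtain ⟨⟨⟨hA, hB⟩, hC⟩, hrest⟩ := h
    obtain ⟨hvA, hmA⟩ := hk A hA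
    obtain ⟨hvB, hmB⟩ := hk B hB
    have hs := tblMul_spec hvA hvB
    rw [eq_of_beq hC] at hs
    refine checkSLP_mem (C :: known) rest hrest ?_ c ?_
    · intro D hD
      rcases List.mem_cons.1 hD with rfl | hD
      · refine ⟨hs.1, ?_⟩
        rw [hs.2]
        exact mul_mem hmA hmB
      · exact hk D hD
    · simp only [List.mem_append, List.map_cons, List.mem_cons] at hc ⊢
      rcases hc with hc | hc | hc
      · exact Or.inl (Or.inr hc)
      · exact Or.inl (Or.inl hc)
      · exact Or.inr hc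

end Cfsg.Agent.Golay
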