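import Mathlib

/-!
Two simplicity criteria for permutation groups used for the Mathieu groups.
-/

set_option autoImplicit false

namespace Cfsg.Agent.Golay

open Subgroup

variable {G α : Type*} [Group G] [MulAction G α] [FaithfulSMul G α]

lemma isPretransitive_of_normal_ne_bot [MulAction.IsPreprimitive G α] {N : Subgroup G}
    [N.Normal] (hN : N ≠ ⊥) : MulAction.IsPretransitive N α := by
  refine MulAction.IsQuasiPreprimitive.isPretransitive_of_normal fun h => hN ?_
  rw [eq_bot_iff_forall]
  intro n hn
  refine FaithfulSMul.eq_of_smul_eq_smul (α := α) fun a => ?_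
  have ha : a ∈ MulAction.fixedPoints N α := h ▸ Set.mem_univ a
  rw [one_smul]
  exact ha ⟨n, hn⟩

lemma card_dvd_card_of_transitive [Finite α] [Nonempty α] {H : Type*} [Group H] [MulAction H α]
    [MulAction.IsPretransitive H α] : Nat.card α ∣ Nat.card H := by
  obtain ⟨a⟩ := (inferInstance : Nonempty α)
  rw [← MulAction.index_stabilizer_of_transitive H a]
  exact Subgroup.index_dvd_card _

omit [MulAction G α] [FaithfulSMul G α] in
lemma isSolvable_normalizer_zpowers [Finite G] {x : G}
    (hc : Subgroup.centralizer {x} ≤ Subgroup.zpowers x) :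
    Group.IsSolvable ↥(Subgroup.normalizer ((Subgroup.zpowers x : Subgroup G) : Set G)) := by
  set f := (Subgroup.zpowers x).normalizerMonoidHom
  have : Group.IsSolvable f.range :=
    Group.isSolvable_of_comm fun a b =>
      Subtype.ext ((IsCyclic.mulAutMulEquiv (Subgroup.zpowers x)).injective (by
        rw [Subgroup.coe_mul, Subgroup.coe_mul, map_mul, map_mul, mul_comm]))
  have hker : ∀ a : f.ker, ((a.1 : G)) ∈ Subgroup.zpowers x := by
    intro a
    apply hc
    have ha := (SetLike.ext_iff.1 (Subgroup.normalizerMonoidHom_ker (Subgroup.zpowers x)) _).1 a.2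
    rw [Subgroup.mem_subgroupOf] at ha
    rw [Subgroup.mem_centralizer_iff] at ha ⊢
    intro y hy
    rw [Set.mem_singleton_iff.1 hy]
    exact ha x (Subgroup.mem_zpowers x)
  have : Group.IsSolvable f.ker := Group.isSolvable_of_comm fun a b => by
    obtain ⟨i, hi⟩ := hker a
    obtain ⟨j, hj⟩ := hker b
    refine Subtype.ext (Subtype.ext ?_)
    simp only [Subgroup.coe_mul, ← hi, ← hj, ← zpow_add, add_comm]
  exact Group.isSolvable_of_ker_le_range f.ker.subtype f.rangeRestrict (by
    rw [MonoidHom.ker_rangeRestrict, Subgroup.range_subtype])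

/-- A perfect primitive group of degree divisible by a prime `p` with `p²` not dividing the
order and with a self-centralising element of order `p` is simple. -/
theorem isSimpleGroup_of_perfect_sylow [Finite G] [Finite α] [Nonempty α] [Nontrivial G]
    [MulAction.IsPreprimitive G α] {p : ℕ} [hp : Fact p.Prime] (hdeg : p ∣ Nat.card α)
    (hsq : ¬ p ^ 2 ∣ Nat.card G) {x : G} (hx : orderOf x = p)
    (hc : Subgroup.centralizer {x} ≤ Subgroup.zpowers x)
    (hperf : commutator G = ⊤) : IsSimpleGroup G := by
  constructor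
  intro N hNn
  by_cases hN : N = ⊥
  · exact Or.inl hN
  right
  haveI := hNn
  haveI := isPretransitive_of_normal_ne_bot (α := α) hN
  have hpN : p ∣ Nat.card N := hdeg.trans card_dvd_card_of_transitive
  obtain ⟨y, hy⟩ := exists_prime_orderOf_dvd_card' p hpN
  -- every Sylow `p`-subgroup has order `p`
  have hsyl : ∀ P : Sylow p G, Nat.card P = p := by
    intro P
    have h1 : p ∣ Nat.card P :=
      P.dvd_card_of_dvd_card (hpN.trans (Subgroup.card_subgroup_dvd_card N))
    obtain ⟨k, hk⟩ := IsPGroup.iff_card.1 P.isPGroup'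
    have hkdvd : p ^ k ∣ Nat.card G := hk ▸ Subgroup.card_subgroup_dvd_card (P : Subgroup G)
    have hk1 : k = 1 := by
      rcases k with _ | _ | k
      · rw [hk, pow_zero, Nat.dvd_one] at h1; exact absurd h1 hp.out.ne_one
      · rfl
      · exact absurd ((pow_dvd_pow p (by omega : 2 ≤ k + 2)).trans hkdvd) hsq
    rw [hk, hk1, pow_one]
  -- one Sylow subgroup is `⟨x⟩` and one lies in `N`
  obtain ⟨P, hP⟩ := (IsPGroup.of_card (p := p) (n := 1)
    (by rw [Nat.card_zpowers, hx, pow_one])).exists_le_sylow (G := G) (P := Subgroup.zpowers x)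
  have hPeq : (P : Subgroup G) = Subgroup.zpowers x :=
    (Subgroup.eq_of_le_of_card_ge hP (by rw [hsyl P, Nat.card_zpowers, hx])).symm
  have hy' : orderOf (y : G) = p := by rwa [Subgroup.orderOf_coe]
  obtain ⟨Q, hQ⟩ := (IsPGroup.of_card (p := p) (n := 1)
    (by rw [Nat.card_zpowers, hy', pow_one])).exists_le_sylow (G := G)
      (P := Subgroup.zpowers (y : G))
  have hQeq : (Q : Subgroup G) = Subgroup.zpowers (y : G) :=
    (Subgroup.eq_of_le_of_card_ge hQ (by rw [hsyl Q, Nat.card_zpowers, hy'])).symm
  obtain ⟨g, hg⟩ := MulAction.exists_smul_eq G Q P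
  have hPN : (P : Subgroup G) ≤ N := by
    rw [← hg, Sylow.coe_subgroup_smul]
    intro z hz
    rw [Subgroup.mem_pointwise_smul_iff_inv_smul_mem] at hz
    have hz' : (MulAut.conj g)⁻¹ • z ∈ N := by
      have h1 : (Q : Subgroup G) ≤ N := hQeq ▸ Subgroup.zpowers_le.2 y.2
      exact h1 hz
    have := hNn.conj_mem _ hz' g
    simpa [MulAut.smul_def, mul_assoc] using this
  have htop := Sylow.normalizer_sup_eq_top' P hPN
  haveI hsolv : Group.IsSolvable ↥(Subgroup.normalizer ((P : Subgroup G) : Set G)) := by
    rw [hPeq]; exact isSolvable_normalizer_zpowers hc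
  -- `G ⧸ N` is solvable and perfect
  have hsurj : Function.Surjective ((QuotientGroup.mk' N).comp
      (Subgroup.normalizer ((P : Subgroup G) : Set G)).subtype) := by
    intro q
    obtain ⟨g, rfl⟩ := QuotientGroup.mk'_surjective N q
    have hg : g ∈ Subgroup.normalizer ((P : Subgroup G) : Set G) ⊔ N := htop ▸ Subgroup.mem_top g
    obtain ⟨a, ha, b, hb, rfl⟩ := Subgroup.mem_sup_of_normal_right.1 hg
    refine ⟨⟨a, ha⟩, ?_⟩
    simp [(QuotientGroup.eq_one_iff b).2 hb]
  haveI : Group.IsSolvable (G ⧸ N) := Group.isSolvable_of_surjective hsurj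
  by_contra hne
  haveI : Nontrivial (G ⧸ N) := by
    rwa [QuotientGroup.nontrivial_iff]
  refine (Group.IsSolvable.commutator_lt_top_of_nontrivial (G ⧸ N)).ne ?_
  have hmap := Subgroup.map_commutator ⊤ ⊤ (QuotientGroup.mk' N)
  rw [Subgroup.map_top_of_surjective _ (QuotientGroup.mk'_surjective N)] at hmap
  rw [commutator_def, ← hmap, ← commutator_def, hperf,
    Subgroup.map_top_of_surjective _ (QuotientGroup.mk'_surjective N)]

/-- A doubly transitive group with simple point stabiliser whose degree is not a prime power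
is simple. -/
theorem isSimpleGroup_of_stabilizer [Finite G] [Finite α] [Nontrivial G]
    (h2 : MulAction.IsMultiplyPretransitive G α 2) (hnpp : ¬ IsPrimePow (Nat.card α)) (a : α)
    [IsSimpleGroup (MulAction.stabilizer G a)] (hα : 1 < Nat.card α) : IsSimpleGroup G := by
  haveI := MulAction.isPreprimitive_of_is_two_pretransitive h2
  haveI : Nonempty α := ⟨a⟩
  constructor
  intro N hNn
  by_cases hN : N = ⊥
  · exact Or.inl hN
  right
  haveI := hNn
  haveI := isPretransitive_of_normal_ne_bot (α := α) hN
  rcases (hNn.subgroupOf (MulAction.stabilizer G a)).eq_bot_or_eq_top with hb | ht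
  · exfalso
    -- regular case: all non-trivial elements of `N` have the same order
    rw [Subgroup.subgroupOf_eq_bot, disjoint_iff] at hb
    have hinj : ∀ n ∈ N, ∀ m ∈ N, n • a = m • a → n = m := by
      intro n hn m hm h
      have hmem : m⁻¹ * n ∈ N ⊓ MulAction.stabilizer G a :=
        ⟨N.mul_mem (N.inv_mem hm) hn, by
          show (m⁻¹ * n) • a = a
          rw [mul_smul, h, inv_smul_smul]⟩
      rw [hb, Subgroup.mem_bot, inv_mul_eq_one] at hmem
      exact hmem.symm
    have hconj : ∀ n ∈ N, ∀ m ∈ N, n ≠ 1 → m ≠ 1 → orderOf n = orderOf m := by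
      intro n hn m hm hn1 hm1
      have hna : n • a ≠ a := fun h => hn1 (hinj n hn 1 (one_mem _) (by rw [h, one_smul]))
      have hma : m • a ≠ a := fun h => hm1 (hinj m hm 1 (one_mem _) (by rw [h, one_smul]))
      obtain ⟨g, hga, hgn⟩ :=
        MulAction.is_two_pretransitive_iff.1 h2 (Ne.symm hna) (Ne.symm hma)
      have : g * n * g⁻¹ = m := by
        refine hinj _ (hNn.conj_mem n hn g) m hm ?_
        rw [mul_smul, mul_smul, show g⁻¹ • a = a by rw [inv_smul_eq_iff, hga], hgn]
      rw [← this, ← MulAut.conj_apply, MulEquiv.orderOf_eq]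
    have hcard : Nat.card N = Nat.card α := by
      refine Nat.card_congr (Equiv.ofBijective (fun n : N => (n : G) • a) ⟨?_, ?_⟩)
      · exact fun n m h => Subtype.ext (hinj _ n.2 _ m.2 h)
      · exact MulAction.surjective_smul N a
    set q := (Nat.card α).minFac
    have hq : q.Prime := Nat.minFac_prime (by omega)
    haveI := Fact.mk hq
    obtain ⟨z, hz⟩ := exists_prime_orderOf_dvd_card' (G := N) q
      (hcard ▸ Nat.minFac_dvd (Nat.card α))
    have hz1 : (z : G) ≠ 1 := fun h => by
      rw [← Subgroup.orderOf_coe, h, orderOf_one] at hz; exact hq.ne_one hz.symm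
    have hpg : IsPGroup q N := by
      intro n
      by_cases hn : (n : G) = 1
      · exact ⟨0, Subtype.ext (by simp [hn])⟩
      · refine ⟨1, ?_⟩
        have h1 := hconj z z.2 n n.2 hz1 hn
        rw [Subgroup.orderOf_coe, Subgroup.orderOf_coe, hz] at h1
        rw [pow_one, h1]
        exact pow_orderOf_eq_one n
    obtain ⟨k, hk⟩ := IsPGroup.iff_card.1 hpg
    refine hnpp (hcard ▸ hk ▸ hq.isPrimePow.pow ?_)
    rintro rfl
    rw [hcard, pow_zero] at hk
    omega
  · rw [Subgroup.subgroupOf_eq_top] at ht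
    rw [eq_top_iff]
    intro g _
    obtain ⟨n, hn⟩ := MulAction.exists_smul_eq N a (g • a)
    have hmem : (n : G)⁻¹ * g ∈ N := ht (by
      show ((n : G)⁻¹ * g) • a = a
      rw [mul_smul, ← hn, Subgroup.smul_def, inv_smul_smul])
    simpa using mul_mem n.2 hmem

end Cfsg.Agent.Golay
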