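import Cfsg.Agent.Golay.Chain
import Cfsg.Agent.Golay.Simple

/-!
Checked perfection, self-centralising elements and simplicity for chain stabilisers.
-/

set_option autoImplicit false

namespace Cfsg.Agent.Golay

open Cfsg
open scoped Pointwise commutatorElement

lemma mkTbl_congr : ∀ {n : ℕ} {f g : ℕ → ℕ}, (∀ i < n, f i = g i) → mkTbl n f = mkTbl n g
  | 0, _, _, _ => rfl
  | n + 1, f, g, h => by
    rw [mkTbl, mkTbl, h 0 n.succ_pos,
      mkTbl_congr (f := fun i => f (i + 1)) (g := fun i => g (i + 1))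
        fun i hi => h (i + 1) (Nat.succ_lt_succ hi)]

lemma inStab_tblOf {E : List ℕ} {F : ℕ} (hE : ∀ e ∈ E, e < 2 ^ 24) {σ : Equiv.Perm GolayPt}
    (h : σ ∈ stabGrp E F) : inStab E F (tblOf σ) = true := by
  obtain ⟨h1, h2, h3⟩ := h
  simp only [inStab, Bool.and_eq_true, List.all_eq_true]
  refine ⟨⟨?_, fun e he => ?_⟩, ?_⟩
  · rw [inM24_iff (validT_tblOf σ), mkPerm_tblOf]; exact h1
  · refine beq_iff_eq.2 (ptSet_injOn (tblImg_lt (validT_tblOf σ) e) (hE e he) ?_)
    rw [ptSet_tblImg_tblOf, h2 e he]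
  · rw [fixesMask, List.all_eq_true]
    intro i hi
    rw [List.mem_range] at hi
    cases hF : F.testBit i with
    | false => rfl
    | true =>
      rw [Bool.not_true, Bool.false_or, beq_iff_eq, app_tblOf σ hi,
        h3 (pt i) (by rw [mem_ptSet, idx_pt i hi, hF]), idx_pt i hi]

/-! ### Perfection -/

/-- Check triples `(A, B, C)` in the stabiliser with `C` the commutator of `A` and `B`. -/
def checkComm (E : List ℕ) (F : ℕ) (comms : List (ℕ × ℕ × ℕ)) : Bool :=
  comms.all fun n => inStab E F n.1 && inStab E F n.2.1 && inStab E F n.2.2 &&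
    (tblMul n.1 n.2.1 == tblMul n.2.2 (tblMul n.2.1 n.1))

/-- Commutators generate all transversals. -/
def checkPerfect (E : List ℕ) (F : ℕ) (L : List (ℕ × List ℕ)) (comms : List (ℕ × ℕ × ℕ))
    (prog : List (ℕ × ℕ × ℕ)) : Bool :=
  checkComm E F comms && checkSLP (idTbl :: comms.map (fun n => n.2.2)) prog &&
    L.all fun l => l.2.all fun t =>
      ((idTbl :: comms.map (fun n => n.2.2)) ++ prog.map (fun n => n.1)).contains t

theorem commutator_eq_top_of_check {E : List ℕ} {F : ℕ} {L : List (ℕ × List ℕ)}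
    {comms prog : List (ℕ × ℕ × ℕ)} (hL : checkChain E F L = true)
    (h : checkPerfect E F L comms prog = true) : commutator ↥(stabGrp E F) = ⊤ := by
  simp only [checkPerfect, Bool.and_eq_true] at h
  obtain ⟨⟨hc, hp⟩, hcov⟩ := h
  set D := (commutator ↥(stabGrp E F)).map (stabGrp E F).subtype with hD
  have hk : ∀ A ∈ idTbl :: comms.map (fun n => n.2.2), validT A = true ∧ mkPerm A ∈ D := by
    intro A hA
    rcases List.mem_cons.1 hA with rfl | hA
    · exact ⟨idTbl_spec.1, idTbl_spec.2 ▸ one_mem _⟩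
    · obtain ⟨⟨a, b, c⟩, hn, rfl⟩ := List.mem_map.1 hA
      have hn' := List.all_eq_true.1 hc _ hn
      simp only [Bool.and_eq_true] at hn'
      obtain ⟨⟨⟨ha, hb⟩, hcm⟩, heq⟩ := hn'
      have hva : validT a = true := by
        simp only [inStab, Bool.and_eq_true] at ha; exact validT_of_inM24 ha.1.1
      have hvb : validT b = true := by
        simp only [inStab, Bool.and_eq_true] at hb; exact validT_of_inM24 hb.1.1
      have hvc : validT c = true := by
        simp only [inStab, Bool.and_eq_true] at hcm; exact validT_of_inM24 hcm.1.1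
      refine ⟨hvc, ?_⟩
      have he : mkPerm a * mkPerm b = mkPerm c * (mkPerm b * mkPerm a) := by
        rw [← (tblMul_spec hva hvb).2, ← (tblMul_spec hvb hva).2,
          ← (tblMul_spec hvc (tblMul_spec hvb hva).1).2, eq_of_beq heq]
      refine ⟨⁅(⟨_, mem_stabGrp_of_inStab ha⟩ : ↥(stabGrp E F)),
        (⟨_, mem_stabGrp_of_inStab hb⟩ : ↥(stabGrp E F))⁆,
        Subgroup.commutator_mem_commutator (Subgroup.mem_top _) (Subgroup.mem_top _), ?_⟩
      rw [map_commutatorElement]
      show ⁅mkPerm a, mkPerm b⁆ = mkPerm c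
      rw [commutatorElement_def, he]
      group
  have hDle : D ≤ stabGrp E F := Subgroup.map_subtype_le _
  have hDeq : D = stabGrp E F := by
    refine eq_stabGrp_of_mem hL hDle fun l hl t ht => ?_
    have := List.all_eq_true.1 (List.all_eq_true.1 hcov l hl) t ht
    exact (checkSLP_mem _ _ hp hk t (List.contains_iff_mem.1 this)).2
  apply Subgroup.map_injective (Subgroup.subtype_injective (stabGrp E F))
  rw [← hD, hDeq, ← MonoidHom.range_eq_map, Subgroup.range_subtype]

/-! ### Self-centralising elements -/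

/-- Iterate a table. -/
def iterTbl (X : ℕ) : ℕ → ℕ → ℕ
  | 0, i => i
  | k + 1, i => app X (iterTbl X k i)

/-- All choices of one element from each list. -/
def choices : List (List ℕ) → List (List ℕ)
  | [] => [[]]
  | l :: t => l.flatMap fun a => (choices t).map (a :: ·)

/-- Positions in a mask. -/
def maskElems (m : ℕ) : List ℕ := (List.range 24).filter fun i => m.testBit i

/-- The powers of a table up to `p`. -/
def powTbls (X p : ℕ) : List ℕ := (List.range p).map fun k => mkTbl 24 fun i => iterTbl X k i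

/-- Table of the map commuting with `X` that sends the `j`-th representative to `ims j`;
`code i = 32 * j + k` says that position `i` is `X^k` of representative `j`. -/
def candTbl (X code : ℕ) (ims : List ℕ) : ℕ :=
  mkTbl 24 fun i => iterTbl X (((code >>> (10 * i)) &&& 1023) &&& 31)
    (ims.getD (((code >>> (10 * i)) &&& 1023) >>> 5) 0)

/-- Check that only powers of `X` commute with it in the stabiliser. -/
def checkCent (E : List ℕ) (F X p code : ℕ) (reps : List ℕ) : Bool :=
  (E.all fun e => e < 2 ^ 24) && inStab E F X && (reps.all fun r => r < 24) &&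
    ((List.range 24).all fun i =>
      (((code >>> (10 * i)) &&& 1023) >>> 5 < reps.length) &&
        iterTbl X (((code >>> (10 * i)) &&& 1023) &&& 31)
          (reps.getD (((code >>> (10 * i)) &&& 1023) >>> 5) 0) == i) &&
    (forceL (powTbls X p) fun P =>
      (choices (reps.map fun r => (maskElems (cellOf (fixedSets E F) r)).filter fun i =>
        (app X i == i) == (app X r == r))).all fun ims =>
        forceN (candTbl X code ims) fun T => !inStab E F T || P.contains T)

lemma iterTbl_spec {X : ℕ} (hX : validT X = true) (k : ℕ) {i : ℕ} (hi : i < 24) :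
    iterTbl X k i = idx ((mkPerm X ^ k) (pt i)) := by
  induction k with
  | zero => simp [iterTbl, idx_pt i hi]
  | succ k ih => rw [iterTbl, ih, pow_succ', Equiv.Perm.mul_apply, idx_mkPerm hX]

lemma powTbls_spec {X : ℕ} (hX : validT X = true) {p t : ℕ} (ht : t ∈ powTbls X p) :
    mkPerm t ∈ Subgroup.zpowers (mkPerm X) := by
  obtain ⟨k, -, rfl⟩ := List.mem_map.1 ht
  rw [(validT_of_pointwise (T := mkTbl 24 fun i => iterTbl X k i) (mkPerm X ^ k)
    fun i hi => ?_).2]
  · exact Subgroup.npow_mem_zpowers _ k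
  · rw [app_mkTbl (f := fun i => iterTbl X k i) hi fun j hj => ?_, iterTbl_spec hX k hi]
    rw [iterTbl_spec hX k hj]
    exact (idx_lt _).trans (by norm_num)

lemma mem_choices_map {f : ℕ → ℕ} {cands : ℕ → List ℕ} :
    ∀ l : List ℕ, (∀ r ∈ l, f r ∈ cands r) → l.map f ∈ choices (l.map cands)
  | [], _ => by simp [choices]
  | r :: t, h => by
    simp only [List.map_cons, choices, List.mem_flatMap, List.mem_map]
    exact ⟨f r, h r (by simp), t.map f,
      mem_choices_map t fun s hs => h s (List.mem_cons_of_mem _ hs), rfl⟩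

theorem centralizer_le_of_check {E : List ℕ} {F X p code : ℕ} {reps : List ℕ}
    (h : checkCent E F X p code reps = true) {σ : Equiv.Perm GolayPt} (hσ : σ ∈ stabGrp E F)
    (hc : σ * mkPerm X = mkPerm X * σ) : σ ∈ Subgroup.zpowers (mkPerm X) := by
  simp only [checkCent, forceL_eq, forceN_eq, Bool.and_eq_true, List.all_eq_true,
    decide_eq_true_eq, List.mem_range] at h
  obtain ⟨⟨⟨⟨hE, hXs⟩, hr⟩, hcode⟩, hall⟩ := h
  have hX : validT X = true := by
    simp only [inStab, Bool.and_eq_true] at hXs; exact validT_of_inM24 hXs.1.1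
  set ims := reps.map fun r => idx (σ (pt r)) with hims
  have hmem : ims ∈ choices (reps.map fun r => (maskElems (cellOf (fixedSets E F) r)).filter fun i =>
      (app X i == i) == (app X r == r)) := by
    refine mem_choices_map reps fun r hrr => ?_
    rw [List.mem_filter, maskElems, List.mem_filter]
    refine ⟨⟨List.mem_range.2 (idx_lt _),
      testBit_cellOf (fun o ho => smul_fixedSets hσ ho) (hr r hrr)⟩, beq_iff_eq.2 ?_⟩
    have e1 := iterTbl_spec hX 1 (idx_lt (σ (pt r)))
    have e2 := iterTbl_spec hX 1 (hr r hrr)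
    simp only [iterTbl, pow_one, pt_idx] at e1 e2
    rw [e1, e2, Bool.eq_iff_iff, beq_iff_eq, beq_iff_eq, ← Equiv.Perm.mul_apply, ← hc,
      Equiv.Perm.mul_apply]
    conv_lhs => rw [idx_injective.eq_iff, σ.injective.eq_iff]
    conv_rhs => rw [← idx_pt r (hr r hrr), idx_injective.eq_iff, pt_idx]
  have heq : candTbl X code ims = tblOf σ := by
    refine mkTbl_congr fun i hi => ?_
    obtain ⟨hj, hk⟩ := hcode i hi
    set n := (code >>> (10 * i)) &&& 1023
    set j := n >>> 5
    set k := n &&& 31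
    have hrd : reps.getD j 0 = reps[j] := List.getD_eq_getElem _ _ hj
    have hid : ims.getD j 0 = idx (σ (pt reps[j])) := by
      rw [hims, List.getD_eq_getElem _ _ (by simpa using hj), List.getElem_map]
    have hr' : reps[j] < 24 := hr _ (List.getElem_mem hj)
    rw [beq_iff_eq, hrd, iterTbl_spec hX k hr'] at hk
    have hcomm : σ * (mkPerm X) ^ k = (mkPerm X) ^ k * σ := Commute.pow_right hc k
    rw [hid, iterTbl_spec hX k (idx_lt _), pt_idx, ← Equiv.Perm.mul_apply, ← hcomm,
      Equiv.Perm.mul_apply]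
    congr 2
    rw [← pt_idx ((mkPerm X ^ k) (pt reps[j])), hk]
  have := hall ims hmem
  rw [heq, inStab_tblOf hE hσ, Bool.not_true, Bool.false_or, List.contains_iff_mem] at this
  simpa using powTbls_spec hX this

/-! ### The action on an orbit -/

/-- A subgroup acts faithfully on the orbit of `b` when fixing the orbit forces the identity. -/
lemma faithful_orbit {E : List ℕ} {F b : ℕ} {ts : List ℕ}
    (horb : MulAction.orbit ↥(stabGrp E F) (pt b) = (ptSet (orbitMask ts b) : Set GolayPt))
    (hr : isRigid E (F ||| orbitMask ts b) = true) :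
    FaithfulSMul ↥(stabGrp E F) ↥(MulAction.orbit ↥(stabGrp E F) (pt b)) := by
  refine ⟨fun {g h} hgh => ?_⟩
  have hk : ((h⁻¹ * g : ↥(stabGrp E F)) : Equiv.Perm GolayPt)
      ∈ stabGrp E (F ||| orbitMask ts b) := by
    have hm := (h⁻¹ * g).2
    refine ⟨hm.1, hm.2.1, fun p hp => ?_⟩
    rw [ptSet_or, Finset.mem_union] at hp
    rcases hp with hp | hp
    · exact hm.2.2 p hp
    · have hpo : p ∈ MulAction.orbit ↥(stabGrp E F) (pt b) := by
        rw [horb]; exact Finset.mem_coe.2 hp
      have h1 := congrArg Subtype.val (hgh ⟨p, hpo⟩)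
      rw [MulAction.orbit.coe_smul, MulAction.orbit.coe_smul] at h1
      show (h⁻¹ * g) • p = p
      rw [mul_smul, inv_smul_eq_iff]
      exact h1
  rw [stabGrp_eq_bot hr, Subgroup.mem_bot] at hk
  exact (inv_mul_eq_one.1 (Subtype.ext hk)).symm

lemma orbit_of_checkChain {E : List ℕ} {F b : ℕ} {ts : List ℕ} {rest : List (ℕ × List ℕ)}
    (hL : checkChain E F ((b, ts) :: rest) = true) :
    b < 24 ∧
    MulAction.orbit ↥(stabGrp E F) (pt b) = (ptSet (orbitMask ts b) : Set GolayPt) ∧
    Nat.card ↥(MulAction.orbit ↥(stabGrp E F) (pt b)) = ts.length ∧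
    checkChain E (F ||| 2 ^ b) rest = true := by
  simp only [checkChain, Bool.and_eq_true, decide_eq_true_eq, List.all_eq_true] at hL
  obtain ⟨⟨⟨⟨hb, hts⟩, ho⟩, hc⟩, hrest⟩ := hL
  have horb := orbit_eq_of_check hb hts (eq_of_beq ho) (le_refl (stabGrp E F))
    fun t ht => mem_stabGrp_of_inStab (hts t ht)
  refine ⟨hb, horb, ?_, hrest⟩
  rw [Nat.card_coe_set_eq, horb, Set.ncard_coe_finset, card_ptSet, eq_of_beq hc]

lemma two_pretransitive_orbit {E : List ℕ} {F b b' : ℕ} {ts ts' : List ℕ}
    {rest : List (ℕ × List ℕ)}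
    (hL : checkChain E F ((b, ts) :: (b', ts') :: rest) = true)
    (hb' : (orbitMask ts b).testBit b' = true)
    (hmask : orbitMask ts' b' ||| 2 ^ b = orbitMask ts b) :
    MulAction.IsMultiplyPretransitive ↥(stabGrp E F)
      ↥(MulAction.orbit ↥(stabGrp E F) (pt b)) 2 := by
  obtain ⟨hb, horb, -, hrest⟩ := orbit_of_checkChain hL
  obtain ⟨hb'24, horb', -, -⟩ := orbit_of_checkChain hrest
  set G := stabGrp E F with hG
  have hb'mem : pt b' ∈ MulAction.orbit ↥G (pt b) := by
    rw [horb, Finset.mem_coe, mem_ptSet, idx_pt b' hb'24]; exact hb'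
  -- the stabiliser of `pt b` moves any other orbit point to `pt b'`
  have hstab : ∀ c ∈ MulAction.orbit ↥G (pt b), c ≠ pt b →
      ∃ g : ↥G, g • pt b = pt b ∧ g • c = pt b' := by
    intro c hc hne
    have hcO : c ∈ MulAction.orbit ↥(stabGrp E (F ||| 2 ^ b)) (pt b') := by
      rw [horb', Finset.mem_coe]
      rw [horb, Finset.mem_coe, ← hmask, ptSet_or, Finset.mem_union, ptSet_two_pow hb,
        Finset.mem_singleton] at hc
      exact hc.resolve_right hne
    obtain ⟨⟨g, hg⟩, rfl⟩ := hcO
    rw [stabGrp_or E F hb] at hg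
    refine ⟨⟨g, hg.1⟩⁻¹, ?_, ?_⟩
    · rw [inv_smul_eq_iff]; exact hg.2.symm
    · rw [inv_smul_eq_iff]; rfl
  rw [MulAction.is_two_pretransitive_iff]
  intro a a' c c' haa hcc
  have key : ∀ x x' : ↥(MulAction.orbit ↥G (pt b)), x ≠ x' →
      ∃ g : ↥G, g • (x : GolayPt) = pt b ∧ g • (x' : GolayPt) = pt b' := by
    intro x x' hxx
    obtain ⟨g₀, hg₀⟩ := x.2
    simp only at hg₀
    obtain ⟨g₁, hg₁, hg₁'⟩ := hstab (g₀⁻¹ • (x' : GolayPt))
      (MulAction.mem_orbit_of_mem_orbit _ x'.2) (by
        intro h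
        apply hxx
        rw [inv_smul_eq_iff, hg₀] at h
        exact Subtype.ext h.symm)
    refine ⟨g₁ * g₀⁻¹, ?_, ?_⟩
    · rw [mul_smul, ← hg₀, inv_smul_smul, hg₁]
    · rw [mul_smul, hg₁']
  obtain ⟨g, hg, hg'⟩ := key a a' haa
  obtain ⟨k, hk, hk'⟩ := key c c' hcc
  refine ⟨k⁻¹ * g, Subtype.ext ?_, Subtype.ext ?_⟩
  · rw [MulAction.orbit.coe_smul, mul_smul, hg, inv_smul_eq_iff, hk]
  · rw [MulAction.orbit.coe_smul, mul_smul, hg', inv_smul_eq_iff, hk']

/-- Simplicity from perfection and a self-centralising element of prime order. -/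
theorem isSimpleGroup_stab_sylow {E : List ℕ} {F b : ℕ} {ts : List ℕ}
    {rest : List (ℕ × List ℕ)} {comms prog : List (ℕ × ℕ × ℕ)} {X p code : ℕ} {reps : List ℕ}
    (hL : checkChain E F ((b, ts) :: rest) = true)
    (hprim : MulAction.IsPreprimitive ↥(stabGrp E F) ↥(MulAction.orbit ↥(stabGrp E F) (pt b)))
    (hr : isRigid E (F ||| orbitMask ts b) = true)
    (hp : p.Prime) (hdeg : p ∣ ts.length) (hsq : ¬ p ^ 2 ∣ chainCard ((b, ts) :: rest))
    (hperf : checkPerfect E F ((b, ts) :: rest) comms prog = true)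
    (hcent : checkCent E F X p code reps = true)
    (hord : (powTbls X (p + 1)).getLast? = some idTbl) (hne : tblEq X idTbl = false) :
    IsSimpleGroup ↥(stabGrp E F) := by
  obtain ⟨hb, horb, hcard, -⟩ := orbit_of_checkChain hL
  haveI := Fact.mk hp
  have hXs : inStab E F X = true := by
    simp only [checkCent, Bool.and_eq_true] at hcent; exact hcent.1.1.1.2
  have hX : validT X = true := by
    simp only [inStab, Bool.and_eq_true] at hXs; exact validT_of_inM24 hXs.1.1
  have hx1 : mkPerm X ≠ 1 := by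
    intro h
    have : tblEq X idTbl = true := by
      rw [tblEq, List.all_eq_true]
      intro i hi
      rw [List.mem_range] at hi
      have h2 := mkPerm_pt hX hi
      rw [h, Equiv.Perm.one_apply] at h2
      rw [beq_iff_eq, ← idx_pt _ ((validT_bijective hX).2 i hi), ← h2, idx_pt i hi, idTbl,
        app_mkTbl (f := id) hi (fun j hj => Nat.lt_trans hj (by norm_num))]
      rfl
    rw [this] at hne
    exact Bool.noConfusion hne
  have hxp : mkPerm X ^ p = 1 := by
    rw [powTbls, List.range_succ, List.map_append, List.map_singleton,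
      List.getLast?_append] at hord
    simp only [List.getLast?_singleton, Option.some_or, Option.some.injEq] at hord
    refine Equiv.ext fun q => ?_
    rw [Equiv.Perm.one_apply]
    apply idx_injective
    rw [← pt_idx q, ← iterTbl_spec hX p (idx_lt q), idx_pt _ (idx_lt q)]
    have h1 : app (mkTbl 24 fun i => iterTbl X p i) (idx q) = app idTbl (idx q) := by rw [hord]
    rw [app_mkTbl (f := fun i => iterTbl X p i) (idx_lt q)
      (fun j hj => by rw [iterTbl_spec hX p hj]; exact (idx_lt _).trans (by norm_num)),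
      idTbl, app_mkTbl (f := id) (idx_lt q) (fun j hj => Nat.lt_trans hj (by norm_num))] at h1
    exact h1
  set x : ↥(stabGrp E F) := ⟨mkPerm X, mem_stabGrp_of_inStab hXs⟩ with hx
  have hxo : orderOf x = p := by
    rw [← Subgroup.orderOf_coe]
    exact orderOf_eq_prime hxp hx1
  haveI : Nontrivial ↥(stabGrp E F) := ⟨x, 1, fun h => hx1 (congrArg Subtype.val h)⟩
  haveI := hprim
  haveI := faithful_orbit horb hr
  haveI : Nonempty ↥(MulAction.orbit ↥(stabGrp E F) (pt b)) :=
    ⟨⟨pt b, MulAction.mem_orbit_self _⟩⟩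
  refine isSimpleGroup_of_perfect_sylow (α := ↥(MulAction.orbit ↥(stabGrp E F) (pt b)))
    (p := p) (hcard.symm ▸ hdeg) (by rwa [card_stabGrp hL]) hxo ?_
    (commutator_eq_top_of_check hL hperf)
  intro g hg
  rw [Subgroup.mem_centralizer_iff] at hg
  have hcom : (g : Equiv.Perm GolayPt) * mkPerm X = mkPerm X * g :=
    (congrArg Subtype.val (hg x rfl)).symm
  obtain ⟨n, hn⟩ := centralizer_le_of_check hcent g.2 hcom
  exact ⟨n, Subtype.ext (by rw [Subgroup.coe_zpow]; exact hn)⟩

/-- Simplicity of a doubly transitive stabiliser from simplicity of the next one. -/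
theorem isSimpleGroup_stab_ext {E : List ℕ} {F b b' : ℕ} {ts ts' : List ℕ}
    {rest : List (ℕ × List ℕ)}
    (hL : checkChain E F ((b, ts) :: (b', ts') :: rest) = true)
    (hb' : (orbitMask ts b).testBit b' = true)
    (hmask : orbitMask ts' b' ||| 2 ^ b = orbitMask ts b)
    (hr : isRigid E (F ||| orbitMask ts b) = true)
    (hnpp : ¬ IsPrimePow ts.length) (h1 : 1 < ts.length)
    (hsimple : IsSimpleGroup ↥(stabGrp E (F ||| 2 ^ b))) : IsSimpleGroup ↥(stabGrp E F) := by
  obtain ⟨hb, horb, hcard, -⟩ := orbit_of_checkChain hL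
  set a : ↥(MulAction.orbit ↥(stabGrp E F) (pt b)) := ⟨pt b, MulAction.mem_orbit_self _⟩
  haveI := faithful_orbit horb hr
  have hle : stabGrp E (F ||| 2 ^ b) ≤ stabGrp E F := by
    rw [stabGrp_or E F hb]; exact inf_le_left
  have heq : MulAction.stabilizer ↥(stabGrp E F) a
      = (stabGrp E (F ||| 2 ^ b)).subgroupOf (stabGrp E F) := by
    ext g
    rw [Subgroup.mem_subgroupOf, MulAction.mem_stabilizer_iff, stabGrp_or E F hb,
      Subgroup.mem_inf, MulAction.mem_stabilizer_iff, Subtype.ext_iff, MulAction.orbit.coe_smul]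
    exact ⟨fun h => ⟨g.2, h⟩, fun h => h.2⟩
  haveI : IsSimpleGroup ↥(MulAction.stabilizer ↥(stabGrp E F) a) := by
    rw [heq]
    exact (MulEquiv.isSimpleGroup_congr (Subgroup.subgroupOfEquivOfLe hle)).2 hsimple
  haveI : Nontrivial ↥(stabGrp E F) := by
    haveI := hsimple.toNontrivial
    exact (Subgroup.inclusion_injective hle).nontrivial
  exact isSimpleGroup_of_stabilizer (α := ↥(MulAction.orbit ↥(stabGrp E F) (pt b)))
    (two_pretransitive_orbit hL hb' hmask) (hcard.symm ▸ hnpp) a (hcard.symm ▸ h1)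

end Cfsg.Agent.Golay
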