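import Cfsg.Agent.Golay.Levels
import Cfsg.Agent.Golay.M24Data
import Cfsg.Agent.Golay.MathieuData
import Cfsg.Agent.Golay.SimpleCheck

/-!
Kernel checks for the one- and two-point stabiliser chains.
-/

set_option autoImplicit false

namespace Cfsg.Agent.Golay

open Cfsg
open scoped Pointwise

lemma m24_levels : (List.map (fun l => l.1) m24Chain).take 3 = [23, 0, 1] ∧
    checkChain [] (0 ||| 2 ^ 23) (m24Chain.drop 1) = true ∧
    checkChain [] (0 ||| 2 ^ 23 ||| 2 ^ 0) (m24Chain.drop 2) = true ∧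
    chainCard (m24Chain.drop 1) = 10200960 ∧ chainCard (m24Chain.drop 2) = 443520 := by
  decide +kernel

lemma m23_facts :
    checkPerfect [] (0 ||| 2 ^ 23) (m24Chain.drop 1) m23Comms m23Prog = true ∧
    checkCent [] (0 ||| 2 ^ 23) m23Elt 23 m23Code m23Reps = true ∧
    (powTbls m23Elt (23 + 1)).getLast? = some idTbl ∧ tblEq m23Elt idTbl = false ∧
    isRigid [] (0 ||| 2 ^ 23 ||| orbitMask (lvlTrans m24Chain 1) (lvlBase m24Chain 1)) = true ∧
    (lvlTrans m24Chain 1).length = 23 := by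
  decide +kernel

lemma m22_facts :
    checkPerfect [] (0 ||| 2 ^ 23 ||| 2 ^ 0) (m24Chain.drop 2) m22Comms m22Prog = true ∧
    checkCent [] (0 ||| 2 ^ 23 ||| 2 ^ 0) m22Elt 11 m22Code m22Reps = true ∧
    (powTbls m22Elt (11 + 1)).getLast? = some idTbl ∧ tblEq m22Elt idTbl = false ∧
    isRigid [] (0 ||| 2 ^ 23 ||| 2 ^ 0 |||
      orbitMask (lvlTrans m24Chain 2) (lvlBase m24Chain 2)) = true ∧
    (lvlTrans m24Chain 2).length = 22 ∧
    (orbitMask (lvlTrans m24Chain 2) (lvlBase m24Chain 2)).testBit (lvlBase m24Chain 3) = true ∧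
    orbitMask (lvlTrans m24Chain 3) (lvlBase m24Chain 3) ||| 2 ^ lvlBase m24Chain 2
      = orbitMask (lvlTrans m24Chain 2) (lvlBase m24Chain 2) := by
  decide +kernel

end Cfsg.Agent.Golay
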