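import Cfsg.Agent.Golay.Levels
import Cfsg.Agent.Golay.M24Data
import Cfsg.Agent.Golay.MathieuData
import Cfsg.Agent.Golay.SimpleCheck

/-!
Kernel checks for the stabiliser chains of a dodecad.
-/

set_option autoImplicit false

namespace Cfsg.Agent.Golay

open Cfsg
open scoped Pointwise

lemma m12Chain_check : checkChain [squareMask] 0 m12Chain = true ∧
    checkChain [squareMask] (0 ||| 2 ^ 0) (m12Chain.drop 1) = true ∧
    chainCard m12Chain = 95040 ∧ chainCard (m12Chain.drop 1) = 7920 := by
  decide +kernel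

lemma m11_facts :
    checkPerfect [squareMask] (0 ||| 2 ^ 0) (m12Chain.drop 1) m11Comms m11Prog = true ∧
    checkCent [squareMask] (0 ||| 2 ^ 0) m11Elt 11 m11Code m11Reps = true ∧
    (powTbls m11Elt (11 + 1)).getLast? = some idTbl ∧ tblEq m11Elt idTbl = false ∧
    isRigid [squareMask] (0 ||| 2 ^ 0 |||
      orbitMask (lvlTrans m12Chain 1) (lvlBase m12Chain 1)) = true ∧
    (lvlTrans m12Chain 1).length = 11 := by
  decide +kernel

end Cfsg.Agent.Golay
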