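import Cfsg.Agent.Golay.M24
import Cfsg.Agent.Golay.MathieuData
import Cfsg.Agent.Golay.SimpleCheck
import Cfsg.Agent.Golay.MathieuSmallChecks
import Cfsg.Agent.Golay.MathieuLargeChecks
import Cfsg.Prelude.Def_Spor_Mathieu
import Cfsg.Prelude.Def_Sporadic

/-!
Orders and simplicity of the five Mathieu groups in the model of the Golay code.
-/

set_option autoImplicit false

namespace Cfsg.Agent.Golay

open Cfsg
open scoped Pointwise

lemma ptSet_squareMask : ptSet squareMask = Spor.squareDodecad := by decide +kernel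

lemma pt_values : pt 23 = none ∧ pt 0 = some 0 := by decide

lemma spor_M23_eq : Spor.M23 = stabGrp [] (0 ||| 2 ^ 23) := by
  rw [stabGrp_or [] 0 (by norm_num), stabGrp_nil_zero, pt_values.1]; rfl

lemma spor_M22_eq : Spor.M22 = stabGrp [] (0 ||| 2 ^ 23 ||| 2 ^ 0) := by
  rw [stabGrp_or [] _ (by norm_num), ← spor_M23_eq, pt_values.2]; rfl

lemma stabGrp_squareMask : stabGrp [squareMask] 0 = Spor.M12 := by
  ext σ
  rw [mem_stabGrp, Spor.M12, Subgroup.mem_inf, MulAction.mem_stabilizer_iff, ← ptSet_squareMask]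
  simp [ptSet_zero]

lemma spor_M11_eq : Spor.M11 = stabGrp [squareMask] (0 ||| 2 ^ 0) := by
  rw [stabGrp_or [squareMask] 0 (by norm_num), stabGrp_squareMask, pt_values.2]; rfl

theorem card_spor_M23 : Nat.card Spor.M23 = 10200960 := by
  rw [spor_M23_eq, card_stabGrp m24_levels.2.1, m24_levels.2.2.2.1]

theorem card_spor_M22 : Nat.card Spor.M22 = 443520 := by
  rw [spor_M22_eq, card_stabGrp m24_levels.2.2.1, m24_levels.2.2.2.2]

theorem card_spor_M12 : Nat.card Spor.M12 = 95040 := by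
  rw [← stabGrp_squareMask, card_stabGrp m12Chain_check.1, m12Chain_check.2.2.1]

theorem card_spor_M11 : Nat.card Spor.M11 = 7920 := by
  rw [spor_M11_eq, card_stabGrp m12Chain_check.2.1, m12Chain_check.2.2.2]

lemma prime_orbit_primitive {E : List ℕ} {F b : ℕ} {ts : List ℕ} {rest : List (ℕ × List ℕ)}
    (hL : checkChain E F ((b, ts) :: rest) = true) (hp : ts.length.Prime) :
    MulAction.IsPreprimitive ↥(stabGrp E F) ↥(MulAction.orbit ↥(stabGrp E F) (pt b)) := by
  obtain ⟨-, -, hcard, -⟩ := orbit_of_checkChain hL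
  exact MulAction.IsPreprimitive.of_prime_card (hcard.symm ▸ hp)

lemma levels_split :
    m24Chain = (lvlBase m24Chain 0, lvlTrans m24Chain 0) ::
      (lvlBase m24Chain 1, lvlTrans m24Chain 1) :: (lvlBase m24Chain 2, lvlTrans m24Chain 2) ::
      (lvlBase m24Chain 3, lvlTrans m24Chain 3) :: m24Chain.drop 4 ∧
    m12Chain = (lvlBase m12Chain 0, lvlTrans m12Chain 0) ::
      (lvlBase m12Chain 1, lvlTrans m12Chain 1) :: m12Chain.drop 2 :=
  ⟨rfl, rfl⟩

lemma ext_facts :
    lvlBase m24Chain 0 = 23 ∧ lvlBase m12Chain 0 = 0 ∧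
    (lvlTrans m24Chain 0).length = 24 ∧ (lvlTrans m12Chain 0).length = 12 ∧
    isRigid [] (0 ||| orbitMask (lvlTrans m24Chain 0) (lvlBase m24Chain 0)) = true ∧
    isRigid [squareMask] (0 ||| orbitMask (lvlTrans m12Chain 0) (lvlBase m12Chain 0)) = true ∧
    (orbitMask (lvlTrans m24Chain 0) (lvlBase m24Chain 0)).testBit (lvlBase m24Chain 1) = true ∧
    (orbitMask (lvlTrans m12Chain 0) (lvlBase m12Chain 0)).testBit (lvlBase m12Chain 1) = true ∧
    orbitMask (lvlTrans m24Chain 1) (lvlBase m24Chain 1) ||| 2 ^ lvlBase m24Chain 0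
      = orbitMask (lvlTrans m24Chain 0) (lvlBase m24Chain 0) ∧
    orbitMask (lvlTrans m12Chain 1) (lvlBase m12Chain 1) ||| 2 ^ lvlBase m12Chain 0
      = orbitMask (lvlTrans m12Chain 0) (lvlBase m12Chain 0) := by
  decide +kernel

lemma drop_split :
    m24Chain.drop 1 = (lvlBase m24Chain 1, lvlTrans m24Chain 1) :: m24Chain.drop 2 ∧
    m24Chain.drop 2 = (lvlBase m24Chain 2, lvlTrans m24Chain 2) ::
      (lvlBase m24Chain 3, lvlTrans m24Chain 3) :: m24Chain.drop 4 ∧
    m12Chain.drop 1 = (lvlBase m12Chain 1, lvlTrans m12Chain 1) :: m12Chain.drop 2 :=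
  ⟨rfl, rfl, rfl⟩

theorem isSimpleGroup_spor_M23 : IsSimpleGroup Spor.M23 := by
  obtain ⟨hperf, hcent, hord, hne, hr, hlen⟩ := m23_facts
  have hL := m24_levels.2.1
  have hcard := m24_levels.2.2.2.1
  rw [drop_split.1] at hperf hL hcard
  rw [spor_M23_eq]
  exact isSimpleGroup_stab_sylow hL (prime_orbit_primitive hL (by rw [hlen]; norm_num)) hr
    (by norm_num) (by rw [hlen]) (by rw [hcard]; norm_num) hperf hcent hord hne

theorem isSimpleGroup_spor_M22 : IsSimpleGroup Spor.M22 := by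
  obtain ⟨hperf, hcent, hord, hne, hr, hlen, hb', hmask⟩ := m22_facts
  have hL := m24_levels.2.2.1
  have hcard := m24_levels.2.2.2.2
  rw [drop_split.2.1] at hperf hL hcard
  rw [spor_M22_eq]
  exact isSimpleGroup_stab_sylow hL
    (MulAction.isPreprimitive_of_is_two_pretransitive (two_pretransitive_orbit hL hb' hmask))
    hr (by norm_num) (by rw [hlen]; norm_num) (by rw [hcard]; norm_num) hperf hcent hord hne

theorem isSimpleGroup_spor_M11 : IsSimpleGroup Spor.M11 := by
  obtain ⟨hperf, hcent, hord, hne, hr, hlen⟩ := m11_facts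
  have hL := m12Chain_check.2.1
  have hcard := m12Chain_check.2.2.2
  rw [drop_split.2.2] at hperf hL hcard
  rw [spor_M11_eq]
  exact isSimpleGroup_stab_sylow hL (prime_orbit_primitive hL (by rw [hlen]; norm_num)) hr
    (by norm_num) (by rw [hlen]) (by rw [hcard]; norm_num) hperf hcent hord hne

theorem isSimpleGroup_M24 : IsSimpleGroup M24 := by
  obtain ⟨hb, -, hlen, -, hr, -, hb', -, hmask, -⟩ := ext_facts
  have hL := m24Chain_check
  rw [levels_split.1] at hL
  rw [← stabGrp_nil_zero]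
  refine isSimpleGroup_stab_ext hL hb' hmask hr ?_ (by rw [hlen]; norm_num) ?_
  · rw [hlen, isPrimePow_nat_iff_bounded]; decide +kernel
  · rw [hb, ← spor_M23_eq]; exact isSimpleGroup_spor_M23

theorem isSimpleGroup_spor_M12 : IsSimpleGroup Spor.M12 := by
  obtain ⟨-, hb, -, hlen, -, hr, -, hb', -, hmask⟩ := ext_facts
  have hL := m12Chain_check.1
  rw [levels_split.2] at hL
  rw [← stabGrp_squareMask]
  refine isSimpleGroup_stab_ext hL hb' hmask hr ?_ (by rw [hlen]; norm_num) ?_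
  · rw [hlen, isPrimePow_nat_iff_bounded]; decide +kernel
  · rw [hb, ← spor_M11_eq]; exact isSimpleGroup_spor_M11

theorem isM24_M24 : IsM24 ↥M24 := ⟨isSimpleGroup_M24, card_M24⟩

theorem isM23_spor : IsM23 ↥Spor.M23 := ⟨isSimpleGroup_spor_M23, card_spor_M23⟩

theorem isM22_spor : IsM22 ↥Spor.M22 := ⟨isSimpleGroup_spor_M22, card_spor_M22⟩

theorem isM12_spor : IsM12 ↥Spor.M12 := ⟨isSimpleGroup_spor_M12, card_spor_M12⟩

theorem isM11_spor : IsM11 ↥Spor.M11 := ⟨isSimpleGroup_spor_M11, card_spor_M11⟩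

end Cfsg.Agent.Golay
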