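import Cfsg.Agent.Golay.Maximal
import Cfsg.Agent.Golay.Mathieu

/-!
Simplicity of the isometry group modulo its centre.
-/

set_option autoImplicit false

namespace Cfsg.Agent.Golay

open Cfsg
open scoped Pointwise

/-- The sign changes. -/
def signSub : Subgroup Co0 where
  carrier := {g | ∃ c, g = signAut c}
  one_mem' := ⟨noSigns, Subtype.ext (Equiv.ext fun v => Subtype.ext (funext fun i => by
    show v.1 i = (signAut noSigns • v).1 i
    rw [signAut_apply, if_neg]
    simp [noSigns]))⟩
  mul_mem' := by
    rintro _ _ ⟨c, rfl⟩ ⟨d, rfl⟩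
    refine ⟨⟨symmDiff c.1 d.1, symmDiff_mem_supports c.2 d.2⟩,
      Subtype.ext (Equiv.ext fun v => Subtype.ext (funext fun i => ?_))⟩
    show (signAut c • signAut d • v).1 i = (signAut _ • v).1 i
    rw [signAut_apply, signAut_apply, signAut_apply]
    simp only [Finset.mem_symmDiff]
    by_cases hc : i ∈ c.1 <;> by_cases hd : i ∈ d.1 <;> simp [hc, hd]
  inv_mem' := by
    rintro _ ⟨c, rfl⟩
    refine ⟨c, inv_eq_of_mul_eq_one_right (Subtype.ext (Equiv.ext fun v =>
      Subtype.ext (funext fun i => ?_)))⟩
    show (signAut c • signAut c • v).1 i = v.1 i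
    rw [signAut_apply, signAut_apply]
    split <;> simp

lemma signAut_mem (c) : signAut c ∈ signSub := ⟨c, rfl⟩

lemma signSub_comm : ∀ a ∈ signSub, ∀ b ∈ signSub, a * b = b * a := by
  rintro _ ⟨c, rfl⟩ _ ⟨d, rfl⟩
  refine Subtype.ext (Equiv.ext fun v => Subtype.ext (funext fun i => ?_))
  show (signAut c • signAut d • v).1 i = (signAut d • signAut c • v).1 i
  rw [signAut_apply, signAut_apply, signAut_apply, signAut_apply]
  split_ifs <;> simp

lemma monoAut_eq (σ : M24) (c : {c : Finset GolayPt // c ∈ supports (golayCode : Set (GolayPt → ZMod 2))}) :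
    monoAut σ c = signAut c * permAut σ := by
  refine Subtype.ext (Equiv.ext fun v => Subtype.ext (funext fun i => ?_))
  show (monoAut σ c • v).1 i = (signAut c • permAut σ • v).1 i
  rw [monoAut_smul_apply, signAut_apply, permAut, monoAut_smul_apply]
  simp [noSigns]

/-- Permutations as automorphisms. -/
def permHom : M24 →* Co0 where
  toFun := permAut
  map_one' := Subtype.ext (Equiv.ext fun v => Subtype.ext (funext fun i => by
    show (permAut 1 • v).1 i = v.1 i
    rw [permAut, monoAut_smul_apply]; simp [noSigns]; rfl))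
  map_mul' σ τ := Subtype.ext (Equiv.ext fun v => Subtype.ext (funext fun i => by
    show (permAut (σ * τ) • v).1 i = (permAut σ • permAut τ • v).1 i
    obtain ⟨q, rfl⟩ : ∃ q, (σ * τ).1 q = i := ⟨(σ * τ).1.symm i, (σ * τ).1.apply_symm_apply i⟩
    rw [permAut_apply, show (σ * τ).1 q = σ.1 (τ.1 q) from rfl, permAut_apply, permAut_apply]))

lemma conj_signAut (σ : M24) (d : {c : Finset GolayPt // c ∈ supports (golayCode : Set (GolayPt → ZMod 2))}) :
    permAut σ * signAut d * (permAut σ)⁻¹
      = signAut ⟨σ.1 • d.1, smul_mem_supports σ.2 d.2⟩ := by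
  rw [mul_inv_eq_iff_eq_mul]
  refine Subtype.ext (Equiv.ext fun v => Subtype.ext (funext fun i => ?_))
  show (permAut σ • signAut d • v).1 i = (signAut _ • permAut σ • v).1 i
  obtain ⟨q, rfl⟩ : ∃ q, σ.1 q = i := ⟨σ.1.symm i, σ.1.apply_symm_apply i⟩
  rw [permAut_apply, signAut_apply, signAut_apply, permAut_apply]
  simp only [Finset.smul_mem_smul_finset_iff, show σ.1 q = σ.1 • q from rfl]

lemma signSub_le : signSub ≤ crossStab := by
  rintro _ ⟨c, rfl⟩
  refine mem_crossStab_iff.2 fun v hv => ?_
  exact signedPerm_stdCross (σ := 1) (c := c.1) hv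

lemma permAut_mem_crossStab (σ : M24) : permAut σ ∈ crossStab :=
  mem_crossStab_iff.2 fun _ hv => signedPerm_stdCross (σ := σ.1) (c := ∅) hv

lemma crossStab_le {K : Subgroup Co0} (h1 : signSub ≤ K) (h2 : ∀ σ, permAut σ ∈ K) : crossStab ≤ K := by
  intro g hg
  obtain ⟨σ, c, rfl⟩ := stdCross_stabiliser_eq_monomial g (mem_crossStab_iff.1 hg)
  rw [monoAut_eq]
  exact K.mul_mem (h1 (signAut_mem c)) (h2 σ)

/-- The sign change on all coordinates. -/
def negAll : Co0 := signAut ⟨Finset.univ, univ_mem_supports⟩

lemma negAll_apply (v : leechLattice) : negAll • v = -v :=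
  Subtype.ext (funext fun l => by
    rw [negAll, signAut_apply, if_pos (Finset.mem_univ l)]; rfl)

lemma mem_center_of_scalar {g : Co0} (ε : Bool) (h : ∀ v : leechLattice, g • v = if ε then v else -v) :
    g ∈ Subgroup.center Co0 := by
  rw [Subgroup.mem_center_iff]
  intro k
  refine Subtype.ext (Equiv.ext fun v => ?_)
  show k • (g • v) = g • (k • v)
  rw [h, h]
  cases ε <;> simp [co0_smul_neg]

lemma four_four_mem {i j a b : GolayPt} (hij : i ≠ j) (hia : i ≠ a) (hib : i ≠ b) (hja : j ≠ a)
    (hjb : j ≠ b) (hab : a ≠ b) (s : ℤ) (hs : s = 2 ∨ s = -2) :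
    ∃ x : leechLattice, sqNorm x.1 = 64 ∧
      x.1 = 2 • fun l => if l = i then s else if l = j ∨ l = a ∨ l = b then 2 else 0 := by
  set f : GolayPt → ℤ := fun l => if l = i then s else if l = j ∨ l = a ∨ l = b then 2 else 0
  have hsum : ∀ F : ℤ → ℤ, F 0 = 0 → ∑ l, F (f l) = F s + 3 * F 2 := by
    intro F h0
    rw [← Finset.sum_subset (Finset.subset_univ {i, j, a, b}) (fun l _ hl => by
      simp only [Finset.mem_insert, Finset.mem_singleton, not_or] at hl
      simp [f, hl.1, hl.2.1, hl.2.2.1, hl.2.2.2, h0])]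
    rw [Finset.sum_insert (by simp [hij, hia, hib]), Finset.sum_insert (by simp [hja, hjb]),
      Finset.sum_pair hab]
    simp only [f, if_true, hij.symm, hia.symm, hib.symm, if_false, true_or, or_true]
    ring
  have hmem : 2 • f ∈ leechLattice := by
    rw [mem_leech_two_smul]
    constructor
    · convert Submodule.zero_mem golayCode using 1
      funext l
      rw [Pi.zero_apply, ZMod.intCast_zmod_eq_zero_iff_dvd]
      simp only [f]
      split_ifs <;> omega
    · have := hsum id rfl
      simp only [id] at this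
      rw [this]; omega
  refine ⟨⟨2 • f, hmem⟩, ?_, rfl⟩
  show sqNorm (2 • f) = 64
  have := hsum (fun z => z ^ 2) (by norm_num)
  rw [sqNorm_nsmul, sqNorm, this]
  rcases hs with rfl | rfl <;> norm_num

/-- An automorphism fixing every cross is a scalar. -/
theorem core_crossStab {n : Co0} (hn : ∀ g : Co0, g * n * g⁻¹ ∈ crossStab) :
    n ∈ Subgroup.center Co0 := by
  classical
  have hfix : ∀ x : leechLattice, sqNorm x.1 = 64 →
      ∃ z : leechLattice, x - n • x = (2 : ℕ) • z := by
    intro x hx
    obtain ⟨g, i, hg⟩ := exists_axis hx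
    have h := hn g
    rw [crossStab, MulAction.mem_stabilizer_iff, ← crossSet_axis i, ← hg, smul_crossSet,
      ← mul_smul, inv_mul_cancel_right, mul_smul, ← smul_crossSet g (n • x),
      ← smul_crossSet g x] at h
    have h' : crossSet (n • x) = crossSet x := smul_left_cancel g h
    have hm : n • x ∈ crossSet x := h' ▸ mem_crossSet.2 ⟨rfl, 0, by simp⟩
    exact (mem_crossSet.1 hm).2
  have hpair : ∀ (v : leechLattice) (i j : GolayPt), i ≠ j → (v.1 i = 4 ∨ v.1 i = -4) → v.1 j = 4 →
      (∀ l, l ≠ i → l ≠ j → v.1 l = 0) → sqNorm v.1 = 32 → n • v = v ∨ n • v = -v := by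
    intro v i j hij hi hj h0 hvn
    obtain ⟨a, -, ha⟩ := Finset.exists_mem_notMem_of_card_lt_card
      (s := {i, j}) (t := (Finset.univ : Finset GolayPt))
      (Finset.card_le_two.trans_lt (by decide))
    obtain ⟨b, -, hb⟩ := Finset.exists_mem_notMem_of_card_lt_card
      (s := {i, j, a}) (t := (Finset.univ : Finset GolayPt))
      (Finset.card_le_three.trans_lt (by decide))
    obtain ⟨c, -, hc⟩ := Finset.exists_mem_notMem_of_card_lt_card
      (s := insert b {i, j, a}) (t := (Finset.univ : Finset GolayPt))
      ((Finset.card_insert_le _ _).trans_lt (Nat.lt_of_le_of_lt (Nat.succ_le_succ Finset.card_le_three)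
        (by decide)))
    simp only [Finset.mem_insert, Finset.mem_singleton, not_or] at ha hb hc
    obtain ⟨t, ht, hvi⟩ : ∃ t : ℤ, (t = 2 ∨ t = -2) ∧ v.1 i = 2 * t :=
      ⟨v.1 i / 2, by omega, by omega⟩
    obtain ⟨x, hx, hxe⟩ := four_four_mem (i := i) (j := a) (a := b) (b := c) (Ne.symm ha.1)
      (Ne.symm hb.1) (Ne.symm hc.2.1) (Ne.symm hb.2.2) (Ne.symm hc.2.2.2) (Ne.symm hc.1) t ht
    obtain ⟨y, hy, hye⟩ := four_four_mem (i := j) (j := a) (a := b) (b := c) (Ne.symm ha.2)
      (Ne.symm hb.2.1) (Ne.symm hc.2.2.1) (Ne.symm hb.2.2) (Ne.symm hc.2.2.2) (Ne.symm hc.1) (-2)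
      (Or.inr rfl)
    have hv : v = x - y := by
      refine Subtype.ext (funext fun l => ?_)
      rw [AddSubgroup.coe_sub, hxe, hye, Pi.sub_apply, nsmul_fun_apply, nsmul_fun_apply]
      push_cast
      rcases eq_or_ne l i with rfl | e1
      · simp [hij, Ne.symm ha.1, Ne.symm hb.1, Ne.symm hc.2.1, hvi]
      · rcases eq_or_ne l j with rfl | e2
        · simp [e1, Ne.symm ha.2, Ne.symm hb.2.1, Ne.symm hc.2.2.1, hj]
        · rw [h0 l e1 e2]; simp [e1, e2]
    obtain ⟨z, hz⟩ := hfix x hx
    obtain ⟨w, hw⟩ := hfix y hy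
    have hc2 : v - n • v = (2 : ℕ) • (z - w) := by
      rw [hv, co0_smul_sub, nsmul_sub, ← hz, ← hw]; abel
    rcases congr_two_short (n • v).2 (z - w).2 (congrArg Subtype.val hc2)
      (by rw [co0_sqNorm, hvn]; norm_num) with h | h | ⟨h, -⟩
    · exact Or.inl (Subtype.ext h)
    · exact Or.inr (Subtype.ext h)
    · rw [co0_sqNorm, hvn] at h; norm_num at h
  have mk : ∀ i j : GolayPt, i ≠ j → ∀ t : ℤ, (t = 2 ∨ t = -2) → ∃ v : leechLattice,
      v.1 i = 2 * t ∧ v.1 j = 4 ∧ (∀ l, l ≠ i → l ≠ j → v.1 l = 0) ∧ sqNorm v.1 = 32 := by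
    intro i j hij t ht
    set f : GolayPt → ℤ := fun l => if l = i then t else if l = j then 2 else 0
    have hsum : ∀ F : ℤ → ℤ, F 0 = 0 → ∑ l, F (f l) = F t + F 2 := by
      intro F h0
      rw [← Finset.sum_subset (Finset.subset_univ {i, j}) (fun l _ hl => by
        simp only [Finset.mem_insert, Finset.mem_singleton, not_or] at hl
        simp [f, hl.1, hl.2, h0]), Finset.sum_pair hij]
      simp [f, hij.symm]
    have hmem : 2 • f ∈ leechLattice := by
      rw [mem_leech_two_smul]
      constructor
      · convert Submodule.zero_mem golayCode using 1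
        funext l
        rw [Pi.zero_apply, ZMod.intCast_zmod_eq_zero_iff_dvd]
        simp only [f]
        split_ifs <;> omega
      · have := hsum id rfl
        simp only [id] at this
        rw [this]; omega
    refine ⟨⟨2 • f, hmem⟩, ?_, ?_, fun l a b => ?_, ?_⟩
    · show (2 • f) i = _; rw [nsmul_fun_apply]; simp [f]
    · show (2 • f) j = _; rw [nsmul_fun_apply]; simp [f, hij.symm]
    · show (2 • f) l = _; rw [nsmul_fun_apply]; simp [f, a, b]
    · show sqNorm (2 • f) = 32
      have := hsum (fun z => z ^ 2) (by norm_num)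
      rw [sqNorm_nsmul, sqNorm, this]
      rcases ht with rfl | rfl <;> norm_num
  -- each axis vector goes to plus or minus itself, with a common sign
  have hax : ∀ i j : GolayPt, i ≠ j →
      (n • axisVec i = axisVec i ∧ n • axisVec j = axisVec j) ∨
      (n • axisVec i = -axisVec i ∧ n • axisVec j = -axisVec j) ∨
      (n • axisVec i = axisVec j ∧ n • axisVec j = axisVec i) ∨
      (n • axisVec i = -axisVec j ∧ n • axisVec j = -axisVec i) := by
    intro i j hij
    obtain ⟨p, hp1, hp2, hp3, hp4⟩ := mk i j hij 2 (Or.inl rfl)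
    obtain ⟨m, hm1, hm2, hm3, hm4⟩ := mk i j hij (-2) (Or.inr rfl)
    have e1 : axisVec j = p + m := Subtype.ext (funext fun l => by
      show (Pi.single j 8 : GolayPt → ℤ) l = p.1 l + m.1 l
      rcases eq_or_ne l i with rfl | a
      · rw [hp1, hm1]; simp [hij]
      · rcases eq_or_ne l j with rfl | b
        · rw [hp2, hm2]; simp
        · rw [hp3 l a b, hm3 l a b]; simp [b])
    have e2 : axisVec i = p - m := Subtype.ext (funext fun l => by
      show (Pi.single i 8 : GolayPt → ℤ) l = p.1 l - m.1 l
      rcases eq_or_ne l i with rfl | a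
      · rw [hp1, hm1]; simp
      · rcases eq_or_ne l j with rfl | b
        · rw [hp2, hm2]; simp [a]
        · rw [hp3 l a b, hm3 l a b]; simp [a])
    rw [e1, e2, co0_smul_add, co0_smul_sub]
    rcases hpair p i j hij (Or.inl hp1) hp2 hp3 hp4 with a | a <;>
      rcases hpair m i j hij (Or.inr hm1) hm2 hm3 hm4 with b | b <;> rw [a, b]
    · exact Or.inl ⟨rfl, rfl⟩
    · refine Or.inr (Or.inr (Or.inl ⟨?_, ?_⟩)) <;> abel
    · refine Or.inr (Or.inr (Or.inr ⟨?_, ?_⟩)) <;> abel
    · refine Or.inr (Or.inl ⟨?_, ?_⟩) <;> abel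
  have hne : ∀ i j : GolayPt, i ≠ j → axisVec i ≠ axisVec j ∧ axisVec i ≠ -axisVec j ∧
      axisVec i ≠ -axisVec i := by
    intro i j hij
    refine ⟨?_, ?_, ?_⟩ <;>
    · intro h
      have := congrArg (fun v : leechLattice => v.1 i) h
      simp [axisVec, hij] at this
  have hall : ∀ i, n • axisVec i = axisVec i ∨ n • axisVec i = -axisVec i := by
    intro i
    obtain ⟨j, hj⟩ := exists_ne i
    obtain ⟨k, -, hk⟩ := Finset.exists_mem_notMem_of_card_lt_card
      (s := {i, j}) (t := (Finset.univ : Finset GolayPt))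
      (Finset.card_le_two.trans_lt (by decide))
    simp only [Finset.mem_insert, Finset.mem_singleton, not_or] at hk
    rcases hax i j (Ne.symm hj) with h | h | h | h
    · exact Or.inl h.1
    · exact Or.inr h.1
    all_goals
      rcases hax i k (Ne.symm hk.1) with g | g | g | g
      · exact Or.inl g.1
      · exact Or.inr g.1
      all_goals
        exfalso
        have e := h.1.symm.trans g.1
        first
          | exact (hne j k (Ne.symm hk.2)).1 e
          | exact (hne j k (Ne.symm hk.2)).2.1 e
          | exact (hne j k (Ne.symm hk.2)).1 (neg_injective e)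
          | exact (hne j k (Ne.symm hk.2)).2.1 (neg_eq_iff_eq_neg.1 e)
  obtain ⟨ε, hε⟩ : ∃ ε : Bool, ∀ i, n • axisVec i = if ε then axisVec i else -axisVec i := by
    rcases hall none with h0 | h0
    · refine ⟨true, fun i => ?_⟩
      rcases eq_or_ne i none with rfl | hi
      · exact h0
      · rcases hax none i (Ne.symm hi) with g | g | g | g
        · exact g.2
        all_goals exfalso; have e := h0.symm.trans g.1
        · exact (hne none i (Ne.symm hi)).2.2 e
        · exact (hne none i (Ne.symm hi)).1 e
        · exact (hne none i (Ne.symm hi)).2.1 e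
    · refine ⟨false, fun i => ?_⟩
      rcases eq_or_ne i none with rfl | hi
      · exact h0
      · rcases hax none i (Ne.symm hi) with g | g | g | g
        · exact absurd (h0.symm.trans g.1).symm (hne none i (Ne.symm hi)).2.2
        · exact g.2
        all_goals exfalso; have e := h0.symm.trans g.1
        · exact (hne none i (Ne.symm hi)).2.1 (neg_eq_iff_eq_neg.1 e)
        · exact (hne none i (Ne.symm hi)).1 (neg_injective e)
  refine mem_center_of_scalar ε fun v => Subtype.ext (funext fun l => ?_)
  have h := co0_dot n v (axisVec l)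
  rw [hε l] at h
  cases ε
  · simp only [Bool.false_eq_true, if_false, AddSubgroup.coe_neg] at h ⊢
    rw [show dotInt (n • v).1 (-(axisVec l).1) = -dotInt (n • v).1 (axisVec l).1 by
      simp [dotInt, Finset.sum_neg_distrib],
      show (axisVec l).1 = Pi.single l 8 from rfl, dot_single, dot_single] at h
    rw [Pi.neg_apply]; omega
  · simp only [if_true] at h ⊢
    rw [show (axisVec l).1 = Pi.single l 8 from rfl, dot_single, dot_single] at h
    omega

lemma normal_sup_crossStab {N : Subgroup Co0} [hN : N.Normal] (hnc : ¬ N ≤ Subgroup.center Co0) :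
    N ⊔ crossStab = ⊤ := by
  rcases eq_or_lt_of_le (le_sup_right : crossStab ≤ N ⊔ crossStab) with h | h
  · exfalso
    refine hnc fun n hn => core_crossStab fun g => ?_
    rw [h]
    exact Subgroup.mem_sup_left (hN.conj_mem n hn g)
  · exact crossStab_isCoatom.2 _ h

/-- The mask of a sign change used below. -/
def gammaMask : ℕ := 28637

lemma sign_facts :
    (∀ b ∈ basisList, (octadList.any fun o => octadList.contains (o ^^^ b)) = true) ∧
    gammaMask ∈ codeList ∧
    (∀ i : GolayPt, ∃ l : GolayPt, ∀ q : GolayPt, q ≠ l →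
      zetaFun (fun r => if gammaMask.testBit (idx r) then -zetaFun (Pi.single i 8) r
        else zetaFun (Pi.single i 8) r) q = 0) ∧
    (zetaFun (fun r => if gammaMask.testBit (idx r) then -zetaFun (Pi.single none 8) r
        else zetaFun (Pi.single none 8) r) none = 0) := by
  decide +kernel

lemma signSub_not_central : ¬ signSub ≤ Subgroup.center Co0 := by
  intro h
  obtain ⟨o, ho, hP⟩ : ∃ o, o ∈ octadList ∧ o.testBit 23 = true := ⟨octMixed, by decide +kernel, by decide +kernel⟩
  obtain ⟨σ, hσ⟩ := exists_M24_map_points (k := 1) (by norm_num)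
    (a := ![none]) (b := ![pt (((List.range 24).filter fun i => !o.testBit i).headI)])
    (Function.injective_of_subsingleton _) (Function.injective_of_subsingleton _)
  have hc := ptSet_mem_octads ho
  have hcomm := (Subgroup.mem_center_iff.1 (h (signAut_mem ⟨ptSet o, hc.1⟩))) (permAut σ)
  have he := congrArg (fun g : Co0 => (g • axisVec none).1 (σ.1 none)) hcomm
  simp only [mul_smul, permAut_apply, signAut_apply] at he
  have h1 : none ∈ ptSet o := by rw [mem_ptSet]; exact hP
  have h2 : σ.1 none ∉ ptSet o := by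
    rw [show σ.1 none = pt (((List.range 24).filter fun i => !o.testBit i).headI) from hσ 0,
      mem_ptSet]
    have hne : ((List.range 24).filter fun i => !o.testBit i) ≠ [] := by
      intro e
      have := List.filter_eq_nil_iff.1 e
      have hcard : (ptSet o).card = 8 := hc.2
      have huniv : ptSet o = Finset.univ := Finset.eq_univ_of_forall fun p => by
        rw [mem_ptSet]
        simpa using this (idx p) (List.mem_range.2 (idx_lt p))
      rw [huniv] at hcard
      revert hcard
      decide
    have hm : ((List.range 24).filter fun i => !o.testBit i).headI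
        ∈ ((List.range 24).filter fun i => !o.testBit i) := by
      cases e : ((List.range 24).filter fun i => !o.testBit i) with
      | nil => exact absurd e hne
      | cons a t => simp
    obtain ⟨hr, hb⟩ := List.mem_filter.1 hm
    rw [idx_pt _ (List.mem_range.1 hr)]
    simpa using hb
  rw [if_pos h1, if_neg h2] at he
  simp [axisVec] at he

theorem normal_closure_signs {M : Subgroup Co0} [hM : M.Normal] (hE : signSub ≤ M) : M = ⊤ := by
  classical
  have hnc : ¬ M ≤ Subgroup.center Co0 := fun h => signSub_not_central (hE.trans h)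
  have hHM : crossStab ≤ M := by
    refine crossStab_le hE ?_
    obtain ⟨-, hg, hmono, hmove⟩ := sign_facts
    set c : {c : Finset GolayPt // c ∈ supports (golayCode : Set (GolayPt → ZMod 2))} :=
      ⟨ptSet gammaMask, (ptSet_mem_supports_iff (codeList_lt hg)).2 hg⟩
    have hzz : zeta⁻¹ = zeta := inv_eq_of_mul_eq_one_right (Subtype.ext (Equiv.ext fun v => by
      show zeta • zeta • v = v
      exact Subtype.ext (by rw [zeta_apply, zeta_apply]; exact zetaFun_zetaFun (leech_le_zetaDom v.2).1)))
    set γ := zeta * signAut c * zeta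
    have hγM : γ ∈ M := by
      have := hM.conj_mem _ (hE (signAut_mem c)) zeta
      rwa [hzz] at this
    have hval : ∀ i q, (γ • axisVec i).1 q =
        zetaFun (fun r => if gammaMask.testBit (idx r) then -zetaFun (Pi.single i 8) r
          else zetaFun (Pi.single i 8) r) q := by
      intro i q
      show ((zeta * signAut c * zeta) • axisVec i).1 q = _
      rw [mul_smul, mul_smul, zeta_apply]
      congr 1
      funext r
      rw [signAut_apply, zeta_apply]
      simp only [c, mem_ptSet]
      rfl
    have hγmono : IsMono γ := by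
      intro v hv
      obtain ⟨i, s, hs, he⟩ := hv
      obtain ⟨l, hl⟩ := hmono i
      have hn : sqNorm (γ • axisVec i).1 = 64 := by
        rw [co0_sqNorm]; exact (sqNorm_single i 8).trans (by norm_num)
      have h0 : ∀ q, q ≠ l → (γ • axisVec i).1 q = 0 := fun q hq => (hval i q).trans (hl q hq)
      have hl8 : (γ • axisVec i).1 l = 8 ∨ (γ • axisVec i).1 l = -8 := by
        refine sq_eq_sq_iff_eq_or_eq_neg.1 ?_
        rw [show ((8 : ℤ)) ^ 2 = 64 by norm_num, ← hn, sqNorm,
          Finset.sum_eq_single l (fun q _ hq => by simp [h0 q hq]) (by simp)]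
      have hax : (γ • axisVec i).1 ∈ stdCross := ⟨l, _, hl8, funext fun q => by
        rcases eq_or_ne q l with rfl | e
        · simp
        · rw [h0 q e, Pi.single_eq_of_ne e]⟩
      rcases hs with rfl | rfl
      · rwa [show v = axisVec i from Subtype.ext he]
      · rw [show v = -axisVec i from Subtype.ext (he.trans (by
          show (Pi.single i (-8) : GolayPt → ℤ) = -(Pi.single i 8 : GolayPt → ℤ)
          rw [Pi.single_neg])), co0_smul_neg, AddSubgroup.coe_neg]
        obtain ⟨p, t, ht, hp⟩ := hax
        exact ⟨p, -t, by omega, by rw [hp, Pi.single_neg]⟩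
    obtain ⟨σ, d, hγ⟩ := stdCross_stabiliser_eq_monomial γ hγmono
    have hσ1 : σ ≠ 1 := by
      intro e
      have h : (γ • axisVec none).1 none = 0 := (hval none none).trans hmove
      rw [hγ, monoAut_apply, signedPerm_apply, e] at h
      revert h
      show ((if none ∈ d.1 then -(Pi.single none 8 : GolayPt → ℤ) none
        else (Pi.single none 8 : GolayPt → ℤ) none) = 0) → False
      split <;> simp
    have hN : (M.comap permHom) = ⊤ := by
      haveI := isSimpleGroup_M24
      refine ((hM.comap permHom).eq_bot_or_eq_top).resolve_left fun hb => hσ1 ?_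
      rw [← Subgroup.mem_bot, ← hb, Subgroup.mem_comap]
      rw [hγ, monoAut_eq] at hγM
      exact (M.mul_mem_cancel_left (hE (signAut_mem d))).1 hγM
    intro σ'
    have : σ' ∈ M.comap permHom := hN ▸ Subgroup.mem_top _
    exact this
  rw [← normal_sup_crossStab hnc, sup_eq_left.2 hHM]

lemma basisList_mem_codeList : ∀ b ∈ basisList, b ∈ codeList := by decide +kernel

theorem co0_perfect : commutator Co0 = ⊤ := by
  classical
  have hoct : ∀ b ∈ basisList, ∀ (hb : b ∈ codeList),
      signAut ⟨ptSet b, (ptSet_mem_supports_iff (codeList_lt hb)).2 hb⟩ ∈ commutator Co0 := by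
    intro b hbB hb
    obtain ⟨o, ho, ho2⟩ := List.any_eq_true.1 (sign_facts.1 b hbB)
    have ho' := ptSet_mem_octads ho
    have ho2' := ptSet_mem_octads (List.contains_iff_mem.1 ho2)
    obtain ⟨σ, hσ⟩ := exists_M24_map_octad ho' ho2'
    have hmem : permAut σ * signAut ⟨ptSet o, ho'.1⟩ * (permAut σ)⁻¹ *
        (signAut ⟨ptSet o, ho'.1⟩)⁻¹ ∈ commutator Co0 :=
      Subgroup.commutator_mem_commutator (Subgroup.mem_top _) (Subgroup.mem_top _)
    rw [conj_signAut] at hmem
    convert hmem using 1
    rw [eq_mul_inv_iff_mul_eq]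
    refine Subtype.ext (Equiv.ext fun v => Subtype.ext (funext fun i => ?_))
    show (signAut _ • signAut _ • v).1 i = (signAut _ • v).1 i
    rw [signAut_apply, signAut_apply, signAut_apply]
    have e : σ.1 • ptSet o = ptSet (o ^^^ b) := hσ
    simp only [e, ptSet_xor, Finset.mem_symmDiff]
    by_cases h1 : i ∈ ptSet o <;> by_cases h2 : i ∈ ptSet b <;> simp [h1, h2]
  have hspan : ∀ L : List ℕ, (∀ b ∈ L, b ∈ basisList) → ∀ m ∈ spanList L, ∀ (hm : m ∈ codeList),
      signAut ⟨ptSet m, (ptSet_mem_supports_iff (codeList_lt hm)).2 hm⟩ ∈ commutator Co0 := by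
    intro L
    induction L with
    | nil =>
      intro _ m hm hmc
      obtain rfl : m = 0 := by simpa [spanList] using hm
      convert (commutator Co0).one_mem using 1
      refine Subtype.ext (Equiv.ext fun v => Subtype.ext (funext fun i => ?_))
      show (signAut _ • v).1 i = v.1 i
      rw [signAut_apply, if_neg]
      simp [ptSet_zero]
    | cons b L ih =>
      intro hL m hm hmc
      simp only [spanList, List.mem_append, List.mem_map] at hm
      rcases hm with hm | ⟨t, ht, rfl⟩
      · exact ih (fun x hx => hL x (List.mem_cons_of_mem _ hx)) m hm hmc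
      · have hbB := hL b List.mem_cons_self
        have hbc : b ∈ codeList := basisList_mem_codeList b hbB
        have htc : t ∈ codeList := by
          have h1 := (ptSet_mem_supports_iff (codeList_lt hbc)).2 hbc
          have h2 := (ptSet_mem_supports_iff (codeList_lt hmc)).2 hmc
          have h3 := symmDiff_mem_supports h1 h2
          rw [← ptSet_xor, ← Nat.xor_assoc, Nat.xor_self, Nat.zero_xor] at h3
          have hlt : t < 2 ^ 24 := by
            rw [show t = b ^^^ (b ^^^ t) by rw [← Nat.xor_assoc, Nat.xor_self, Nat.zero_xor]]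
            exact Nat.xor_lt_two_pow (codeList_lt hbc) (codeList_lt hmc)
          exact (ptSet_mem_supports_iff hlt).1 h3
        convert (commutator Co0).mul_mem (hoct b hbB hbc)
          (ih (fun x hx => hL x (List.mem_cons_of_mem _ hx)) t ht htc) using 1
        refine Subtype.ext (Equiv.ext fun v => Subtype.ext (funext fun i => ?_))
        show (signAut _ • v).1 i = (signAut _ • signAut _ • v).1 i
        rw [signAut_apply, signAut_apply, signAut_apply]
        simp only [ptSet_xor, Finset.mem_symmDiff]
        by_cases h1 : i ∈ ptSet b <;> by_cases h2 : i ∈ ptSet t <;> simp [h1, h2]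
  haveI : (commutator Co0).Normal := Subgroup.commutator_normal ⊤ ⊤
  refine normal_closure_signs ?_
  rintro _ ⟨c, rfl⟩
  have hm : maskOf c.1 ∈ codeList := mem_supports_iff.1 c.2
  convert hspan basisList.reverse (fun b hb => List.mem_reverse.1 hb) (maskOf c.1) hm hm using 2
  exact Subtype.ext (ptSet_maskOf c.1).symm

theorem normal_eq_top {N : Subgroup Co0} [hN : N.Normal] (hnc : ¬ N ≤ Subgroup.center Co0) :
    N = ⊤ := by
  have hsup := normal_sup_crossStab hnc
  have hnorm : (N ⊔ signSub).Normal := by
    rw [← Subgroup.normalizer_eq_top_iff, eq_top_iff, ← hsup, sup_le_iff]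
    refine ⟨(le_sup_left (b := signSub)).trans Subgroup.le_normalizer, crossStab_le ?_ fun σ => ?_⟩
    · exact (le_sup_right (a := N)).trans Subgroup.le_normalizer
    · rw [Subgroup.mem_normalizer_iff']
      have key : ∀ τ : M24, ∀ x ∈ N ⊔ signSub, permAut τ * x * (permAut τ)⁻¹ ∈ N ⊔ signSub := by
        intro τ x hx
        obtain ⟨a, ha, b, ⟨d, rfl⟩, rfl⟩ := Subgroup.mem_sup_of_normal_left.1 hx
        rw [show permAut τ * (a * signAut d) * (permAut τ)⁻¹ =
          (permAut τ * a * (permAut τ)⁻¹) * (permAut τ * signAut d * (permAut τ)⁻¹) by group,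
          conj_signAut]
        exact Subgroup.mul_mem_sup (hN.conj_mem a ha _) (signAut_mem _)
      intro x
      constructor
      · intro h
        have h' := key σ _ h
        rwa [show permAut σ * (x * permAut σ) * (permAut σ)⁻¹ = permAut σ * x by group] at h'
      · intro h
        have h' := key σ⁻¹ _ h
        rw [show permAut σ⁻¹ = (permAut σ)⁻¹ from map_inv permHom σ] at h'
        rwa [show (permAut σ)⁻¹ * (permAut σ * x) * (permAut σ)⁻¹⁻¹ = x * permAut σ by group] at h'
  have htop := normal_closure_signs (M := N ⊔ signSub) (hM := hnorm) le_sup_right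
  have hle : commutator Co0 ≤ N := by
    refine Subgroup.Normal.commutator_le_of_self_sup_commutative_eq_top (H := signSub) htop ⟨⟨?_⟩⟩
    intro a b
    exact Subtype.ext (signSub_comm a.1 a.2 b.1 b.2)
  exact eq_top_iff.2 (co0_perfect ▸ hle)

theorem isCo1_quotient : IsCo1 (Co0 ⧸ Subgroup.center Co0) := by
  have hcard : Nat.card (Co0 ⧸ Subgroup.center Co0) = 4157776806543360000 := by
    have h := Subgroup.card_eq_card_quotient_mul_card_subgroup (Subgroup.center Co0)
    rw [card_center_co0, card_co0] at h
    omega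
  refine ⟨?_, hcard⟩
  haveI : Nontrivial (Co0 ⧸ Subgroup.center Co0) := by
    haveI : Finite (Co0 ⧸ Subgroup.center Co0) := Nat.finite_of_card_ne_zero (by omega)
    exact Finite.one_lt_card_iff_nontrivial.1 (by omega)
  refine ⟨fun M hM => ?_⟩
  haveI := hM.comap (QuotientGroup.mk' (Subgroup.center Co0))
  by_cases h : M.comap (QuotientGroup.mk' (Subgroup.center Co0)) ≤ Subgroup.center Co0
  · left
    rw [eq_bot_iff]
    intro q hq
    obtain ⟨g, rfl⟩ := QuotientGroup.mk'_surjective _ q
    rw [Subgroup.mem_bot]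
    exact (QuotientGroup.eq_one_iff g).2 (h hq)
  · right
    rw [eq_top_iff]
    intro q _
    obtain ⟨g, rfl⟩ := QuotientGroup.mk'_surjective _ q
    have : g ∈ M.comap (QuotientGroup.mk' (Subgroup.center Co0)) := normal_eq_top h ▸ Subgroup.mem_top g
    exact this

end Cfsg.Agent.Golay
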