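import Cfsg.Agent.Golay.LeechBasic

/-!
Generation of the lattice by minimal vectors, and its index in the integer lattice.
-/

set_option autoImplicit false

namespace Cfsg.Agent.Golay

open Cfsg
open scoped Pointwise

lemma nsmul_fun_apply (n : ℕ) (f : GolayPt → ℤ) (i : GolayPt) : (n • f) i = (n : ℤ) * f i := by
  simp

/-- Minimal vectors of the lattice. -/
def minVecs : Set (GolayPt → ℤ) := {x | x ∈ leechLattice ∧ sqNorm x = 32}

/-- The vector `(-3, 1²³)` with `-3` at the extra point. -/
def oddMin : GolayPt → ℤ := fun p => if p = none then -3 else 1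

lemma oddMin_mem : oddMin ∈ minVecs := by
  refine ⟨mem_leech_iff.2 ⟨1, by decide +kernel, by decide +kernel, ?_⟩, by decide +kernel⟩
  rw [mem_golayCode_iff, ← inCode_iff]
  decide +kernel

lemma double_mem_minVecs {a : GolayPt → ℤ} (h1 : (fun i => (a i : ZMod 2)) ∈ golayCode)
    (h2 : (∑ i, a i) % 4 = 0) (h3 : ∑ i, a i ^ 2 = 8) : 2 • a ∈ minVecs := by
  refine ⟨mem_leech_two_smul.2 ⟨h1, h2⟩, ?_⟩
  rw [sqNorm, Finset.sum_congr rfl fun i _ =>
    show (2 • a) i ^ 2 = 4 * a i ^ 2 by rw [Pi.smul_apply, nsmul_eq_mul]; push_cast; ring,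
    ← Finset.mul_sum, h3]
  norm_num

lemma pair_mem_minVecs {i j : GolayPt} (hij : i ≠ j) {s : ℤ} (hs : s = 1 ∨ s = -1) :
    (fun l => if l = i then 4 else if l = j then 4 * s else 0) ∈ minVecs := by
  have heq : (fun l => if l = i then (4 : ℤ) else if l = j then 4 * s else 0)
      = 2 • fun l => if l = i then 2 else if l = j then 2 * s else 0 := by
    funext l; simp only [Pi.smul_apply, nsmul_eq_mul, Nat.cast_ofNat]; split_ifs <;> ring
  rw [heq]
  have key : ∀ f : ℤ → ℤ, f 0 = 0 →
      ∑ l, f (if l = i then 2 else if l = j then 2 * s else 0) = f 2 + f (2 * s) := by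
    intro f hf
    rw [Finset.sum_eq_add (a := i) (b := j) hij]
    · simp [hij.symm]
    · intro l _ hl; simp [hl.1, hl.2, hf]
    · simp
    · simp
  refine double_mem_minVecs ?_ ?_ ?_
  · have : (fun l => (((if l = i then 2 else if l = j then 2 * s else 0) : ℤ) : ZMod 2)) = 0 := by
      funext l
      rw [Pi.zero_apply, ZMod.intCast_zmod_eq_zero_iff_dvd]
      split_ifs <;> simp
    rw [this]; exact Submodule.zero_mem _
  · have := key id rfl
    simp only [id] at this
    rw [this]
    rcases hs with rfl | rfl <;> norm_num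
  · rw [key (fun z => z ^ 2) (by norm_num)]
    rcases hs with rfl | rfl <;> norm_num

lemma basis_octad_mem {b : ℕ} (hb : b ∈ basisList) :
    (fun i => if b.testBit (idx i) then (2 : ℤ) else 0) ∈ minVecs := by
  have heq : (fun i => if b.testBit (idx i) then (2 : ℤ) else 0)
      = 2 • fun i => if b.testBit (idx i) then (1 : ℤ) else 0 := by
    funext l; simp only [Pi.smul_apply, nsmul_eq_mul, Nat.cast_ofNat]; split_ifs <;> ring
  rw [heq]
  have h8 : (ptSet b).card = 8 := by
    rw [card_ptSet]; exact (by decide +kernel : ∀ b ∈ basisList, popCnt b = 8) b hb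
  have hsum : ∑ i, (if b.testBit (idx i) then (1 : ℤ) else 0) = 8 := by
    rw [Finset.sum_boole]
    exact_mod_cast h8
  refine double_mem_minVecs ?_ ?_ ?_
  · have : (fun i => (((if b.testBit (idx i) then 1 else 0) : ℤ) : ZMod 2)) = maskWord b := by
      funext i; simp only [maskWord]; split <;> simp
    rw [this, mem_golayCode_iff, wordMask_maskWord (basisList_lt b hb)]
    exact mem_spanList_of_mem _ (List.mem_reverse.2 hb)
  · rw [hsum]; norm_num
  · rw [← hsum]; refine Finset.sum_congr rfl fun i _ => ?_; split <;> norm_num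

/-- Axis generators of the lattice lie in the subgroup spanned by minimal vectors. -/
lemma pair_gens_mem_closure :
    (∀ l : GolayPt, l ≠ none →
      (4 : ℕ) • (Pi.single l (1 : ℤ) - Pi.single none 1) ∈ AddSubgroup.closure minVecs) ∧
    (8 : ℕ) • (Pi.single (none : GolayPt) (1 : ℤ)) ∈ AddSubgroup.closure minVecs := by
  refine ⟨?_, ?_⟩
  · intro l hl
    refine AddSubgroup.subset_closure ?_
    convert pair_mem_minVecs hl (Or.inr rfl : (-1 : ℤ) = 1 ∨ (-1 : ℤ) = -1) using 1
    funext q
    rcases eq_or_ne q l with rfl | h1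
    · simp [hl]
    · rcases eq_or_ne q none with rfl | h2
      · simp [h1]
      · simp [h1, h2]
  · have ha := AddSubgroup.subset_closure (k := minVecs)
      (pair_mem_minVecs (i := none) (j := some 0) (by simp) (Or.inl rfl : (1 : ℤ) = 1 ∨ (1 : ℤ) = -1))
    have hb := AddSubgroup.subset_closure (k := minVecs)
      (pair_mem_minVecs (i := none) (j := some 0) (by simp) (Or.inr rfl : (-1 : ℤ) = 1 ∨ (-1 : ℤ) = -1))
    convert add_mem ha hb using 1
    funext q
    rcases eq_or_ne q none with rfl | h1
    · simp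
    · rcases eq_or_ne q (some 0) with rfl | h2
      · simp
      · simp [h1, h2]
lemma four_smul_mem {H : AddSubgroup (GolayPt → ℤ)}
    (hpair : ∀ l : GolayPt, l ≠ none →
      (4 : ℕ) • (Pi.single l (1 : ℤ) - Pi.single none 1) ∈ H)
    (h8 : (8 : ℕ) • (Pi.single (none : GolayPt) (1 : ℤ)) ∈ H)
    {b : GolayPt → ℤ} (hb : (∑ i, b i) % 2 = 0) : 4 • b ∈ H := by
  obtain ⟨k, hk⟩ : (2 : ℤ) ∣ ∑ i, b i := Int.dvd_of_emod_eq_zero hb
  have hdecomp : (4 : ℕ) • b = (∑ l, b l • ((4 : ℕ) • (Pi.single l (1 : ℤ) - Pi.single none 1)))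
      + k • ((8 : ℕ) • Pi.single (none : GolayPt) (1 : ℤ)) := by
    funext q
    simp only [Pi.add_apply, Finset.sum_apply, Pi.sub_apply, Pi.smul_apply, smul_eq_mul,
      nsmul_eq_mul, Nat.cast_ofNat, Pi.mul_apply, Pi.ofNat_apply]
    rw [Finset.sum_congr rfl fun l _ => show b l * (4 * ((Pi.single l (1 : ℤ) : GolayPt → ℤ) q -
        (Pi.single none (1 : ℤ) : GolayPt → ℤ) q))
      = 4 * (b l * (Pi.single l (1 : ℤ) : GolayPt → ℤ) q)
        - 4 * (Pi.single none (1 : ℤ) : GolayPt → ℤ) q * b l by ring,
      Finset.sum_sub_distrib, ← Finset.mul_sum, ← Finset.mul_sum, hk]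
    rw [Finset.sum_eq_single q (fun l _ hl => by simp [Pi.single_eq_of_ne hl.symm]) (by simp),
      Pi.single_eq_same]
    ring
  rw [hdecomp]
  refine H.add_mem (AddSubgroup.sum_mem _ fun l _ => ?_) (H.zsmul_mem h8 k)
  by_cases hl : l = none
  · subst hl; simp
  · exact H.zsmul_mem (hpair l hl) _

/-- A subgroup with the standard generators contains the lattice. -/
theorem leech_le_of_gens (K : AddSubgroup (GolayPt → ℤ)) (ho' : oddMin ∈ K)
    (hbasis' : ∀ b ∈ basisList, (fun i => if b.testBit (idx i) then (2 : ℤ) else 0) ∈ K)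
    (hpair' : ∀ l : GolayPt, l ≠ none → (4 : ℕ) • (Pi.single l (1 : ℤ) - Pi.single none 1) ∈ K)
    (h8' : (8 : ℕ) • (Pi.single (none : GolayPt) (1 : ℤ)) ∈ K) : leechLattice ≤ K := by
  have hle : AddSubgroup.closure minVecs ≤ leechLattice := by
    rw [AddSubgroup.closure_le]; exact fun x hx => hx.1
  set H := K ⊓ leechLattice
  have ho : oddMin ∈ H := ⟨ho', oddMin_mem.1⟩
  have hbasis : ∀ b ∈ basisList, (fun i => if b.testBit (idx i) then (2 : ℤ) else 0) ∈ H :=
    fun b hb => ⟨hbasis' b hb, (basis_octad_mem hb).1⟩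
  have hpair : ∀ l : GolayPt, l ≠ none →
      (4 : ℕ) • (Pi.single l (1 : ℤ) - Pi.single none 1) ∈ H :=
    fun l hl => ⟨hpair' l hl, hle (pair_gens_mem_closure.1 l hl)⟩
  have h8 : (8 : ℕ) • (Pi.single (none : GolayPt) (1 : ℤ)) ∈ H :=
    ⟨h8', hle pair_gens_mem_closure.2⟩
  suffices leechLattice ≤ H from this.trans inf_le_left
  intro x hx
  suffices ∀ y ∈ leechLattice, (∀ i, y i % 2 = 0) → y ∈ H by
    obtain ⟨m, h1, -, -⟩ := mem_leech_iff.1 hx
    rcases Int.emod_two_eq_zero_or_one m with hm | hm
    · exact this x hx fun i => (h1 i).trans hm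
    · have := this (x - oddMin) (sub_mem hx oddMin_mem.1) fun i => by
        have := h1 i; have h3 : oddMin i % 2 = 1 := by unfold oddMin; split <;> norm_num
        simp only [Pi.sub_apply]; omega
      simpa using H.add_mem this ho
  intro y hy heven
  set a : GolayPt → ℤ := fun i => y i / 2
  have hya : y = 2 • a := by
    funext i
    have := heven i
    simp only [a, Pi.smul_apply, nsmul_eq_mul, Nat.cast_ofNat]
    omega
  rw [hya] at hy ⊢
  obtain ⟨h1, h2⟩ := mem_leech_two_smul.1 hy
  -- match the parities by a sum of basic octad vectors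
  obtain ⟨z, hz, hzpar⟩ : ∃ z : GolayPt → ℤ,
      2 • z ∈ H ∧ wordMask (fun i => (z i : ZMod 2)) = wordMask (fun i => (a i : ZMod 2)) := by
    refine spanList_induction (P := fun m => ∃ z : GolayPt → ℤ,
      2 • z ∈ H ∧ wordMask (fun i => (z i : ZMod 2)) = m) _ ?_ ?_ ?_ _ (mem_golayCode_iff.1 h1)
    · refine ⟨0, by simp, ?_⟩
      rw [show (fun i => (((0 : GolayPt → ℤ) i : ℤ) : ZMod 2)) = 0 by funext i; simp]
      exact wordMask_zero
    · intro b hb
      rw [List.mem_reverse] at hb
      refine ⟨fun i => if b.testBit (idx i) then 1 else 0, ?_, ?_⟩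
      · convert hbasis b hb using 1
        funext i; simp only [Pi.smul_apply, nsmul_eq_mul, Nat.cast_ofNat]; split <;> ring
      · rw [show (fun i => (((if b.testBit (idx i) then 1 else 0) : ℤ) : ZMod 2)) = maskWord b by
          funext i; simp only [maskWord]; split <;> simp, wordMask_maskWord (basisList_lt b hb)]
    · rintro m n ⟨z, hz, hzm⟩ ⟨w, hw, hwn⟩
      refine ⟨z + w, by rw [smul_add]; exact H.add_mem hz hw, ?_⟩
      rw [← hzm, ← hwn, ← wordMask_add]
      congr 1; funext i; simp
  have hpar : ∀ i, (a i - z i) % 2 = 0 := fun i => by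
    have h := congrFun ((maskWord_wordMask _).symm.trans ((congrArg maskWord hzpar).trans
      (maskWord_wordMask _))) i
    simp only [ZMod.intCast_eq_intCast_iff'] at h
    omega
  set b : GolayPt → ℤ := fun i => (a i - z i) / 2
  have hab : 2 • a = 2 • z + 4 • b := by
    funext i
    have := hpar i
    simp only [b, nsmul_fun_apply, Pi.add_apply, Nat.cast_ofNat]
    omega
  rw [hab]
  refine H.add_mem hz (four_smul_mem hpair h8 ?_)
  have hzL : 2 • z ∈ leechLattice := hz.2
  have h4 := (mem_leech_two_smul.1 hzL).2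
  have hsum : ∑ i, a i = (∑ i, z i) + 2 * ∑ i, b i := by
    rw [Finset.mul_sum, ← Finset.sum_add_distrib]
    refine Finset.sum_congr rfl fun i _ => ?_
    have := hpar i
    simp only [b]
    omega
  omega

theorem closure_minVecs : AddSubgroup.closure minVecs = leechLattice := by
  refine le_antisymm ((AddSubgroup.closure_le _).2 fun x hx => hx.1) ?_
  exact leech_le_of_gens _ (AddSubgroup.subset_closure oddMin_mem)
    (fun b hb => AddSubgroup.subset_closure (basis_octad_mem hb))
    pair_gens_mem_closure.1 pair_gens_mem_closure.2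

/-! ### The index -/

/-- Reduction modulo 2. -/
def modTwo : (GolayPt → ℤ) →+ (GolayPt → ZMod 2) where
  toFun a := fun i => (a i : ZMod 2)
  map_zero' := by funext i; simp
  map_add' a b := by funext i; simp

lemma modTwo_surjective : Function.Surjective modTwo := fun w => by
  refine ⟨fun i => ((w i).val : ℤ), ?_⟩
  funext i
  simp [modTwo]

/-- Doubling. -/
def dbl : (GolayPt → ℤ) →+ (GolayPt → ℤ) where
  toFun a := 2 • a
  map_zero' := smul_zero 2
  map_add' := smul_add 2

lemma dbl_injective : Function.Injective dbl := fun a b h => by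
  funext i
  have := congrFun h i
  simp [dbl] at this
  omega

lemma range_dbl : dbl.range = modTwo.ker := by
  ext x
  simp only [AddMonoidHom.mem_range, AddMonoidHom.mem_ker]
  constructor
  · rintro ⟨a, rfl⟩
    funext i
    show (((2 • a) i : ℤ) : ZMod 2) = 0
    rw [ZMod.intCast_zmod_eq_zero_iff_dvd]; simp
  · intro h
    refine ⟨fun i => x i / 2, ?_⟩
    funext i
    have hi : ((x i : ℤ) : ZMod 2) = 0 := congrFun h i
    rw [ZMod.intCast_zmod_eq_zero_iff_dvd] at hi
    show (2 • fun i => x i / 2) i = x i
    simp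
    omega

/-- Vectors with parities in the code and coordinate sum divisible by 4. -/
def halfEven : AddSubgroup (GolayPt → ℤ) where
  carrier := {a | modTwo a ∈ golayCode ∧ (∑ i, a i) % 4 = 0}
  zero_mem' := by simp
  add_mem' := by
    rintro a b ⟨h1, h2⟩ ⟨k1, k2⟩
    refine ⟨by rw [map_add]; exact Submodule.add_mem _ h1 k1, ?_⟩
    simp only [Pi.add_apply, Finset.sum_add_distrib]; omega
  neg_mem' := by
    rintro a ⟨h1, h2⟩
    refine ⟨by rw [map_neg]; exact Submodule.neg_mem _ h1, ?_⟩
    simp only [Pi.neg_apply, Finset.sum_neg_distrib]; omega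

lemma index_halfEven : halfEven.index = 2 ^ 13 := by
  set K := (golayCode.toAddSubgroup).comap modTwo
  have hK : K.index = 2 ^ 12 := by
    rw [AddSubgroup.index_comap_of_surjective _ modTwo_surjective]
    have h := AddSubgroup.index_mul_card (G := GolayPt → ZMod 2) golayCode.toAddSubgroup
    rw [show Nat.card golayCode.toAddSubgroup = 4096 from card_golayCode,
      Nat.card_eq_fintype_card (α := GolayPt → ZMod 2)] at h
    rw [Fintype.card_fun, ZMod.card, show Fintype.card GolayPt = 24 from rfl,
      show (4096 : ℕ) = 2 ^ 12 by norm_num, show (2 : ℕ) ^ 24 = 2 ^ 12 * 2 ^ 12 from pow_add 2 12 12]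
      at h
    exact Nat.eq_of_mul_eq_mul_right (pow_pos two_pos 12) h
  have hle : halfEven ≤ K := fun a ha => ha.1
  have hrel : halfEven.relIndex K = 2 := by
    rw [AddSubgroup.relIndex, AddSubgroup.index_eq_two_iff]
    refine ⟨⟨fun i => if i = none then 2 else 0, ?_⟩, fun b => ?_⟩
    · show modTwo _ ∈ golayCode
      rw [show modTwo (fun i => if i = none then (2 : ℤ) else 0) = 0 by
        funext i
        show ((if i = none then (2 : ℤ) else 0 : ℤ) : ZMod 2) = 0
        rw [ZMod.intCast_zmod_eq_zero_iff_dvd]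
        split <;> simp]
      exact Submodule.zero_mem _
    · obtain ⟨b, hb⟩ := b
      have hb2 : (∑ i, b i) % 2 = 0 := by
        have hc : (support₂ (modTwo b)).card % 4 = 0 :=
          Nat.mod_eq_zero_of_dvd (card_digit_dvd_four (x := fun i => 2 * b i) (by
            rw [show digitWord (fun i => 2 * b i) = modTwo b by
              funext i; simp [digitWord, modTwo]]
            exact hb) |> fun h => by
              rwa [show digitWord (fun i => 2 * b i) = modTwo b by
                funext i; simp [digitWord, modTwo]] at h)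
        have hq := sum_sq_mod_four b
        have hpar : (∑ i, b i ^ 2) % 2 = (∑ i, b i) % 2 := by
          rw [Finset.sum_int_mod]
          conv_rhs => rw [Finset.sum_int_mod]
          congr 1
          refine Finset.sum_congr rfl fun i _ => ?_
          rw [sq, Int.mul_emod]
          rcases Int.emod_two_eq_zero_or_one (b i) with h | h <;> rw [h] <;> norm_num
        have hc' : (support₂ fun i => ((b i : ℤ) : ZMod 2)).card % 4 = 0 := hc
        omega
      simp only [AddSubgroup.mem_addSubgroupOf, AddSubgroup.coe_add]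
      show Xor (modTwo (b + _) ∈ golayCode ∧ _) (modTwo b ∈ golayCode ∧ _)
      have h2z : modTwo (b + fun i => if i = none then 2 else 0) = modTwo b := by
        funext i
        show (((b i + if i = none then 2 else 0) : ℤ) : ZMod 2) = (b i : ZMod 2)
        rw [ZMod.intCast_eq_intCast_iff']
        split <;> omega
      have hs : ∑ i : GolayPt, (b + fun i => if i = none then (2 : ℤ) else 0 : GolayPt → ℤ) i
          = (∑ i, b i) + 2 := by
        simp [Finset.sum_add_distrib]
      rw [h2z, hs]
      simp only [Xor, show modTwo b ∈ golayCode from hb, true_and]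
      omega
  have h := AddSubgroup.relIndex_mul_index hle
  rw [hrel, hK] at h
  omega

/-- The even sublattice. -/
def evenLeech : AddSubgroup (GolayPt → ℤ) := halfEven.map dbl

lemma evenLeech_le : evenLeech ≤ leechLattice := by
  rintro x ⟨a, ha, rfl⟩
  exact mem_leech_two_smul.2 ha

theorem index_leechLattice : leechLattice.index = 2 ^ 36 := by
  have h1 : evenLeech.index = 2 ^ 37 := by
    rw [evenLeech, AddSubgroup.index_map_of_injective halfEven dbl_injective, index_halfEven,
      range_dbl, AddSubgroup.index_ker, AddMonoidHom.range_eq_top.2 modTwo_surjective,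
      Nat.card_congr (AddSubgroup.topEquiv).toEquiv,
      Nat.card_eq_fintype_card (α := GolayPt → ZMod 2)]
    rw [Fintype.card_fun, ZMod.card, show Fintype.card GolayPt = 24 from rfl]
    norm_num
  have h2 : evenLeech.relIndex leechLattice = 2 := by
    rw [AddSubgroup.relIndex, AddSubgroup.index_eq_two_iff]
    refine ⟨⟨oddMin, oddMin_mem.1⟩, fun b => ?_⟩
    obtain ⟨b, hb⟩ := b
    simp only [AddSubgroup.mem_addSubgroupOf, AddSubgroup.coe_add]
    have key : ∀ y ∈ leechLattice, y ∈ evenLeech ↔ y none % 2 = 0 := by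
      intro y hy
      constructor
      · rintro ⟨a, -, rfl⟩
        show (2 • a) none % 2 = 0
        simp
      · intro h
        obtain ⟨m, h1, -, -⟩ := mem_leech_iff.1 hy
        refine ⟨fun i => y i / 2, ?_, ?_⟩
        · refine mem_leech_two_smul.1 ?_
          convert hy using 1
          funext i
          have := h1 i; have := h1 none
          simp only [Pi.smul_apply, nsmul_eq_mul, Nat.cast_ofNat]
          omega
        · funext i
          show (2 • fun i => y i / 2) i = y i
          have := h1 i; have := h1 none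
          simp only [Pi.smul_apply, nsmul_eq_mul, Nat.cast_ofNat]
          omega
    rw [key _ hb, key _ (leechLattice.add_mem hb oddMin_mem.1)]
    have : oddMin none = -3 := by decide
    simp only [Xor, Pi.add_apply, this]
    omega
  have h := AddSubgroup.relIndex_mul_index evenLeech_le
  rw [h2, h1] at h
  omega

end Cfsg.Agent.Golay
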