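import Cfsg.Agent.Golay.LeechBasic

/-!
Counting lattice vectors of small norm with coordinates in a prescribed set, through packed
generating polynomials evaluated at `2 ^ 64`.
-/

set_option autoImplicit false

namespace Cfsg.Agent.Golay

open Cfsg
open scoped Pointwise

/-- Reading a digit off a packed sum. -/
lemma digit_sum_pow {ι : Type*} (Bz : ℕ) (hB : 1 < Bz) : ∀ (N : ℕ) (s : Finset ι) (e : ι → ℕ),
    s.card < Bz → (∑ i ∈ s, Bz ^ e i) / Bz ^ N % Bz = (s.filter fun i => e i = N).card
  | 0, s, e, hs => by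
    rw [pow_zero, Nat.div_one, Finset.sum_nat_mod, Finset.card_filter]
    have h : ∀ i, Bz ^ e i % Bz = if e i = 0 then 1 else 0 := by
      intro i
      split
      · next h => rw [h, pow_zero, Nat.one_mod_eq_one.2 (by omega)]
      · next h => exact Nat.mod_eq_zero_of_dvd (dvd_pow_self Bz h)
    rw [Finset.sum_congr rfl fun i _ => h i, Nat.mod_eq_of_lt]
    rw [← Finset.card_filter]
    exact lt_of_le_of_lt (Finset.card_filter_le _ _) hs
  | N + 1, s, e, hs => by
    classical
    have hsplit : ∑ i ∈ s, Bz ^ e i = (s.filter fun i => e i = 0).card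
        + Bz * ∑ i ∈ s.filter (fun i => ¬ e i = 0), Bz ^ (e i - 1) := by
      rw [← Finset.sum_filter_add_sum_filter_not s (fun i => e i = 0), Finset.mul_sum]
      congr 1
      · rw [Finset.card_eq_sum_ones]
        refine Finset.sum_congr rfl fun i hi => ?_
        rw [(Finset.mem_filter.1 hi).2, pow_zero]
      · refine Finset.sum_congr rfl fun i hi => ?_
        have := (Finset.mem_filter.1 hi).2
        rw [← pow_succ', Nat.sub_add_cancel (by omega)]
    have hc : (s.filter fun i => e i = 0).card < Bz :=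
      lt_of_le_of_lt (Finset.card_filter_le _ _) hs
    rw [hsplit, pow_succ', ← Nat.div_div_eq_div_mul, Nat.add_mul_div_left _ _ (by omega),
      Nat.div_eq_of_lt hc, zero_add,
      digit_sum_pow Bz hB N _ _ (lt_of_le_of_lt (Finset.card_filter_le _ _) hs),
      Finset.filter_filter]
    congr 1
    refine Finset.filter_congr fun i _ => ?_
    omega

/-- Packed polynomial of a finite set of values. -/
def packVals (V : List ℤ) : ℕ := (V.map fun v => (2 ^ 64) ^ (v.natAbs * v.natAbs)).sum

lemma packVals_eq (V : List ℤ) (hV : V.Nodup) :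
    packVals V = ∑ v ∈ V.toFinset, (2 ^ 64) ^ (v.natAbs * v.natAbs) := by
  rw [packVals, List.sum_toFinset _ hV]

/-- The finite set of vectors with prescribed coordinate values and squared norm. -/
def boxVecs (V : GolayPt → List ℤ) (N : ℕ) : Finset (GolayPt → ℤ) :=
  (Fintype.piFinset fun i => (V i).toFinset).filter fun f =>
    ∑ i, (f i).natAbs * (f i).natAbs = N

lemma mem_boxVecs {V : GolayPt → List ℤ} {N : ℕ} {f : GolayPt → ℤ} :
    f ∈ boxVecs V N ↔ (∀ i, f i ∈ V i) ∧ sqNorm f = N := by
  simp only [boxVecs, Finset.mem_filter, Fintype.mem_piFinset, List.mem_toFinset]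
  refine and_congr_right fun _ => ?_
  have : ((∑ i, (f i).natAbs * (f i).natAbs : ℕ) : ℤ) = sqNorm f := by
    rw [sqNorm, Nat.cast_sum]
    refine Finset.sum_congr rfl fun i _ => ?_
    rw [Nat.cast_mul, Int.natAbs_mul_self' (f i)]
    ring
  omega

lemma card_boxVecs (V : GolayPt → List ℤ) (N : ℕ) (hV : ∀ i, (V i).Nodup)
    (h5 : ∀ i, (V i).length ≤ 5) :
    (boxVecs V N).card = (∏ i, packVals (V i)) / (2 ^ 64) ^ N % 2 ^ 64 := by
  rw [Finset.prod_congr rfl fun i _ => packVals_eq (V i) (hV i), Finset.prod_univ_sum,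
    Finset.sum_congr rfl fun f _ => Finset.prod_pow_eq_pow_sum Finset.univ _ _]
  rw [digit_sum_pow (2 ^ 64) (Nat.one_lt_two_pow (by norm_num)) N _ _ ?_, boxVecs]
  rw [Fintype.card_piFinset]
  calc ∏ i, (V i).toFinset.card ≤ ∏ _i : GolayPt, 5 :=
        Finset.prod_le_prod' fun i _ => (List.toFinset_card_le (V i)).trans (h5 i)
    _ = 5 ^ 24 := by rw [Finset.prod_const, Finset.card_univ]; rfl
    _ < 2 ^ 64 := by norm_num

/-- Values for each class modulo 4, restricted to an allowed set. -/
def evenVals (q : ℤ → Bool) (b : Bool) : List ℤ :=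
  (if b then [2, -2, 6, -6] else [0, 4, -4, 8, -8]).filter q

/-- Values for each odd class modulo 4, restricted to an allowed set. -/
def oddVals (q : ℤ → Bool) (b : Bool) : List ℤ :=
  (if b then [-1, 3, -5, 7] else [1, -3, 5, -7]).filter q

lemma prod_boolVals (f : Bool → ℕ) (m : ℕ) :
    (∏ i : GolayPt, f (m.testBit (idx i))) = f true ^ popCnt m * f false ^ (24 - popCnt m) := by
  rw [← Finset.prod_filter_mul_prod_filter_not Finset.univ
    (fun i : GolayPt => m.testBit (idx i) = true)]
  have ht : ∀ i ∈ Finset.univ.filter (fun i : GolayPt => m.testBit (idx i) = true),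
      f (m.testBit (idx i)) = f true := fun i hi => by rw [(Finset.mem_filter.1 hi).2]
  have hf : ∀ i ∈ Finset.univ.filter (fun i : GolayPt => ¬ m.testBit (idx i) = true),
      f (m.testBit (idx i)) = f false := fun i hi => by
    rw [Bool.eq_false_iff.2 (Finset.mem_filter.1 hi).2]
  rw [Finset.prod_congr rfl ht, Finset.prod_congr rfl hf, Finset.prod_const, Finset.prod_const]
  have h1 : (Finset.univ.filter fun i : GolayPt => m.testBit (idx i) = true).card = popCnt m :=
    card_ptSet m
  have h2 := Finset.card_filter_add_card_filter_not (s := (Finset.univ : Finset GolayPt))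
    (fun i : GolayPt => m.testBit (idx i) = true)
  rw [Finset.card_univ, show Fintype.card GolayPt = 24 from rfl, h1] at h2
  rw [h1, show (Finset.univ.filter fun i : GolayPt => ¬ m.testBit (idx i) = true).card
    = 24 - popCnt m by omega]

/-- Coefficient for even vectors with a given weight of parity word. -/
def evenWays (q : ℤ → Bool) (N w : ℕ) : ℕ :=
  packVals (evenVals q true) ^ w * packVals (evenVals q false) ^ (24 - w) / (2 ^ 64) ^ N % 2 ^ 64

/-- Coefficient for odd vectors with a given weight of digit word. -/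
def oddWays (q : ℤ → Bool) (N w : ℕ) : ℕ :=
  packVals (oddVals q true) ^ w * packVals (oddVals q false) ^ (24 - w) / (2 ^ 64) ^ N % 2 ^ 64

lemma evenVals_nodup (q : ℤ → Bool) (b : Bool) :
    (evenVals q b).Nodup ∧ (evenVals q b).length ≤ 5 := by
  refine ⟨List.Nodup.filter _ (by cases b <;> decide), ?_⟩
  refine (List.length_filter_le _ _).trans ?_
  cases b <;> decide

lemma oddVals_nodup (q : ℤ → Bool) (b : Bool) :
    (oddVals q b).Nodup ∧ (oddVals q b).length ≤ 5 := by
  refine ⟨List.Nodup.filter _ (by cases b <;> decide), ?_⟩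
  refine (List.length_filter_le _ _).trans ?_
  cases b <;> decide

/-- Even vectors with the given parity word. -/
def evenBox (q : ℤ → Bool) (N m : ℕ) : Finset (GolayPt → ℤ) :=
  boxVecs (fun i => evenVals q (m.testBit (idx i))) N

/-- Odd vectors with the given digit word. -/
def oddBox (q : ℤ → Bool) (N m : ℕ) : Finset (GolayPt → ℤ) :=
  boxVecs (fun i => oddVals q (m.testBit (idx i))) N

lemma card_evenBox (q : ℤ → Bool) (N m : ℕ) :
    (evenBox q N m).card = evenWays q N (popCnt m) := by
  rw [evenBox, card_boxVecs _ _ (fun i => (evenVals_nodup q _).1) (fun i => (evenVals_nodup q _).2),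
    prod_boolVals (fun b => packVals (evenVals q b)) m]
  rfl

lemma card_oddBox (q : ℤ → Bool) (N m : ℕ) :
    (oddBox q N m).card = oddWays q N (popCnt m) := by
  rw [oddBox, card_boxVecs _ _ (fun i => (oddVals_nodup q _).1) (fun i => (oddVals_nodup q _).2),
    prod_boolVals (fun b => packVals (oddVals q b)) m]
  rfl

/-- Even vectors meeting the sum condition. -/
def evenGood (q : ℤ → Bool) (N m : ℕ) : Finset (GolayPt → ℤ) :=
  (evenBox q N m).filter fun f => (∑ i, f i) % 8 = 0

lemma mem_evenVals {q : ℤ → Bool} {b : Bool} {v : ℤ} (hv : v * v ≤ 64) :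
    v ∈ evenVals q b ↔ q v = true ∧ v % 2 = 0 ∧ ((v / 2) % 2 = 1 ↔ b = true) := by
  have hb : -8 ≤ v ∧ v ≤ 8 := ⟨by nlinarith, by nlinarith⟩
  simp only [evenVals, List.mem_filter]
  rw [and_comm]
  refine and_congr_right fun _ => ?_
  obtain ⟨h1, h2⟩ := hb
  interval_cases v <;> cases b <;> norm_num

lemma mem_oddVals {q : ℤ → Bool} {b : Bool} {v : ℤ} (hv : v * v ≤ 64) :
    v ∈ oddVals q b ↔ q v = true ∧ v % 2 = 1 ∧ ((v / 2) % 2 = 1 ↔ b = true) := by
  have hb : -8 ≤ v ∧ v ≤ 8 := ⟨by nlinarith, by nlinarith⟩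
  simp only [oddVals, List.mem_filter]
  rw [and_comm]
  refine and_congr_right fun _ => ?_
  obtain ⟨h1, h2⟩ := hb
  interval_cases v <;> cases b <;> norm_num

lemma evenVals_sq {q : ℤ → Bool} {b : Bool} {v : ℤ} (h : v ∈ evenVals q b) : v * v ≤ 64 := by
  cases b <;> simp [evenVals] at h
  · rcases h.1 with rfl | rfl | rfl | rfl | rfl <;> norm_num
  · rcases h.1 with rfl | rfl | rfl | rfl <;> norm_num

lemma oddVals_sq {q : ℤ → Bool} {b : Bool} {v : ℤ} (h : v ∈ oddVals q b) : v * v ≤ 64 := by
  cases b <;> simp [oddVals] at h <;> rcases h.1 with rfl | rfl | rfl | rfl <;> norm_num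

lemma coord_sq_le {x : GolayPt → ℤ} {N : ℕ} (hN : N ≤ 64) (hx : sqNorm x = N) (i : GolayPt) :
    x i * x i ≤ 64 := by
  have : x i ^ 2 ≤ sqNorm x :=
    Finset.single_le_sum (fun j _ => sq_nonneg (x j)) (Finset.mem_univ i)
  rw [sq] at this
  omega

lemma testBit_wordMask_digit (x : GolayPt → ℤ) (i : GolayPt) :
    (wordMask (digitWord x)).testBit (idx i) = true ↔ (x i / 2) % 2 = 1 := by
  rw [← mem_ptSet, ptSet_wordMask, mem_support₂]
  exact zmod2_eq_iff _

/-- The allowed lattice vectors of norm `N`, as a finite set. -/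
def leechBox (q : ℤ → Bool) (N : ℕ) : Finset (GolayPt → ℤ) :=
  codeList.toFinset.biUnion fun m => evenGood q N m ∪ oddBox q N m

lemma digit_of_mem {q : ℤ → Bool} {N m : ℕ} (hm : m < 2 ^ 24) {x : GolayPt → ℤ}
    (h : x ∈ evenGood q N m ∪ oddBox q N m) : wordMask (digitWord x) = m := by
  refine ptSet_injOn (maskOf_lt _) hm ?_
  ext i
  rw [mem_ptSet, mem_ptSet, testBit_wordMask_digit]
  rcases Finset.mem_union.1 h with h | h
  · have h' := (mem_boxVecs.1 (Finset.mem_filter.1 h).1).1 i
    exact ((mem_evenVals (evenVals_sq h')).1 h').2.2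
  · have h' := (mem_boxVecs.1 h).1 i
    exact ((mem_oddVals (oddVals_sq h')).1 h').2.2

theorem leech_filter_eq_box (q : ℤ → Bool) {N : ℕ} (hN : N ≤ 64) (h16 : N % 16 = 0) :
    {x : GolayPt → ℤ | x ∈ leechLattice ∧ sqNorm x = N ∧ ∀ i, q (x i) = true}
      = ↑(leechBox q N) := by
  ext x
  simp only [Set.mem_setOf_eq, leechBox, Finset.coe_biUnion, Set.mem_iUnion, Finset.mem_coe,
    List.mem_toFinset, exists_prop]
  constructor
  · rintro ⟨hx, hnorm, hq⟩
    obtain ⟨m, h1, h2, h3⟩ := mem_leech_iff.1 hx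
    refine ⟨wordMask (digitWord x), mem_golayCode_iff.1 h3, Finset.mem_union.2 ?_⟩
    have hb := fun i => coord_sq_le hN hnorm i
    rcases Int.emod_two_eq_zero_or_one m with hm | hm
    · refine Or.inl (Finset.mem_filter.2 ⟨mem_boxVecs.2 ⟨fun i => ?_, hnorm⟩, ?_⟩)
      · exact (mem_evenVals (hb i)).2 ⟨hq i, (h1 i).trans hm, (testBit_wordMask_digit x i).symm⟩
      · omega
    · refine Or.inr (mem_boxVecs.2 ⟨fun i => ?_, hnorm⟩)
      exact (mem_oddVals (hb i)).2 ⟨hq i, (h1 i).trans hm, (testBit_wordMask_digit x i).symm⟩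
  · rintro ⟨m, hm, h⟩
    have hd : digitWord x ∈ golayCode := by
      rw [mem_golayCode_iff, digit_of_mem (codeList_lt hm) h]; exact hm
    rcases Finset.mem_union.1 h with h | h
    · obtain ⟨hbox, hsum⟩ := Finset.mem_filter.1 h
      obtain ⟨hv, hnorm⟩ := mem_boxVecs.1 hbox
      have hv' := fun i => (mem_evenVals (evenVals_sq (hv i))).1 (hv i)
      exact ⟨mem_leech_iff.2 ⟨0, fun i => (hv' i).2.1, by omega, hd⟩, hnorm, fun i => (hv' i).1⟩
    · obtain ⟨hv, hnorm⟩ := mem_boxVecs.1 h
      have hv' := fun i => (mem_oddVals (oddVals_sq (hv i))).1 (hv i)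
      refine ⟨mem_leech_iff.2 ⟨1, fun i => (hv' i).2.1, ?_, hd⟩, hnorm, fun i => (hv' i).1⟩
      set a : GolayPt → ℤ := fun i => x i / 2 with ha
      have hx2 : ∀ i, x i = 2 * a i + 1 := fun i => by
        have := (hv' i).2.1; simp only [ha]; omega
      have hs : sqNorm x = 24 + 4 * (∑ i, a i ^ 2) + 4 * ∑ i, a i := by
        rw [sqNorm, Finset.sum_congr rfl fun i _ =>
          show x i ^ 2 = 1 + 4 * a i ^ 2 + 4 * a i by rw [hx2 i]; ring]
        rw [Finset.sum_add_distrib, Finset.sum_add_distrib, ← Finset.mul_sum, ← Finset.mul_sum,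
          Finset.sum_const, Finset.card_univ, show Fintype.card GolayPt = 24 from rfl]
        ring
      have hsum : ∑ i, x i = 2 * (∑ i, a i) + 24 := by
        rw [Finset.sum_congr rfl fun i _ => hx2 i, Finset.sum_add_distrib, ← Finset.mul_sum,
          Finset.sum_const, Finset.card_univ, show Fintype.card GolayPt = 24 from rfl]
        ring
      have hq4 := sum_sq_mod_four a
      have h4 : (support₂ fun i => ((a i : ℤ) : ZMod 2)).card % 4 = 0 :=
        Nat.mod_eq_zero_of_dvd (card_digit_dvd_four hd)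
      omega

/-! ### The sum condition picks half of the even vectors -/

lemma evenGood_eq_all (q : ℤ → Bool) {N : ℕ} (h : N % 32 = 0) :
    evenGood q N 0 = evenBox q N 0 := by
  refine Finset.filter_true_of_mem fun x hx => ?_
  obtain ⟨hv, hnorm⟩ := mem_boxVecs.1 hx
  have h4 : ∀ i, x i = 4 * (x i / 4) := fun i => by
    have := (mem_evenVals (evenVals_sq (hv i))).1 (hv i)
    simp only [Nat.zero_testBit, Bool.false_eq_true, iff_false] at this
    omega
  have hs : sqNorm x = 16 * ∑ i, (x i / 4) ^ 2 := by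
    rw [sqNorm, Finset.mul_sum]
    refine Finset.sum_congr rfl fun i _ => ?_
    conv_lhs => rw [h4 i]
    ring
  have hsum : ∑ i, x i = 4 * ∑ i, x i / 4 := by
    rw [Finset.mul_sum]; exact Finset.sum_congr rfl fun i _ => h4 i
  have hpar : (∑ i, (x i / 4) ^ 2) % 2 = (∑ i, x i / 4) % 2 := sum_sq_mod_two _
  omega
where
  sum_sq_mod_two (b : GolayPt → ℤ) : (∑ i, b i ^ 2) % 2 = (∑ i, b i) % 2 := by
    rw [Finset.sum_int_mod]
    conv_rhs => rw [Finset.sum_int_mod]
    congr 1
    refine Finset.sum_congr rfl fun i _ => ?_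
    rw [sq, Int.mul_emod]
    rcases Int.emod_two_eq_zero_or_one (b i) with h | h <;> rw [h] <;> norm_num

lemma evenGood_eq_empty (q : ℤ → Bool) {N : ℕ} (h : N % 32 = 16) :
    evenGood q N 0 = ∅ := by
  rw [evenGood, Finset.filter_eq_empty_iff]
  intro x hx
  obtain ⟨hv, hnorm⟩ := mem_boxVecs.1 hx
  have h4 : ∀ i, x i = 4 * (x i / 4) := fun i => by
    have := (mem_evenVals (evenVals_sq (hv i))).1 (hv i)
    simp only [Nat.zero_testBit, Bool.false_eq_true, iff_false] at this
    omega
  have hs : sqNorm x = 16 * ∑ i, (x i / 4) ^ 2 := by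
    rw [sqNorm, Finset.mul_sum]
    refine Finset.sum_congr rfl fun i _ => ?_
    conv_lhs => rw [h4 i]
    ring
  have hsum : ∑ i, x i = 4 * ∑ i, x i / 4 := by
    rw [Finset.mul_sum]; exact Finset.sum_congr rfl fun i _ => h4 i
  have hpar := evenGood_eq_all.sum_sq_mod_two fun i => x i / 4
  omega

lemma two_mul_card_evenGood (q : ℤ → Bool) (hq : ∀ v, q (-v) = q v) (N : ℕ) {m : ℕ}
    (hm : m ∈ codeList) (h0 : m ≠ 0) :
    2 * (evenGood q N m).card = (evenBox q N m).card := by
  obtain ⟨p, hp⟩ : ∃ p, p ∈ ptSet m := by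
    rw [← Finset.nonempty_def, Finset.nonempty_iff_ne_empty, ← ptSet_zero]
    exact fun h => h0 (ptSet_injOn (codeList_lt hm) (by norm_num) h)
  set flip : (GolayPt → ℤ) → (GolayPt → ℤ) := fun f i => if i = p then -f i else f i with hflip
  have hinv : ∀ f, flip (flip f) = f := fun f => by
    funext i; simp only [hflip]; split <;> simp
  have hmem : ∀ f ∈ evenBox q N m, flip f ∈ evenBox q N m ∧
      ((∑ i, flip f i) % 8 = 0 ↔ ¬ (∑ i, f i) % 8 = 0) := by
    intro f hf
    obtain ⟨hv, hnorm⟩ := mem_boxVecs.1 hf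
    have hv' := fun i => (mem_evenVals (evenVals_sq (hv i))).1 (hv i)
    refine ⟨mem_boxVecs.2 ⟨fun i => ?_, ?_⟩, ?_⟩
    · simp only [hflip]
      split
      · refine (mem_evenVals (by nlinarith [evenVals_sq (hv i)])).2 ⟨?_, ?_, ?_⟩
        · rw [hq]; exact (hv' i).1
        · have := (hv' i).2.1; omega
        · rw [← (hv' i).2.2]; have := (hv' i).2.1; omega
      · exact hv i
    · rw [← hnorm, sqNorm, sqNorm]
      refine Finset.sum_congr rfl fun i _ => ?_
      simp only [hflip]; split <;> ring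
    · have h1 : ∑ i, flip f i = (∑ i, f i) - 2 * f p := by
        rw [Finset.sum_congr rfl (fun i _ => show flip f i = f i - 2 * (if i = p then f i else 0) by
          simp only [hflip]; split <;> ring), Finset.sum_sub_distrib, ← Finset.mul_sum]
        simp
      have h2 : f p % 2 = 0 ∧ (f p / 2) % 2 = 1 :=
        ⟨(hv' p).2.1, (hv' p).2.2.2 (mem_ptSet.1 hp)⟩
      have h4 : (∑ i, f i) % 4 = 0 := by
        have hd : digitWord f ∈ golayCode := by
          rw [mem_golayCode_iff, show wordMask (digitWord f) = m from ?_]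
          · exact hm
          · refine ptSet_injOn (maskOf_lt _) (codeList_lt hm) ?_
            ext i
            rw [mem_ptSet, mem_ptSet, testBit_wordMask_digit]
            exact (hv' i).2.2
        have hc := card_digit_dvd_four hd
        have hx2 : ∀ i, f i = 2 * (f i / 2) := fun i => by have := (hv' i).2.1; omega
        have hs : ∑ i, f i = 2 * ∑ i, f i / 2 := by
          rw [Finset.mul_sum]; exact Finset.sum_congr rfl fun i _ => hx2 i
        have hq4 := sum_sq_mod_four fun i => f i / 2
        have hp2 := evenGood_eq_all.sum_sq_mod_two fun i => f i / 2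
        have : (support₂ fun i => ((f i / 2 : ℤ) : ZMod 2)).card % 4 = 0 :=
          Nat.mod_eq_zero_of_dvd hc
        omega
      omega
  have hbij : ((evenBox q N m).filter fun f => ¬ (∑ i, f i) % 8 = 0).card
      = (evenGood q N m).card := by
    refine Finset.card_bij' (fun f _ => flip f) (fun f _ => flip f) ?_ ?_ (fun f _ => hinv f)
      (fun f _ => hinv f)
    · intro f hf
      obtain ⟨h1, h2⟩ := Finset.mem_filter.1 hf
      exact Finset.mem_filter.2 ⟨(hmem f h1).1, (hmem f h1).2.2 h2⟩
    · intro f hf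
      obtain ⟨h1, h2⟩ := Finset.mem_filter.1 hf
      refine Finset.mem_filter.2 ⟨(hmem f h1).1, fun h => (hmem f h1).2.1 h h2⟩
  have hadd := Finset.card_filter_add_card_filter_not (s := evenBox q N m)
    (fun f => (∑ i, f i) % 8 = 0)
  rw [hbij] at hadd
  rw [evenGood] at hadd ⊢
  omega

/-- Contribution of a code word of weight `w`. -/
def weightTerm (q : ℤ → Bool) (N w : ℕ) : ℕ :=
  (if w = 0 then (if N % 32 = 0 then evenWays q N 0 else 0) else evenWays q N w / 2)
    + oddWays q N w

lemma card_leechBox (q : ℤ → Bool) (hq : ∀ v, q (-v) = q v) {N : ℕ} (h16 : N % 16 = 0)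
    (T : ℕ → ℕ) (hT : ∀ w ∈ [0, 8, 12, 16, 24], weightTerm q N w = T w) :
    (leechBox q N).card = (codeList.map fun m => T (popCnt m)).sum := by
  have hdisj : (codeList.toFinset : Set ℕ).PairwiseDisjoint
      fun m => evenGood q N m ∪ oddBox q N m := by
    intro a ha b hb hab
    rw [Function.onFun, Finset.disjoint_left]
    intro x hxa hxb
    exact hab ((digit_of_mem (codeList_lt (List.mem_toFinset.1 ha)) hxa).symm.trans
      (digit_of_mem (codeList_lt (List.mem_toFinset.1 hb)) hxb))
  rw [leechBox, Finset.card_biUnion hdisj, List.sum_toFinset _ codeList_nodup]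
  refine congrArg List.sum (List.map_congr_left fun m hm => ?_)
  have hdis : Disjoint (evenGood q N m) (oddBox q N m) := by
    rw [Finset.disjoint_left]
    intro x hx hx'
    have h1 := (mem_boxVecs.1 (Finset.mem_filter.1 hx).1).1 none
    have h2 := (mem_boxVecs.1 hx').1 none
    have := ((mem_evenVals (evenVals_sq h1)).1 h1).2.1
    have := ((mem_oddVals (oddVals_sq h2)).1 h2).2.1
    omega
  rw [Finset.card_union_of_disjoint hdis, ← hT (popCnt m) (by
    simpa using popCnt_codeList hm), weightTerm, card_oddBox]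
  congr 1
  by_cases h0 : m = 0
  · subst h0
    rw [if_pos (show popCnt 0 = 0 from rfl)]
    split
    · next h => rw [evenGood_eq_all q h, card_evenBox]; rfl
    · next h => rw [evenGood_eq_empty q (by omega), Finset.card_empty]
  · rw [if_neg, ← card_evenBox, ← two_mul_card_evenGood q hq N hm h0]
    · omega
    · intro h
      rw [← card_ptSet, Finset.card_eq_zero, ← ptSet_zero] at h
      exact h0 (ptSet_injOn (codeList_lt hm) (by norm_num) h)

theorem ncard_leech_norm (q : ℤ → Bool) (hq : ∀ v, q (-v) = q v) {N : ℕ} (hN : N ≤ 64)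
    (h16 : N % 16 = 0) (T : ℕ → ℕ) (hT : ∀ w ∈ [0, 8, 12, 16, 24], weightTerm q N w = T w) :
    {x : GolayPt → ℤ | x ∈ leechLattice ∧ sqNorm x = N ∧ ∀ i, q (x i) = true}.ncard
      = (codeList.map fun m => T (popCnt m)).sum := by
  rw [leech_filter_eq_box q hN h16, Set.ncard_coe_finset, card_leechBox q hq h16 T hT]

/-- A five-entry table indexed by weight. -/
def weightTbl (a b c d e w : ℕ) : ℕ :=
  if w = 0 then a else if w = 8 then b else if w = 12 then c else if w = 16 then d else e

lemma ncard_leech_norm_all {N : ℕ} (hN : N ≤ 64) (h16 : N % 16 = 0) (T : ℕ → ℕ)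
    (hT : ∀ w ∈ [0, 8, 12, 16, 24], weightTerm (fun _ => true) N w = T w) :
    {x : GolayPt → ℤ | x ∈ leechLattice ∧ sqNorm x = N}.ncard
      = (codeList.map fun m => T (popCnt m)).sum := by
  rw [← ncard_leech_norm (fun _ => true) (fun _ => rfl) hN h16 T hT]
  simp

theorem ncard_norm32 :
    {x : GolayPt → ℤ | x ∈ leechLattice ∧ sqNorm x = 32}.ncard = 196560 :=
  (ncard_leech_norm_all (N := 32) (by norm_num) (by norm_num)
    (weightTbl (1104 + 24) (128 + 24) 24 24 24) (by decide +kernel)).trans (by decide +kernel)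

theorem ncard_norm48 :
    {x : GolayPt → ℤ | x ∈ leechLattice ∧ sqNorm x = 48}.ncard = 16773120 :=
  (ncard_leech_norm_all (N := 48) (by norm_num) (by norm_num)
    (weightTbl (0 + 2048) (4096 + 2048) (2048 + 2048) 2048 2048) (by decide +kernel)).trans
    (by decide +kernel)

theorem ncard_norm64 :
    {x : GolayPt → ℤ | x ∈ leechLattice ∧ sqNorm x = 64}.ncard = 398034000 :=
  (ncard_leech_norm_all (N := 64) (by norm_num) (by norm_num)
    (weightTbl (170064 + 48576) (62464 + 48576) (49152 + 48576) (32768 + 48576) 48576)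
    (by decide +kernel)).trans (by decide +kernel)

end Cfsg.Agent.Golay
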