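import Cfsg.Agent.Golay.LeechStructure
import Cfsg.Agent.Golay.LeechCount
import Cfsg.Prelude.Def_SporadicCombinatorics

/-!
Classes of the lattice modulo twice itself: crosses and short representatives.
-/

set_option autoImplicit false

namespace Cfsg.Agent.Golay

open Cfsg
open scoped Pointwise

lemma sqNorm_add_sub (x y : GolayPt → ℤ) :
    sqNorm (x + y) = sqNorm x + sqNorm y + 2 * dotInt x y ∧
    sqNorm (x - y) = sqNorm x + sqNorm y - 2 * dotInt x y := by
  constructor <;>
  · simp only [sqNorm, dotInt, Pi.add_apply, Pi.sub_apply, Finset.mul_sum]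
    rw [← Finset.sum_add_distrib]
    first
      | rw [← Finset.sum_add_distrib]
      | rw [← Finset.sum_sub_distrib]
    exact Finset.sum_congr rfl fun i _ => by ring

lemma sqNorm_nsmul (n : ℕ) (x : GolayPt → ℤ) : sqNorm (n • x) = (n : ℤ) ^ 2 * sqNorm x := by
  simp only [sqNorm, Finset.mul_sum]
  refine Finset.sum_congr rfl fun i _ => ?_
  rw [nsmul_fun_apply]; ring

/-- Two congruent lattice vectors of norm sum at most 128. -/
lemma congr_two_short {x y z : GolayPt → ℤ} (hy : y ∈ leechLattice)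
    (hz : z ∈ leechLattice) (hc : x - y = 2 • z) (hs : sqNorm x + sqNorm y ≤ 128) :
    y = x ∨ y = -x ∨ (sqNorm x + sqNorm y = 128 ∧ dotInt x y = 0) := by
  by_cases h0 : z = 0
  · left; rw [h0, smul_zero, sub_eq_zero] at hc; exact hc.symm
  have hw : x + y = 2 • (z + y) := by
    rw [smul_add, ← hc, two_nsmul y]; abel
  by_cases h1 : z + y = 0
  · right; left
    rw [h1, smul_zero] at hw
    exact eq_neg_of_add_eq_zero_right hw
  right; right
  have e1 : sqNorm (x + y) = 4 * sqNorm (z + y) := by rw [hw, sqNorm_nsmul]; norm_num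
  have e2 : sqNorm (x - y) = 4 * sqNorm z := by rw [hc, sqNorm_nsmul]; norm_num
  have b1 := thirtytwo_le_sqNorm hz h0
  have b2 := thirtytwo_le_sqNorm (add_mem hz hy) h1
  obtain ⟨s1, s2⟩ := sqNorm_add_sub x y
  constructor <;> omega

/-- Twice the lattice. -/
def twoLeech : AddSubgroup ↥leechLattice := (leechLattice.map dbl).addSubgroupOf leechLattice

/-- The lattice modulo twice itself. -/
abbrev LeechModTwo : Type := ↥leechLattice ⧸ twoLeech

lemma map_dbl_le : leechLattice.map dbl ≤ leechLattice := by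
  rintro _ ⟨z, hz, rfl⟩
  exact AddSubgroup.nsmul_mem _ hz 2

lemma card_leechModTwo : Nat.card LeechModTwo = 2 ^ 24 := by
  have h := AddSubgroup.relIndex_mul_index map_dbl_le
  rw [index_leechLattice, AddSubgroup.index_map_of_injective _ dbl_injective, index_leechLattice,
    range_dbl, AddSubgroup.index_ker, AddMonoidHom.range_eq_top.2 modTwo_surjective,
    Nat.card_congr (AddSubgroup.topEquiv).toEquiv,
    Nat.card_eq_fintype_card (α := GolayPt → ZMod 2), Fintype.card_fun, ZMod.card,
    show Fintype.card GolayPt = 24 from rfl, mul_comm (2 ^ 36)] at h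
  show Nat.card (↥leechLattice ⧸ twoLeech) = 2 ^ 24
  exact Nat.eq_of_mul_eq_mul_right (pow_pos two_pos 36) h

instance : Finite LeechModTwo :=
  Nat.finite_of_card_ne_zero (by rw [card_leechModTwo]; positivity)

lemma mk_eq_mk_iff (x y : ↥leechLattice) : (QuotientAddGroup.mk x : LeechModTwo) = QuotientAddGroup.mk y ↔
    ∃ z ∈ leechLattice, (x : GolayPt → ℤ) - y = 2 • z := by
  rw [QuotientAddGroup.eq_iff_sub_mem]
  constructor
  · rintro ⟨z, hz, he⟩; exact ⟨z, hz, he.symm⟩
  · rintro ⟨z, hz, he⟩; exact ⟨z, hz, he.symm⟩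

lemma orth_card_le (G : Finset (GolayPt → ℤ)) (hne : ∀ x ∈ G, x ≠ 0)
    (horth : ∀ x ∈ G, ∀ y ∈ G, x ≠ y → dotInt x y = 0) : G.card ≤ 24 := by
  have hli : LinearIndependent ℚ fun x : {x // x ∈ G} => fun i => ((x.1 i : ℤ) : ℚ) := by
    rw [Fintype.linearIndependent_iff]
    intro g hg y
    have h1 : ∑ i, (∑ x, g x • fun i => ((x.1 i : ℤ) : ℚ)) i * (y.1 i : ℚ) = 0 := by
      rw [hg]; simp
    simp only [Finset.sum_apply, Pi.smul_apply, smul_eq_mul, Finset.sum_mul] at h1
    rw [Finset.sum_comm] at h1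
    have h2 : ∀ x : {x // x ∈ G},
        ∑ i, g x * ((x.1 i : ℤ) : ℚ) * (y.1 i : ℚ) = g x * (dotInt x.1 y.1 : ℚ) := by
      intro x
      rw [dotInt, Int.cast_sum, Finset.mul_sum]
      exact Finset.sum_congr rfl fun i _ => by push_cast; ring
    rw [Finset.sum_congr rfl fun x _ => h2 x, Finset.sum_eq_single y] at h1
    · refine (mul_eq_zero.1 h1).resolve_right ?_
      rw [Int.cast_eq_zero]
      obtain ⟨i, hi⟩ := Function.ne_iff.1 (hne y.1 y.2)
      have hpos : 0 < dotInt y.1 y.1 :=
        Finset.sum_pos' (fun j _ => mul_self_nonneg _) ⟨i, Finset.mem_univ _, mul_self_pos.2 hi⟩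
      omega
    · intro x _ hx
      rw [horth x.1 x.2 y.1 y.2 fun h => hx (Subtype.ext h)]; simp
    · simp
  have := hli.fintype_card_le_finrank
  rw [Fintype.card_coe, Module.finrank_fintype_fun_eq_card] at this
  exact this

/-- Class of an integer vector; vectors outside the lattice go to zero. -/
noncomputable def classOf (x : GolayPt → ℤ) : LeechModTwo :=
  open Classical in
  if h : x ∈ leechLattice then QuotientAddGroup.mk (⟨x, h⟩ : ↥leechLattice) else 0

lemma classOf_eq_iff {x y : GolayPt → ℤ} (hx : x ∈ leechLattice) (hy : y ∈ leechLattice) :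
    classOf x = classOf y ↔ ∃ z ∈ leechLattice, x - y = 2 • z := by
  rw [classOf, classOf, dif_pos hx, dif_pos hy]
  exact mk_eq_mk_iff _ _

lemma finite_normSet (N : ℕ) (hN : N ≤ 64) (h16 : N % 16 = 0) :
    {x : GolayPt → ℤ | x ∈ leechLattice ∧ sqNorm x = (N : ℤ)}.Finite := by
  have h := leech_filter_eq_box (fun _ => true) hN h16
  simp only [implies_true, and_true] at h
  rw [h]; exact Finset.finite_toSet _

/-- The lattice vectors of norm 32, 48 or 64. -/
noncomputable def normFin (N : ℕ) (hN : N ≤ 64) (h16 : N % 16 = 0) : Finset (GolayPt → ℤ) :=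
  (finite_normSet N hN h16).toFinset

lemma mem_normFin {N : ℕ} {hN : N ≤ 64} {h16 : N % 16 = 0} {x : GolayPt → ℤ} :
    x ∈ normFin N hN h16 ↔ x ∈ leechLattice ∧ sqNorm x = N := by
  simp [normFin]

lemma neg_ne_self {x : GolayPt → ℤ} (hx : x ≠ 0) : -x ≠ x := by
  intro h
  apply hx
  funext i
  have := congrFun h i
  simp only [Pi.neg_apply, Pi.zero_apply] at this ⊢
  omega

lemma sqNorm_ne_zero {x : GolayPt → ℤ} {N : ℤ} (h : sqNorm x = N) (hN : N ≠ 0) : x ≠ 0 := by
  rintro rfl
  apply hN
  rw [← h]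
  simp [sqNorm]

open Classical in
lemma fibre_small (N : ℕ) (hN : N ≤ 64) (h16 : N % 16 = 0) (h64 : N ≠ 64) (h0 : N ≠ 0)
    (c : LeechModTwo) : ((normFin N hN h16).filter fun x => classOf x = c).card ≤ 2 := by
  rcases Finset.eq_empty_or_nonempty ((normFin N hN h16).filter fun x => classOf x = c) with h | ⟨x, hx⟩
  · simp [h]
  · obtain ⟨hx, hxc⟩ := Finset.mem_filter.1 hx
    obtain ⟨hxL, hxn⟩ := mem_normFin.1 hx
    refine le_trans (Finset.card_le_card (t := {x, -x}) fun y hy => ?_) Finset.card_le_two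
    obtain ⟨hy, hyc⟩ := Finset.mem_filter.1 hy
    obtain ⟨hyL, hyn⟩ := mem_normFin.1 hy
    obtain ⟨z, hz, he⟩ := (classOf_eq_iff hxL hyL).1 (hxc.trans hyc.symm)
    rcases congr_two_short hyL hz he (by omega) with h | h | ⟨h, -⟩
    · simp [h]
    · simp [h]
    · omega

open Classical in
lemma fibre_sixtyfour (c : LeechModTwo) :
    ((normFin 64 le_rfl rfl).filter fun x => classOf x = c).card ≤ 48 := by
  set F := (normFin 64 le_rfl rfl).filter fun x => classOf x = c with hF
  have hmem : ∀ x ∈ F, x ∈ leechLattice ∧ sqNorm x = 64 ∧ classOf x = c := fun x hx => by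
    obtain ⟨h1, h2⟩ := Finset.mem_filter.1 hx
    obtain ⟨h3, h4⟩ := mem_normFin.1 h1
    exact ⟨h3, h4, h2⟩
  set pr : (GolayPt → ℤ) → Finset (GolayPt → ℤ) := fun x => {x, -x}
  have hpr : ∀ S ∈ F.image pr, ∃ x ∈ F, pr x = S := fun S hS => by
    simpa using Finset.mem_image.1 hS
  choose r hr using hpr
  have hinj : Function.Injective fun S : {S // S ∈ F.image pr} => r S.1 S.2 := fun S T h => by
    apply Subtype.ext
    rw [← (hr S.1 S.2).2, ← (hr T.1 T.2).2]
    exact congrArg pr h
  have h24 : (F.image pr).card ≤ 24 := by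
    rw [← Fintype.card_coe, ← Finset.card_univ, ← Finset.card_image_of_injective _ hinj]
    apply orth_card_le
    · intro x hx
      obtain ⟨S, -, rfl⟩ := Finset.mem_image.1 hx
      exact sqNorm_ne_zero (hmem _ (hr S.1 S.2).1).2.1 (by norm_num)
    · intro x hx y hy hxy
      obtain ⟨S, -, rfl⟩ := Finset.mem_image.1 hx
      obtain ⟨T, -, rfl⟩ := Finset.mem_image.1 hy
      obtain ⟨hxL, hxn, hxc⟩ := hmem _ (hr S.1 S.2).1
      obtain ⟨hyL, hyn, hyc⟩ := hmem _ (hr T.1 T.2).1
      obtain ⟨z, hz, he⟩ := (classOf_eq_iff hxL hyL).1 (hxc.trans hyc.symm)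
      rcases congr_two_short hyL hz he (by omega) with h | h | ⟨-, h⟩
      · exact absurd h.symm hxy
      · exfalso
        refine hxy (congrArg (fun U : {S // S ∈ F.image pr} => r U.1 U.2) (Subtype.ext ?_))
        rw [← (hr S.1 S.2).2, ← (hr T.1 T.2).2]
        show pr (r S.1 S.2) = pr (r T.1 T.2)
        rw [h]
        simp only [pr, neg_neg]
        exact Finset.pair_comm _ _
      · exact h
  have h2 : F.card ≤ 2 * (F.image pr).card := by
    refine Finset.card_le_mul_card_image F 2 fun S hS => ?_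
    obtain ⟨x, hx, rfl⟩ := Finset.mem_image.1 hS
    refine le_trans (Finset.card_le_card (t := pr x) fun y hy => ?_) Finset.card_le_two
    obtain ⟨-, h⟩ := Finset.mem_filter.1 hy
    rw [← h]
    simp [pr]
  omega

open Classical in
theorem classes_structure :
    (∀ c : LeechModTwo, ∃ y ∈ leechLattice, sqNorm y ≤ 64 ∧ classOf y = c) ∧
    ∀ x ∈ normFin 64 le_rfl rfl,
      ((normFin 64 le_rfl rfl).filter fun y => classOf y = classOf x).card = 48 := by
  haveI : Fintype LeechModTwo := Fintype.ofFinite _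
  set F32 := normFin 32 (by norm_num) rfl
  set F48 := normFin 48 (by norm_num) rfl
  set F64 := normFin 64 le_rfl rfl with hF64
  set A := F32.image classOf
  set B := F48.image classOf
  set C := F64.image classOf
  have hc32 : F32.card = 196560 := by
    rw [← ncard_norm32, ← Set.ncard_coe_finset]; congr 1; ext; simp [F32, mem_normFin]
  have hc48 : F48.card = 16773120 := by
    rw [← ncard_norm48, ← Set.ncard_coe_finset]; congr 1; ext; simp [F48, mem_normFin]
  have hc64 : F64.card = 398034000 := by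
    rw [← ncard_norm64, ← Set.ncard_coe_finset]; congr 1; ext; simp [hF64, mem_normFin]
  have hA : F32.card ≤ 2 * A.card := Finset.card_le_mul_card_image F32 2
    fun c _ => fibre_small 32 (by norm_num) rfl (by norm_num) (by norm_num) c
  have hB : F48.card ≤ 2 * B.card := Finset.card_le_mul_card_image F48 2
    fun c _ => fibre_small 48 (by norm_num) rfl (by norm_num) (by norm_num) c
  have hC : F64.card ≤ 48 * C.card := Finset.card_le_mul_card_image F64 48 fun c _ => by
    convert fibre_sixtyfour c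
  have hclash : ∀ x y : GolayPt → ℤ, x ∈ leechLattice → y ∈ leechLattice →
      classOf x = classOf y → sqNorm x < sqNorm y → sqNorm y ≤ 64 → False := by
    intro x y hx hy h hlt hle
    obtain ⟨z, hz, he⟩ := (classOf_eq_iff hx hy).1 h
    rcases congr_two_short hy hz he (by omega) with h' | h' | ⟨h', -⟩
    · rw [h'] at hlt; omega
    · rw [h', show sqNorm (-x) = sqNorm x by simp [sqNorm]] at hlt; omega
    · omega
  have hzero : classOf 0 ∉ A ∪ B ∪ C := by
    simp only [Finset.mem_union, A, B, C, Finset.mem_image, not_or, not_exists, not_and]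
    refine ⟨⟨?_, ?_⟩, ?_⟩ <;>
    · intro y hy h
      obtain ⟨hyL, hyn⟩ := mem_normFin.1 hy
      exact hclash 0 y (zero_mem _) hyL h.symm (by simp [sqNorm] at hyn ⊢; omega) (by omega)
  have hAB : Disjoint A B := by
    rw [Finset.disjoint_left]
    intro c h1 h2
    obtain ⟨x, hx, rfl⟩ := Finset.mem_image.1 h1
    obtain ⟨y, hy, h⟩ := Finset.mem_image.1 h2
    obtain ⟨hxL, hxn⟩ := mem_normFin.1 hx
    obtain ⟨hyL, hyn⟩ := mem_normFin.1 hy
    exact hclash x y hxL hyL h.symm (by omega) (by omega)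
  have hABC : Disjoint (A ∪ B) C := by
    rw [Finset.disjoint_left]
    intro c h1 h2
    obtain ⟨y, hy, rfl⟩ := Finset.mem_image.1 h2
    obtain ⟨hyL, hyn⟩ := mem_normFin.1 hy
    rcases Finset.mem_union.1 h1 with h1 | h1 <;>
    · obtain ⟨x, hx, h⟩ := Finset.mem_image.1 h1
      obtain ⟨hxL, hxn⟩ := mem_normFin.1 hx
      exact hclash x y hxL hyL h (by omega) (by omega)
  have hcard : (insert (classOf 0) (A ∪ B ∪ C)).card = 1 + A.card + B.card + C.card := by
    rw [Finset.card_insert_of_notMem hzero, Finset.card_union_of_disjoint hABC,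
      Finset.card_union_of_disjoint hAB]
    omega
  have htot : (Finset.univ : Finset LeechModTwo).card = 16777216 := by
    rw [Finset.card_univ, ← Nat.card_eq_fintype_card, card_leechModTwo]; norm_num
  have hle := Finset.card_le_univ (insert (classOf 0) (A ∪ B ∪ C))
  rw [← Finset.card_univ] at hle
  refine ⟨fun c => ?_, fun x hx => ?_⟩
  · have huniv : insert (classOf 0) (A ∪ B ∪ C) = Finset.univ :=
      Finset.eq_univ_of_card _ (by rw [← Finset.card_univ]; omega)
    have hc := huniv ▸ Finset.mem_univ c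
    simp only [Finset.mem_insert, Finset.mem_union, A, B, C, Finset.mem_image] at hc
    rcases hc with rfl | (⟨y, hy, rfl⟩ | ⟨y, hy, rfl⟩) | ⟨y, hy, rfl⟩
    · exact ⟨0, zero_mem _, by simp [sqNorm], rfl⟩
    all_goals
      obtain ⟨hyL, hyn⟩ := mem_normFin.1 hy
      exact ⟨y, hyL, by omega, rfl⟩
  · refine le_antisymm (fibre_sixtyfour _) ?_
    by_contra hlt
    have hsum := Finset.card_eq_sum_card_image classOf F64
    have hxC : classOf x ∈ C := Finset.mem_image_of_mem _ hx
    have hlt' : ∑ c ∈ C, (F64.filter fun y => classOf y = c).card < ∑ _c ∈ C, 48 :=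
      Finset.sum_lt_sum (fun c _ => fibre_sixtyfour c) ⟨classOf x, hxC, by omega⟩
    rw [← hsum, Finset.sum_const, smul_eq_mul] at hlt'
    omega

theorem short_representative {x : GolayPt → ℤ} (hx : x ∈ leechLattice) :
    ∃ y ∈ leechLattice, sqNorm y ≤ 64 ∧ ∃ z ∈ leechLattice, x - y = 2 • z := by
  obtain ⟨y, hy, hn, hc⟩ := classes_structure.1 (classOf x)
  exact ⟨y, hy, hn, (classOf_eq_iff hx hy).1 hc.symm⟩

theorem ncard_cross {x : GolayPt → ℤ} (hx : x ∈ leechLattice) (hxn : sqNorm x = 64) :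
    (cross x).ncard = 48 := by
  classical
  rw [← classes_structure.2 x (mem_normFin.2 ⟨hx, hxn⟩), ← Set.ncard_coe_finset]
  congr 1
  ext y
  simp only [cross, Set.mem_setOf_eq, Finset.coe_filter, mem_normFin, hxn]
  constructor
  · rintro ⟨hy, hyn, hz⟩
    exact ⟨⟨hy, hyn⟩, ((classOf_eq_iff hx hy).2 hz).symm⟩
  · rintro ⟨⟨hy, hyn⟩, hc⟩
    exact ⟨hy, hyn, (classOf_eq_iff hx hy).1 hc.symm⟩

end Cfsg.Agent.Golay
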