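import Cfsg.Agent.Golay.PairTrans
import Cfsg.Agent.Golay.LeechClasses

/-!
Transitivity on crosses and the order of the isometry group.
-/

set_option autoImplicit false

namespace Cfsg.Agent.Golay

open Cfsg
open scoped Pointwise

lemma co0_smul_two (g : Co0) (z : leechLattice) : g • ((2 : ℕ) • z) = (2 : ℕ) • (g • z) :=
  co0_smul_nsmul g 2 z

lemma sqNorm_single (i : GolayPt) (s : ℤ) : sqNorm (Pi.single i s) = s ^ 2 := by
  rw [sqNorm, Finset.sum_eq_single i (fun j _ hj => by simp [hj]) (by simp)]
  simp

theorem cross_axis (i : GolayPt) : cross (axisVec i : GolayPt → ℤ) = stdCross := by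
  have hfin : ({x | x ∈ leechLattice ∧ sqNorm x = 64} : Set (GolayPt → ℤ)).Finite :=
    finite_normSet 64 le_rfl rfl
  have hax : sqNorm (axisVec i).1 = 64 := (sqNorm_single i 8).trans (by norm_num)
  have hsub : stdCross ⊆ cross (axisVec i : GolayPt → ℤ) := by
    rintro y ⟨j, s, hs, rfl⟩
    have hmem : (Pi.single j s : GolayPt → ℤ) ∈ leechLattice := by
      rcases hs with rfl | rfl
      · simpa using single_eight_mem j 1
      · simpa using single_eight_mem j (-1)
    obtain ⟨t, rfl⟩ : ∃ t : ℤ, s = 4 * t := ⟨s / 4, by omega⟩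
    refine ⟨hmem, ?_, 2 • ((Pi.single i 2 : GolayPt → ℤ) - Pi.single j t), ?_, ?_⟩
    · rw [hax, sqNorm_single]
      rcases hs with e | e <;> rw [e] <;> norm_num
    · rw [mem_leech_two_smul]
      constructor
      · convert Submodule.zero_mem golayCode using 1
        funext l
        rw [Pi.zero_apply, ZMod.intCast_zmod_eq_zero_iff_dvd, Pi.sub_apply]
        simp only [Pi.single_apply]
        split <;> split <;> omega
      · simp only [Pi.sub_apply, Finset.sum_sub_distrib, Finset.sum_pi_single']
        simp only [Finset.mem_univ, if_true]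
        omega
    · funext l
      rw [nsmul_fun_apply, nsmul_fun_apply, Pi.sub_apply, Pi.sub_apply]
      show (Pi.single i 8 : GolayPt → ℤ) l - _ = _
      simp only [Pi.single_apply, Nat.cast_ofNat]
      split <;> split <;> omega
  have hstd : stdCross.ncard = 48 := by
    have e : stdCross = (fun p : GolayPt × Bool => (Pi.single p.1 (if p.2 then 8 else -8) : GolayPt → ℤ))
        '' Set.univ := by
      ext y
      constructor
      · rintro ⟨j, s, hs | hs, rfl⟩
        · exact ⟨(j, true), trivial, by simp [hs]⟩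
        · exact ⟨(j, false), trivial, by simp [hs]⟩
      · rintro ⟨⟨j, b⟩, -, rfl⟩
        exact ⟨j, _, by cases b <;> simp, rfl⟩
    rw [e, Set.ncard_image_of_injective, Set.ncard_univ, Nat.card_eq_fintype_card]
    · rfl
    · rintro ⟨j, b⟩ ⟨j', b'⟩ h
      have h1 := congrFun h j
      rcases eq_or_ne j j' with rfl | hne
      · cases b <;> cases b' <;> simp at h1 <;> rfl
      · cases b <;> simp [Pi.single_apply, hne] at h1
  refine (Set.eq_of_subset_of_ncard_le hsub ?_ (hfin.subset fun y hy => ⟨hy.1, hy.2.1.trans hax⟩)).symm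
  rw [ncard_cross (axisVec i).2 hax, hstd]

theorem exists_axis {x : leechLattice} (hx : sqNorm x.1 = 64) :
    ∃ g : Co0, ∃ i, g • x = axisVec i := by
  obtain ⟨y, hy, hne1, hne2⟩ : ∃ y ∈ cross x.1, y ≠ x.1 ∧ y ≠ -x.1 := by
    by_contra h
    push Not at h
    have hsub : cross x.1 ⊆ ↑({x.1, -x.1} : Finset (GolayPt → ℤ)) := fun y hy => by
      rw [Finset.coe_insert, Finset.coe_singleton, Set.mem_insert_iff, Set.mem_singleton_iff]
      by_cases e : y = x.1
      · exact Or.inl e
      · exact Or.inr (h y hy e)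
    have := Set.ncard_le_ncard hsub (Finset.finite_toSet _)
    rw [ncard_cross x.2 hx, Set.ncard_coe_finset] at this
    have := Finset.card_le_two (a := x.1) (b := -x.1)
    omega
  obtain ⟨hyL, hyn, z, hz, he⟩ := hy
  rw [hx] at hyn
  have hdot : dotInt x.1 y = 0 := by
    rcases congr_two_short hyL hz he (by omega) with h | h | ⟨-, h⟩
    · exact absurd h hne1
    · exact absurd h hne2
    · exact h
  set b : leechLattice := ⟨z, hz⟩
  set a : leechLattice := b + ⟨y, hyL⟩ with ha
  have hxy : x = a + b := Subtype.ext (by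
    show x.1 = z + y + z
    rw [sub_eq_iff_eq_add.1 he, two_nsmul]; abel)
  have e1 := congrArg sqNorm he
  rw [sqNorm_nsmul, (sqNorm_add_sub x.1 y).2, hdot, hx, hyn] at e1
  have hb : sqNorm b.1 = 32 := by
    show sqNorm z = 32
    norm_num at e1; omega
  have hsum : x.1 + y = 2 • (z + y) := by
    rw [smul_add, ← he, two_nsmul y]; abel
  have e2 := congrArg sqNorm hsum
  rw [sqNorm_nsmul, (sqNorm_add_sub x.1 y).1, hdot, hx, hyn] at e2
  have han : sqNorm a.1 = 32 := by
    show sqNorm (z + y) = 32
    norm_num at e2; omega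
  have hab : dotInt a.1 b.1 = 0 := by
    have h := (sqNorm_add_sub a.1 b.1).1
    rw [← AddSubgroup.coe_add, ← hxy, hx, han, hb] at h
    omega
  obtain ⟨g, hg⟩ := co0_transitive_min a repA han (by decide +kernel)
  have hw : inLeech (fun p : GolayPt => if p = none then (4 : ℤ) else if p = some 0 then -4 else 0) = true ∧
      sqNorm (fun p : GolayPt => if p = none then (4 : ℤ) else if p = some 0 then -4 else 0) = 32 := by
    decide +kernel
  set w : leechLattice := ⟨_, mem_of_inLeech hw.1⟩
  have hr : dotInt repA.1 w.1 = 0 := by rw [dot_repA]; simp [w]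
  obtain ⟨h, h1, h2⟩ := min_trans_zero (v := repA) (w := g • b) (w' := w) (by decide +kernel)
    (by rw [co0_sqNorm, hb]) hw.2 (by rw [← hg, co0_dot, hab]) hr
  have himg : (h * g) • x = repA + (h * g) • b := by
    rw [hxy, co0_smul_add, mul_smul h g a, hg, h1]
  rw [mul_smul h g b] at himg
  rcases h2 with h2 | h2 <;> rw [h2] at himg
  · refine ⟨h * g, none, himg.trans (Subtype.ext (funext fun p => ?_))⟩
    show repFour p + (if p = none then (4 : ℤ) else if p = some 0 then -4 else 0)
      = (Pi.single none 8 : GolayPt → ℤ) p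
    rcases eq_or_ne p none with rfl | e1
    · simp [repFour]
    · rcases eq_or_ne p (some 0) with rfl | e2 <;> simp [repFour, e1, *]
  · refine ⟨h * g, some 0, himg.trans (Subtype.ext (funext fun p => ?_))⟩
    show repFour p + -(if p = none then (4 : ℤ) else if p = some 0 then -4 else 0)
      = (Pi.single (some 0) 8 : GolayPt → ℤ) p
    rcases eq_or_ne p none with rfl | e1
    · simp [repFour]
    · rcases eq_or_ne p (some 0) with rfl | e2 <;> simp [repFour, e1, *]

/-- The cross through a vector, inside the lattice. -/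
def crossSet (x : leechLattice) : Set leechLattice := {y | (y : GolayPt → ℤ) ∈ cross x.1}

lemma mem_crossSet {x y : leechLattice} :
    y ∈ crossSet x ↔ sqNorm y.1 = sqNorm x.1 ∧ ∃ z : leechLattice, x - y = (2 : ℕ) • z := by
  constructor
  · rintro ⟨-, hn, z, hz, he⟩
    exact ⟨hn, ⟨z, hz⟩, Subtype.ext he⟩
  · rintro ⟨hn, z, he⟩
    exact ⟨y.2, hn, z.1, z.2, congrArg Subtype.val he⟩

lemma smul_crossSet (g : Co0) (x : leechLattice) : g • crossSet x = crossSet (g • x) := by
  ext y
  rw [Set.mem_smul_set_iff_inv_smul_mem, mem_crossSet, mem_crossSet, co0_sqNorm, co0_sqNorm]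
  refine and_congr_right fun _ => ⟨?_, ?_⟩
  · rintro ⟨z, hz⟩
    refine ⟨g • z, ?_⟩
    rw [← co0_smul_two, ← hz, co0_smul_sub, smul_inv_smul]
  · rintro ⟨z, hz⟩
    refine ⟨g⁻¹ • z, ?_⟩
    rw [← co0_smul_two, ← hz, co0_smul_sub, inv_smul_smul]

/-- The standard cross inside the lattice. -/
def stdSet : Set leechLattice := {y | (y : GolayPt → ℤ) ∈ stdCross}

lemma crossSet_axis (i : GolayPt) : crossSet (axisVec i) = stdSet := by
  rw [crossSet, cross_axis]; rfl

/-- The stabiliser of the standard cross. -/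
def crossStab : Subgroup Co0 := MulAction.stabilizer Co0 stdSet

lemma stdSet_finite : stdSet.Finite := by
  refine Set.Finite.of_finite_image (f := Subtype.val) ?_ Subtype.val_injective.injOn
  refine (finite_normSet 64 le_rfl rfl).subset ?_
  rintro _ ⟨y, hy, rfl⟩
  obtain ⟨i, s, hs, e⟩ := hy
  refine ⟨y.2, ?_⟩
  rw [e, sqNorm_single]; rcases hs with rfl | rfl <;> norm_num

lemma mem_crossStab {g : Co0} : g ∈ crossStab ↔
    ∀ v : leechLattice, (v : GolayPt → ℤ) ∈ stdCross →
      ((g • v : leechLattice) : GolayPt → ℤ) ∈ stdCross := by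
  rw [crossStab, MulAction.mem_stabilizer_iff]
  constructor
  · intro h v hv
    have h' : g • v ∈ g • stdSet := Set.smul_mem_smul_set (show v ∈ stdSet from hv)
    rw [h] at h'
    exact h'
  · intro h
    refine Set.eq_of_subset_of_ncard_le ?_ ?_ stdSet_finite
    · rintro _ ⟨v, hv, rfl⟩; exact h v hv
    · rw [Set.ncard_smul_set]

theorem card_crossStab : Nat.card crossStab = 4096 * 244823040 := by
  rw [← card_stdCross_stabiliser]
  exact Nat.card_congr (Equiv.subtypeEquivRight fun g => mem_crossStab)

theorem orbit_stdSet : MulAction.orbit Co0 stdSet =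
    crossSet '' {x | sqNorm x.1 = 64} := by
  ext S
  constructor
  · rintro ⟨g, rfl⟩
    refine ⟨g • axisVec none, ?_, ?_⟩
    · show sqNorm (g • axisVec none : leechLattice).1 = 64
      rw [co0_sqNorm]; exact (sqNorm_single none 8).trans (by norm_num)
    · rw [← smul_crossSet, crossSet_axis]
  · rintro ⟨x, hx, rfl⟩
    obtain ⟨g, i, hg⟩ := exists_axis hx
    exact ⟨g⁻¹, by show g⁻¹ • stdSet = _; rw [← crossSet_axis i, smul_crossSet, ← hg, inv_smul_smul]⟩

theorem ncard_crossSets : (crossSet '' {x | sqNorm x.1 = 64}).ncard = 8292375 := by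
  classical
  set F := normFin 64 le_rfl rfl with hF
  have hsum := Finset.card_eq_sum_card_image classOf F
  rw [Finset.sum_congr rfl (g := fun _ => 48) (fun c hc => by
    obtain ⟨x, hx, rfl⟩ := Finset.mem_image.1 hc
    convert classes_structure.2 x hx), Finset.sum_const, smul_eq_mul] at hsum
  have hc64 : F.card = 398034000 := by
    rw [← ncard_norm64, ← Set.ncard_coe_finset]; congr 1; ext; simp [hF, mem_normFin]
  have himg : (F.image classOf).card = 8292375 := by omega
  rw [← himg, ← Set.ncard_coe_finset]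
  have key : ∀ x y : leechLattice, sqNorm x.1 = 64 → sqNorm y.1 = 64 →
      (crossSet x = crossSet y ↔ classOf x.1 = classOf y.1) := by
    intro x y hx hy
    constructor
    · intro h
      have : y ∈ crossSet x := h ▸ mem_crossSet.2 ⟨rfl, 0, by simp⟩
      exact (classOf_eq_iff x.2 y.2).2 this.2.2
    · intro h
      ext u
      simp only [crossSet, cross, Set.mem_setOf_eq, hx, hy]
      refine and_congr_right fun hu => and_congr_right fun _ => ?_
      rw [← classOf_eq_iff x.2 hu, ← classOf_eq_iff y.2 hu, h]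
  refine Set.ncard_congr (fun S hS => classOf hS.choose.1) ?_ ?_ ?_
  · intro S hS
    rw [Finset.coe_image]
    exact ⟨_, mem_normFin.2 ⟨hS.choose.2, hS.choose_spec.1⟩, rfl⟩
  · intro S T hS hT h
    rw [← hS.choose_spec.2, ← hT.choose_spec.2]
    exact (key _ _ hS.choose_spec.1 hT.choose_spec.1).2 h
  · intro c hc
    rw [Finset.coe_image] at hc
    obtain ⟨x, hx, rfl⟩ := hc
    obtain ⟨hxL, hxn⟩ := mem_normFin.1 hx
    have hS : crossSet ⟨x, hxL⟩ ∈ crossSet '' {x | sqNorm x.1 = 64} := ⟨_, hxn, rfl⟩
    exact ⟨_, hS, (key _ ⟨x, hxL⟩ hS.choose_spec.1 hxn).1 hS.choose_spec.2⟩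

theorem index_crossStab : crossStab.index = 8292375 := by
  rw [crossStab, MulAction.index_stabilizer, orbit_stdSet, ncard_crossSets]

theorem card_co0 : Nat.card Co0 = 8315553613086720000 := by
  rw [← Subgroup.index_mul_card crossStab, index_crossStab, card_crossStab]

instance finite_co0 : Finite Co0 :=
  Nat.finite_of_card_ne_zero (by rw [card_co0]; norm_num)

end Cfsg.Agent.Golay
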