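import Cfsg.Agent.Golay.KeyCount
import Cfsg.Agent.Golay.Crosses

/-!
Writing a lattice vector of norm 48 as a sum of two minimal vectors.
-/

set_option autoImplicit false

namespace Cfsg.Agent.Golay

open Cfsg
open scoped Pointwise

lemma dot_emod_eight {x y : GolayPt → ℤ} (hx : x ∈ leechLattice) (hy : y ∈ leechLattice) :
    dotInt x y % 8 = 0 := by
  have h1 := sixteen_dvd_sqNorm (add_mem hx hy)
  have h2 := sixteen_dvd_sqNorm hx
  have h3 := sixteen_dvd_sqNorm hy
  have h4 := (sqNorm_add_sub x y).1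
  omega

lemma dot_le_sixteen {x y : GolayPt → ℤ} (hx : x ∈ leechLattice) (hy : y ∈ leechLattice)
    (hxn : sqNorm x = 32) (hyn : sqNorm y = 32) (hne : x ≠ y) : dotInt x y ≤ 16 := by
  have h := thirtytwo_le_sqNorm (sub_mem hx hy) (sub_ne_zero.2 hne)
  have h4 := (sqNorm_add_sub x y).2
  omega

lemma dot_linear (u x y : GolayPt → ℤ) :
    dotInt u (x - y) = dotInt u x - dotInt u y ∧ dotInt u x = dotInt x u := by
  constructor
  · simp only [dotInt, Pi.sub_apply, mul_sub, Finset.sum_sub_distrib]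
  · simp only [dotInt, mul_comm]

/-- Equiangular vectors orthogonal to a fixed vector are at most 276 in number. -/
lemma equiangular_bound {ι : Type*} [Fintype ι] (u : GolayPt → ℤ) (hu : u ≠ 0)
    (p : ι → GolayPt → ℤ) (hup : ∀ k, dotInt u (p k) = 0) (hp : ∀ k, dotInt (p k) (p k) = 80)
    (hpq : ∀ k l, k ≠ l → dotInt (p k) (p l) ^ 2 = 256) : Fintype.card ι ≤ 276 := by
  classical
  obtain ⟨e, he⟩ := Function.ne_iff.1 hu
  let T := Sym2 {i : GolayPt // i ≠ e}
  let f : ι → T → ℚ := fun k =>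
    Sym2.lift ⟨fun i j => (p k i.1 : ℚ) * (p k j.1 : ℚ), fun i j => mul_comm _ _⟩
  have hli : LinearIndependent ℚ f := by
    rw [Fintype.linearIndependent_iff]
    intro c hc
    have hM : ∀ i j : {i : GolayPt // i ≠ e}, ∑ k, c k * ((p k i.1 : ℚ) * (p k j.1 : ℚ)) = 0 := by
      intro i j
      have := congrFun hc s(i, j)
      simpa [Finset.sum_apply, f] using this
    have hl : ∀ l, ∑ k, c k * (dotInt (p l) (p k) : ℚ) ^ 2 = 0 := by
      intro l
      set z : {i : GolayPt // i ≠ e} → ℚ := fun i =>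
        (p l i.1 : ℚ) - (p l e : ℚ) / (u e : ℚ) * (u i.1 : ℚ) with hz
      have hdot : ∀ k, (dotInt (p l) (p k) : ℚ) = ∑ i, z i * (p k i.1 : ℚ) := by
        intro k
        have h0 : ((dotInt u (p k) : ℤ) : ℚ) = 0 := by rw [hup]; simp
        have he' : (u e : ℚ) ≠ 0 := by exact_mod_cast he
        simp only [dotInt, Int.cast_sum, Int.cast_mul] at h0 ⊢
        have split : ∀ F : GolayPt → ℚ, ∑ i, F i = F e + ∑ i : {i : GolayPt // i ≠ e}, F i.1 := by
          intro F
          rw [← Finset.add_sum_erase _ _ (Finset.mem_univ e)]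
          congr 1
          exact (Finset.sum_subtype (Finset.univ.erase e) (by simp) F)
        rw [split] at h0 ⊢
        simp only [hz, sub_mul, Finset.sum_sub_distrib, mul_assoc, ← Finset.mul_sum]
        rw [eq_neg_of_add_eq_zero_right h0]
        field_simp
        ring
      have hsq : ∀ k, (dotInt (p l) (p k) : ℚ) ^ 2
          = ∑ i, ∑ j, z i * z j * ((p k i.1 : ℚ) * (p k j.1 : ℚ)) := by
        intro k
        rw [hdot, sq, Finset.sum_mul_sum]
        exact Finset.sum_congr rfl fun i _ => Finset.sum_congr rfl fun j _ => by ring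
      simp only [hsq, Finset.mul_sum]
      rw [Finset.sum_comm]
      refine Finset.sum_eq_zero fun i _ => ?_
      rw [Finset.sum_comm]
      refine Finset.sum_eq_zero fun j _ => ?_
      rw [Finset.sum_congr rfl (g := fun k => z i * z j * (c k * ((p k i.1 : ℚ) * (p k j.1 : ℚ))))
        (fun k _ => by ring), ← Finset.mul_sum, hM, mul_zero]
    have hval : ∀ l, c l * 6144 + 256 * ∑ k, c k = 0 := by
      intro l
      have hl' := hl l
      rw [Finset.sum_congr rfl (g := fun k => (if k = l then c k * 6144 else 0) + 256 * c k)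
        (fun k _ => by
          split
          · next h => subst h; rw [hp]; norm_num; ring
          · next h =>
            have := hpq l k (Ne.symm h)
            rw [show ((dotInt (p l) (p k) : ℚ)) ^ 2 = 256 by exact_mod_cast this]
            ring), Finset.sum_add_distrib, Finset.sum_ite_eq', ← Finset.mul_sum] at hl'
      simpa using hl'
    have hS : ∑ k, c k = 0 := by
      have h := Finset.sum_congr rfl (fun l (_ : l ∈ Finset.univ) => hval l)
      rw [Finset.sum_add_distrib, ← Finset.sum_mul, Finset.sum_const, Finset.sum_const_zero,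
        nsmul_eq_mul] at h
      have hn : (0 : ℚ) ≤ ((Finset.univ : Finset ι).card : ℚ) := Nat.cast_nonneg _
      have : (∑ k, c k) * (6144 + 256 * ((Finset.univ : Finset ι).card : ℚ)) = 0 := by linarith
      exact (mul_eq_zero.1 this).resolve_right (by positivity)
    intro l
    have := hval l
    rw [hS] at this
    linarith
  have := hli.fintype_card_le_finrank
  rw [Module.finrank_fintype_fun_eq_card] at this
  refine this.trans (le_of_eq ?_)
  rw [Sym2.card, Fintype.card_subtype_compl, Fintype.card_subtype_eq]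
  rfl

/-- At most 552 ordered decompositions. -/
lemma card_half_le {u : GolayPt → ℤ} (hu : u ∈ leechLattice) (hun : sqNorm u = 48)
    (D : Finset (GolayPt → ℤ))
    (hD : ∀ v ∈ D, v ∈ leechLattice ∧ sqNorm v = 32 ∧ dotInt u v = 24) : D.card ≤ 552 := by
  classical
  set pr : (GolayPt → ℤ) → Finset (GolayPt → ℤ) := fun v => {v, u - v} with hprdef
  have hpr : ∀ S ∈ D.image pr, ∃ v ∈ D, pr v = S := fun S hS => by simpa using Finset.mem_image.1 hS
  choose r hr using hpr
  have key : ∀ (v : GolayPt → ℤ), v ∈ D → u - v ∈ leechLattice ∧ sqNorm (u - v) = 32 := by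
    intro v hv
    obtain ⟨h1, h2, h3⟩ := hD v hv
    refine ⟨sub_mem hu h1, ?_⟩
    have := (sqNorm_add_sub u v).2
    omega
  have h276 : (D.image pr).card ≤ 276 := by
    rw [← Fintype.card_coe]
    refine equiangular_bound u (sqNorm_ne_zero hun (by norm_num))
      (fun S : {S // S ∈ D.image pr} => fun i => 2 * r S.1 S.2 i - u i) ?_ ?_ ?_
    · intro S
      obtain ⟨-, -, h3⟩ := hD _ (hr S.1 S.2).1
      simp only [dotInt, mul_sub, Finset.sum_sub_distrib, mul_left_comm (u _) 2, ← Finset.mul_sum]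
      have : ∑ i, u i * u i = 48 := by rw [← hun, sqNorm]; simp only [sq]
      have h3' : ∑ i, u i * r S.1 S.2 i = 24 := h3
      rw [this, h3']; norm_num
    · intro S
      obtain ⟨-, h2, h3⟩ := hD _ (hr S.1 S.2).1
      have e : dotInt (fun i => 2 * r S.1 S.2 i - u i) (fun i => 2 * r S.1 S.2 i - u i)
          = 4 * sqNorm (r S.1 S.2) - 4 * dotInt u (r S.1 S.2) + sqNorm u := by
        simp only [dotInt, sqNorm, Finset.mul_sum, ← Finset.sum_sub_distrib, ← Finset.sum_add_distrib]
        exact Finset.sum_congr rfl fun i _ => by ring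
      rw [e, h2, h3, hun]; norm_num
    · intro S T hne
      set v := r S.1 S.2 with hv
      set w := r T.1 T.2 with hw
      obtain ⟨hvL, hvn, hvu⟩ := hD _ (hr S.1 S.2).1
      obtain ⟨hwL, hwn, hwu⟩ := hD _ (hr T.1 T.2).1
      have e : dotInt (fun i => 2 * v i - u i) (fun i => 2 * w i - u i)
          = 4 * dotInt v w - 2 * dotInt u v - 2 * dotInt u w + sqNorm u := by
        simp only [dotInt, sqNorm, Finset.mul_sum, ← Finset.sum_sub_distrib, ← Finset.sum_add_distrib]
        exact Finset.sum_congr rfl fun i _ => by ring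
      have hprne : pr v ≠ pr w := by
        rw [hv, hw, (hr S.1 S.2).2, (hr T.1 T.2).2]; exact fun h => hne (Subtype.ext h)
      have n1 : v ≠ w := fun h => hprne (by rw [h])
      have n2 : u - v ≠ w := fun h => hprne (by
        rw [hprdef, ← h]; simp only [sub_sub_cancel]; exact Finset.pair_comm _ _)
      obtain ⟨hvL', hvn'⟩ := key v (hr S.1 S.2).1
      have b1 : dotInt v w ≤ 16 := dot_le_sixteen hvL hwL hvn hwn n1
      have b2 : dotInt (u - v) w ≤ 16 := dot_le_sixteen hvL' hwL hvn' hwn n2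
      have b5 : dotInt u w = 24 := hwu
      have b3 : dotInt (u - v) w = dotInt u w - dotInt v w := by
        rw [(dot_linear w (u - v) 0).2.symm, (dot_linear w u v).1, ← (dot_linear u w 0).2,
          ← (dot_linear v w 0).2]
      have b4 : dotInt v w % 8 = 0 := dot_emod_eight hvL hwL
      rw [e, hvu, hwu, hun]
      rcases (show dotInt v w = 8 ∨ dotInt v w = 16 by omega) with a | a <;> rw [a] <;> norm_num
  have h2 : D.card ≤ 2 * (D.image pr).card := by
    refine Finset.card_le_mul_card_image D 2 fun S hS => ?_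
    obtain ⟨x, hx, rfl⟩ := Finset.mem_image.1 hS
    refine le_trans (Finset.card_le_card (t := pr x) fun y hy => ?_) Finset.card_le_two
    obtain ⟨-, h⟩ := Finset.mem_filter.1 hy
    rw [← h]
    simp [pr]
  omega

theorem decompositions {u : GolayPt → ℤ} (hu : u ∈ leechLattice) (hun : sqNorm u = 48) :
    {v : GolayPt → ℤ | v ∈ leechLattice ∧ sqNorm v = 32 ∧ sqNorm (u - v) = 32}.ncard = 552 := by
  classical
  set F := normFin 32 (by norm_num) rfl with hF
  set U := normFin 48 (by norm_num) rfl with hU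
  set P := (F ×ˢ F).filter (fun p => dotInt p.1 p.2 = -8) with hP
  have hmap : ∀ p ∈ P, p.1 + p.2 ∈ U := by
    intro p hp
    obtain ⟨hp, hd⟩ := Finset.mem_filter.1 hp
    obtain ⟨h1, h2⟩ := Finset.mem_product.1 hp
    obtain ⟨a1, a2⟩ := mem_normFin.1 h1
    obtain ⟨b1, b2⟩ := mem_normFin.1 h2
    refine mem_normFin.2 ⟨add_mem a1 b1, ?_⟩
    rw [(sqNorm_add_sub p.1 p.2).1, a2, b2, hd]; norm_num
  have hcardP : P.card = 196560 * 47104 := by
    rw [hP, Finset.card_filter, Finset.sum_product]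
    rw [Finset.sum_congr rfl (g := fun _ => 47104) (fun v hv => ?_), Finset.sum_const, smul_eq_mul]
    · congr 1
      rw [← ncard_norm32, ← Set.ncard_coe_finset]; congr 1; ext; simp [hF, mem_normFin]
    · obtain ⟨hvL, hvn⟩ := mem_normFin.1 hv
      rw [← Finset.card_filter, ← census_min hvL hvn (d := -2) (n := 47104) (by simp),
        ← Set.ncard_coe_finset]
      refine congrArg Set.ncard ?_
      ext w
      simp [hF, mem_normFin, and_assoc]
  have hUcard : U.card = 16773120 := by
    rw [← ncard_norm48, ← Set.ncard_coe_finset]; congr 1; ext; simp [hU, mem_normFin]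
  -- each fibre is at most 552
  have hfib : ∀ x ∈ U, (P.filter fun p => p.1 + p.2 = x).card ≤ 552 := by
    intro x hx
    obtain ⟨hxL, hxn⟩ := mem_normFin.1 hx
    rw [← Finset.card_image_of_injOn (f := Prod.fst)]
    · refine card_half_le hxL hxn _ fun v hv => ?_
      obtain ⟨⟨a, b⟩, hab, rfl⟩ := Finset.mem_image.1 hv
      obtain ⟨habP, hsumab⟩ := Finset.mem_filter.1 hab
      subst hsumab
      obtain ⟨hab', hd⟩ : (a, b) ∈ F ×ˢ F ∧ dotInt a b = -8 := Finset.mem_filter.1 habP
      obtain ⟨h1, h2⟩ := Finset.mem_product.1 hab'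
      obtain ⟨a1, a2⟩ := mem_normFin.1 h1
      refine ⟨a1, a2, ?_⟩
      show dotInt (a + b) a = 24
      replace hxn : sqNorm (a + b) = 48 := hxn
      have h1' := (sqNorm_add_sub (a + b) a).2
      rw [add_sub_cancel_left, (mem_normFin.1 h2).2, hxn, a2] at h1'
      push_cast at h1'
      omega
    · rintro ⟨a, b⟩ ha ⟨a', b'⟩ ha' (rfl : a = a')
      have h1 := (Finset.mem_filter.1 ha).2
      have h2 := (Finset.mem_filter.1 ha').2
      exact Prod.ext rfl (add_left_cancel (h1.trans h2.symm))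
  have hux : u ∈ U := mem_normFin.2 ⟨hu, hun⟩
  have hsum := Finset.card_eq_sum_card_fiberwise (f := fun p => p.1 + p.2) (s := P) (t := U)
    (fun p hp => hmap p hp)
  have hcu : (P.filter fun p => p.1 + p.2 = u).card = 552 := by
    refine le_antisymm (hfib u hux) ?_
    by_contra hlt
    have hlt' : ∑ x ∈ U, (P.filter fun p => p.1 + p.2 = x).card < ∑ _x ∈ U, 552 :=
      Finset.sum_lt_sum hfib ⟨u, hux, by omega⟩
    rw [← hsum, Finset.sum_const, smul_eq_mul, hcardP, hUcard] at hlt'
    norm_num at hlt'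
  rw [← hcu, ← Set.ncard_coe_finset]
  refine Set.ncard_congr (fun v _ => (v, u - v)) ?_ ?_ ?_
  · rintro v ⟨h1, h2, h3⟩
    refine Finset.mem_filter.2 ⟨Finset.mem_filter.2 ⟨Finset.mem_product.2
      ⟨mem_normFin.2 ⟨h1, h2⟩, mem_normFin.2 ⟨sub_mem hu h1, h3⟩⟩, ?_⟩, add_sub_cancel v u⟩
    have := (sqNorm_add_sub v (u - v)).1
    rw [add_sub_cancel, hun, h2, h3] at this
    show dotInt v (u - v) = -8
    omega
  · intro a b _ _ h; exact congrArg Prod.fst h
  · rintro ⟨a, b⟩ h
    obtain ⟨habP, hsumab⟩ := Finset.mem_filter.1 h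
    subst hsumab
    obtain ⟨h1, h2⟩ := Finset.mem_product.1 (Finset.mem_filter.1 habP).1
    obtain ⟨a1, a2⟩ := mem_normFin.1 h1
    refine ⟨a, ⟨a1, a2, ?_⟩, ?_⟩
    · rw [add_sub_cancel_left]; exact (mem_normFin.1 h2).2
    · rw [add_sub_cancel_left]

theorem decompositions_sub (u : leechLattice) (hu : sqNorm u.1 = 48) :
    {v : leechLattice | sqNorm v.1 = 32 ∧ sqNorm (u.1 - v.1) = 32}.ncard = 552 := by
  rw [← decompositions u.2 hu, ← Set.ncard_image_of_injective _ Subtype.val_injective]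
  refine congrArg Set.ncard ?_
  ext x
  constructor
  · rintro ⟨v, hv, rfl⟩; exact ⟨v.2, hv⟩
  · rintro ⟨hx, h⟩; exact ⟨⟨x, hx⟩, h, rfl⟩

theorem exists_decomposition (u : leechLattice) (hu : sqNorm u.1 = 48) :
    ∃ v : leechLattice, sqNorm v.1 = 32 ∧ sqNorm (u.1 - v.1) = 32 := by
  have h := decompositions_sub u hu
  obtain ⟨v, hv⟩ := Set.nonempty_of_ncard_ne_zero
    (s := {v : leechLattice | sqNorm v.1 = 32 ∧ sqNorm (u.1 - v.1) = 32}) (by omega)
  exact ⟨v, hv⟩

theorem move_decomposition {u u' v v' : leechLattice} (hu : sqNorm u.1 = 48) (hu' : sqNorm u'.1 = 48)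
    (hv : sqNorm v.1 = 32 ∧ sqNorm (u.1 - v.1) = 32)
    (hv' : sqNorm v'.1 = 32 ∧ sqNorm (u'.1 - v'.1) = 32) :
    ∃ g : Co0, g • u = u' ∧ g • v = v' := by
  obtain ⟨k, hk⟩ := co0_transitive_min v v' hv.1 hv'.1
  have hd : ∀ {u v : leechLattice}, sqNorm u.1 = 48 → sqNorm v.1 = 32 → sqNorm (u.1 - v.1) = 32 →
      dotInt v.1 (u - v).1 = -8 := by
    intro u v a b c
    have := (sqNorm_add_sub v.1 (u.1 - v.1)).1
    rw [add_sub_cancel, a, b, c] at this
    rw [AddSubgroup.coe_sub]
    omega
  obtain ⟨g, g1, g2⟩ := min_trans_eight (v := v') (w := k • (u - v)) (w' := u' - v') hv'.1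
    (by rw [co0_sqNorm, AddSubgroup.coe_sub]; exact hv.2) (by rw [AddSubgroup.coe_sub]; exact hv'.2)
    (by rw [← hk, co0_dot]; exact hd hu hv.1 hv.2) (hd hu' hv'.1 hv'.2)
  refine ⟨g * k, ?_, by rw [mul_smul, hk, g1]⟩
  calc (g * k) • u = (g * k) • (v + (u - v)) := by rw [add_sub_cancel]
    _ = u' := by rw [co0_smul_add, mul_smul, mul_smul, hk, g1, g2, add_sub_cancel]

theorem co0_transitive_fortyeight (u u' : leechLattice) (hu : sqNorm u.1 = 48) (hu' : sqNorm u'.1 = 48) :
    ∃ g : Co0, g • u = u' := by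
  obtain ⟨v, hv⟩ := exists_decomposition u hu
  obtain ⟨v', hv'⟩ := exists_decomposition u' hu'
  obtain ⟨g, hg, -⟩ := move_decomposition hu hu' hv hv'
  exact ⟨g, hg⟩

end Cfsg.Agent.Golay
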