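import Cfsg.Agent.Golay.CoThreeLiftData
import Cfsg.Agent.Golay.LeechStructure
import Cfsg.Agent.Golay.SumPairs
import Cfsg.Agent.H92.McLOrbit
import Cfsg.Agent.H92.LeechFrames

/-!
A symmetry of the 275 points of an edge preserving inner products extends to a lattice automorphism,
possibly after exchanging the two ends.
-/

set_option autoImplicit false

namespace Cfsg.Agent.Golay.CoThreeLift

open Cfsg H92.LeechOrbit
open scoped Pointwise

/-- A packed coefficient. -/
def cof (n : ℕ) (i : Fin 24) : ℤ := ((n >>> (8 * i.1)) &&& 255 : ℕ) - (128 : ℤ)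

/-- A packed residue. -/
def res (n : ℕ) (i : Fin 24) : ℕ := (n >>> (2 * i.1)) &&& 3

/-- Code of a basis vector. -/
def bCode (i : Fin 24) : ℕ := bCodes.getD i.1 0

/-- Value of a combination at a position. -/
def combAt (row p : ℕ) : ℤ :=
  ((List.finRange 24).map fun i => cof row i * ((fld (bCode i) p : ℤ) - 8)).sum

/-- A code has the given coordinates. -/
def combOK (row code : ℕ) : Bool :=
  (List.range 24).all fun p => decide (combAt row p = (fld code p : ℤ) - 8)

lemma basis_ok :
    ∀ i : Fin 24, inLeech (dec (bCode i)) = true ∧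
      (i.1 < 2 ∨ (sqNorm (dec (bCode i)) = 32 ∧ dotInt (dec u48Code) (dec (bCode i)) = 24 ∧
        dotInt (dec v32Code) (dec (bCode i)) = 16)) := by
  decide +kernel

lemma rows_ok_0 :
    (allBelow 55 fun i => combOK (xRows.getD (0 + i) 0) (mclCert.code (0 + i))) = true := by
  decide +kernel

lemma rows_ok_1 :
    (allBelow 55 fun i => combOK (xRows.getD (55 + i) 0) (mclCert.code (55 + i))) = true := by
  decide +kernel

lemma rows_ok_2 :
    (allBelow 55 fun i => combOK (xRows.getD (110 + i) 0) (mclCert.code (110 + i))) = true := by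
  decide +kernel

lemma rows_ok_3 :
    (allBelow 55 fun i => combOK (xRows.getD (165 + i) 0) (mclCert.code (165 + i))) = true := by
  decide +kernel

lemma rows_ok_4 :
    (allBelow 55 fun i => combOK (xRows.getD (220 + i) 0) (mclCert.code (220 + i))) = true := by
  decide +kernel

lemma rows_ok (i : ℕ) (hi : i < 275) : combOK (xRows.getD i 0) (mclCert.code i) = true := by
  obtain ⟨r, hr, rfl | rfl | rfl | rfl | rfl⟩ :
      ∃ r < 55, i = 0 + r ∨ i = 55 + r ∨ i = 110 + r ∨ i = 165 + r ∨ i = 220 + r :=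
    ⟨i % 55, Nat.mod_lt _ (by norm_num), by omega⟩
  exacts [allBelow_spec rows_ok_0 r hr, allBelow_spec rows_ok_1 r hr, allBelow_spec rows_ok_2 r hr,
    allBelow_spec rows_ok_3 r hr, allBelow_spec rows_ok_4 r hr]

lemma head_ok : bCode 0 = u48Code ∧ bCode 1 = v32Code ∧ inLeech (dec wCode) = true ∧
    dotInt (dec u48Code) (dec wCode) = 8 ∧
    dotInt (dec u48Code) (dec v32Code) = 24 := by
  decide +kernel

lemma wRow_ok : (List.range 24).all (fun p => decide (combAt wRow p = 3 * ((fld wCode p : ℤ) - 8))) = true := by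
  decide +kernel

/-- The standard generators of the lattice as functions of the position. -/
def genVals : List (ℕ → ℤ) :=
  (fun p => if p = 23 then -3 else 1) ::
    (basisList.map fun b p => if b.testBit p then 2 else 0) ++
    ((List.range 23).map fun l p => (if p = l then 4 else 0) - if p = 23 then 4 else 0) ++
    [fun p => if p = 23 then 8 else 0]

lemma gens_ok : genVals.length = genRows.length ∧
    ((List.range genRows.length).all fun k => (List.range 24).all fun p =>
      decide (combAt (genRows.getD k (0, 0)).1 p + (genRows.getD k (0, 0)).2 * ((fld wCode p : ℤ) - 8)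
        = genVals.getD k (fun _ => 0) p)) = true := by
  decide +kernel

/-- Gram entry modulo 3. -/
def gr (i j : Fin 24) : ℕ := res (gramRows.getD i.1 0) j

lemma gram_ok : ∀ i j : Fin 24,
    dotInt (dec (bCode i)) (dec (bCode j)) % 8 = 0 ∧
      dotInt (dec (bCode i)) (dec (bCode j)) / 8 % 3 = (gr i j : ℤ) := by
  decide +kernel

lemma head_sum :
    ((List.finRange 24).map fun i => cof wRow i * (if i = 0 then 2 else 1)).sum = 1 := by
  decide +kernel

lemma split_ok : ∀ i j : Fin 24,
    ((((List.finRange 24).map fun k => (res (invRows.getD i.1 0) k : ℤ) * gr k j).sum)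
      + cof wRow i * res alRow j + (if i = 0 then 1 else 0) * res beRow j) % 3
        = if i = j then 1 else 0 := by
  decide +kernel

/-! ### Combinations -/

/-- A combination of lattice vectors. -/
def lc {ι : Type} [Fintype ι] (e : ι → leechLattice) (c : ι → ℤ) : leechLattice :=
  ∑ i, c i • e i

lemma lc_apply {ι : Type} [Fintype ι] (e : ι → leechLattice) (c : ι → ℤ) (p : GolayPt) :
    (lc e c).1 p = ∑ i, c i * (e i).1 p := by
  simp [lc, Finset.sum_apply]

lemma dot_lc {ι : Type} [Fintype ι] (e : ι → leechLattice) (c : ι → ℤ) (t : GolayPt → ℤ) :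
    dotInt (lc e c).1 t = ∑ i, c i * dotInt (e i).1 t := by
  simp only [dotInt, lc_apply, Finset.sum_mul, Finset.mul_sum]
  rw [Finset.sum_comm]
  simp only [mul_assoc]

lemma dot_lc_lc {ι : Type} [Fintype ι] (e : ι → leechLattice) (c d : ι → ℤ) :
    dotInt (lc e c).1 (lc e d).1 = ∑ i, c i * ∑ j, d j * dotInt (e i).1 (e j).1 := by
  rw [dot_lc]
  refine Finset.sum_congr rfl fun i _ => ?_
  rw [dotInt_comm', dot_lc]
  simp only [dotInt_comm' (e _).1 (e i).1]

lemma lc_add {ι : Type} [Fintype ι] (e : ι → leechLattice) (c d : ι → ℤ) :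
    lc e (c + d) = lc e c + lc e d := by
  simp only [lc, Pi.add_apply, add_zsmul, Finset.sum_add_distrib]

lemma lc_sub {ι : Type} [Fintype ι] (e : ι → leechLattice) (c d : ι → ℤ) :
    lc e (c - d) = lc e c - lc e d := by
  rw [eq_sub_iff_add_eq, ← lc_add, sub_add_cancel]

lemma eq_zero_of_sqNorm {x : leechLattice} (h : sqNorm x.1 = 0) : x = 0 := by
  refine Subtype.ext (funext fun l => ?_)
  have := (Finset.sum_eq_zero_iff_of_nonneg fun i _ => sq_nonneg (x.1 i)).1 h l (Finset.mem_univ l)
  simpa using this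

lemma eq_of_dots {x y : leechLattice} (h1 : dotInt x.1 x.1 = dotInt x.1 y.1)
    (h2 : dotInt y.1 y.1 = dotInt x.1 y.1) : x = y := by
  refine sub_eq_zero.1 (eq_zero_of_sqNorm ?_)
  rw [AddSubgroup.coe_sub, sqNorm_diff, ← dotInt_self, ← dotInt_self]
  omega

/-- A shell is finite. -/
lemma finite_shell (N : ℤ) : {x : leechLattice | sqNorm x.1 = N}.Finite := by
  refine ((Set.Finite.pi' fun _ : GolayPt => Set.finite_Icc (-N) N).preimage
    Subtype.val_injective.injOn).subset fun x hx l => ?_
  have h : x.1 l ^ 2 ≤ N :=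
    (Finset.single_le_sum (fun i _ => sq_nonneg (x.1 i)) (Finset.mem_univ l)).trans_eq hx
  exact ⟨by nlinarith [Int.le_self_sq (-x.1 l)], by nlinarith [Int.le_self_sq (x.1 l)]⟩

/-- Two systems with the same inner products, the first spanning, give an automorphism. -/
theorem exists_aut {ι : Type} [Fintype ι] [DecidableEq ι] (e e' : ι → leechLattice)
    (hspan : ∀ z, ∃ c, lc e c = z)
    (hgram : ∀ i j, dotInt (e' i).1 (e' j).1 = dotInt (e i).1 (e j).1) :
    ∃ g : Co0, ∀ i, g • e i = e' i := by
  choose c hc using hspan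
  have hdot : ∀ a b, dotInt (lc e' a).1 (lc e' b).1 = dotInt (lc e a).1 (lc e b).1 := by
    intro a b; simp only [dot_lc_lc, hgram]
  have hwd : ∀ a b, lc e a = lc e b → lc e' a = lc e' b := by
    intro a b h
    exact eq_of_dots (by rw [hdot, hdot, h]) (by rw [hdot, hdot, h])
  let f : leechLattice → leechLattice := fun z => lc e' (c z)
  have hnorm : ∀ z, sqNorm (f z).1 = sqNorm z.1 := fun z => by
    rw [← dotInt_self, ← dotInt_self, hdot, hc]
  have hadd : ∀ v w, f (v + w) = f v + f w := fun v w => by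
    show lc e' (c (v + w)) = lc e' (c v) + lc e' (c w)
    rw [← lc_add]
    exact hwd _ _ (by rw [lc_add, hc, hc, hc])
  have hinj : Function.Injective f := by
    intro v w h
    refine sub_eq_zero.1 (eq_zero_of_sqNorm ?_)
    have e1 : f (v - w) = 0 := by
      have := hadd (v - w) w
      rw [sub_add_cancel, h] at this
      exact right_eq_add.1 this
    rw [← hnorm, e1]
    simp [sqNorm]
  have hsurj : Function.Surjective f := by
    intro z
    obtain ⟨x, -, hx⟩ := ((finite_shell (sqNorm z.1)).injOn_iff_bijOn_of_mapsTo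
      (f := f) (fun x hx => (hnorm x).trans hx)).1 hinj.injOn |>.surjOn
      (show z ∈ {x : leechLattice | sqNorm x.1 = sqNorm z.1} from rfl)
    exact ⟨x, hx⟩
  refine ⟨⟨Equiv.ofBijective f ⟨hinj, hsurj⟩, hadd, hnorm⟩, fun i => ?_⟩
  show lc e' (c (e i)) = e' i
  have h1 : ∀ g : ι → leechLattice, lc g (fun j => if j = i then 1 else 0) = g i := fun g => by
    simp [lc, ite_smul, Finset.sum_ite_eq']
  rw [← h1 e']
  exact hwd _ _ (by rw [hc, h1])

/-! ### The reference edge -/

/-- The 275 points of the reference edge. -/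
def refPoints : Set leechLattice := atSet [(refU, 24), (refV, 16)]

lemma refFrame : Frame mclCert [(refU, 24), (refV, 16)] 1 := by
  show [(((1 : Co0) • refU : leechLattice).1, (24 : ℤ)), (((1 : Co0) • refV : leechLattice).1, (16 : ℤ))] = _
  rw [one_smul, one_smul]
  rfl

lemma mem_refPoints {x : leechLattice} : x ∈ refPoints ↔
    sqNorm x.1 = 32 ∧ dotInt refU.1 x.1 = 24 ∧ dotInt refV.1 x.1 = 16 := by
  simp [refPoints, atSet]

/-- A basis vector. -/
def bv (i : Fin 24) : leechLattice := ⟨dec (bCode i), mem_of_inLeech (basis_ok i).1⟩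

/-- The vector outside the span. -/
def wv : leechLattice := ⟨dec wCode, mem_of_inLeech head_ok.2.2.1⟩

lemma bv_head : bv 0 = refU ∧ bv 1 = refV :=
  ⟨Subtype.ext (by show dec _ = dec _; rw [head_ok.1]),
   Subtype.ext (by show dec _ = dec _; rw [head_ok.2.1])⟩

lemma bv_cases (i : Fin 24) : i = 0 ∨ i = 1 ∨ (2 ≤ i.1 ∧ bv i ∈ refPoints) := by
  rcases (basis_ok i).2 with h | ⟨h1, h2, h3⟩
  · rcases (show i.1 = 0 ∨ i.1 = 1 by omega) with e | e
    · exact Or.inl (Fin.ext e)
    · exact Or.inr (Or.inl (Fin.ext e))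
  · by_cases h2' : i.1 < 2
    · rcases (show i.1 = 0 ∨ i.1 = 1 by omega) with e | e
      · exact Or.inl (Fin.ext e)
      · exact Or.inr (Or.inl (Fin.ext e))
    · exact Or.inr (Or.inr ⟨by omega, mem_refPoints.2 ⟨h1, h2, h3⟩⟩)

lemma combAt_eq (row : ℕ) (p : GolayPt) :
    combAt row (idx p) = (lc bv (cof row)).1 p := by
  rw [lc_apply, combAt, ← List.sum_toFinset _ (List.nodup_finRange 24), List.toFinset_finRange]
  rfl

lemma exists_coords {x : leechLattice} (hx : x ∈ refPoints) : ∃ c, lc bv c = x := by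
  obtain ⟨hn, hd⟩ := (refFrame.mem_iff x).1 hx
  rw [one_smul] at hn hd
  obtain ⟨i, hi, he⟩ := mclCert_cover _ x.2 hn hd
  refine ⟨cof (xRows.getD i 0), Subtype.ext (funext fun p => ?_)⟩
  have h := List.all_eq_true.1 (rows_ok i hi) (idx p) (List.mem_range.2 (idx_lt p))
  rw [← combAt_eq, of_decide_eq_true h, ← he]
  rfl

lemma lc_wRow : lc bv (cof wRow) = (3 : ℤ) • wv := by
  refine Subtype.ext (funext fun p => ?_)
  have h := List.all_eq_true.1 wRow_ok (idx p) (List.mem_range.2 (idx_lt p))
  rw [← combAt_eq, of_decide_eq_true h]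
  simp [wv, dec]

/-- The spanning system. -/
def sys (U V : leechLattice) (f : leechLattice → leechLattice) (z : leechLattice) :
    Option (Fin 24) → leechLattice
  | none => z
  | some i => if i = 0 then U else if i = 1 then V else f (bv i)

lemma sys_id (i : Fin 24) : sys refU refV id wv (some i) = bv i := by
  simp only [sys, id_eq]
  split_ifs with h h'
  · rw [h, bv_head.1]
  · rw [h', bv_head.2]
  · rfl

lemma spans (z : leechLattice) : ∃ c, lc (sys refU refV id wv) c = z := by
  let K : AddSubgroup (GolayPt → ℤ) :=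
    { carrier := {x | ∃ c, (lc (sys refU refV id wv) c).1 = x}
      zero_mem' := ⟨0, by simp [lc]⟩
      add_mem' := by
        rintro _ _ ⟨a, rfl⟩ ⟨b, rfl⟩
        exact ⟨a + b, by rw [lc_add]; rfl⟩
      neg_mem' := by
        rintro _ ⟨a, rfl⟩
        refine ⟨-a, ?_⟩
        simp [lc] }
  have hg : ∀ k < genRows.length, (fun p => genVals.getD k (fun _ => 0) (idx p)) ∈ K := by
    intro k hk
    refine ⟨fun o => o.elim (genRows.getD k (0, 0)).2 (cof (genRows.getD k (0, 0)).1), funext fun p => ?_⟩
    have h := List.all_eq_true.1 (List.all_eq_true.1 gens_ok.2 k (List.mem_range.2 hk)) (idx p)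
      (List.mem_range.2 (idx_lt p))
    rw [← of_decide_eq_true h, combAt_eq, lc_apply, lc_apply, Fintype.sum_option, add_comm]
    congr 1
  have hle : leechLattice ≤ K := by
    have hlen : genRows.length = 37 := rfl
    refine leech_le_of_gens K ?_ ?_ ?_ ?_
    · convert hg 0 (by rw [hlen]; norm_num) using 1
      decide +kernel
    · intro b hb
      obtain ⟨j, hj, rfl⟩ := List.getElem_of_mem hb
      have hj' : j < 12 := hj
      convert hg (1 + j) (by rw [hlen]; omega) using 1
      interval_cases j <;> rfl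
    · intro l hl
      obtain ⟨j, hj, rfl⟩ : ∃ j, j < 23 ∧ l = pt j := by
        refine ⟨idx l, ?_, (pt_idx l).symm⟩
        have := idx_lt l
        have : idx l ≠ 23 := fun e => hl (by rw [← pt_idx l, e]; rfl)
        omega
      convert hg (13 + j) (by rw [hlen]; omega) using 1
      interval_cases j <;> decide +kernel
    · convert hg 36 (by rw [hlen]; norm_num) using 1
      decide +kernel
  obtain ⟨c, hc⟩ := hle z.2
  exact ⟨c, Subtype.ext hc⟩

lemma sys_gram (V : leechLattice) (f : leechLattice → leechLattice)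
    (hV : sqNorm V.1 = 32) (hUV : dotInt refU.1 V.1 = 24)
    (hf : ∀ x ∈ refPoints, sqNorm (f x).1 = 32 ∧ dotInt refU.1 (f x).1 = 24 ∧
      dotInt V.1 (f x).1 = 16)
    (hff : ∀ x ∈ refPoints, ∀ y ∈ refPoints, dotInt (f x).1 (f y).1 = dotInt x.1 y.1)
    (z : leechLattice) :
    (∀ i j, dotInt (sys refU V f z (some i)).1 (sys refU V f z (some j)).1
      = dotInt (bv i).1 (bv j).1) ∧
    ∀ i, ∀ x ∈ refPoints, dotInt (sys refU V f z (some i)).1 (f x).1 = dotInt (bv i).1 x.1 := by
  have hu := ref_facts.2.1.1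
  have hv := ref_facts.2.1.2.1
  have huv : dotInt refU.1 refV.1 = 24 := head_ok.2.2.2.2
  have key : ∀ i, ∀ x ∈ refPoints,
      dotInt (sys refU V f z (some i)).1 (f x).1 = dotInt (bv i).1 x.1 := by
    intro i x hx
    rcases bv_cases i with rfl | rfl | ⟨hi, hix⟩
    · simp [sys, bv_head.1, (hf x hx).2.1, (mem_refPoints.1 hx).2.1]
    · simp [sys, bv_head.2, (hf x hx).2.2, (mem_refPoints.1 hx).2.2]
    · simp [sys, show i ≠ 0 by omega, show i ≠ 1 by omega, hff _ hix _ hx]
  refine ⟨fun i j => ?_, key⟩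
  rcases bv_cases j with rfl | rfl | ⟨hj, hjx⟩
  · rcases bv_cases i with rfl | rfl | ⟨hi, hix⟩
    · simp [sys, bv_head.1]
    · simp [sys, bv_head.1, bv_head.2, dotInt_comm' V.1, hUV, dotInt_comm' refV.1, huv]
    · simp [sys, bv_head.1, show i ≠ 0 by omega, show i ≠ 1 by omega,
        dotInt_comm' _ refU.1, (hf _ hix).2.1, (mem_refPoints.1 hix).2.1]
  · rcases bv_cases i with rfl | rfl | ⟨hi, hix⟩
    · simp [sys, bv_head.1, bv_head.2, hUV, huv]
    · simp [sys, bv_head.2, dotInt_self, hV]
      exact hv.symm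
    · simp [sys, bv_head.2, show i ≠ 0 by omega, show i ≠ 1 by omega,
        dotInt_comm' _ V.1, dotInt_comm' _ refV.1, (hf _ hix).2.2, (mem_refPoints.1 hix).2.2]
  · have e : sys refU V f z (some j) = f (bv j) := by
      simp [sys, show j ≠ 0 by omega, show j ≠ 1 by omega]
    rw [e, key i _ hjx]

/-- The extension, given an integral image of the outside vector. -/
theorem exists_ext (V : leechLattice) (f : leechLattice → leechLattice)
    (hV : sqNorm V.1 = 32) (hUV : dotInt refU.1 V.1 = 24)
    (hf : ∀ x ∈ refPoints, sqNorm (f x).1 = 32 ∧ dotInt refU.1 (f x).1 = 24 ∧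
      dotInt V.1 (f x).1 = 16)
    (hff : ∀ x ∈ refPoints, ∀ y ∈ refPoints, dotInt (f x).1 (f y).1 = dotInt x.1 y.1)
    {z : leechLattice} (hz : (3 : ℤ) • z = lc (fun i => sys refU V f 0 (some i)) (cof wRow)) :
    ∃ g : Co0, g • refU = refU ∧ g • refV = V ∧ ∀ x ∈ refPoints, g • x = f x := by
  obtain ⟨hgs, hgx⟩ := sys_gram V f hV hUV hf hff z
  have hbv := sys_id
  have he' : ∀ i, sys refU V f 0 (some i) = sys refU V f z (some i) := fun i => rfl
  have h3 : ∀ j, dotInt z.1 (sys refU V f z (some j)).1 = dotInt wv.1 (bv j).1 := by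
    intro j
    have a : dotInt ((3 : ℤ) • z : leechLattice).1 (sys refU V f z (some j)).1
        = dotInt ((3 : ℤ) • wv : leechLattice).1 (bv j).1 := by
      rw [hz, ← lc_wRow, dot_lc, dot_lc]
      refine Finset.sum_congr rfl fun i _ => ?_
      rw [he', hgs]
    simp only [dotInt, AddSubgroup.coe_zsmul, Pi.smul_apply, smul_eq_mul, mul_assoc,
      ← Finset.mul_sum] at a
    simp only [dotInt]
    omega
  have hzz : dotInt z.1 z.1 = dotInt wv.1 wv.1 := by
    have a : dotInt ((3 : ℤ) • z : leechLattice).1 z.1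
        = dotInt ((3 : ℤ) • wv : leechLattice).1 wv.1 := by
      rw [hz, ← lc_wRow, dot_lc, dot_lc]
      refine Finset.sum_congr rfl fun i _ => ?_
      rw [he', dotInt_comm', h3, dotInt_comm']
    simp only [dotInt, AddSubgroup.coe_zsmul, Pi.smul_apply, smul_eq_mul, mul_assoc,
      ← Finset.mul_sum] at a
    simp only [dotInt]
    omega
  obtain ⟨g, hg⟩ := exists_aut (sys refU refV id wv) (sys refU V f z) spans fun i j => by
    rcases i with _ | i <;> rcases j with _ | j
    · exact hzz
    · rw [hbv]; exact h3 j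
    · rw [hbv]
      exact ((dotInt_comm' _ _).trans (h3 i)).trans (dotInt_comm' _ _)
    · rw [hbv, hbv]; exact hgs i j
  refine ⟨g, ?_, ?_, fun x hx => ?_⟩
  · have := hg (some 0); simpa [sys] using this
  · have := hg (some 1); simpa [sys] using this
  · obtain ⟨c, hc⟩ := exists_coords hx
    have himg : g • x = lc (fun i => sys refU V f z (some i)) c := by
      rw [← hc]
      simp only [lc]
      have hadd : ∀ a b : leechLattice, g • (a + b) = g • a + g • b := g.2.1
      let F : leechLattice →+ leechLattice := AddMonoidHom.mk' (fun a => g • a) hadd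
      show F _ = _
      rw [map_sum]
      refine Finset.sum_congr rfl fun i _ => ?_
      rw [map_zsmul]
      exact congrArg _ (by show g • bv i = _; rw [← hbv i, hg])
    have hxx : dotInt (g • x).1 (f x).1 = dotInt x.1 x.1 := by
      rw [himg, dot_lc]
      conv_rhs => arg 1; rw [← hc]
      rw [dot_lc]
      exact Finset.sum_congr rfl fun i _ => by rw [hgx i x hx]
    exact eq_of_dots ((co0_dot g x x).trans hxx.symm) ((hff x hx x hx).trans hxx.symm)

lemma lc_zsmul {ι : Type} [Fintype ι] (e : ι → leechLattice) (n : ℤ) (c : ι → ℤ) :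
    lc e (fun i => n * c i) = n • lc e c := by
  simp only [lc, Finset.smul_sum, mul_zsmul]

/-- Every symmetry of the points is induced by the stabiliser of `refU`, fixing or exchanging the
two ends of the edge. -/
theorem lift_ref (f : leechLattice → leechLattice) (hm : ∀ x ∈ refPoints, f x ∈ refPoints)
    (hff : ∀ x ∈ refPoints, ∀ y ∈ refPoints, dotInt (f x).1 (f y).1 = dotInt x.1 y.1) :
    ∃ g : Co0, g • refU = refU ∧
      ((g • refV = refV ∧ ∀ x ∈ refPoints, g • x = f x) ∨
        (g • refV = refU - refV ∧ ∀ x ∈ refPoints, g • x = refU - f x)) := by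
  have hu : sqNorm refU.1 = 48 := ref_facts.2.1.1
  have hv : sqNorm refV.1 = 32 := ref_facts.2.1.2.1
  have huv : dotInt refU.1 refV.1 = 24 := head_ok.2.2.2.2
  have huw : dotInt refU.1 wv.1 = 8 := head_ok.2.2.2.1
  have hf : ∀ x ∈ refPoints, sqNorm (f x).1 = 32 ∧ dotInt refU.1 (f x).1 = 24 ∧
      dotInt refV.1 (f x).1 = 16 := fun x hx => mem_refPoints.1 (hm x hx)
  obtain ⟨hgs, hgx⟩ := sys_gram refV f hv huv hf hff 0
  set b' : Fin 24 → leechLattice := fun i => sys refU refV f 0 (some i) with hb'
  set c : Fin 24 → ℤ := cof wRow with hcdef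
  set y : leechLattice := lc b' c with hy
  have hb0 : b' 0 = refU := rfl
  have hb1 : b' 1 = refV := rfl
  have hbx : ∀ i, 2 ≤ i.1 → b' i = f (bv i) := fun i hi => by
    simp [b', sys, show i ≠ 0 by omega, show i ≠ 1 by omega]
  have hsurj : ∀ x ∈ refPoints, ∃ t ∈ refPoints, f t = x := fun x hx =>
    (((finite_shell 32).subset fun a (ha : a ∈ refPoints) => (mem_refPoints.1 ha).1
      ).injOn_iff_bijOn_of_mapsTo hm).1 (fun a ha b hb h => eq_of_dots
        (by rw [← hff a ha a ha, ← hff a ha b hb, h])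
        (by rw [← hff b hb b hb, ← hff a ha b hb, h])) |>.surjOn hx
  -- products with `y`
  have hyb : ∀ j, dotInt y.1 (b' j).1 = 3 * dotInt wv.1 (bv j).1 := by
    intro j
    have a : dotInt y.1 (b' j).1 = dotInt ((3 : ℤ) • wv : leechLattice).1 (bv j).1 := by
      rw [← lc_wRow, hy, dot_lc, dot_lc]
      exact Finset.sum_congr rfl fun i _ => by rw [hgs]
    rw [a]
    simp only [dotInt, AddSubgroup.coe_zsmul, Pi.smul_apply, smul_eq_mul, mul_assoc,
      ← Finset.mul_sum]
  have hyx : ∀ x ∈ refPoints, dotInt y.1 (f x).1 = 3 * dotInt wv.1 x.1 := by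
    intro x hx
    have a : dotInt y.1 (f x).1 = dotInt ((3 : ℤ) • wv : leechLattice).1 x.1 := by
      rw [← lc_wRow, hy, dot_lc, dot_lc]
      exact Finset.sum_congr rfl fun i _ => by rw [hgx i x hx]
    rw [a]
    simp only [dotInt, AddSubgroup.coe_zsmul, Pi.smul_apply, smul_eq_mul, mul_assoc,
      ← Finset.mul_sum]
  -- coordinates of `y`
  have hco : ∀ i, ∃ D, lc bv D = b' i := by
    intro i
    have h1 : ∀ k : Fin 24, lc bv (fun j => if j = k then 1 else 0) = bv k := fun k => by
      simp [lc, ite_smul, Finset.sum_ite_eq']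
    rcases bv_cases i with rfl | rfl | ⟨hi, hix⟩
    · exact ⟨_, (h1 0).trans (bv_head.1.trans hb0.symm)⟩
    · exact ⟨_, (h1 1).trans (bv_head.2.trans hb1.symm)⟩
    · rw [hbx i hi]
      exact exists_coords (hm _ hix)
  choose D hD using hco
  set d : Fin 24 → ℤ := fun j => ∑ i, c i * D i j with hd
  have hyd : lc bv d = y := by
    rw [hy]
    simp only [lc, ← hD, hd, Finset.sum_smul, Finset.smul_sum, ← mul_zsmul]
    rw [Finset.sum_comm]
  have hmod : ∀ j, (∑ k, (gr j k : ℤ) * d k) % 3 = 0 := by
    intro j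
    have h24 : (24 : ℤ) ∣ dotInt y.1 (bv j).1 := by
      rcases bv_cases j with rfl | rfl | ⟨hj, hjx⟩
      · rw [bv_head.1, ← hb0, hyb]
        have := dot_emod_eight wv.2 (bv 0).2
        omega
      · rw [bv_head.2, ← hb1, hyb]
        have := dot_emod_eight wv.2 (bv 1).2
        omega
      · obtain ⟨t, ht, hte⟩ := hsurj _ hjx
        rw [← hte, hyx t ht]
        have := dot_emod_eight wv.2 t.2
        omega
    rw [← hyd, dot_lc] at h24
    have e : ∀ k, ∃ q, dotInt (bv k).1 (bv j).1 = 8 * ((gr j k : ℤ) + 3 * q) := fun k => by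
      obtain ⟨g1, g2⟩ := gram_ok j k
      have e' : dotInt (bv k).1 (bv j).1 = dotInt (dec (bCode j)) (dec (bCode k)) := dotInt_comm' _ _
      exact ⟨dotInt (dec (bCode j)) (dec (bCode k)) / 8 / 3, by omega⟩
    choose q hq using e
    have e2 : (∑ k, d k * dotInt (bv k).1 (bv j).1)
        = 8 * (∑ k, (gr j k : ℤ) * d k) + 24 * ∑ k, d k * q k := by
      rw [Finset.mul_sum, Finset.mul_sum, ← Finset.sum_add_distrib]
      exact Finset.sum_congr rfl fun k _ => by rw [hq]; ring
    omega
  set A : ℤ := ∑ j, (res alRow j : ℤ) * d j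
  set B : ℤ := ∑ j, (res beRow j : ℤ) * d j with hB
  set δ : Fin 24 → ℤ := fun i => if i = 0 then 1 else 0 with hδ
  have hsplit : ∀ i, (3 : ℤ) ∣ d i - (A * c i + B * δ i) := by
    intro i
    set M : Fin 24 → ℤ := fun j =>
      (∑ k, (res (invRows.getD i.1 0) k : ℤ) * gr k j) + c i * res alRow j + δ i * res beRow j
    have hM : ∀ j, (3 : ℤ) ∣ M j * d j - (if i = j then 1 else 0) * d j := by
      intro j
      have h := split_ok i j
      rw [← List.sum_toFinset _ (List.nodup_finRange 24), List.toFinset_finRange] at h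
      have h' : (3 : ℤ) ∣ M j - (if i = j then 1 else 0) := by
        show (3 : ℤ) ∣ (∑ k, _) + _ + _ - _
        simp only [hδ, hcdef]
        split_ifs at h ⊢ <;> omega
      rw [← sub_mul]
      exact Dvd.dvd.mul_right h' _
    have h1 := Finset.dvd_sum fun j (_ : j ∈ Finset.univ) => hM j
    have e1 : ∑ j, (M j * d j - (if i = j then 1 else 0) * d j)
        = (∑ k, (res (invRows.getD i.1 0) k : ℤ) * ∑ j, (gr k j : ℤ) * d j)
          + (A * c i + B * δ i) - d i := by
      simp only [M, A, hB, add_mul, Finset.sum_sub_distrib, Finset.sum_add_distrib, Finset.sum_mul,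
        Finset.mul_sum, ite_mul, one_mul, zero_mul, Finset.sum_ite_eq, Finset.mem_univ, if_true]
      rw [Finset.sum_comm]
      simp only [mul_assoc, mul_comm, mul_left_comm, add_assoc]
    have h2 : (3 : ℤ) ∣ ∑ k, (res (invRows.getD i.1 0) k : ℤ) * ∑ j, (gr k j : ℤ) * d j :=
      Finset.dvd_sum fun k _ => Dvd.dvd.mul_left (Int.dvd_of_emod_eq_zero (hmod k)) _
    rw [e1] at h1
    omega
  choose L hL using hsplit
  set Z : leechLattice := A • wv + lc bv L with hZ
  have hy3 : y = (3 : ℤ) • Z + B • refU := by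
    have hde : d = (fun i => A * c i) + (fun i => B * δ i) + fun i => 3 * L i :=
      funext fun i => by show d i = A * c i + B * δ i + 3 * L i; linarith [hL i]
    have h0 : lc bv δ = refU := by simp [lc, hδ, ite_smul, bv_head.1]
    rw [← hyd, hde, lc_add, lc_add, lc_zsmul, lc_zsmul, lc_zsmul, h0, hcdef, lc_wRow, hZ,
      smul_add, smul_comm]
    abel
  have hcoe : ∀ t : GolayPt → ℤ,
      dotInt y.1 t = 3 * dotInt Z.1 t + B * dotInt refU.1 t := fun t => by
    rw [hy3]
    simp only [dotInt, AddSubgroup.coe_add, AddSubgroup.coe_zsmul, Pi.add_apply, Pi.smul_apply,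
      smul_eq_mul, add_mul, mul_assoc, Finset.sum_add_distrib, ← Finset.mul_sum]
  have hyU : dotInt y.1 refU.1 = 24 := by
    have := hyb 0
    rw [hb0, bv_head.1, dotInt_comm' wv.1, huw] at this
    exact this
  have hyy : dotInt y.1 y.1 = 9 * dotInt wv.1 wv.1 := by
    have a : dotInt y.1 y.1 = 3 * dotInt ((3 : ℤ) • wv : leechLattice).1 wv.1 := by
      rw [← lc_wRow, hy, dot_lc, dot_lc, Finset.mul_sum]
      refine Finset.sum_congr rfl fun i _ => ?_
      rw [dotInt_comm' (b' i).1, hyb, dotInt_comm' (bv i).1]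
      ring
    rw [a]
    simp only [dotInt, AddSubgroup.coe_zsmul, Pi.smul_apply, smul_eq_mul, mul_assoc,
      ← Finset.mul_sum]
    ring
  have hBB : (3 : ℤ) ∣ B ∨ (3 : ℤ) ∣ B - 1 := by
    have eU := hcoe refU.1
    rw [hyU, dotInt_self, hu] at eU
    have eY := hcoe y.1
    rw [hyy, dotInt_comm' refU.1, hyU, dotInt_comm' Z.1 y.1, hcoe Z.1, dotInt_comm' refU.1] at eY
    have e1 : (9 : ℤ) ∣ 48 * B * (B - 1) := ⟨dotInt Z.1 Z.1 - dotInt wv.1 wv.1, by linear_combination eY - B * eU⟩
    have e2 : (3 : ℤ) ∣ B * (B - 1) := by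
      rw [mul_assoc] at e1
      omega
    exact Int.Prime.dvd_mul' Nat.prime_three e2
  rcases hBB with ⟨k, hk⟩ | ⟨k, hk⟩
  · obtain ⟨g, h1, h2, h3⟩ := exists_ext refV f hv huv hf hff (z := Z + k • refU) (by
      rw [smul_add, ← mul_zsmul, ← hk, ← hy3, hy, hcdef])
    exact ⟨g, h1, Or.inl ⟨h2, h3⟩⟩
  · have hUf : ∀ x ∈ refPoints, ∀ t : GolayPt → ℤ,
        dotInt (refU - f x : leechLattice).1 t = dotInt refU.1 t - dotInt (f x).1 t := fun x _ t => by
      simp [dotInt, sub_mul, Finset.sum_sub_distrib]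
    have hUs : ∀ (s t : leechLattice), dotInt t.1 (refU - s : leechLattice).1
        = dotInt t.1 refU.1 - dotInt t.1 s.1 := fun s t => by
      simp [dotInt, mul_sub, Finset.sum_sub_distrib]
    have hV' : sqNorm (refU - refV : leechLattice).1 = 32 := by
      rw [AddSubgroup.coe_sub, sqNorm_diff, hu, hv, huv]; norm_num
    have hUV' : dotInt refU.1 (refU - refV : leechLattice).1 = 24 := by
      rw [hUs, dotInt_self, hu, huv]; norm_num
    obtain ⟨g, h1, h2, h3⟩ := exists_ext (refU - refV) (fun x => refU - f x) hV' hUV'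
      (fun x hx => by
        obtain ⟨a1, a2, a3⟩ := hf x hx
        refine ⟨?_, ?_, ?_⟩
        · rw [AddSubgroup.coe_sub, sqNorm_diff, hu, a1, a2]; norm_num
        · rw [hUs, dotInt_self, hu, a2]; norm_num
        · rw [hUs, dotInt_comm' (refU - refV : leechLattice).1 refU.1, hUV',
            dotInt_comm' (refU - refV : leechLattice).1 (f x).1, hUs, dotInt_comm' (f x).1,
            a2, dotInt_comm' (f x).1, a3]
          norm_num)
      (fun x hx t ht => by
        rw [hUf x hx, hUs, hUs, dotInt_self, hu, (hf t ht).2.1, dotInt_comm' (f x).1 refU.1,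
          (hf x hx).2.1, hff x hx t ht]
        ring)
      (z := -Z - k • refU) (by
        have hsum : (∑ i, c i * (if i = 0 then 2 else 1)) = 1 := by
          have h := head_sum
          rwa [← List.sum_toFinset _ (List.nodup_finRange 24), List.toFinset_finRange] at h
        have he : (fun i => sys refU (refU - refV) (fun x => refU - f x) 0 (some i))
            = fun i => (if i = 0 then (2 : ℤ) else 1) • refU - b' i := by
          funext i
          simp only [b', sys]
          split_ifs <;> simp [two_zsmul]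
        have hl : lc (fun i => (if i = 0 then (2 : ℤ) else 1) • refU - b' i) c
            = (∑ i, c i * (if i = 0 then 2 else 1)) • refU - y := by
          simp only [hy, lc, zsmul_sub, Finset.sum_sub_distrib, Finset.sum_smul, mul_zsmul]
        rw [he, ← hcdef, hl, hsum, hy3, show B = 3 * k + 1 by omega, zsmul_sub, ← mul_zsmul,
          add_zsmul, one_zsmul, zsmul_neg]
        abel)
    exact ⟨g, h1, Or.inr ⟨h2, h3⟩⟩

end Cfsg.Agent.Golay.CoThreeLift
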