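import Cfsg.Agent.Golay.CoTwoOutData
import Cfsg.Agent.Golay.LeechStructure

/-!
Kernel checks of the relations of the involution on the lattice generators.
-/

set_option autoImplicit false

namespace Cfsg.Agent.Golay.CoTwo

open Cfsg H92.LeechOrbit

/-- The word of `eT`. -/
def wT : List Atom := [.mono 0 0 doubleTbl]

/-- The word of `eD`. -/
def wD : List Atom := [.mono 0 0 deltaTbl]

/-- The word of `eC`. -/
def wC : List Atom := [.mono 0 0 cTbl]

/-- Product of the involution and the element of order 4. -/
def wB : List Atom := wC ++ zWord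

/-- Fourth power. -/
def wFour : List Atom := wB ++ wB ++ wB ++ wB

lemma zWord_ok : zWord.all atomOK = true := by decide +kernel

lemma pow_twenty_0 : (((genCodes.drop 0).take 8).all fun n =>
    chk (wFour ++ wFour ++ wFour ++ wFour ++ wFour) n n) = true := by
  decide +kernel

lemma pow_twenty_1 : (((genCodes.drop 8).take 8).all fun n =>
    chk (wFour ++ wFour ++ wFour ++ wFour ++ wFour) n n) = true := by
  decide +kernel

lemma pow_twenty_2 : (((genCodes.drop 16).take 8).all fun n =>
    chk (wFour ++ wFour ++ wFour ++ wFour ++ wFour) n n) = true := by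
  decide +kernel

lemma pow_twenty_3 : (((genCodes.drop 24).take 8).all fun n =>
    chk (wFour ++ wFour ++ wFour ++ wFour ++ wFour) n n) = true := by
  decide +kernel

lemma pow_twenty_4 : (((genCodes.drop 32).take 5).all fun n =>
    chk (wFour ++ wFour ++ wFour ++ wFour ++ wFour) n n) = true := by
  decide +kernel

lemma pow_twenty : (genCodes.all fun n =>
    chk (wFour ++ wFour ++ wFour ++ wFour ++ wFour) n n) = true := by
  have e : genCodes = (genCodes.drop 0).take 8 ++ (genCodes.drop 8).take 8 ++
      (genCodes.drop 16).take 8 ++ (genCodes.drop 24).take 8 ++ (genCodes.drop 32).take 5 := by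
    decide +kernel
  rw [e]
  simp only [List.all_append, pow_twenty_0, pow_twenty_1, pow_twenty_2, pow_twenty_3, pow_twenty_4,
    Bool.and_self]

lemma zeta_pairs : (genCodes.all fun n => chk (zWord ++ zWord) n n) = true := by
  decide +kernel

lemma zeta_double :
    (genCodes.all fun n => chk (wT ++ zWord ++ wT ++ zWord) n n) = true := by
  decide +kernel

lemma zeta_delta :
    (genCodes.all fun n => chk (zWord ++ wD ++ zWord ++ wD ++ wD ++ wD ++ wD) n n) = true := by
  decide +kernel

lemma zeta_base : ((genCodes.getD 0 0) :: []).all (fun n => chk zWord n n) = true ∧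
    chk wFour (genCodes.getD 36 0) movedCode = true ∧
    chk wD (genCodes.getD 36 0) (genCodes.getD 36 0) = true ∧
    dec movedCode ≠ dec (genCodes.getD 36 0) ∧
    dec (genCodes.getD 0 0) = oddMin ∧ inLeech (dec (genCodes.getD 36 0)) = true := by
  decide +kernel

lemma words_ok :
    ((genCodes.getD 0 0) :: []).all (fun n => chk zWord n n) = true ∧
    (genCodes.all fun n => chk (zWord ++ zWord) n n) = true ∧
    (genCodes.all fun n => chk (wT ++ zWord ++ wT ++ zWord) n n) = true ∧
    (genCodes.all fun n => chk (zWord ++ wD ++ zWord ++ wD ++ wD ++ wD ++ wD) n n) = true ∧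
    (genCodes.all fun n => chk (wFour ++ wFour ++ wFour ++ wFour ++ wFour) n n) = true ∧
    chk wFour (genCodes.getD 36 0) movedCode = true ∧
    chk wD (genCodes.getD 36 0) (genCodes.getD 36 0) = true ∧
    dec movedCode ≠ dec (genCodes.getD 36 0) ∧
    dec (genCodes.getD 0 0) = oddMin ∧ inLeech (dec (genCodes.getD 36 0)) = true :=
  ⟨zeta_base.1, zeta_pairs, zeta_double, zeta_delta, pow_twenty, zeta_base.2⟩

end Cfsg.Agent.Golay.CoTwo
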