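import Mathlib

/-!
Simplicity from a simple subgroup containing the normaliser of an element of prime order whose
index has no prime power congruent to one.
-/

set_option autoImplicit false

namespace Cfsg.Agent.Golay

open scoped Pointwise

variable {G : Type*} [Group G]

lemma mem_normalizer_zpowers_of_conj [Finite G] {σ g : G}
    (h : g * σ * g⁻¹ ∈ Subgroup.zpowers σ) : g ∈ Subgroup.normalizer (Subgroup.zpowers σ : Set G) := by
  have hmap : (Subgroup.zpowers σ).map (MulAut.conj g).toMonoidHom ≤ Subgroup.zpowers σ := by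
    rw [MonoidHom.map_zpowers, Subgroup.zpowers_le]
    exact h
  have heq := Subgroup.eq_of_le_of_card_ge hmap
    (Subgroup.card_map_of_injective (MulAut.conj g).injective).ge
  rw [Subgroup.mem_normalizer_iff]
  intro x
  constructor
  · intro hx
    rw [← heq]
    exact ⟨x, hx, rfl⟩
  · intro hx
    rw [← heq] at hx
    obtain ⟨y, hy, hyx⟩ := hx
    have : y = x := (MulAut.conj g).injective hyx
    exact this ▸ hy

/-- A normal subgroup either is everything or meets the simple subgroup trivially, and then its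
Sylow orders are congruent to one and divide the index. -/
theorem normal_dichotomy [Finite G] {M : Subgroup G} [IsSimpleGroup M] {p : ℕ} [hp : Fact p.Prime]
    {σ : G} (hσM : σ ∈ M) (hσ : orderOf σ = p) (hp2 : ¬ p ^ 2 ∣ Nat.card G)
    (hnorm : ∀ g : G, g * σ * g⁻¹ ∈ Subgroup.zpowers σ → g ∈ M)
    {N : Subgroup G} (hN : N.Normal) :
    N = ⊤ ∨ (Nat.card N ∣ M.index ∧
      ∀ q, q.Prime → q ^ (Nat.card N).factorization q % p = 1) := by
  classical
  haveI := hN
  have hPcard : Nat.card (Subgroup.zpowers σ) = p := by rw [Nat.card_zpowers, hσ]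
  have hfac : (Nat.card G).factorization p = 1 := by
    refine le_antisymm ?_ ?_
    · by_contra hle
      exact hp2 ((pow_dvd_pow p (by omega : 2 ≤ _)).trans (Nat.ordProj_dvd _ p))
    · refine (hp.out.dvd_iff_one_le_factorization Nat.card_pos.ne').1 ?_
      rw [← hPcard]
      exact Subgroup.card_subgroup_dvd_card _
  set P : Sylow p G := Sylow.ofCard (Subgroup.zpowers σ) (by rw [hfac, pow_one, hPcard]) with hP
  rcases (hN.comap M.subtype).eq_bot_or_eq_top with hbot | htop
  · right
    have hinf : N ⊓ M = ⊥ := by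
      rw [eq_bot_iff]
      intro x hx
      have : (⟨x, hx.2⟩ : M) ∈ N.comap M.subtype := hx.1
      rw [hbot, Subgroup.mem_bot] at this
      exact Subgroup.mem_bot.2 (congrArg Subtype.val this)
    have hdvd : Nat.card N ∣ M.index := by
      have h1 : N.relIndex M = Nat.card M := by
        rw [← Subgroup.inf_relIndex_right, hinf, Subgroup.relIndex_bot_left]
      have h2 : Nat.card M ∣ N.index := h1 ▸ Subgroup.relIndex_dvd_index_of_normal N M
      obtain ⟨k, hk⟩ := h2
      refine ⟨k, ?_⟩
      have e1 := Subgroup.card_mul_index N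
      have e2 := Subgroup.card_mul_index M
      rw [hk] at e1
      refine Nat.eq_of_mul_eq_mul_left (Nat.card_pos (α := M)) ?_
      rw [e2, ← e1]; ring
    refine ⟨hdvd, fun q hq => ?_⟩
    haveI : Fact q.Prime := ⟨hq⟩
    obtain ⟨Q⟩ : Nonempty (Sylow q N) := inferInstance
    have hQ := Q.card_eq_multiplicity
    set Q' : Subgroup G := (Q : Subgroup N).map N.subtype with hQ'
    have hfr : Subgroup.normalizer (Q' : Set G) ⊔ N = ⊤ := Sylow.normalizer_sup_eq_top Q
    set L := Subgroup.normalizer (Q' : Set G) with hL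
    have hpL : p ∣ Nat.card L := by
      have hpG : p ∣ Nat.card L * Nat.card N := by
        have h1 : Nat.card G ∣ Nat.card L * Nat.card N := by
          have h2 : N.index ∣ Nat.card L := by
            have h3 : N.relIndex L = N.index := by
              rw [← Subgroup.relIndex_sup_right (K := N) (H := L), hfr, Subgroup.relIndex_top_right]
            rw [← h3]; exact Subgroup.relIndex_dvd_card N L
          rw [← Subgroup.card_mul_index N, mul_comm (Nat.card L)]
          exact Nat.mul_dvd_mul_left _ h2
        refine Dvd.dvd.trans ?_ h1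
        rw [← hPcard]
        exact Subgroup.card_subgroup_dvd_card _
      refine (hp.out.dvd_mul.1 hpG).resolve_right fun hpN => hp2 ?_
      have hpM : p ∣ Nat.card M := by
        rw [← hPcard]; exact Subgroup.card_dvd_of_le (Subgroup.zpowers_le.2 hσM)
      calc p ^ 2 = p * p := sq p
        _ ∣ Nat.card M * Nat.card N := Nat.mul_dvd_mul hpM hpN
        _ ∣ Nat.card M * M.index := Nat.mul_dvd_mul_left _ hdvd
        _ = Nat.card G := Subgroup.card_mul_index M
    obtain ⟨t, ht⟩ := exists_prime_orderOf_dvd_card' (G := L) p hpL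
    have htG : orderOf (t : G) = p := by rw [Subgroup.orderOf_coe, ht]
    set T : Sylow p G := Sylow.ofCard (Subgroup.zpowers (t : G))
      (by rw [hfac, pow_one, Nat.card_zpowers, htG]) with hT
    obtain ⟨c, hc⟩ := MulAction.exists_smul_eq G P T
    have htc : (t : G) ∈ (c • P : Sylow p G).toSubgroup := by
      rw [hc, hT, Sylow.coe_ofCard]; exact Subgroup.mem_zpowers _
    rw [Sylow.coe_subgroup_smul, Subgroup.mem_pointwise_smul_iff_inv_smul_mem, hP,
      Sylow.coe_ofCard] at htc
    have htc' : c⁻¹ * (t : G) * c ∈ Subgroup.zpowers σ := by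
      simpa [MulAut.smul_def, MulAut.conj_inv_apply] using htc
    -- fixed points of `t` on `Q'` are trivial
    have hfix : ∀ x ∈ Q', (t : G) * x * (t : G)⁻¹ = x → x = 1 := by
      intro x hx hxt
      set y := c⁻¹ * x * c
      set s := c⁻¹ * (t : G) * c
      have hs1 : orderOf s = p := by
        rw [show s = MulAut.conj c⁻¹ (t : G) by simp [s, MulAut.conj_apply],
          MulEquiv.orderOf_eq, htG]
      have hcomm : y * s = s * y := by
        have : x * (t : G) = (t : G) * x := by
          have := congrArg (· * (t : G)) hxt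
          simpa [mul_assoc] using this.symm
        simp only [y, s]
        calc c⁻¹ * x * c * (c⁻¹ * (t : G) * c) = c⁻¹ * (x * (t : G)) * c := by group
          _ = c⁻¹ * ((t : G) * x) * c := by rw [this]
          _ = _ := by group
      have hzs : Subgroup.zpowers s = Subgroup.zpowers σ :=
        Subgroup.eq_of_le_of_card_ge (Subgroup.zpowers_le.2 htc')
          (by rw [hPcard, Nat.card_zpowers, hs1])
      have hσs : σ ∈ Subgroup.zpowers s := hzs ▸ Subgroup.mem_zpowers σ
      obtain ⟨j, hj⟩ := Subgroup.mem_zpowers_iff.1 hσs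
      have hy : y * σ * y⁻¹ = σ := by
        rw [← hj, mul_inv_eq_iff_eq_mul]
        exact (Commute.zpow_right (hcomm : Commute y s) j)
      have hyM := hnorm y (by rw [hy]; exact Subgroup.mem_zpowers σ)
      have hxN : x ∈ N := by
        obtain ⟨z, -, rfl⟩ := hx
        exact z.2
      have hyN : y ∈ N := by
        have := hN.conj_mem x hxN c⁻¹
        simpa [y] using this
      have : y = 1 := Subgroup.mem_bot.1 (hinf ▸ ⟨hyN, hyM⟩)
      have h2 : x = c * y * c⁻¹ := by simp only [y]; group
      rw [h2, this]; group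
    -- count fixed points
    let T' : Subgroup L := Subgroup.zpowers t
    letI : MulAction T' Q' :=
      { smul := fun a x => ⟨((a : L) : G) * x * ((a : L) : G)⁻¹,
          ((Subgroup.mem_normalizer_iff.1 (a : L).2) x).1 x.2⟩
        one_smul := fun x => Subtype.ext (show ((1 : L) : G) * x * ((1 : L) : G)⁻¹ = x by simp)
        mul_smul := fun a b x => Subtype.ext (show ((a : L) * (b : L) : G) * x * ((a : L) * (b : L) : G)⁻¹
          = ((a : L) : G) * (((b : L) : G) * x * ((b : L) : G)⁻¹) * ((a : L) : G)⁻¹ by group) }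
    have hT' : IsPGroup p T' := IsPGroup.of_card (n := 1) (by rw [Nat.card_zpowers, ht, pow_one])
    have hmod := hT'.card_modEq_card_fixedPoints (α := Q')
    have hfp : MulAction.fixedPoints T' Q' = {1} := by
      ext x
      simp only [MulAction.mem_fixedPoints, Set.mem_singleton_iff]
      constructor
      · intro h
        have := congrArg Subtype.val (h ⟨t, Subgroup.mem_zpowers t⟩)
        exact Subtype.ext (hfix x.1 x.2 this)
      · rintro rfl a
        exact Subtype.ext (show ((a : L) : G) * 1 * ((a : L) : G)⁻¹ = 1 by group)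
    rw [hfp, Nat.card_coe_set_eq, Set.ncard_singleton] at hmod
    have hQ'card : Nat.card Q' = q ^ (Nat.card N).factorization q := by
      rw [hQ', Subgroup.card_map_of_injective N.subtype_injective, hQ]
    rw [← hQ'card]
    exact Nat.mod_eq_of_modEq hmod hp.out.one_lt
  · left
    have hMN : M ≤ N := fun x hx => by
      have : (⟨x, hx⟩ : M) ∈ N.comap M.subtype := htop ▸ Subgroup.mem_top _
      exact this
    have hPN : (P : Subgroup G) ≤ N := by
      rw [hP, Sylow.coe_ofCard]; exact Subgroup.zpowers_le.2 (hMN hσM)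
    have hfr := Sylow.normalizer_sup_eq_top' P hPN
    rw [eq_top_iff, ← hfr]
    refine sup_le (fun g hg => hMN (hnorm g ?_)) le_rfl
    have hg' : g ∈ Subgroup.normalizer (Subgroup.zpowers σ : Set G) := hg
    exact (Subgroup.mem_normalizer_iff.1 hg' σ).1 (Subgroup.mem_zpowers σ)

/-- An exponent bound at each prime of the index leaves only the trivial normal subgroup. -/
theorem isSimpleGroup_of_large [Finite G] [Nontrivial G] {M : Subgroup G} [IsSimpleGroup M]
    {p : ℕ} [Fact p.Prime] {σ : G} (hσM : σ ∈ M) (hσ : orderOf σ = p)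
    (hp2 : ¬ p ^ 2 ∣ Nat.card G) (hnorm : ∀ g : G, g * σ * g⁻¹ ∈ Subgroup.zpowers σ → g ∈ M)
    (hidx : ∀ q k, q.Prime → q ^ k ∣ M.index → q ^ k % p = 1 → k = 0) :
    IsSimpleGroup G := by
  refine ⟨fun N hN => ?_⟩
  rcases normal_dichotomy hσM hσ hp2 hnorm hN with h | ⟨hd, hq⟩
  · exact Or.inr h
  · left
    rw [← Subgroup.card_eq_one]
    by_contra hne
    obtain ⟨q, hqp, hqN⟩ := Nat.exists_prime_and_dvd hne
    have hk := hidx q _ hqp ((Nat.ordProj_dvd _ q).trans hd) (hq q hqp)
    have := (hqp.dvd_iff_one_le_factorization Nat.card_pos.ne').1 hqN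
    omega

/-- The same, for an index `2^a * 3^b * 5^c`, checked on small exponents. -/
theorem exponent_check {p n a b c : ℕ} (hn : n = 2 ^ a * 3 ^ b * 5 ^ c)
    (h2 : ∀ k ≤ a, 2 ^ k % p = 1 → k = 0) (h3 : ∀ k ≤ b, 3 ^ k % p = 1 → k = 0)
    (h5 : ∀ k ≤ c, 5 ^ k % p = 1 → k = 0) :
    ∀ q k, q.Prime → q ^ k ∣ n → q ^ k % p = 1 → k = 0 := by
  intro q k hq hd hm
  by_contra hk
  have hqd : q ∣ 2 ^ a * 3 ^ b * 5 ^ c := hn ▸ (dvd_pow_self q hk).trans hd
  have hn0 : (2 ^ a * 3 ^ b * 5 ^ c) ≠ 0 := by positivity
  have hle : k ≤ (2 ^ a * 3 ^ b * 5 ^ c).factorization q :=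
    (hq.pow_dvd_iff_le_factorization hn0).1 (hn ▸ hd)
  rw [Nat.factorization_mul (by positivity) (by positivity),
    Nat.factorization_mul (by positivity) (by positivity)] at hle
  simp only [Nat.factorization_pow, Finsupp.coe_add, Pi.add_apply, Finsupp.coe_smul, Pi.smul_apply,
    smul_eq_mul, Nat.Prime.factorization (show Nat.Prime 2 by norm_num),
    Nat.Prime.factorization (show Nat.Prime 3 by norm_num),
    Nat.Prime.factorization (show Nat.Prime 5 by norm_num)] at hle
  rcases (Nat.Prime.dvd_mul hq).1 hqd with h | h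
  · rcases (Nat.Prime.dvd_mul hq).1 h with h | h
    · obtain rfl := (Nat.prime_dvd_prime_iff_eq hq Nat.prime_two).1 (hq.dvd_of_dvd_pow h)
      exact hk (h2 k (by simpa using hle) hm)
    · obtain rfl := (Nat.prime_dvd_prime_iff_eq hq Nat.prime_three).1 (hq.dvd_of_dvd_pow h)
      exact hk (h3 k (by simpa using hle) hm)
  · obtain rfl := (Nat.prime_dvd_prime_iff_eq hq (by norm_num : Nat.Prime 5)).1 (hq.dvd_of_dvd_pow h)
    exact hk (h5 k (by simpa using hle) hm)

end Cfsg.Agent.Golay
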