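import Cfsg.Agent.Golay.ConwayOrders
import Cfsg.Agent.Golay.LargeSubgroup

/-!
Elements of orders 23 and 11 of the monomial group and the lattice vectors they fix.
-/

set_option autoImplicit false

namespace Cfsg.Agent.Golay

open Cfsg
open scoped Pointwise

/-- The translation inside the group of the code. -/
def sigmaBig : M24 := ⟨transl, transl_mem⟩

/-- Multiplication by two inside the group of the code. -/
def sigmaSmall : M24 :=
  ⟨Equiv.optionCongr (Units.mulLeft (ZMod.unitOfCoprime 2 (by norm_num : Nat.Coprime 2 23))),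
    mulLeft_mem _ ⟨ZMod.unitOfCoprime 5 (by norm_num : Nat.Coprime 5 23), by decide +kernel⟩⟩

/-- The stabiliser of the extra point. -/
def oneStab : Subgroup M24 := MulAction.stabilizer M24 (none : GolayPt)

/-- The stabiliser of the two reference points. -/
def twoStab : Subgroup M24 :=
  MulAction.stabilizer M24 (none : GolayPt) ⊓ MulAction.stabilizer M24 (some 0 : GolayPt)

lemma card_oneStab : Nat.card oneStab = 10200960 := by
  obtain ⟨e⟩ := exists_point_stab_iso none
  exact (Nat.card_congr e.toEquiv).trans card_spor_M23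

lemma card_twoStab : Nat.card twoStab = 443520 := by
  obtain ⟨e⟩ := exists_two_point_stab_iso (show (none : GolayPt) ≠ some 0 by simp)
  exact (Nat.card_congr e.toEquiv).trans card_spor_M22

lemma isSimpleGroup_oneStab : IsSimpleGroup oneStab := by
  obtain ⟨e⟩ := exists_point_stab_iso none
  haveI := isSimpleGroup_spor_M23
  exact e.isSimpleGroup

lemma isSimpleGroup_twoStab : IsSimpleGroup twoStab := by
  obtain ⟨e⟩ := exists_two_point_stab_iso (show (none : GolayPt) ≠ some 0 by simp)
  haveI := isSimpleGroup_spor_M22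
  exact e.isSimpleGroup

lemma sigmaBig_facts : sigmaBig ∈ oneStab ∧ orderOf sigmaBig = 23 := by
  refine ⟨rfl, ?_⟩
  haveI : Fact (Nat.Prime 23) := ⟨by norm_num⟩
  refine orderOf_eq_prime (Subtype.ext ?_) (fun h => ?_)
  · show transl ^ 23 = 1
    decide +kernel
  · have : transl = 1 := congrArg Subtype.val h
    revert this
    decide +kernel

lemma sigmaSmall_facts : sigmaSmall ∈ twoStab ∧ orderOf sigmaSmall = 11 := by
  refine ⟨⟨rfl, ?_⟩, ?_⟩
  · show sigmaSmall • (some 0 : GolayPt) = some 0
    decide +kernel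
  · haveI : Fact (Nat.Prime 11) := ⟨by norm_num⟩
    refine orderOf_eq_prime (Subtype.ext ?_) (fun h => ?_)
    · show sigmaSmall.1 ^ 11 = 1
      decide +kernel
    · have : sigmaSmall.1 = 1 := congrArg Subtype.val h
      revert this
      decide +kernel

lemma fixed_coord {σ : M24} {y : leechLattice} (h : permAut σ • y = y) :
    ∀ (n : ℕ) (q : GolayPt), y.1 ((σ.1)^[n] q) = y.1 q
  | 0, q => rfl
  | n + 1, q => by
    rw [Function.iterate_succ', Function.comp_apply]
    have := permAut_apply σ y ((σ.1)^[n] q)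
    rw [h] at this
    rw [this, fixed_coord h n q]

lemma sum_by_class {k : ℕ} (cls : GolayPt → Fin k) (cnt : Fin k → ℕ)
    (hc : ∀ i, (Finset.univ.filter fun l => cls l = i).card = cnt i) (F : Fin k → ℤ) :
    ∑ l, F (cls l) = ∑ i, (cnt i : ℤ) * F i := by
  rw [← Finset.sum_fiberwise Finset.univ cls (fun l => F (cls l))]
  refine Finset.sum_congr rfl fun i _ => ?_
  rw [Finset.sum_congr rfl (g := fun _ => F i) fun l hl => by rw [(Finset.mem_filter.1 hl).2],
    Finset.sum_const, hc, nsmul_eq_mul]

/-- The two orbits of the translation. -/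
def bigClass (l : GolayPt) : Fin 2 := if l = none then 0 else 1

/-- The four orbits of the multiplication. -/
def smallClass (l : GolayPt) : Fin 4 :=
  if l = none then 0 else if l = some 0 then 1
    else if (List.range 11).any (fun n => decide ((sigmaSmall.1)^[n] (some 1) = l)) then 2 else 3

/-- Representatives of the four orbits. -/
def smallRep : Fin 4 → GolayPt := ![none, some 0, some 1, some 5]

/-- Representatives of the two orbits. -/
def bigRep : Fin 2 → GolayPt := ![none, some 0]

lemma class_facts :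
    (∀ l, ∃ n : Fin 23, (sigmaBig.1)^[n.1] (bigRep (bigClass l)) = l) ∧
    (∀ i, (Finset.univ.filter fun l => bigClass l = i).card = ![1, 23] i) ∧
    (∀ l, ∃ n : Fin 11, (sigmaSmall.1)^[n.1] (smallRep (smallClass l)) = l) ∧
    (∀ i, (Finset.univ.filter fun l => smallClass l = i).card = ![1, 1, 11, 11] i) := by
  decide +kernel

/-- The sums over a vector fixed by the translation. -/
lemma fixed_big {y : leechLattice} (h : permAut sigmaBig • y = y) :
    (∀ l, y.1 l = y.1 (bigRep (bigClass l))) ∧
    (∀ w : GolayPt → ℤ, (∀ l, w l = w (bigRep (bigClass l))) →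
      dotInt y.1 w = y.1 none * w none + 23 * (y.1 (some 0) * w (some 0))) ∧
    sqNorm y.1 = y.1 none ^ 2 + 23 * y.1 (some 0) ^ 2 := by
  have hy : ∀ l, y.1 l = y.1 (bigRep (bigClass l)) := fun l => by
    obtain ⟨n, hn⟩ := class_facts.1 l
    conv_lhs => rw [← hn]
    exact fixed_coord h n.1 _
  refine ⟨hy, fun w hw => ?_, ?_⟩
  · rw [dotInt, Finset.sum_congr rfl (g := fun l => (fun i => y.1 (bigRep i) * w (bigRep i))
      (bigClass l)) (fun l _ => by show _ = y.1 _ * w _; rw [← hy, ← hw]),
      sum_by_class bigClass ![1, 23] class_facts.2.1 (fun i => y.1 (bigRep i) * w (bigRep i))]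
    simp [Fin.sum_univ_two, bigRep]
  · rw [sqNorm, Finset.sum_congr rfl (g := fun l => (fun i => y.1 (bigRep i) ^ 2) (bigClass l))
      (fun l _ => by show _ = y.1 _ ^ 2; rw [← hy]),
      sum_by_class bigClass ![1, 23] class_facts.2.1 (fun i => y.1 (bigRep i) ^ 2)]
    simp [Fin.sum_univ_two, bigRep]

/-- The sums over a vector fixed by the multiplication. -/
lemma fixed_small {y : leechLattice} (h : permAut sigmaSmall • y = y) :
    (∀ l, y.1 l = y.1 (smallRep (smallClass l))) ∧
    (∀ w : GolayPt → ℤ, (∀ l, w l = w (smallRep (smallClass l))) →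
      dotInt y.1 w = y.1 none * w none + y.1 (some 0) * w (some 0) +
        11 * (y.1 (some 1) * w (some 1)) + 11 * (y.1 (some 5) * w (some 5))) ∧
    sqNorm y.1 = y.1 none ^ 2 + y.1 (some 0) ^ 2 + 11 * y.1 (some 1) ^ 2 +
      11 * y.1 (some 5) ^ 2 := by
  have hy : ∀ l, y.1 l = y.1 (smallRep (smallClass l)) := fun l => by
    obtain ⟨n, hn⟩ := class_facts.2.2.1 l
    conv_lhs => rw [← hn]
    exact fixed_coord h n.1 _
  refine ⟨hy, fun w hw => ?_, ?_⟩
  · rw [dotInt, Finset.sum_congr rfl (g := fun l => (fun i => y.1 (smallRep i) * w (smallRep i))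
      (smallClass l)) (fun l _ => by show _ = y.1 _ * w _; rw [← hy, ← hw]),
      sum_by_class smallClass ![1, 1, 11, 11] class_facts.2.2.2
        (fun i => y.1 (smallRep i) * w (smallRep i))]
    simp [Fin.sum_univ_four, smallRep]
  · rw [sqNorm, Finset.sum_congr rfl (g := fun l => (fun i => y.1 (smallRep i) ^ 2) (smallClass l))
      (fun l _ => by show _ = y.1 _ ^ 2; rw [← hy]),
      sum_by_class smallClass ![1, 1, 11, 11] class_facts.2.2.2 (fun i => y.1 (smallRep i) ^ 2)]
    simp [Fin.sum_univ_four, smallRep]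

lemma permHom_injective : Function.Injective permHom := fun a b h => by
  have := monoAut_injective (a₁ := (a, noSigns)) (a₂ := (b, noSigns)) h
  exact congrArg Prod.fst this

/-- Simplicity of a subgroup of isometries containing the permutation group `M`, when an element
of prime order singles out the first axis. -/
theorem isSimple_of_axis {A : Subgroup Co0} {M : Subgroup M24} (hM : IsSimpleGroup M)
    (hMA : M.map permHom ≤ A) {s : M24} (hs : s ∈ M) {p : ℕ} [Fact p.Prime]
    (hord : orderOf s = p) (hp2 : ¬ p ^ 2 ∣ Nat.card A)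
    (haxis : ∀ g ∈ A, permAut s • (g • axisVec none) = g • axisVec none →
      g • axisVec none = axisVec none)
    (hmono : ∀ τ c, monoAut τ c ∈ A → monoAut τ c • axisVec none = axisVec none →
      monoAut τ c ∈ M.map permHom)
    (hsaxis : permAut s • axisVec none = axisVec none) :
    ∀ {m : ℕ}, Nat.card A = Nat.card M * m → ∀ N : Subgroup A, N.Normal →
      N = ⊤ ∨ (Nat.card N ∣ m ∧
        ∀ q, q.Prime → q ^ (Nat.card N).factorization q % p = 1) := by
  intro m hm N hN
  haveI : Finite A := inferInstance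
  set M' : Subgroup A := (M.map permHom).subgroupOf A
  have e1 : M ≃* M' :=
    (M.equivMapOfInjective permHom permHom_injective).trans (Subgroup.subgroupOfEquivOfLe hMA).symm
  haveI : IsSimpleGroup M' := by
    haveI := hM
    exact e1.symm.isSimpleGroup
  have hidx : M'.index = m := by
    refine Nat.eq_of_mul_eq_mul_left (Nat.card_pos (α := M')) ?_
    rw [Subgroup.card_mul_index, hm, Nat.card_congr e1.toEquiv]
  set σ : A := ⟨permHom s, hMA (Subgroup.mem_map_of_mem _ hs)⟩
  have hσo : orderOf σ = p := by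
    rw [← Subgroup.orderOf_coe]
    exact (orderOf_injective permHom permHom_injective s).trans hord
  rw [← hidx]
  refine normal_dichotomy (M := M') (σ := σ) (Subgroup.mem_map_of_mem _ hs : permHom s ∈ M.map permHom)
    hσo hp2 (fun g hg => ?_) hN
  obtain ⟨j, hj⟩ := Subgroup.mem_zpowers_iff.1 hg
  have hσfix : σ ∈ MulAction.stabilizer A (axisVec none) := hsaxis
  have hjfix : (σ ^ j) • axisVec none = axisVec none :=
    MulAction.mem_stabilizer_iff.1 (Subgroup.zpow_mem _ hσfix j)
  have h1 : g * σ * g⁻¹ = σ ^ j := hj.symm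
  -- σ^j g = g σ fixes the image of the axis
  have h2 : (σ ^ j) • (g • axisVec none) = g • axisVec none := by
    rw [← h1, mul_smul, mul_smul, inv_smul_smul, MulAction.mem_stabilizer_iff.1 hσfix]
  have hne : σ ^ j ≠ 1 := by
    rw [← h1]
    intro h
    have : σ = 1 := by simpa using h
    rw [this, orderOf_one] at hσo
    exact (Fact.out : p.Prime).ne_one hσo.symm
  have hσin : σ ∈ Subgroup.zpowers (σ ^ j) := by
    have hle : Subgroup.zpowers (σ ^ j) ≤ Subgroup.zpowers σ :=
      Subgroup.zpowers_le.2 (Subgroup.zpow_mem _ (Subgroup.mem_zpowers σ) j)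
    have hdvd : orderOf (σ ^ j) ∣ p := by
      rw [← hσo]
      exact orderOf_dvd_of_mem_zpowers (Subgroup.zpow_mem _ (Subgroup.mem_zpowers σ) j)
    have horder : orderOf (σ ^ j) = p := ((Fact.out : p.Prime).eq_one_or_self_of_dvd _ hdvd).resolve_left
      (fun h => hne (orderOf_eq_one_iff.1 h))
    rw [Subgroup.eq_of_le_of_card_ge hle (by rw [Nat.card_zpowers, Nat.card_zpowers, horder, hσo])]
    exact Subgroup.mem_zpowers σ
  obtain ⟨i, hi⟩ := Subgroup.mem_zpowers_iff.1 hσin
  have h3 : σ • (g • axisVec none) = g • axisVec none := by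
    have hmem : σ ^ j ∈ MulAction.stabilizer A (g • axisVec none) := h2
    exact MulAction.mem_stabilizer_iff.1 (hi ▸ Subgroup.zpow_mem _ hmem i)
  have hax := haxis g.1 g.2 h3
  have hcross : g.1 ∈ crossStab := by
    show g.1 • stdSet = stdSet
    rw [← crossSet_axis none, smul_crossSet, hax]
  obtain ⟨τ, c, hτ⟩ := stdCross_stabiliser_eq_monomial g.1 (mem_crossStab_iff.1 hcross)
  show g.1 ∈ M.map permHom
  rw [hτ]
  exact hmono τ c (hτ ▸ g.2) (by rw [← hτ]; exact hax)

end Cfsg.Agent.Golay
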