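import Cfsg.Prelude.Def_Spor_Conway
import Cfsg.Agent.Golay.SigmaFixed

/-!
Simplicity of stabilisers of short vectors.
-/

set_option autoImplicit false

namespace Cfsg.Agent.Golay

open Cfsg
open scoped Pointwise

lemma axis_val (l : GolayPt) : (axisVec none).1 l = if l = none then 8 else 0 := by
  show (Pi.single none 8 : GolayPt → ℤ) l = _
  rw [Pi.single_apply]

lemma axis_norm : sqNorm (axisVec none).1 = 64 := by
  exact (sqNorm_single none 8).trans (by norm_num)

lemma dot_axis (x : leechLattice) : dotInt x.1 (axisVec none).1 = 8 * x.1 none :=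
  (dot_single x.1 none 8).trans (mul_comm _ _)

lemma permAut_axis {τ : M24} (h : τ ∈ oneStab) : permAut τ • axisVec none = axisVec none := by
  have h' : τ.1 none = none := h
  refine Subtype.ext (funext fun l => ?_)
  obtain ⟨q, rfl⟩ : ∃ q, τ.1 q = l := ⟨τ.1.symm l, τ.1.apply_symm_apply l⟩
  rw [permAut_apply, axis_val, axis_val]
  simp only [show τ.1 q = none ↔ q = none by rw [← τ.1.apply_eq_iff_eq (x := q), h']]

lemma oneStab_fix {τ : M24} (h : τ ∈ oneStab) {x : leechLattice}
    (hx : ∀ l, l ≠ none → x.1 l = x.1 (some 0)) : permAut τ • x = x := by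
  have h' : τ.1 none = none := h
  refine Subtype.ext (funext fun l => ?_)
  obtain ⟨q, rfl⟩ : ∃ q, τ.1 q = l := ⟨τ.1.symm l, τ.1.apply_symm_apply l⟩
  rw [permAut_apply]
  rcases eq_or_ne q none with rfl | hq
  · rw [h']
  · rw [hx q hq, hx _ fun e => hq (τ.1.injective (e.trans h'.symm))]

/-- A monomial map fixing the axis and a suitable vector is a permutation. -/
lemma mono_eq_perm {τ : M24} {c : {c : Finset GolayPt // c ∈ supports (golayCode : Set (GolayPt → ZMod 2))}}
    (hax : monoAut τ c • axisVec none = axisVec none) {x : leechLattice}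
    (hx : monoAut τ c • x = x) (hconst : ∀ l, l ≠ none → x.1 l = x.1 (some 0))
    (hne : ∀ l, x.1 l ≠ 0) : τ ∈ oneStab ∧ monoAut τ c = permHom τ := by
  have hval : ∀ (y : leechLattice) q, (monoAut τ c • y).1 (τ.1 q)
      = if τ.1 q ∈ c.1 then -y.1 q else y.1 q := by
    intro y q
    rw [monoAut_eq, mul_smul, signAut_apply, permAut_apply]
  have h1 : τ.1 none = none := by
    by_contra h
    have := hval (axisVec none) none
    rw [hax, axis_val, axis_val, if_neg h, if_pos rfl] at this
    split at this <;> omega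
  have hc : c = noSigns := by
    refine Subtype.ext (Finset.eq_empty_of_forall_notMem fun l hl => ?_)
    obtain ⟨q, rfl⟩ : ∃ q, τ.1 q = l := ⟨τ.1.symm l, τ.1.apply_symm_apply l⟩
    have := hval x q
    rw [hx, if_pos hl] at this
    rcases eq_or_ne q none with rfl | hq
    · rw [h1] at this
      have := hne none
      omega
    · rw [hconst q hq, hconst _ fun e => hq (τ.1.injective (e.trans h1.symm))] at this
      have := hne (some 0)
      omega
  exact ⟨h1, by rw [hc]; rfl⟩

/-! ### Third group -/

/-- The reference vector of squared norm 48. -/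
lemma leechV_facts : sqNorm Spor.leechV.1 = 48 ∧
    (∀ l, l ≠ none → Spor.leechV.1 l = Spor.leechV.1 (some 0)) ∧
    (∀ l, Spor.leechV.1 l ≠ 0) ∧ Spor.leechV.1 none = -5 ∧ Spor.leechV.1 (some 0) = -1 ∧
    (∀ l, Spor.leechV.1 l = Spor.leechV.1 (bigRep (bigClass l))) ∧
    (∀ l, Spor.leechV.1 l = Spor.leechV.1 (smallRep (smallClass l))) ∧
    Spor.leechV.1 (some 1) = -1 ∧ Spor.leechV.1 (some 5) = -1 := by
  decide +kernel

lemma isSimple_stab_leechV : IsSimpleGroup (MulAction.stabilizer Co0 Spor.leechV) := by
  obtain ⟨hn, hconst, hne, hv5, hv1, hcls, -, -, -⟩ := leechV_facts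
  set A := MulAction.stabilizer Co0 Spor.leechV
  have hcard : Nat.card A = 495766656000 := card_stab_fortyeight hn
  haveI : Fact (Nat.Prime 23) := ⟨by norm_num⟩
  have key := isSimple_of_axis (A := A) isSimpleGroup_oneStab (by
      rintro _ ⟨τ, hτ, rfl⟩
      exact oneStab_fix hτ hconst)
    sigmaBig_facts.1 sigmaBig_facts.2 (by rw [hcard]; norm_num) (by
      intro g hg hfix
      obtain ⟨hy, hdot, hnorm⟩ := fixed_big hfix
      have hd := co0_dot g Spor.leechV (axisVec none)
      rw [show g • Spor.leechV = Spor.leechV from hg, dot_axis, hv5] at hd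
      have hd2 := hdot _ hcls
      rw [hv5, hv1, show dotInt (g • axisVec none).1 Spor.leechV.1
        = dotInt Spor.leechV.1 (g • axisVec none).1 from by simp [dotInt, mul_comm], hd] at hd2
      rw [co0_sqNorm, axis_norm] at hnorm
      set a := (g • axisVec none).1 none with ha
      set b := (g • axisVec none).1 (some 0) with hb
      have hb0 : b = 0 := by
        have h1 : b ≤ 1 := by nlinarith
        have h2 : -1 ≤ b := by nlinarith
        interval_cases b <;> first | rfl | nlinarith
      have ha8 : a = 8 := by omega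
      refine Subtype.ext (funext fun l => ?_)
      rw [hy l, axis_val]
      unfold bigClass bigRep
      split_ifs <;> simp [← ha, ← hb, ha8, hb0]) (by
      intro τ c hA hax
      obtain ⟨h1, h2⟩ := mono_eq_perm hax hA hconst hne
      exact ⟨τ, h1, h2.symm⟩)
    (permAut_axis sigmaBig_facts.1) (m := 48600) (by rw [hcard, card_oneStab])
  haveI : Finite A := inferInstance
  haveI : Nontrivial A := Finite.one_lt_card_iff_nontrivial.1 (by omega)
  refine ⟨fun N hN => ?_⟩
  rcases key N hN with h | ⟨hd, hq⟩
  · exact Or.inr h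
  · left
    rw [← Subgroup.card_eq_one]
    by_contra hne1
    obtain ⟨q, hqp, hqN⟩ := Nat.exists_prime_and_dvd hne1
    have hk := exponent_check (p := 23) (n := 48600) (a := 3) (b := 5) (c := 2) (by norm_num)
      (by decide) (by decide) (by decide) q _ hqp ((Nat.ordProj_dvd _ q).trans hd) (hq q hqp)
    have := (hqp.dvd_iff_one_le_factorization Nat.card_pos.ne').1 hqN
    omega

theorem isCo3_stabilizer {v : leechLattice} (hv : sqNorm v.1 = 48) :
    IsCo3 (MulAction.stabilizer Co0 v) := by
  refine ⟨?_, card_stab_fortyeight hv⟩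
  obtain ⟨g, hg⟩ := co0_transitive_fortyeight v Spor.leechV hv leechV_facts.1
  haveI := isSimple_stab_leechV
  exact (MulAction.stabilizerEquivStabilizer hg.symm).isSimpleGroup

/-! ### Stabilisers of two minimal vectors at product `-8` -/

/-- The partner of the reference vector. -/
def mclW : leechLattice := -(repA + Spor.leechV)

lemma mclW_facts : sqNorm mclW.1 = 32 ∧ dotInt repA.1 mclW.1 = -8 ∧
    (∀ l, repA.1 l = repA.1 (smallRep (smallClass l))) ∧
    repA.1 none = 4 ∧ repA.1 (some 0) = 4 ∧ repA.1 (some 1) = 0 ∧ repA.1 (some 5) = 0 := by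
  decide +kernel

lemma small_axis {y : leechLattice}
    (hy : ∀ l, y.1 l = y.1 (smallRep (smallClass l))) (h0 : y.1 none = 8) (h1 : y.1 (some 0) = 0)
    (h2 : y.1 (some 1) = 0) (h3 : y.1 (some 5) = 0) : y = axisVec none := by
  refine Subtype.ext (funext fun l => ?_)
  rw [hy l, axis_val]
  unfold smallClass smallRep
  split_ifs <;> simp [h0, h1, h2, h3]

lemma isSimple_stab_mcl :
    IsSimpleGroup ↥(MulAction.stabilizer Co0 repA ⊓ MulAction.stabilizer Co0 mclW) := by
  obtain ⟨-, hconst, hne, hv5, hv1, -, hcls, hvc, hvd⟩ := leechV_facts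
  obtain ⟨hwn, hwd, hucls, hu, hu0, huc, hud⟩ := mclW_facts
  set A := MulAction.stabilizer Co0 repA ⊓ MulAction.stabilizer Co0 mclW
  have hcard : Nat.card A = 898128000 := card_fixA_eight hwn hwd
  have hV : ∀ g ∈ A, g • Spor.leechV = Spor.leechV := by
    intro g hg
    have e : Spor.leechV = -mclW - repA := by rw [mclW, neg_neg, add_sub_cancel_left]
    rw [e, co0_smul_sub, co0_smul_neg, MulAction.mem_stabilizer_iff.1 hg.1,
      MulAction.mem_stabilizer_iff.1 hg.2]
  haveI : Fact (Nat.Prime 11) := ⟨by norm_num⟩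
  have key := isSimple_of_axis (A := A) isSimpleGroup_twoStab (by
      rintro _ ⟨τ, hτ, rfl⟩
      have e1 : τ.1 none = none := hτ.1
      have e2 : τ.1 (some 0) = some 0 := hτ.2
      have hA' : permAut τ • repA = repA := by
        refine Subtype.ext (funext fun l => ?_)
        obtain ⟨q, rfl⟩ : ∃ q, τ.1 q = l := ⟨τ.1.symm l, τ.1.apply_symm_apply l⟩
        rw [permAut_apply]
        show repFour q = repFour (τ.1 q)
        simp only [repFour, show τ.1 q = none ↔ q = none by rw [← τ.1.apply_eq_iff_eq (x := q), e1],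
          show τ.1 q = some 0 ↔ q = some 0 by rw [← τ.1.apply_eq_iff_eq (x := q), e2]]
      refine ⟨hA', ?_⟩
      show permAut τ • mclW = mclW
      rw [mclW, co0_smul_neg, co0_smul_add, hA', oneStab_fix hτ.1 hconst])
    sigmaSmall_facts.1 sigmaSmall_facts.2 (by rw [hcard]; norm_num) (by
      intro g hg hfix
      obtain ⟨hy, hdot, hnorm⟩ := fixed_small hfix
      have hd := co0_dot g Spor.leechV (axisVec none)
      rw [hV g hg, dot_axis, hv5] at hd
      have hd' := co0_dot g repA (axisVec none)
      rw [MulAction.mem_stabilizer_iff.1 hg.1, dot_axis, hu] at hd'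
      have hd2 := hdot _ hcls
      rw [hv5, hv1, hvc, hvd, show dotInt (g • axisVec none).1 Spor.leechV.1
        = dotInt Spor.leechV.1 (g • axisVec none).1 from by simp [dotInt, mul_comm], hd] at hd2
      have hd3 := hdot _ hucls
      rw [hu, hu0, huc, hud, show dotInt (g • axisVec none).1 repA.1
        = dotInt repA.1 (g • axisVec none).1 from by simp [dotInt, mul_comm], hd'] at hd3
      rw [co0_sqNorm, axis_norm] at hnorm
      set a := (g • axisVec none).1 none with ha
      set b := (g • axisVec none).1 (some 0) with hb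
      set c := (g • axisVec none).1 (some 1) with hc
      set d := (g • axisVec none).1 (some 5) with hd4
      obtain ⟨r1, r2, r3, r4⟩ : a = 8 ∧ b = 0 ∧ c = 0 ∧ d = 0 := by
        have h1 : c ≤ 2 := by nlinarith
        have h2 : -2 ≤ c := by nlinarith
        have h3 : d ≤ 2 := by nlinarith
        have h4 : -2 ≤ d := by nlinarith
        interval_cases c <;> interval_cases d <;>
          first | exact ⟨by omega, by omega, rfl, rfl⟩ | omega | nlinarith
      exact small_axis hy r1 r2 r3 r4) (by
      intro τ c hA hax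
      obtain ⟨h1, h2⟩ := mono_eq_perm hax (hV _ hA) hconst hne
      refine ⟨τ, ⟨h1, ?_⟩, h2.symm⟩
      show τ.1 (some 0) = some 0
      have h3 : monoAut τ c • repA = repA := hA.1
      rw [h2] at h3
      have h4 := permAut_apply τ repA (some 0)
      rw [show permAut τ • repA = repA from h3, hu0] at h4
      by_contra hne0
      have e1 : τ.1 none = none := h1
      have hn0 : τ.1 (some 0) ≠ none := fun e => by simpa using τ.1.injective (e.trans e1.symm)
      change repFour (τ.1 (some 0)) = 4 at h4
      simp [repFour, hn0, hne0] at h4)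
    (permAut_axis sigmaSmall_facts.1.1) (m := 2025) (by rw [hcard, card_twoStab])
  haveI : Finite A := inferInstance
  haveI : Nontrivial A := Finite.one_lt_card_iff_nontrivial.1 (by omega)
  refine ⟨fun N hN => ?_⟩
  rcases key N hN with h | ⟨hd, hq⟩
  · exact Or.inr h
  · left
    rw [← Subgroup.card_eq_one]
    by_contra hne1
    obtain ⟨q, hqp, hqN⟩ := Nat.exists_prime_and_dvd hne1
    have hk := exponent_check (p := 11) (n := 2025) (a := 0) (b := 4) (c := 2) (by norm_num)
      (by decide) (by decide) (by decide) q _ hqp ((Nat.ordProj_dvd _ q).trans hd) (hq q hqp)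
    have := (hqp.dvd_iff_one_le_factorization Nat.card_pos.ne').1 hqN
    omega

theorem isMcL_stabilizer {v w : leechLattice} (hv : sqNorm v.1 = 32) (hw : sqNorm w.1 = 32)
    (hd : dotInt v.1 w.1 = -8) :
    IsMcL ↥(MulAction.stabilizer Co0 v ⊓ MulAction.stabilizer Co0 w) := by
  obtain ⟨hwn, hwd, -⟩ := mclW_facts
  obtain ⟨g, hg⟩ := co0_transitive_min v repA hv repA_norm
  obtain ⟨k, k1, k2⟩ := min_trans_eight (v := repA) (w := g • w) (w' := mclW) repA_norm
    (by rw [co0_sqNorm, hw]) hwn (by rw [← hg, co0_dot, hd]) hwd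
  have hp : (k * g) • (v, w) = ((repA, mclW) : leechLattice × leechLattice) :=
    Prod.ext (by show (k * g) • v = repA; rw [mul_smul, hg, k1])
      (by show (k * g) • w = mclW; rw [mul_smul, k2])
  have e : ↥(MulAction.stabilizer Co0 v ⊓ MulAction.stabilizer Co0 w) ≃*
      ↥(MulAction.stabilizer Co0 repA ⊓ MulAction.stabilizer Co0 mclW) :=
    ((MulEquiv.subgroupCongr (stabilizer_inf_eq_prod v w)).trans
      (MulAction.stabilizerEquivStabilizer hp.symm)).trans
      (MulEquiv.subgroupCongr (stabilizer_inf_eq_prod _ _)).symm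
  haveI := isSimple_stab_mcl
  exact ⟨e.isSimpleGroup, (Nat.card_congr e.toEquiv).trans (card_fixA_eight hwn hwd)⟩

/-! ### Stabiliser of a minimal vector -/

lemma fixA_core {k : Co0} (hk : k ∈ fixA)
    (h : ∀ a : leechLattice, sqNorm a.1 = 32 → dotInt repA.1 a.1 = 0 → k • a = a ∨ k • a = -a) :
    k = 1 := by
  classical
  have hkc : k ∈ crossStab := isMono_of_fix hk (h repW repW_norm
    (by rw [dot_repA]; simp [repW, pairVec]))
  obtain ⟨τ, c, rfl⟩ := stdCross_stabiliser_eq_monomial k (mem_crossStab_iff.1 hkc)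
  have hval : ∀ (y : leechLattice) q, (monoAut τ c • y).1 (τ.1 q)
      = if τ.1 q ∈ c.1 then -y.1 q else y.1 q := by
    intro y q
    rw [monoAut_eq, mul_smul, signAut_apply, permAut_apply]
  -- the vectors with two outside entries
  have pairEq : ∀ a b : GolayPt, a ≠ b → a ≠ none → a ≠ some 0 → b ≠ none → b ≠ some 0 →
      (τ.1 a = a ∨ τ.1 a = b) ∧ (τ.1 a = a → τ.1 b = b → (a ∈ c.1 ↔ b ∈ c.1)) := by
    intro a b hab ha hav hb hbv
    have hmem := pair_mem_minVecs hab (s := 1) (Or.inl rfl)
    set w : leechLattice := ⟨_, hmem.1⟩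
    have hw : ∀ l, w.1 l = if l = a then 4 else if l = b then 4 * 1 else 0 := fun l => rfl
    have hd : dotInt repA.1 w.1 = 0 := by
      rw [dot_repA, hw, hw, if_neg ha.symm, if_neg hb.symm, if_neg hav.symm, if_neg hbv.symm]
      rfl
    have hk' := h w hmem.2 hd
    have hsupp : ∀ q, w.1 q ≠ 0 → w.1 (τ.1 q) ≠ 0 := by
      intro q hq e
      have := hval w q
      rcases hk' with e' | e' <;> rw [e'] at this <;>
        simp only [AddSubgroup.coe_neg, Pi.neg_apply, e] at this <;>
        split at this <;> omega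
    refine ⟨?_, fun ea eb => ?_⟩
    · have := hsupp a (by rw [hw, if_pos rfl]; norm_num)
      rw [hw] at this
      by_contra hn
      simp only [not_or] at hn
      exact this (by rw [if_neg hn.1, if_neg hn.2])
    · have e1 := hval w a
      have e2 := hval w b
      rw [ea] at e1
      rw [eb] at e2
      rcases hk' with e' | e' <;> rw [e'] at e1 e2 <;>
        simp only [AddSubgroup.coe_neg, Pi.neg_apply, hw, if_true, if_neg hab.symm] at e1 e2 <;>
        by_cases h1 : a ∈ c.1 <;> by_cases h2 : b ∈ c.1 <;> simp [h1, h2] at e1 e2 ⊢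
  have hout : ∀ a : GolayPt, a ≠ none → a ≠ some 0 → τ.1 a = a := by
    intro a ha hav
    obtain ⟨b, b', hb, hb'⟩ : ∃ b b' : GolayPt, (b ≠ a ∧ b ≠ none ∧ b ≠ some 0) ∧
        (b' ≠ a ∧ b' ≠ none ∧ b' ≠ some 0 ∧ b' ≠ b) := by
      revert a; decide +kernel
    rcases (pairEq a b hb.1.symm ha hav hb.2.1 hb.2.2).1 with e | e
    · exact e
    rcases (pairEq a b' hb'.1.symm ha hav hb'.2.1 hb'.2.2.1).1 with e' | e'
    · exact e'
    · exact absurd (e'.symm.trans e) hb'.2.2.2
  have hτ : τ = 1 := by
    obtain ⟨o, ho, hn, h0⟩ : ∃ o ∈ octadList, o.testBit 23 = true ∧ o.testBit 0 = false :=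
      ⟨8394986, by decide +kernel, by decide +kernel, by decide +kernel⟩
    have hO := ptSet_mem_octads ho
    have hN : none ∈ ptSet o := by rw [mem_ptSet]; exact hn
    have hZ : some 0 ∉ ptSet o := by rw [mem_ptSet, show idx (some 0) = 0 from rfl, h0]; simp
    have hfix : τ.1 • ptSet o = ptSet o := by
      refine smul_octad_eq τ.2 hO (F := (ptSet o).erase none) (fun p hp => ?_) ?_
      · rw [Finset.mem_erase] at hp
        exact hout p hp.1 fun e => hZ (e ▸ hp.2)
      · rw [Finset.inter_eq_right.2 (Finset.erase_subset _ _), Finset.card_erase_of_mem hN, hO.2]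
        norm_num
    have hnone : τ.1 none = none := by
      have hm : τ.1 none ∈ ptSet o := hfix ▸ Finset.smul_mem_smul_finset hN
      by_contra e
      by_cases e' : τ.1 none = some 0
      · exact hZ (e' ▸ hm)
      · have := hout _ e e'
        exact e (τ.1.injective this)
    refine Subtype.ext (Equiv.ext fun p => ?_)
    show τ.1 p = p
    by_cases e : p = none
    · rw [e, hnone]
    · by_cases e' : p = some 0
      · subst e'
        by_contra hne
        by_cases e2 : τ.1 (some 0) = none
        · exact absurd (τ.1.injective (e2.trans hnone.symm)) (by simp)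
        · exact hne (τ.1.injective (hout _ e2 hne))
      · exact hout p e e'
  subst hτ
  have hc0 : none ∉ c.1 ∧ some 0 ∉ c.1 := by
    have h3 : monoAut 1 c • repA = repA := hk
    constructor <;> intro hin
    · have := hval repA none
      rw [h3, if_pos (show (1 : M24).1 none ∈ c.1 from hin)] at this
      change repFour none = -repFour none at this
      simp [repFour] at this
    · have := hval repA (some 0)
      rw [h3, if_pos (show (1 : M24).1 (some 0) ∈ c.1 from hin)] at this
      change repFour (some 0) = -repFour (some 0) at this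
      simp [repFour] at this
  have hall : ∀ a b, a ≠ none → a ≠ some 0 → b ≠ none → b ≠ some 0 → (a ∈ c.1 ↔ b ∈ c.1) := by
    intro a b ha ha' hb hb'
    rcases eq_or_ne a b with rfl | hab
    · exact Iff.rfl
    · exact (pairEq a b hab ha ha' hb hb').2 rfl rfl
  have hc : c = noSigns := by
    refine Subtype.ext (Finset.eq_empty_of_forall_notMem fun a ha => ?_)
    have hsub : c.1 = Finset.univ \ {none, some 0} := by
      ext l
      simp only [Finset.mem_sdiff, Finset.mem_univ, true_and, Finset.mem_insert,
        Finset.mem_singleton, not_or]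
      constructor
      · exact fun hl => ⟨fun e => hc0.1 (e ▸ hl), fun e => hc0.2 (e ▸ hl)⟩
      · exact fun hl => (hall a l (fun e => hc0.1 (e ▸ ha)) (fun e => hc0.2 (e ▸ ha)) hl.1 hl.2).1 ha
    have := card_mem_supports c.2
    rw [hsub] at this
    revert this
    decide +kernel
  rw [hc]
  exact map_one permHom

/-- A normal subgroup of the stabiliser of a minimal vector of 2-power order is trivial. -/
lemma fixA_no_two_normal (N : Subgroup fixA) [hN : N.Normal] (h2 : Nat.card N ∣ 2 ^ 11) : N = ⊥ := by
  classical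
  set P : Subgroup fixA := crossStab.subgroupOf fixA with hP
  set A := (N ⊔ P).map fixA.subtype with hA
  have hAle : A ≤ fixA := Subgroup.map_subtype_le _
  have hmonoA : crossStab ⊓ fixA ≤ A := fun g hg =>
    ⟨⟨g, hg.2⟩, Subgroup.mem_sup_right hg.1, rfl⟩
  obtain ⟨hneg, hdiv⟩ := orbit_repW_card A hAle hmonoA
  have hn := card_eq_orbit_mul A repW
  have hstabP : fixA ⊓ MulAction.stabilizer Co0 repW ≤ crossStab := fun g hg =>
    isMono_of_fix hg.1 (Or.inl hg.2)
  -- the monomial part has order prime to 23
  have hPcard : Nat.card P = 908328960 := by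
    rw [hP, ← Subgroup.inf_subgroupOf_right,
      Nat.card_congr (Subgroup.subgroupOfEquivOfLe inf_le_right).toEquiv]
    have h := card_eq_orbit_mul (crossStab ⊓ fixA) repW
    have horb : MulAction.orbit ↥(crossStab ⊓ fixA) repW = {repW, -repW} := by
      ext y
      constructor
      · rintro ⟨⟨g, hg1, hg2⟩, rfl⟩
        exact mono_fixA_repW hg2 (mem_crossStab_iff.1 hg1)
      · rintro (rfl | rfl)
        · exact MulAction.mem_orbit_self _
        · exact (orbit_repW_card (crossStab ⊓ fixA) inf_le_right le_rfl).1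
    have hne : repW ≠ -repW := by
      intro e
      have := congrArg (fun x : leechLattice => x.1 none) e
      simp [repW, pairVec] at this
    have hs : crossStab ⊓ fixA ⊓ MulAction.stabilizer Co0 repW
        = fixA ⊓ MulAction.stabilizer Co0 repW :=
      le_antisymm (fun g hg => ⟨hg.1.2, hg.2⟩) (fun g hg => ⟨⟨hstabP hg, hg.1⟩, hg.2⟩)
    rw [horb, Set.ncard_pair hne, hs] at h
    have h' := card_eq_orbit_mul fixA repW
    rw [orbit_fixA_repW, card_fixA] at h'
    omega
  have horbn : (MulAction.orbit A repW).ncard = 2 := by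
    have hdvd : (MulAction.orbit A repW).ncard ∣ Nat.card A := ⟨_, hn⟩
    have hAcard : Nat.card A ∣ Nat.card N * Nat.card P := by
      rw [hA, Subgroup.card_map_of_injective fixA.subtype_injective]
      have h3 : N.relIndex P ∣ Nat.card P := Subgroup.relIndex_dvd_card N P
      have h4 : N.relIndex (N ⊔ P) = N.relIndex P := Subgroup.relIndex_sup_left P N
      have h5 : Nat.card N * N.relIndex (N ⊔ P) = Nat.card ↥(N ⊔ P) := by
        rw [Subgroup.relIndex, ← Subgroup.card_mul_index (N.subgroupOf (N ⊔ P)),
          Nat.card_congr (Subgroup.subgroupOfEquivOfLe (le_sup_left (a := N) (b := P))).toEquiv]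
      rw [← h5, h4]
      exact Nat.mul_dvd_mul_left _ h3
    have hsmall := (hdvd.trans hAcard).trans (Nat.mul_dvd_mul_right h2 _)
    rw [hPcard] at hsmall
    have hle : (MulAction.orbit A repW).ncard ∣ 93150 → (MulAction.orbit A repW).ncard = 2 :=
      fun hh => (hdiv _ rfl hh).resolve_right fun e => by rw [e] at hsmall; norm_num at hsmall
    refine hle ?_
    have hle2 : Nat.card A ∣ Nat.card fixA := Subgroup.card_dvd_of_le hAle
    have hstabA : A ⊓ MulAction.stabilizer Co0 repW = fixA ⊓ MulAction.stabilizer Co0 repW :=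
      le_antisymm (inf_le_inf_right _ hAle) fun g hg => ⟨hmonoA ⟨hstabP hg, hg.1⟩, hg.2⟩
    have h' := card_eq_orbit_mul fixA repW
    rw [orbit_fixA_repW] at h'
    rw [hn, hstabA, h'] at hle2
    refine Nat.dvd_of_mul_dvd_mul_right ?_ hle2
    exact Nat.pos_of_ne_zero fun e => by rw [e, mul_zero, card_fixA] at h'; omega
  have hpm : ∀ k ∈ N, k.1 • repW = repW ∨ k.1 • repW = -repW := by
    intro k hk
    have hsub : ({repW, -repW} : Set leechLattice) ⊆ MulAction.orbit A repW := by
      rintro y (rfl | rfl)
      · exact MulAction.mem_orbit_self _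
      · exact hneg
    have hne : repW ≠ -repW := by
      intro e
      have := congrArg (fun x : leechLattice => x.1 none) e
      simp [repW, pairVec] at this
    have heq := Set.eq_of_subset_of_ncard_le hsub (by rw [horbn, Set.ncard_pair hne])
      (Set.finite_of_ncard_ne_zero (by omega))
    have : k.1 • repW ∈ MulAction.orbit A repW :=
      ⟨⟨k.1, ⟨k, Subgroup.mem_sup_left hk, rfl⟩⟩, rfl⟩
    rw [← heq] at this
    exact this
  rw [Subgroup.eq_bot_iff_forall]
  intro k hk
  refine Subtype.ext (fixA_core k.2 fun a ha hd => ?_)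
  obtain ⟨g, rfl⟩ := mem_orbit_repW ha hd
  have hc := hN.conj_mem k hk g⁻¹
  rw [inv_inv] at hc
  rcases hpm _ hc with e | e
  · left
    show k.1 • g.1 • repW = g.1 • repW
    change (g.1⁻¹ * k.1 * g.1) • repW = repW at e
    rwa [mul_smul, mul_smul, inv_smul_eq_iff] at e
  · right
    show k.1 • g.1 • repW = -(g.1 • repW)
    change (g.1⁻¹ * k.1 * g.1) • repW = -repW at e
    rwa [mul_smul, mul_smul, inv_smul_eq_iff, co0_smul_neg] at e

lemma repC_facts : sqNorm repC.1 = 32 ∧ (∀ l, l ≠ none → repC.1 l = repC.1 (some 0)) ∧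
    (∀ l, repC.1 l ≠ 0) ∧ repC.1 none = -3 ∧ repC.1 (some 0) = 1 ∧
    (∀ l, repC.1 l = repC.1 (bigRep (bigClass l))) := by
  decide +kernel

lemma isSimple_stab_repC : IsSimpleGroup (MulAction.stabilizer Co0 repC) := by
  obtain ⟨hn, hconst, hne, hv3, hv1, hcls⟩ := repC_facts
  set A := MulAction.stabilizer Co0 repC
  have hcard : Nat.card A = 42305421312000 := card_stab_min hn
  haveI : Fact (Nat.Prime 23) := ⟨by norm_num⟩
  have key := isSimple_of_axis (A := A) isSimpleGroup_oneStab (by
      rintro _ ⟨τ, hτ, rfl⟩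
      exact oneStab_fix hτ hconst)
    sigmaBig_facts.1 sigmaBig_facts.2 (by rw [hcard]; norm_num) (by
      intro g hg hfix
      obtain ⟨hy, hdot, hnorm⟩ := fixed_big hfix
      have hd := co0_dot g repC (axisVec none)
      rw [show g • repC = repC from hg, dot_axis, hv3] at hd
      have hd2 := hdot _ hcls
      rw [hv3, hv1, show dotInt (g • axisVec none).1 repC.1
        = dotInt repC.1 (g • axisVec none).1 from by simp [dotInt, mul_comm], hd] at hd2
      rw [co0_sqNorm, axis_norm] at hnorm
      set a := (g • axisVec none).1 none with ha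
      set b := (g • axisVec none).1 (some 0) with hb
      have hb0 : b = 0 := by
        have h1 : b ≤ 1 := by nlinarith
        have h2 : -1 ≤ b := by nlinarith
        interval_cases b <;> first | rfl | omega | nlinarith
      have ha8 : a = 8 := by omega
      refine Subtype.ext (funext fun l => ?_)
      rw [hy l, axis_val]
      unfold bigClass bigRep
      split_ifs <;> simp [← ha, ← hb, ha8, hb0]) (by
      intro τ c hA hax
      obtain ⟨h1, h2⟩ := mono_eq_perm hax hA hconst hne
      exact ⟨τ, h1, h2.symm⟩)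
    (permAut_axis sigmaBig_facts.1) (m := 4147200) (by rw [hcard, card_oneStab])
  haveI : Finite A := inferInstance
  haveI : Nontrivial A := Finite.one_lt_card_iff_nontrivial.1 (by omega)
  refine ⟨fun N hN => ?_⟩
  rcases key N hN with h | ⟨hd, hq⟩
  · exact Or.inr h
  · left
    have h35 : ∀ q, q.Prime → q ∣ Nat.card N → q = 2 := by
      intro q hqp hqN
      by_contra h2
      have hk0 : q ^ (Nat.card N).factorization q ∣ 3 ^ 4 * 5 ^ 2 := by
        have hcop : Nat.Coprime (q ^ (Nat.card N).factorization q) (2 ^ 11) :=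
          Nat.Coprime.pow _ _ ((Nat.coprime_primes hqp Nat.prime_two).2 h2)
        exact (hcop.dvd_mul_left).1 (((Nat.ordProj_dvd _ q).trans hd).trans (dvd_of_eq (by norm_num)))
      have hk := exponent_check (p := 23) (n := 2025) (a := 0) (b := 4) (c := 2) (by norm_num)
        (by decide) (by decide) (by decide) q _ hqp (hk0.trans (dvd_of_eq (by norm_num))) (hq q hqp)
      have := (hqp.dvd_iff_one_le_factorization Nat.card_pos.ne').1 hqN
      omega
    have h2 : Nat.card N ∣ 2 ^ 11 := by
      have hco : Nat.Coprime (Nat.card N) (3 ^ 4 * 5 ^ 2) := by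
        refine Nat.coprime_of_dvd fun q hqp h1 h2 => ?_
        obtain rfl := h35 q hqp h1
        norm_num at h2
      exact hco.dvd_of_dvd_mul_right (hd.trans (dvd_of_eq (by norm_num)))
    obtain ⟨g, hg⟩ := co0_transitive_min repC repA hn repA_norm
    let e : A ≃* fixA := MulAction.stabilizerEquivStabilizer hg.symm
    haveI := hN.map e.toMonoidHom e.surjective
    have := fixA_no_two_normal (N.map e.toMonoidHom)
      (by rw [Subgroup.card_map_of_injective e.injective]; exact h2)
    exact (Subgroup.map_eq_bot_iff_of_injective N e.injective).1 this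

theorem isCo2_stabilizer {v : leechLattice} (hv : sqNorm v.1 = 32) :
    IsCo2 (MulAction.stabilizer Co0 v) := by
  refine ⟨?_, card_stab_min hv⟩
  obtain ⟨g, hg⟩ := co0_transitive_min v repC hv repC_facts.1
  haveI := isSimple_stab_repC
  exact (MulAction.stabilizerEquivStabilizer hg.symm).isSimpleGroup

end Cfsg.Agent.Golay
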