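import Cfsg.Agent.Golay.CoTwoPerms
import Cfsg.Agent.Golay.CoTwoWords
import Cfsg.Agent.Golay.ConwaySimple
import Cfsg.Agent.Golay.LeechStructure
import Cfsg.Agent.H92.LeechFrames
import Cfsg.Agent.H44.M22Index
import Cfsg.Prelude.Def_KGroupFacts

/-!
Every automorphism of the stabiliser of a minimal vector is inner: two normalisers of cyclic Sylow
subgroups generate the group and one relation fixes the remaining parameter.
-/

set_option autoImplicit false

namespace Cfsg.Agent.Golay.CoTwo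

open Cfsg H92.LeechOrbit MulAction H44
open scoped Pointwise

/-! ### Words -/

lemma wordEl_append : ∀ a b : List Atom, wordEl (a ++ b) = wordEl b * wordEl a
  | [], b => by simp [wordEl]
  | x :: a, b => by
    simp only [List.cons_append, wordEl]
    rw [wordEl_append a b, mul_assoc]

/-- An automorphism fixing the generators is trivial. -/
lemma eq_one_of_gens {g : Co0}
    (h : ∀ n ∈ genCodes, ∀ v : leechLattice, v.1 = dec n → g • v = v) : g = 1 := by
  let K : AddSubgroup (GolayPt → ℤ) :=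
    { carrier := {x | ∃ hx : x ∈ leechLattice, g • (⟨x, hx⟩ : leechLattice) = ⟨x, hx⟩}
      zero_mem' := ⟨zero_mem _, co0_smul_zero g⟩
      add_mem' := by
        rintro x y ⟨hx, ex⟩ ⟨hy, ey⟩
        refine ⟨add_mem hx hy, ?_⟩
        show g • ((⟨x, hx⟩ : leechLattice) + ⟨y, hy⟩) = _
        rw [co0_smul_add, ex, ey]
        rfl
      neg_mem' := by
        rintro x ⟨hx, ex⟩
        refine ⟨neg_mem hx, ?_⟩
        show g • (-(⟨x, hx⟩ : leechLattice)) = _
        rw [co0_smul_neg, ex]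
        rfl }
  have hK : ∀ k < 37, dec (genCodes.getD k 0) ∈ K := by
    intro k hk
    have hL : ∀ k < 37, inLeech (dec (genCodes.getD k 0)) = true := by decide +kernel
    refine ⟨mem_of_inLeech (hL k hk), h _ ?_ _ rfl⟩
    have hlen : genCodes.length = 37 := by decide +kernel
    rw [List.getD_eq_getElem _ _ (by omega)]
    exact List.getElem_mem _
  have hle : leechLattice ≤ K := by
    refine leech_le_of_gens K ?_ ?_ ?_ ?_
    · convert hK 0 (by norm_num) using 1
      decide +kernel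
    · intro b hb
      obtain ⟨j, hj, rfl⟩ := List.getElem_of_mem hb
      have hj' : j < 12 := hj
      convert hK (1 + j) (by omega) using 1
      have key : ∀ j < 12, ∀ p : GolayPt, (if (basisList.getD j 0).testBit (idx p) then (2 : ℤ) else 0)
          = dec (genCodes.getD (1 + j) 0) p := by decide +kernel
      funext p
      rw [← key j hj' p, List.getD_eq_getElem _ _ hj]
    · intro l hl
      obtain ⟨j, hj, rfl⟩ : ∃ j, j < 23 ∧ l = pt j := by
        refine ⟨idx l, ?_, (pt_idx l).symm⟩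
        have := idx_lt l
        have : idx l ≠ 23 := fun e => hl (by rw [← pt_idx l, e]; rfl)
        omega
      convert hK (13 + j) (by omega) using 1
      have key : ∀ j < 23, ∀ p : GolayPt,
          (4 : ℤ) * ((if p = pt j then 1 else 0) - if p = none then 1 else 0)
            = dec (genCodes.getD (13 + j) 0) p := by decide +kernel
      funext p
      rw [← key j hj p]
      simp [Pi.single_apply]
    · have h1 : dec (genCodes.getD 36 0) + -dec (genCodes.getD 13 0) ∈ K :=
        add_mem (hK 36 (by norm_num)) (neg_mem (hK 13 (by norm_num)))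
      convert h1 using 1
      decide +kernel
  refine Subtype.ext (Equiv.ext fun v => ?_)
  obtain ⟨hx, e⟩ := hle v.2
  exact e

lemma eq_one_of_word {w : List Atom} (hok : w.all atomOK = true)
    (h : (genCodes.all fun n => chk w n n) = true) : wordEl w = 1 :=
  eq_one_of_gens fun n hn v hv => Subtype.ext
    ((chk_sound hok (List.all_eq_true.1 h n hn) hv).trans hv.symm)

lemma wordEl_mono {T : ℕ} (h : inM24 T = true) (ok : atomOK (.mono 0 0 T) = true) :
    atomEl (.mono 0 0 T) = permAut ⟨mkPerm T, mem_M24_of_inM24 h⟩ := by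
  simp only [atomOK, Bool.and_eq_true, decide_eq_true_eq] at ok
  simp only [atomEl]
  rw [dif_pos ⟨ok.1.1.1, ok.1.1.2, ok.1.2⟩]
  convert one_mul _
  refine Subtype.ext (Equiv.ext fun v => Subtype.ext (funext fun i => ?_))
  rw [show ((1 : Co0) : Equiv.Perm leechLattice) v = v from rfl]
  refine (signAut_apply _ v i).trans ?_
  simp

/-! ### The group and its elements -/

/-- The minimal vector. -/
def base : leechLattice := ⟨oddMin, oddMin_mem.1⟩

lemma base_facts : sqNorm base.1 = 32 ∧ (∀ l, l ≠ none → base.1 l = base.1 (some 0)) ∧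
    (∀ l, base.1 l ≠ 0) ∧ base.1 none = -3 ∧ base.1 (some 0) = 1 ∧
    (∀ l, base.1 l = base.1 (bigRep (bigClass l))) ∧
    (∀ l, base.1 l = base.1 (smallRep (smallClass l))) ∧ base.1 (some 1) = 1 ∧ base.1 (some 5) = 1 := by
  decide +kernel

/-- The stabiliser of the vector. -/
abbrev co2Stab : Subgroup Co0 := stabilizer Co0 base

lemma tables_ok : inM24 deltaTbl = true ∧ inM24 cTbl = true ∧
    app deltaTbl 23 = 23 ∧ app cTbl 23 = 23 ∧
    atomOK (.mono 0 0 deltaTbl) = true ∧ atomOK (.mono 0 0 cTbl) = true ∧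
    atomOK (.mono 0 0 doubleTbl) = true ∧ inM24 doubleTbl = true ∧
    (∀ p : GolayPt, tblFun doubleTbl p = sigmaSmall.1 p) := by
  decide +kernel

/-- The permutation of order 5. -/
noncomputable def deltaPerm : M24 := ⟨mkPerm deltaTbl, mem_M24_of_inM24 tables_ok.1⟩

/-- The permutation of order 4. -/
noncomputable def cPerm : M24 := ⟨mkPerm cTbl, mem_M24_of_inM24 tables_ok.2.1⟩

lemma perm_apply {T : ℕ} (h : inM24 T = true) (p : GolayPt) :
    (⟨mkPerm T, mem_M24_of_inM24 h⟩ : M24).1 p = tblFun T p :=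
  mkPerm_apply (validT_of_inM24 h) p

lemma oneStab_mem {τ : M24} (h : τ.1 none = none) : permAut τ ∈ co2Stab :=
  oneStab_fix (show τ ∈ oneStab from h) base_facts.2.1

lemma delta_none : deltaPerm.1 none = none ∧ cPerm.1 none = none := by
  constructor
  · rw [deltaPerm, perm_apply tables_ok.1]; show pt (app deltaTbl 23) = none
    rw [tables_ok.2.2.1]; rfl
  · rw [cPerm, perm_apply tables_ok.2.1]; show pt (app cTbl 23) = none
    rw [tables_ok.2.2.2.1]; rfl

/-- The permutations fixing the extra point, inside the group. -/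
noncomputable def oneHom : oneStab →* co2Stab :=
  (permHom.comp oneStab.subtype).codRestrict co2Stab fun τ => oneStab_mem τ.2

lemma oneHom_injective : Function.Injective oneHom := fun _ _ h =>
  Subtype.ext (permHom_injective (congrArg Subtype.val h))

/-- The element of order 23. -/
noncomputable def eS : co2Stab := oneHom ⟨sigmaBig, sigmaBig_facts.1⟩

/-- The element of order 11. -/
noncomputable def eT : co2Stab := oneHom ⟨sigmaSmall, sigmaSmall_facts.1.1⟩

/-- The element of order 5. -/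
noncomputable def eD : co2Stab := oneHom ⟨deltaPerm, delta_none.1⟩

/-- The element of order 4. -/
noncomputable def eC : co2Stab := oneHom ⟨cPerm, delta_none.2⟩

lemma zWord_mem : wordEl zWord ∈ co2Stab := by
  refine Subtype.ext ?_
  show (wordEl zWord • base : leechLattice).1 = base.1
  have e : base.1 = dec (genCodes.getD 0 0) := words_ok.2.2.2.2.2.2.2.2.1.symm
  have h := words_ok.1
  simp only [List.all_cons, List.all_nil, Bool.and_true] at h
  exact (chk_sound zWord_ok h e).trans e.symm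

/-- The involution. -/
noncomputable def eZ : co2Stab := ⟨wordEl zWord, zWord_mem⟩

lemma wordEl_single {T : ℕ} (h : inM24 T = true) (ok : atomOK (.mono 0 0 T) = true) :
    wordEl [.mono 0 0 T] = permAut ⟨mkPerm T, mem_M24_of_inM24 h⟩ := by
  rw [wordEl, wordEl, one_mul, wordEl_mono h ok]

lemma word_elts : wordEl wT = (eT : Co0) ∧ wordEl wD = (eD : Co0) ∧ wordEl wC = (eC : Co0) := by
  refine ⟨?_, wordEl_single tables_ok.1 tables_ok.2.2.2.2.1,
    wordEl_single tables_ok.2.1 tables_ok.2.2.2.2.2.1⟩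
  rw [wT, wordEl_single tables_ok.2.2.2.2.2.2.2.1 tables_ok.2.2.2.2.2.2.1]
  show permAut _ = permAut sigmaSmall
  refine congrArg _ (Subtype.ext (Equiv.ext fun p => ?_))
  rw [perm_apply tables_ok.2.2.2.2.2.2.2.1]
  exact tables_ok.2.2.2.2.2.2.2.2 p

lemma all_ok : (wT.all atomOK = true) ∧ (wD.all atomOK = true) ∧ (wC.all atomOK = true) := by
  refine ⟨?_, ?_, ?_⟩ <;>
    simp [wT, wD, wC, tables_ok.2.2.2.2.1, tables_ok.2.2.2.2.2.1, tables_ok.2.2.2.2.2.2.1]

lemma wFour_ok : wFour.all atomOK = true ∧ wordEl wFour = (((eZ * eC) ^ 4 : co2Stab) : Co0) := by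
  refine ⟨by simp [wFour, wB, List.all_append, zWord_ok, all_ok.2.2], ?_⟩
  simp only [wFour, wB, wordEl_append, word_elts.2.2, pow_succ, pow_zero, one_mul,
    Subgroup.coe_mul, eZ, mul_assoc]

lemma z_facts : eZ * eZ = 1 ∧ eZ * eT * eZ * eT = 1 ∧ eD ^ 4 * eZ * eD * eZ = 1 ∧
    ((eZ * eC) ^ 4) ^ 5 = 1 := by
  obtain ⟨-, h2, h3, h4, h5, -⟩ := words_ok
  obtain ⟨t, d, c⟩ := word_elts
  refine ⟨Subtype.ext ?_, Subtype.ext ?_, Subtype.ext ?_, Subtype.ext ?_⟩
  · have := eq_one_of_word (by simp [List.all_append, zWord_ok]) h2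
    rw [wordEl_append] at this
    exact this
  · have := eq_one_of_word (by simp [List.all_append, zWord_ok, all_ok.1]) h3
    simp only [wordEl_append, t] at this
    simpa [eZ, mul_assoc] using this
  · have := eq_one_of_word (by simp [List.all_append, zWord_ok, all_ok.2.1]) h4
    simp only [wordEl_append, d] at this
    simpa [eZ, mul_assoc, pow_succ] using this
  · have := eq_one_of_word (w := wFour ++ wFour ++ wFour ++ wFour ++ wFour)
      (by simp [List.all_append, wFour_ok.1]) h5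
    simp only [wordEl_append, wFour_ok.2] at this
    simpa [mul_assoc, pow_succ] using this

/-- The two points of the relation. -/
def shiftDelta (k : ℕ) (p : GolayPt) : GolayPt := (tblFun deltaTbl p).map (· + (k : ZMod 23))

lemma perm_facts :
    (∀ p : GolayPt, tblFun deltaTbl (sigmaSmall.1 p) =
      sigmaSmall.1 (sigmaSmall.1 (sigmaSmall.1 (tblFun deltaTbl p)))) ∧
    (∀ p : GolayPt, tblFun cTbl (tblFun deltaTbl p) =
      tblFun deltaTbl (tblFun deltaTbl (tblFun deltaTbl (tblFun cTbl p)))) ∧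
    (∀ p : GolayPt, (tblFun deltaTbl)^[5] p = p) ∧
    (∀ p : GolayPt, sigmaSmall.1 (sigmaBig.1 p) = sigmaBig.1 (sigmaBig.1 (sigmaSmall.1 p))) ∧
    (∀ p : GolayPt, (shiftDelta 20)^[5] p = p) ∧
    (∀ k < 23, (∀ p : GolayPt, (shiftDelta (20 * k))^[5] p = p) → k = 0 ∨ k = 1) ∧
    (∀ p : GolayPt, tblFun cTbl p = sigmaBig.1 (tblFun deltaTbl (sigmaSmall.1 (sigmaBig.1
      (tblFun deltaTbl (sigmaBig.1 (sigmaSmall.1 (tblFun deltaTbl (sigmaSmall.1 (sigmaBig.1
        (sigmaSmall.1 (tblFun deltaTbl (sigmaBig.1 (sigmaSmall.1 p)))))))))))))) ∧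
    tblFun deltaTbl (some 1) ≠ some 1 := by
  decide +kernel

lemma oneHom_ext {a b : oneStab} (h : ∀ p, a.1.1 p = b.1.1 p) : oneHom a = oneHom b :=
  congrArg oneHom (Subtype.ext (Subtype.ext (Equiv.ext h)))

lemma delta_apply (p : GolayPt) : deltaPerm.1 p = tblFun deltaTbl p := perm_apply tables_ok.1 p

lemma c_apply (p : GolayPt) : cPerm.1 p = tblFun cTbl p := perm_apply tables_ok.2.1 p

lemma perm_rels : eD * eT = eT ^ 3 * eD ∧ eC * eD = eD ^ 3 * eC ∧ eD ^ 5 = 1 ∧
    eT * eS = eS ^ 2 * eT ∧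
    eC = eS * eD * eT * eS * eD * eS * eT * eD * eT * eS * eT * eD * eS * eT := by
  obtain ⟨h1, h2, h3, h4, -, -, h7, -⟩ := perm_facts
  simp only [eS, eT, eD, eC, ← map_pow, ← map_mul]
  refine ⟨oneHom_ext fun p => ?_, oneHom_ext fun p => ?_, ?_, oneHom_ext fun p => ?_,
    oneHom_ext fun p => ?_⟩
  · simp [pow_succ, delta_apply, h1]
  · simp [pow_succ, delta_apply, c_apply, h2]
  · rw [← map_one oneHom]
    refine oneHom_ext fun p => ?_
    have e := h3 p
    simp only [Function.iterate_succ, Function.iterate_zero, Function.comp_apply, id_eq] at e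
    simp [pow_succ, delta_apply, e]
  · simp [pow_succ, h4]
  · simp [delta_apply, c_apply, h7]

lemma relation_apply (k : ℕ) (p : GolayPt) :
    ((sigmaBig ^ (20 * k) * deltaPerm : M24).1) p = shiftDelta (20 * k) p := by
  simp only [Subgroup.coe_mul, SubgroupClass.coe_pow, Equiv.Perm.mul_apply, delta_apply, shiftDelta]
  rcases tblFun deltaTbl p with _ | x
  · rw [pow_fix_none sigmaBig_apply.2]; rfl
  · rw [big_pow_apply]; rfl

lemma relation {k : ℕ} (hk : k < 23) : (eS ^ (20 * k) * eD) ^ 5 = 1 ↔ k = 0 ∨ k = 1 := by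
  have hiter : ∀ (p : GolayPt) (n : ℕ), (((sigmaBig ^ (20 * k) * deltaPerm) ^ n : M24).1) p
      = (shiftDelta (20 * k))^[n] p := by
    intro p n
    induction n with
    | zero => simp
    | succ n ih =>
      rw [pow_succ', Subgroup.coe_mul, Equiv.Perm.mul_apply, ih, Function.iterate_succ_apply',
        relation_apply]
  constructor
  · intro h
    refine perm_facts.2.2.2.2.2.1 k hk fun p => ?_
    simp only [eS, eD, ← map_pow, ← map_mul, ← map_one oneHom] at h
    have h' := congrArg (fun a : oneStab => a.1.1 p) (oneHom_injective h)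
    rw [← hiter p 5]
    simpa using h'
  · intro h
    simp only [eS, eD, ← map_pow, ← map_mul, ← map_one oneHom]
    refine oneHom_ext fun p => ?_
    refine Eq.trans ?_ ((hiter p 5).trans ?_)
    · rfl
    rcases h with rfl | rfl
    · exact perm_facts.2.2.1 p |> fun e => by simpa [shiftDelta, Option.map_id'] using e
    · rw [mul_one]; exact perm_facts.2.2.2.2.1 p

lemma orders : orderOf eS = 23 ∧ orderOf eT = 11 ∧ orderOf eD = 5 ∧ orderOf eZ ∣ 2 := by
  refine ⟨?_, ?_, ?_, ?_⟩
  · rw [eS, orderOf_injective _ oneHom_injective, ← Subgroup.orderOf_coe]; exact sigmaBig_facts.2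
  · rw [eT, orderOf_injective _ oneHom_injective, ← Subgroup.orderOf_coe]; exact sigmaSmall_facts.2
  · haveI : Fact (Nat.Prime 5) := ⟨by norm_num⟩
    refine orderOf_eq_prime perm_rels.2.2.1 fun h => perm_facts.2.2.2.2.2.2.2 ?_
    rw [eD, ← map_one oneHom] at h
    have := congrArg (fun a : oneStab => a.1.1 (some 1)) (oneHom_injective h)
    simpa [delta_apply] using this
  · exact orderOf_dvd_of_pow_eq_one (by rw [pow_two]; exact z_facts.1)

lemma eT_pow : eT ^ 11 = 1 := orders.2.1 ▸ pow_orderOf_eq_one eT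

lemma eT_inv : eT⁻¹ = eT ^ 10 :=
  inv_eq_of_mul_eq_one_right (by rw [← pow_succ']; exact eT_pow)

/-- A vector fixed by the doubling that is not in the lattice. -/
lemma extra_not_mem {y : leechLattice} (hy : ∀ l, y.1 l = y.1 (smallRep (smallClass l)))
    (h : y.1 none = 2 ∧ y.1 (some 0) = 4 ∧ y.1 (some 1) = -2 ∧ y.1 (some 5) = 0) : False := by
  have hmem : inLeech (dec (genCodes.getD 1 0)) = true := by decide +kernel
  have h8 := dot_emod_eight y.2 (mem_of_inLeech hmem)
  have e : y.1 = fun l => (![2, 4, -2, 0] : Fin 4 → ℤ) (smallClass l) := by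
    funext l
    rw [hy l]
    obtain ⟨h1, h2, h3, h4⟩ := h
    unfold smallClass smallRep
    split_ifs <;> simp [h1, h2, h3, h4]
  rw [e] at h8
  revert h8
  decide +kernel

/-! ### Centralisers -/

lemma fix_axis_of_comm {A : Subgroup Co0} {g s : A} (hc : g * s = s * g)
    (hs : (s : Co0) • axisVec none = axisVec none) :
    (s : Co0) • ((g : Co0) • axisVec none) = (g : Co0) • axisVec none := by
  rw [← mul_smul, ← Subgroup.coe_mul, ← hc, Subgroup.coe_mul, mul_smul, hs]

lemma exists_perm {g : co2Stab} (h : (g : Co0) • axisVec none = axisVec none) :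
    ∃ a : oneStab, oneHom a = g := by
  obtain ⟨τ, c, he⟩ := stdCross_stabiliser_eq_monomial (g : Co0) (by
    intro v hv
    have : (g : Co0) ∈ crossStab := by
      show (g : Co0) • stdSet = stdSet
      rw [← crossSet_axis none, smul_crossSet, h]
    have hv' : (g : Co0) • v ∈ (g : Co0) • stdSet := Set.smul_mem_smul_set hv
    rw [show (g : Co0) • stdSet = stdSet from this] at hv'
    exact hv')
  have hax : monoAut τ c • axisVec none = axisVec none := he ▸ h
  have hb : monoAut τ c • base = base := he ▸ g.2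
  obtain ⟨h1, h2⟩ := mono_eq_perm hax hb base_facts.2.1 base_facts.2.2.1
  exact ⟨⟨τ, h1⟩, Subtype.ext (h2.symm.trans he.symm)⟩

lemma eS_axis : (eS : Co0) • axisVec none = axisVec none ∧
    (eT : Co0) • axisVec none = axisVec none :=
  ⟨permAut_axis sigmaBig_facts.1, permAut_axis sigmaSmall_facts.1.1⟩

theorem centraliser_eS {g : co2Stab} (hc : g * eS = eS * g) : g ∈ Subgroup.zpowers eS := by
  have hfix := fix_axis_of_comm hc eS_axis.1
  obtain ⟨hy, hdot, hnorm⟩ := fixed_big hfix
  obtain ⟨-, -, -, hb3, hb1, hcls, -, -, -⟩ := base_facts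
  have hd := co0_dot (g : Co0) base (axisVec none)
  rw [show (g : Co0) • base = base from g.2, dot_axis, hb3] at hd
  have hd2 := hdot _ hcls
  rw [hb3, hb1, dotInt_comm', hd] at hd2
  rw [co0_sqNorm, axis_norm] at hnorm
  set a := ((g : Co0) • axisVec none).1 none with ha
  set b := ((g : Co0) • axisVec none).1 (some 0) with hb
  have hb0 : b = 0 := by
    have h1 : b ≤ 1 := by nlinarith
    have h2 : -1 ≤ b := by nlinarith
    interval_cases b <;> first | rfl | omega
  have ha8 : a = 8 := by omega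
  obtain ⟨x, rfl⟩ := exists_perm (g := g) (by
    refine Subtype.ext (funext fun l => ?_)
    rw [hy l, axis_val]
    unfold bigClass bigRep
    split_ifs <;> simp [← ha, ← hb, ha8, hb0])
  rw [eS, ← map_mul, ← map_mul] at hc
  have hx := centraliser_big x.2 (congrArg Subtype.val (oneHom_injective hc))
  obtain ⟨k, hk⟩ := Subgroup.mem_zpowers_iff.1 hx
  refine Subgroup.mem_zpowers_iff.2 ⟨k, ?_⟩
  rw [eS, ← map_zpow]
  exact congrArg oneHom (Subtype.ext (by rw [SubgroupClass.coe_zpow]; exact hk))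

lemma z_axis : ∀ y : leechLattice, y = wordEl zWord • axisVec none →
    y.1 none = 2 ∧ y.1 (some 0) = 4 ∧ y.1 (some 1) = 0 ∧ y.1 (some 5) = -2 := by
  intro y hy
  have hzz := congrArg Subtype.val z_facts.1
  have h36 : inLeech (dec (genCodes.getD 36 0)) = true := words_ok.2.2.2.2.2.2.2.2.2
  have hsum : axisVec none = (⟨dec (genCodes.getD 36 0), mem_of_inLeech h36⟩ : leechLattice)
      + -(⟨dec (genCodes.getD 13 0), mem_of_inLeech (by decide +kernel)⟩ : leechLattice) := by
    refine Subtype.ext ?_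
    show (axisVec none).1 = dec _ + -dec _
    decide +kernel
  rw [hy, hsum, co0_smul_add, co0_smul_neg]
  obtain ⟨m, m', e, e', f⟩ : ∃ m m', chk zWord (genCodes.getD 36 0) m = true ∧
      chk zWord (genCodes.getD 13 0) m' = true ∧
      (dec m none - dec m' none = 2 ∧ dec m (some 0) - dec m' (some 0) = 4 ∧
        dec m (some 1) - dec m' (some 1) = 0 ∧ dec m (some 5) - dec m' (some 5) = -2) :=
    ⟨sumImage, diffImage, by decide +kernel⟩
  simp only [AddSubgroup.coe_add, AddSubgroup.coe_neg, Pi.add_apply, Pi.neg_apply,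
    chk_sound zWord_ok e (v := ⟨dec (genCodes.getD 36 0), mem_of_inLeech h36⟩) rfl,
    chk_sound zWord_ok e' (v := ⟨dec (genCodes.getD 13 0), _⟩) rfl]
  omega

/-- The equations and congruences on a fixed vector single out three solutions. -/
def solOK (a b c d : ℤ) : Bool :=
  !(decide (8 * -3 = a * -3 + b * 1 + 11 * (c * 1) + 11 * (d * 1))
      && decide (64 = a ^ 2 + b ^ 2 + 11 * c ^ 2 + 11 * d ^ 2)
      && decide ((a + b + 11 * c + 11 * d) % 8 = 4 * a % 8) && decide (b % 2 = a % 2))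
    || (decide (a = 8) && decide (b = 0) && decide (c = 0) && decide (d = 0))
    || (decide (a = 2) && decide (b = 4) && decide (c = 0) && decide (d = -2))
    || (decide (a = 2) && decide (b = 4) && decide (c = -2) && decide (d = 0))

lemma solOK_all : ∀ A < 17, ∀ B < 17, ∀ C < 5, ∀ D < 5,
    solOK ((A : ℕ) - (8 : ℤ)) ((B : ℕ) - (8 : ℤ)) ((C : ℕ) - (2 : ℤ)) ((D : ℕ) - (2 : ℤ)) = true := by
  decide +kernel

lemma small_solutions (A : ℕ) (hA : A < 17) (B : ℕ) (hB : B < 17) (C : ℕ) (hC : C < 5) (D : ℕ)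
    (hD : D < 5) {a b c d : ℤ} (ha : a = (A : ℕ) - (8 : ℤ)) (hb : b = (B : ℕ) - (8 : ℤ))
    (hc : c = (C : ℕ) - (2 : ℤ)) (hd : d = (D : ℕ) - (2 : ℤ))
    (e1 : 8 * -3 = a * -3 + b * 1 + 11 * (c * 1) + 11 * (d * 1))
    (e2 : 64 = a ^ 2 + b ^ 2 + 11 * c ^ 2 + 11 * d ^ 2)
    (e3 : (a + b + 11 * c + 11 * d) % 8 = 4 * a % 8) (e4 : b % 2 = a % 2) :
    (a = 8 ∧ b = 0 ∧ c = 0 ∧ d = 0) ∨ (a = 2 ∧ b = 4 ∧ c = 0 ∧ d = -2) ∨
      (a = 2 ∧ b = 4 ∧ c = -2 ∧ d = 0) := by
  have h := solOK_all A hA B hB C hC D hD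
  rw [← ha, ← hb, ← hc, ← hd] at h
  simp only [solOK, decide_eq_true e1, decide_eq_true e2, decide_eq_true e3, decide_eq_true e4,
    Bool.and_self, Bool.not_true, Bool.false_or, Bool.or_eq_true, Bool.and_eq_true,
    decide_eq_true_eq] at h
  tauto

theorem centraliser_eT {g : co2Stab} (hc : g * eT = eT * g) : g ∈ Subgroup.zpowers eT := by
  have hfix := fix_axis_of_comm hc eS_axis.2
  obtain ⟨hy, hdot, hnorm⟩ := fixed_small hfix
  obtain ⟨-, -, -, hb3, hb0, -, hcls, hb1, hb5⟩ := base_facts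
  have hd := co0_dot (g : Co0) base (axisVec none)
  rw [show (g : Co0) • base = base from g.2, dot_axis, hb3] at hd
  have hd2 := hdot _ hcls
  rw [hb3, hb0, hb1, hb5, dotInt_comm', hd] at hd2
  rw [co0_sqNorm, axis_norm] at hnorm
  have hpar : ∀ l, ((g : Co0) • axisVec none).1 l % 2 = ((g : Co0) • axisVec none).1 none % 2 := by
    obtain ⟨m, h1, -, -⟩ := mem_leech_iff.1 ((g : Co0) • axisVec none).2
    intro l; rw [h1 l, h1 none]
  have hsum : (∑ l, ((g : Co0) • axisVec none).1 l) % 8 =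
      4 * ((g : Co0) • axisVec none).1 none % 8 := by
    obtain ⟨m, h1, h2, -⟩ := mem_leech_iff.1 ((g : Co0) • axisVec none).2
    have := h1 none
    omega
  rw [Finset.sum_congr rfl (g := fun l => (fun i => ((g : Co0) • axisVec none).1 (smallRep i))
    (smallClass l)) (fun l _ => hy l),
    sum_by_class smallClass ![1, 1, 11, 11] class_facts.2.2.2
      (fun i => ((g : Co0) • axisVec none).1 (smallRep i))] at hsum
  simp only [Fin.sum_univ_four, smallRep] at hsum
  set a := ((g : Co0) • axisVec none).1 none with ha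
  set b := ((g : Co0) • axisVec none).1 (some 0) with hb
  set c := ((g : Co0) • axisVec none).1 (some 1) with hc'
  set d := ((g : Co0) • axisVec none).1 (some 5) with hd4
  have p1 := hpar (some 0)
  have p2 := hpar (some 1)
  have p3 := hpar (some 5)
  obtain ⟨h1, h2, h3, h4⟩ | ⟨h1, h2, h3, h4⟩ | h5 : (a = 8 ∧ b = 0 ∧ c = 0 ∧ d = 0) ∨
      (a = 2 ∧ b = 4 ∧ c = 0 ∧ d = -2) ∨ (a = 2 ∧ b = 4 ∧ c = -2 ∧ d = 0) := by
    have hs2 : (a + b + 11 * c + 11 * d) % 8 = 4 * a % 8 := by simpa using hsum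
    obtain ⟨A, hA, B, hB, C, hC, D, hD, rA, rB, rC, rD⟩ : ∃ A < 17, ∃ B < 17, ∃ C < 5, ∃ D < 5,
        a = (A : ℕ) - (8 : ℤ) ∧ b = (B : ℕ) - (8 : ℤ) ∧ c = (C : ℕ) - (2 : ℤ) ∧
          d = (D : ℕ) - (2 : ℤ) := by
      have h1 : c ≤ 2 := by nlinarith
      have h2 : -2 ≤ c := by nlinarith
      have h3 : d ≤ 2 := by nlinarith
      have h4 : -2 ≤ d := by nlinarith
      have h5 : a ≤ 8 := by nlinarith
      have h6 : -8 ≤ a := by nlinarith
      have h7 : b ≤ 8 := by nlinarith
      have h8 : -8 ≤ b := by nlinarith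
      exact ⟨(a + 8).toNat, by omega, (b + 8).toNat, by omega, (c + 2).toNat, by omega,
        (d + 2).toNat, by omega, by omega, by omega, by omega, by omega⟩
    exact small_solutions A hA B hB C hC D hD rA rB rC rD hd2 hnorm hs2 p1
  · obtain ⟨x, rfl⟩ := exists_perm (g := g) (small_axis hy h1 h2 h3 h4)
    rw [eT, ← map_mul, ← map_mul] at hc
    obtain ⟨k, hk⟩ := Subgroup.mem_zpowers_iff.1
      (centraliser_small x.2 (congrArg Subtype.val (oneHom_injective hc)))
    refine Subgroup.mem_zpowers_iff.2 ⟨k, ?_⟩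
    rw [eT, ← map_zpow]
    exact congrArg oneHom (Subtype.ext (by rw [SubgroupClass.coe_zpow]; exact hk))
  · exfalso
    have hz := z_axis _ rfl
    have hzfix : (eT : Co0) • (wordEl zWord • axisVec none) = wordEl zWord • axisVec none := by
      have e : eT * eZ = eZ * eT⁻¹ := by
        have h := z_facts.2.1
        have hz' : eZ⁻¹ = eZ := inv_eq_of_mul_eq_one_right z_facts.1
        calc eT * eZ = eZ⁻¹ * (eZ * eT * eZ * eT) * eT⁻¹ := by group
          _ = eZ * eT⁻¹ := by rw [h, mul_one, hz']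
      show ((eT : Co0)) • ((eZ : Co0) • axisVec none) = (eZ : Co0) • axisVec none
      rw [← mul_smul, ← Subgroup.coe_mul, e, Subgroup.coe_mul, mul_smul, Subgroup.coe_inv,
        inv_smul_eq_iff.2 eS_axis.2.symm]
    have hy' := (fixed_small hzfix).1
    have heq : (g : Co0) • axisVec none = wordEl zWord • axisVec none := by
      refine Subtype.ext (funext fun l => ?_)
      rw [hy l, hy' l]
      unfold smallClass smallRep
      split_ifs <;> simp [← ha, ← hb, ← hc', ← hd4, h1, h2, h3, h4, hz.1, hz.2.1, hz.2.2.1, hz.2.2.2]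
    obtain ⟨x, hx⟩ := exists_perm (g := eZ⁻¹ * g) (by
      rw [Subgroup.coe_mul, mul_smul, Subgroup.coe_inv, inv_smul_eq_iff]
      exact heq)
    have key : oneHom x * eT = eT⁻¹ * oneHom x := by
      rw [hx]
      have h := z_facts.2.1
      have hz' : eZ⁻¹ = eZ := inv_eq_of_mul_eq_one_right z_facts.1
      calc eZ⁻¹ * g * eT = eZ⁻¹ * (g * eT) := mul_assoc _ _ _
        _ = eZ⁻¹ * eT * g := by rw [hc, mul_assoc]
        _ = eT⁻¹ * (eT * eZ⁻¹ * eT * eZ⁻¹) * (eZ * g) := by group
        _ = eT⁻¹ * 1 * (eZ * g) := by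
          rw [hz', show eT * eZ * eT * eZ = eZ⁻¹ * (eZ * eT * eZ * eT) * eZ by group, h, mul_one,
            inv_mul_cancel]
        _ = eT⁻¹ * (eZ⁻¹ * g) := by rw [mul_one, hz']
    rw [eT_inv] at key
    simp only [eT, ← map_pow, ← map_mul] at key
    have := congrArg Subtype.val (oneHom_injective key)
    simp only [Subgroup.coe_mul, SubgroupClass.coe_pow] at this
    exact not_inverted x.2 this
  · exact (extra_not_mem hy h5).elim

/-! ### Generation -/

lemma index_candidates : ∀ a ≤ 18, ∀ b ≤ 6, ∀ c ≤ 1, ∀ d ≤ 1,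
    2 ^ a * 3 ^ b * 5 ^ c * 7 ^ d % 253 = 1 → 2 ^ a * 3 ^ b * 5 ^ c * 7 ^ d = 1 := by
  decide +kernel

lemma card_norm_options : (∀ a ∈ [253, 506], a ∣ 42305421312000 →
      42305421312000 / a % 23 = 1 → a = 253) := by
  decide +kernel

lemma card_co2Stab : Nat.card co2Stab = 42305421312000 := card_stab_min base_facts.1

instance : Finite co2Stab := (Nat.card_pos_iff.1 (by rw [card_co2Stab]; norm_num)).2

/-- The group is generated by the four elements. -/
theorem eq_top_of_mem (E : Subgroup co2Stab) (hS : eS ∈ E) (hT : eT ∈ E) (hD : eD ∈ E)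
    (hZ : eZ ∈ E) : E = ⊤ := by
  obtain ⟨oS, oT, oD, oZ⟩ := orders
  haveI : Fact (Nat.Prime 23) := ⟨by norm_num⟩
  haveI : Fact (Nat.Prime 11) := ⟨by norm_num⟩
  have hG : Nat.card (⊤ : Subgroup co2Stab) = 42305421312000 := by
    rw [Subgroup.card_top, card_co2Stab]
  -- normalisers
  have hmemN : ∀ {x y : co2Stab} (n : ℕ), y * x = x ^ n * y →
      y ∈ Subgroup.normalizer ((Subgroup.zpowers x : Subgroup co2Stab) : Set co2Stab) :=
    fun n h => mem_normalizer_of_conj ⟨n, h⟩
  have hselfN : ∀ x : co2Stab,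
      x ∈ Subgroup.normalizer ((Subgroup.zpowers x : Subgroup co2Stab) : Set co2Stab) :=
    fun x => Subgroup.le_normalizer (Subgroup.mem_zpowers x)
  have hdv : ∀ {x y : co2Stab} {H : Subgroup co2Stab}, y ∈ normIn H x →
      orderOf y ∣ Nat.card (normIn H x) := fun {x y H} h =>
    Subgroup.orderOf_mk y h ▸ orderOf_dvd_natCard (⟨y, h⟩ : normIn H x)
  have n23 : ∀ H : Subgroup co2Stab, eS ∈ H → eT ∈ H → 253 ∣ Nat.card (normIn H eS) ∧
      Nat.card (normIn H eS) ∣ 506 := by
    intro H h1 h2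
    refine ⟨?_, card_normIn_dvd (by norm_num) oS fun g _ hc => centraliser_eS hc⟩
    have a : 23 ∣ Nat.card (normIn H eS) := oS ▸ hdv (show eS ∈ normIn H eS from ⟨h1, hselfN _⟩)
    have b : 11 ∣ Nat.card (normIn H eS) :=
      oT ▸ hdv (show eT ∈ normIn H eS from ⟨h2, hmemN 2 perm_rels.2.2.2.1⟩)
    exact Nat.Coprime.mul_dvd_of_dvd_of_dvd (by norm_num : Nat.Coprime 23 11) a b
  have n11 : ∀ H : Subgroup co2Stab, eT ∈ H → eD ∈ H → eZ ∈ H →
      Nat.card (normIn H eT) = 110 := by
    intro H h1 h2 h3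
    refine Nat.dvd_antisymm (card_normIn_dvd (by norm_num) oT fun g _ hc => centraliser_eT hc) ?_
    have hz10 : eZ * eT = eT ^ 10 * eZ := by
      have h := z_facts.2.1
      have hz' : eZ⁻¹ = eZ := inv_eq_of_mul_eq_one_right z_facts.1
      rw [← eT_inv]
      calc eZ * eT = eZ * eT * eZ * eT * eT⁻¹ * eZ⁻¹ := by group
        _ = eT⁻¹ * eZ := by rw [h, one_mul, hz']
    have hz2 : orderOf eZ = 2 := by
      rcases (Nat.dvd_prime Nat.prime_two).1 oZ with h | h
      · exfalso
        rw [orderOf_eq_one_iff] at h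
        rw [h, one_mul, mul_one] at hz10
        have : eT ^ 9 = 1 := by
          rw [pow_succ] at hz10
          exact right_eq_mul.1 hz10
        have := oT ▸ orderOf_dvd_of_pow_eq_one this
        norm_num at this
      · exact h
    have a : 11 ∣ Nat.card (normIn H eT) := oT ▸ hdv (show eT ∈ normIn H eT from ⟨h1, hselfN _⟩)
    have b : 5 ∣ Nat.card (normIn H eT) :=
      oD ▸ hdv (show eD ∈ normIn H eT from ⟨h2, hmemN 3 perm_rels.1⟩)
    have c : 2 ∣ Nat.card (normIn H eT) :=
      hz2 ▸ hdv (show eZ ∈ normIn H eT from ⟨h3, hmemN 10 hz10⟩)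
    exact Nat.Coprime.mul_dvd_of_dvd_of_dvd (by norm_num : Nat.Coprime 55 2)
      (Nat.Coprime.mul_dvd_of_dvd_of_dvd (by norm_num : Nat.Coprime 11 5) a b) c
  have hN23 : ∀ H : Subgroup co2Stab, eS ∈ H → eT ∈ H → Nat.card (normIn H eS) = 253 := by
    intro H h1 h2
    obtain ⟨a, b⟩ := n23 H h1 h2
    obtain ⟨a', b'⟩ := n23 ⊤ (Subgroup.mem_top _) (Subgroup.mem_top _)
    have hle : Nat.card (normIn H eS) ∣ Nat.card (normIn ⊤ eS) :=
      Subgroup.card_dvd_of_le (inf_le_inf_right _ le_top)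
    obtain ⟨n, hn, hmod⟩ := sylow_normIn (H := ⊤) (p := 23) (by norm_num) oS (Subgroup.mem_top _)
      (by rw [hG]; norm_num)
    rw [hG] at hn
    obtain ⟨k, hk⟩ := a'
    have h253 : Nat.card (normIn ⊤ eS) = 253 := card_norm_options _ (by
      rw [hk] at b' ⊢
      have : k ∣ 2 := Nat.dvd_of_mul_dvd_mul_left (by norm_num : 0 < 253) b'
      rcases (Nat.dvd_prime Nat.prime_two).1 this with rfl | rfl <;> simp) ⟨n, by rw [← hn, mul_comm]⟩
      (by rw [← hn, Nat.mul_div_cancel _ Nat.card_pos]; exact hmod)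
    exact Nat.dvd_antisymm (h253 ▸ hle) a
  -- the index
  have hnd : ∀ (p : ℕ), ¬ p ^ 2 ∣ 42305421312000 → ¬ p ^ 2 ∣ Nat.card E := fun p hp h =>
    hp (h.trans (card_co2Stab ▸ Subgroup.card_subgroup_dvd_card E))
  have hmodidx : ∀ (p : ℕ) (x : co2Stab), p.Prime → orderOf x = p → x ∈ E →
      ¬ p ^ 2 ∣ 42305421312000 → Nat.card (normIn ⊤ x) = Nat.card (normIn E x) →
      E.index % p = 1 := by
    intro p x hp hxo hx hp2 hcard
    obtain ⟨n, hn, hmod⟩ := sylow_normIn (H := ⊤) hp hxo (Subgroup.mem_top _) (by rw [hG]; exact hp2)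
    obtain ⟨n', hn', hmod'⟩ := sylow_normIn (H := E) hp hxo hx (hnd p hp2)
    rw [hG, ← card_co2Stab, ← E.card_mul_index, ← hn', hcard,
      mul_right_comm] at hn
    rw [Nat.eq_of_mul_eq_mul_right Nat.card_pos hn, Nat.mul_mod, hmod', one_mul, Nat.mod_mod] at hmod
    exact hmod
  have m23 := hmodidx 23 eS (by norm_num) oS hS (by norm_num)
    ((hN23 ⊤ (Subgroup.mem_top _) (Subgroup.mem_top _)).trans (hN23 E hS hT).symm)
  have m11 := hmodidx 11 eT (by norm_num) oT hT (by norm_num)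
    ((n11 ⊤ (Subgroup.mem_top _) (Subgroup.mem_top _) (Subgroup.mem_top _)).trans
      (n11 E hT hD hZ).symm)
  have m253 : E.index % 253 = 1 := by omega
  -- an elementary group of order 25
  have hC : eC ∈ E := by
    rw [perm_rels.2.2.2.2]
    exact (mul_mem (mul_mem (mul_mem (mul_mem (mul_mem (mul_mem (mul_mem (mul_mem (mul_mem (mul_mem (mul_mem (mul_mem (mul_mem hS hD) hT) hS) hD) hS) hT) hD) hT) hS) hT) hD) hS) hT)
  set B : co2Stab := (eZ * eC) ^ 4 with hB
  have hzd : eZ * eD = eD * eZ := by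
    have h := z_facts.2.2.1
    have h4 : eD⁻¹ = eD ^ 4 := inv_eq_of_mul_eq_one_right (by rw [← pow_succ']; exact perm_rels.2.2.1)
    have hz' : eZ⁻¹ = eZ := inv_eq_of_mul_eq_one_right z_facts.1
    rw [← h4] at h
    calc eZ * eD = eD * (eD⁻¹ * eZ * eD * eZ) * eZ⁻¹ := by group
      _ = eD * eZ := by rw [h, mul_one, hz']
  have hBD : B * eD = eD * B := by
    have step : (eZ * eC) * eD = eD ^ 3 * (eZ * eC) := by
      rw [mul_assoc, perm_rels.2.1, ← mul_assoc, (Commute.pow_right hzd 3).eq, mul_assoc]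
    have gen : ∀ n : ℕ, (eZ * eC) ^ n * eD = eD ^ (3 ^ n) * (eZ * eC) ^ n := by
      intro n
      induction n with
      | zero => simp
      | succ n ih =>
        have e : ∀ m : ℕ, (eZ * eC) * eD ^ m = eD ^ (3 * m) * (eZ * eC) := by
          intro m
          induction m with
          | zero => simp
          | succ m ihm =>
            rw [pow_succ, ← mul_assoc, ihm, mul_assoc, step, ← mul_assoc, ← pow_add, Nat.mul_succ]
        rw [pow_succ' (eZ * eC), mul_assoc, ih, ← mul_assoc, e, mul_assoc, pow_succ']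
    rw [hB, gen 4, show (3 : ℕ) ^ 4 = 5 * 16 + 1 by norm_num, pow_succ, pow_mul,
      perm_rels.2.2.1, one_pow, one_mul]
  have hBmove : B ∉ Subgroup.zpowers eD := by
    intro hmem
    obtain ⟨-, -, -, -, -, h6, h7, h8, -, h36⟩ := words_ok
    set v : leechLattice := ⟨dec (genCodes.getD 36 0), mem_of_inLeech h36⟩
    have hle : Subgroup.zpowers eD ≤ stabilizer co2Stab v := by
      rw [Subgroup.zpowers_le]
      show (eD : Co0) • v = v
      rw [← word_elts.2.1]
      exact Subtype.ext (chk_sound all_ok.2.1 h7 rfl)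
    have h1 : (B : Co0) • v = v := hle hmem
    rw [← wFour_ok.2] at h1
    exact h8 ((chk_sound wFour_ok.1 h6 (v := v) rfl).symm.trans (congrArg Subtype.val h1))
  have hB5 : B ^ 5 = 1 := z_facts.2.2.2
  have h25 : 25 ∣ Nat.card E := by
    have hBE : B ∈ E := pow_mem (mul_mem hZ hC) 4
    have hBo : orderOf B = 5 := by
      haveI : Fact (Nat.Prime 5) := ⟨by norm_num⟩
      exact orderOf_eq_prime hB5 fun h => hBmove (h ▸ one_mem _)
    set P := Subgroup.zpowers eD
    set Q := Subgroup.zpowers B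
    have hcomm : ∀ (p : P) (q : Q), Commute (p : co2Stab) (q : co2Stab) := by
      intro p q
      obtain ⟨i, hi⟩ := Subgroup.mem_zpowers_iff.1 p.2
      obtain ⟨j, hj⟩ := Subgroup.mem_zpowers_iff.1 q.2
      rw [← hi, ← hj]
      exact (Commute.zpow_zpow (show Commute eD B from hBD.symm) i j)
    let F := MonoidHom.noncommCoprod P.subtype Q.subtype hcomm
    have hinj : Function.Injective F := by
      rw [injective_iff_map_eq_one]
      rintro ⟨p, q⟩ h
      have hpq : (p : co2Stab) * q = 1 := h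
      have hqP : (q : co2Stab) ∈ P := by
        rw [eq_inv_of_mul_eq_one_right hpq]; exact inv_mem p.2
      have hq1 : (q : co2Stab) = 1 := by
        by_contra hne
        haveI : Fact (Nat.Prime 5) := ⟨by norm_num⟩
        have hcard : Nat.card Q = 5 := by rw [Nat.card_zpowers, hBo]
        have hgen : Subgroup.zpowers (q : co2Stab) = Q := by
          refine Subgroup.eq_of_le_of_card_ge (Subgroup.zpowers_le.2 q.2) ?_
          rw [hcard, Nat.card_zpowers, orderOf_eq_prime (p := 5) ?_ hne]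
          have := pow_card_eq_one' (x := q)
          rw [hcard] at this
          exact congrArg Subtype.val this
        refine hBmove ?_
        have : B ∈ Subgroup.zpowers (q : co2Stab) := by rw [hgen]; exact Subgroup.mem_zpowers B
        exact Subgroup.zpowers_le.2 hqP this
      rw [hq1, mul_one] at hpq
      exact Prod.ext (Subtype.ext hpq) (Subtype.ext hq1)
    have hrange : F.range ≤ E := by
      rintro _ ⟨⟨p, q⟩, rfl⟩
      exact mul_mem ((Subgroup.zpowers_le.2 hD) p.2) ((Subgroup.zpowers_le.2 hBE) q.2)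
    have := Subgroup.card_dvd_of_le hrange
    rw [← Nat.card_congr (MonoidHom.ofInjective hinj).toEquiv, Nat.card_prod, Nat.card_zpowers,
      Nat.card_zpowers, oD, hBo] at this
    exact this
  have hidx : E.index ∣ 2 ^ 18 * 3 ^ 6 * 5 * 7 := by
    have hmul := E.card_mul_index
    rw [card_co2Stab] at hmul
    obtain ⟨k, hk⟩ := h25
    have h1 : E.index ∣ 2 ^ 18 * 3 ^ 6 * 5 * 7 * 253 :=
      ⟨k, by rw [hk, mul_assoc, mul_comm k] at hmul; omega⟩
    refine (Nat.Coprime.dvd_mul_right ?_).1 h1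
    have : Nat.Coprime (E.index % 253) 253 := by rw [m253]; exact Nat.coprime_one_left _
    rw [Nat.Coprime] at this ⊢
    rw [Nat.gcd_comm, Nat.gcd_rec]; exact this
  obtain ⟨x, y, hx, hy, e1⟩ := Nat.dvd_mul.1 hidx
  obtain ⟨x', w, hx', hw, rfl⟩ := Nat.dvd_mul.1 hx
  obtain ⟨u, v, hu, hv, rfl⟩ := Nat.dvd_mul.1 hx'
  obtain ⟨a, ha, rfl⟩ := (Nat.dvd_prime_pow Nat.prime_two).1 hu
  obtain ⟨b, hb, rfl⟩ := (Nat.dvd_prime_pow Nat.prime_three).1 hv
  obtain ⟨c, hc, rfl⟩ := (Nat.dvd_prime_pow (show Nat.Prime 5 by norm_num)).1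
    (show w ∣ 5 ^ 1 by rwa [pow_one])
  obtain ⟨d, hd, rfl⟩ := (Nat.dvd_prime_pow (show Nat.Prime 7 by norm_num)).1
    (show y ∣ 7 ^ 1 by rwa [pow_one])
  exact Subgroup.index_eq_one.1 (e1 ▸ index_candidates a ha b hb c hc d hd (e1 ▸ m253))

/-! ### Automorphisms -/

/-- A fixed element and one moved into its centraliser. -/
lemma exists_pow_of_zpowers {x g : co2Stab} {p : ℕ} (ho : orderOf x = p) (hp : 0 < p)
    (h : g ∈ Subgroup.zpowers x) : ∃ i < p, g = x ^ i := by
  rw [← mem_powers_iff_mem_zpowers] at h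
  obtain ⟨n, rfl⟩ := h
  exact ⟨n % p, Nat.mod_lt _ hp, by rw [← ho, pow_mod_orderOf]⟩

/-- Every automorphism is inner. -/
theorem conj_surjective_co2Stab :
    Function.Surjective (MulAut.conj : co2Stab →* MulAut co2Stab) := by
  intro φ
  obtain ⟨oS, oT, oD, oZ⟩ := orders
  haveI : Fact (Nat.Prime 23) := ⟨by norm_num⟩
  -- the element of order 23
  obtain ⟨H', -, hc', hxH, g, -, hH'⟩ := exists_conj_mem (G := (⊤ : Subgroup co2Stab))
    (H := Subgroup.zpowers (φ eS)) (x := eS) (p := 23) (by norm_num) oS (Subgroup.mem_top _)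
    (by rw [Subgroup.card_top, card_co2Stab]; norm_num) le_top
    (by rw [Nat.card_zpowers, MulEquiv.orderOf_eq, oS])
  set φ₁ : MulAut co2Stab := MulAut.conj g * φ with hφ₁
  have h1 : φ₁ eS ∈ Subgroup.zpowers eS := by
    have hcard : Nat.card H' = 23 := by rw [hc', Nat.card_zpowers, MulEquiv.orderOf_eq, oS]
    have he : Subgroup.zpowers eS = H' := by
      refine Subgroup.eq_of_le_of_card_ge (Subgroup.zpowers_le.2 hxH) ?_
      rw [hcard, Nat.card_zpowers, oS]
    rw [he, hH']
    exact ⟨φ eS, Subgroup.mem_zpowers _, rfl⟩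
  obtain ⟨e, he23, he⟩ := exists_pow_of_zpowers oS (by norm_num) h1
  have he0 : e ≠ 0 := by
    rintro rfl
    rw [pow_zero, map_eq_one_iff _ φ₁.injective] at he
    rw [he, orderOf_one] at oS
    norm_num at oS
  -- the element of order 11
  have hTS : ∀ n : ℕ, eT * eS ^ n = eS ^ (2 * n) * eT := by
    intro n
    induction n with
    | zero => simp
    | succ m ihm =>
      rw [pow_succ, ← mul_assoc, ihm, mul_assoc, perm_rels.2.2.2.1, ← mul_assoc, ← pow_add,
        Nat.mul_succ]
  have h2 : eT⁻¹ * φ₁ eT ∈ Subgroup.zpowers eS := by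
    refine centraliser_eS ?_
    have hA : φ₁ eT * eS ^ e = (eS ^ e) ^ 2 * φ₁ eT := by
      rw [← he, ← map_pow, ← map_mul, ← map_mul, perm_rels.2.2.2.1]
    have hB : eT * eS ^ e = (eS ^ e) ^ 2 * eT := by rw [hTS e, ← pow_mul, mul_comm e]
    set w := eT⁻¹ * φ₁ eT with hw
    have hwe : Commute w (eS ^ e) := by
      show w * eS ^ e = eS ^ e * w
      calc w * eS ^ e = eT⁻¹ * ((eS ^ e) ^ 2 * φ₁ eT) := by rw [hw, mul_assoc, hA]
        _ = eT⁻¹ * ((eS ^ e) ^ 2 * eT) * w := by rw [hw]; group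
        _ = eS ^ e * w := by rw [← hB, inv_mul_cancel_left]
    obtain ⟨n, -, hn⟩ := exists_pow_of_zpowers (x := eS ^ e) (g := eS) (p := 23)
      (by rw [Nat.Coprime.orderOf_pow (by
        rw [oS]; exact (Nat.Prime.coprime_iff_not_dvd (by norm_num)).2
          fun hd => by have := Nat.le_of_dvd (by omega) hd; omega), oS])
      (by norm_num) (by
        have hgen : Subgroup.zpowers (eS ^ e) = Subgroup.zpowers eS := by
          refine Subgroup.eq_of_le_of_card_ge
            (Subgroup.zpowers_le.2 (Subgroup.npow_mem_zpowers eS e)) ?_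
          rw [Nat.card_zpowers, Nat.card_zpowers, Nat.Coprime.orderOf_pow (by
            rw [oS]; exact (Nat.Prime.coprime_iff_not_dvd (by norm_num)).2
              fun hd => by have := Nat.le_of_dvd (by omega) hd; omega)]
        rw [hgen]; exact Subgroup.mem_zpowers eS)
    exact hn ▸ (hwe.pow_right n).eq
  obtain ⟨i, -, hi⟩ := exists_pow_of_zpowers oS (by norm_num) h2
  rw [inv_mul_eq_iff_eq_mul] at hi
  set φ₂ : MulAut co2Stab := MulAut.conj (eS ^ (2 * i)) * φ₁ with hφ₂
  have hS2 : φ₂ eS = eS ^ e := by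
    rw [hφ₂, MulAut.mul_apply, he, MulAut.conj_apply]; group
  have hT2 : φ₂ eT = eT := by
    rw [hφ₂, MulAut.mul_apply, hi, MulAut.conj_apply, mul_inv_eq_iff_eq_mul, hTS (2 * i),
      ← mul_assoc, mul_assoc (eS ^ (2 * i)) eT, hTS i, ← mul_assoc, ← pow_add]
    refine congrArg (· * eT) ?_
    rw [← pow_mod_orderOf, oS, ← pow_mod_orderOf (x := eS) (n := 2 * (2 * i)), oS]
    exact congrArg (eS ^ ·) (by omega)
  -- the element of order ten
  set y := eZ * eD with hy
  have hTinv : eT⁻¹ = eT ^ 10 := eT_inv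
  have hz10 : eZ * eT = eT ^ 10 * eZ := by
    rw [← hTinv]
    calc eZ * eT = eZ * eT * eZ * eT * eT⁻¹ * eZ⁻¹ := by group
      _ = eT⁻¹ * eZ := by
        rw [z_facts.2.1, one_mul, inv_eq_of_mul_eq_one_right z_facts.1]
  have hy8 : y * eT = eT ^ 8 * y := by
    have hp : ∀ n : ℕ, eZ * eT ^ n = eT ^ (10 * n) * eZ := by
      intro n
      induction n with
      | zero => simp
      | succ m ihm =>
        rw [pow_succ, ← mul_assoc, ihm, mul_assoc, hz10, ← mul_assoc, ← pow_add, Nat.mul_succ]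
    rw [hy, mul_assoc, perm_rels.1, ← mul_assoc, hp, mul_assoc,
      ← pow_mod_orderOf, oT]
  have h3 : y⁻¹ * φ₂ y ∈ Subgroup.zpowers eT := by
    refine centraliser_eT ?_
    have hA : φ₂ y * eT = eT ^ 8 * φ₂ y := by
      conv_lhs => rw [← hT2, ← map_mul, hy8, map_mul, map_pow, hT2]
    calc y⁻¹ * φ₂ y * eT = y⁻¹ * (eT ^ 8 * φ₂ y) := by rw [mul_assoc, hA]
      _ = y⁻¹ * (eT ^ 8 * y) * (y⁻¹ * φ₂ y) := by group
      _ = eT * (y⁻¹ * φ₂ y) := by rw [← hy8, inv_mul_cancel_left]
  obtain ⟨l, -, hl⟩ := exists_pow_of_zpowers oT (by norm_num) h3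
  rw [inv_mul_eq_iff_eq_mul] at hl
  have hyT : ∀ n : ℕ, y * eT ^ n = eT ^ (8 * n) * y := by
    intro n
    induction n with
    | zero => simp
    | succ m ihm =>
      rw [pow_succ, ← mul_assoc, ihm, mul_assoc, hy8, ← mul_assoc, ← pow_add, Nat.mul_succ]
  set φ₃ : MulAut co2Stab := MulAut.conj (eT ^ (9 * l)) * φ₂ with hφ₃
  have hT3 : φ₃ eT = eT := by
    rw [hφ₃, MulAut.mul_apply, hT2, MulAut.conj_apply]; group
  have hy3 : φ₃ y = y := by
    rw [hφ₃, MulAut.mul_apply, hl, MulAut.conj_apply, mul_inv_eq_iff_eq_mul, hyT (9 * l),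
      hyT l, ← mul_assoc, ← pow_add]
    refine congrArg (· * y) ?_
    rw [← pow_mod_orderOf, oT, ← pow_mod_orderOf (x := eT) (n := 8 * (9 * l)), oT]
    exact congrArg (eT ^ ·) (by omega)
  obtain ⟨e', he', hS3⟩ := exists_pow_of_zpowers (g := φ₃ eS) oS (by norm_num) (by
    rw [hφ₃, MulAut.mul_apply, hS2, MulAut.conj_apply]
    have hn : ∀ m : ℕ, eT ^ m * eS ^ e * (eT ^ m)⁻¹ ∈ Subgroup.zpowers eS := by
      intro m
      induction m with
      | zero => simp [Subgroup.npow_mem_zpowers]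
      | succ k ih =>
        obtain ⟨n, -, hn⟩ := exists_pow_of_zpowers oS (by norm_num) ih
        have : eT ^ (k + 1) * eS ^ e * (eT ^ (k + 1))⁻¹ = eS ^ (2 * n) := by
          calc eT ^ (k + 1) * eS ^ e * (eT ^ (k + 1))⁻¹
              = eT * (eT ^ k * eS ^ e * (eT ^ k)⁻¹) * eT⁻¹ := by rw [pow_succ']; group
            _ = eS ^ (2 * n) := by rw [hn, hTS]; group
        rw [this]
        exact Subgroup.npow_mem_zpowers eS _
    exact hn _)
  -- the powers of `y`
  have hzd : Commute eZ eD := by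
    have h := z_facts.2.2.1
    have h4 : eD⁻¹ = eD ^ 4 := inv_eq_of_mul_eq_one_right (by rw [← pow_succ']; exact perm_rels.2.2.1)
    rw [← h4] at h
    show eZ * eD = eD * eZ
    calc eZ * eD = eD * (eD⁻¹ * eZ * eD * eZ) * eZ⁻¹ := by group
      _ = eD * eZ := by rw [h, mul_one, inv_eq_of_mul_eq_one_right z_facts.1]
  have hz2 : eZ ^ 2 = 1 := by rw [pow_two]; exact z_facts.1
  have hy5 : y ^ 5 = eZ := by
    rw [hy, hzd.mul_pow, perm_rels.2.2.1, mul_one,
      show (5 : ℕ) = 2 * 2 + 1 by norm_num, pow_succ, pow_mul, hz2, one_pow, one_mul]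
  have hy6 : y ^ 6 = eD := by
    rw [hy, hzd.mul_pow, pow_succ eD 5, perm_rels.2.2.1, one_mul,
      show (6 : ℕ) = 2 * 3 by norm_num, pow_mul, hz2, one_pow, one_mul]
  have hD3 : φ₃ eD = eD := by rw [← hy6, map_pow, hy3]
  have hZ3 : φ₃ eZ = eZ := by rw [← hy5, map_pow, hy3]
  -- the exponent
  have hrel : (eS ^ (20 * e') * eD) ^ 5 = 1 := by
    have h := congrArg φ₃ ((relation (k := 1) (by norm_num)).2 (Or.inr rfl))
    rw [map_pow, map_mul, map_pow, hS3, hD3, ← pow_mul, map_one, mul_one, mul_comm e'] at h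
    exact h
  have he1 : e' = 1 := by
    rcases (relation he').1 hrel with h | h
    · exfalso
      rw [h, pow_zero, map_eq_one_iff _ φ₃.injective] at hS3
      rw [hS3, orderOf_one] at oS
      norm_num at oS
    · exact h
  rw [he1, pow_one] at hS3
  have hid : φ₃ = 1 := by
    have htop := eq_top_of_mem (MonoidHom.eqLocus φ₃.toMonoidHom (MonoidHom.id co2Stab)) hS3 hT3 hD3 hZ3
    refine MulEquiv.ext fun x => ?_
    exact (show x ∈ MonoidHom.eqLocus φ₃.toMonoidHom (MonoidHom.id co2Stab) from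
      htop ▸ Subgroup.mem_top x)
  refine ⟨(eT ^ (9 * l) * eS ^ (2 * i) * g)⁻¹, ?_⟩
  rw [map_inv, map_mul, map_mul, inv_eq_iff_mul_eq_one, mul_assoc, mul_assoc, ← hφ₁, ← hφ₂, ← hφ₃, hid]

lemma leechU_norm : sqNorm Spor.leechU.1 = 32 := by decide +kernel

/-- The outer automorphism group of `Co2`. -/
theorem card_out_co2 : Nat.card (Cfsg.Out ↥Spor.Co2) = 1 := by
  obtain ⟨k, hk⟩ := co0_transitive_min base Spor.leechU base_facts.1 leechU_norm
  have hmap : (stabilizer Co0 Spor.leechU).map Co0.subtype = Spor.Co2 := by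
    ext σ
    constructor
    · rintro ⟨g, hg, rfl⟩
      exact ⟨g.2, hg⟩
    · rintro ⟨h0, h1⟩
      exact ⟨⟨σ, h0⟩, h1, rfl⟩
  let E : co2Stab ≃* Spor.Co2 :=
    (stabilizerEquivStabilizer hk.symm).trans
      (((stabilizer Co0 Spor.leechU).equivMapOfInjective _ Co0.subtype_injective).trans
        (MulEquiv.subgroupCongr hmap))
  show (Inn ↥Spor.Co2).index = 1
  rw [Subgroup.index_eq_one, eq_top_iff]
  intro φ _
  obtain ⟨g, hg⟩ := conj_surjective_co2Stab (MulAut.congr E.symm φ)
  refine ⟨E g, MulEquiv.ext fun x => ?_⟩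
  obtain ⟨x, rfl⟩ := E.surjective x
  have := DFunLike.congr_fun hg x
  rw [MulAut.conj_apply] at this ⊢
  rw [← map_inv, ← map_mul, ← map_mul, this]
  show E (E.symm (φ (E x))) = _
  rw [E.apply_symm_apply]

end Cfsg.Agent.Golay.CoTwo

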