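import Cfsg.Agent.H92.LeechOrbit

/-!
An involution of `Co0` inverting a permutation of order 11, tables of two further permutations and
generators of the lattice.
-/

set_option autoImplicit false

namespace Cfsg.Agent.Golay.CoTwo

open Cfsg.Agent.H92.LeechOrbit

/-- Table of a permutation of order 5. -/
def deltaTbl : ℕ := 974380510768821363662145534143076928

/-- Table of a permutation of order 4 normalising it. -/
def cTbl : ℕ := 980295059408242887842998407857806511

/-- Table of the doubling. -/
def doubleTbl : ℕ := 983435072843990828779021698901151808

/-- The involution, as a word. -/
def zWord : List Atom := [
  .mono 5986807 310769807171691531067261201 756182026373804131153560847310216877,
  .zeta,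
  .mono 10560816 4971102988706603943536427008 66488868530906482676442695308880534,
  .zeta,
  .mono 16225272 5281801943010650039883206656 552986649881276039295727489359914018,
  .zeta,
  .mono 14059292 5262459111449791523627012352 968665168075357806547946146181976081]

/-- Codes of lattice generators. -/
def genCodes : List ℕ := [
  27729856879992518157740382617,
  42255020007608211866070461098,
  42255020007616689108775774888,
  42255020007751764241667360938,
  42255020009913527118326172328,
  42255020044501172393400240298,
  42255020597903492397612574858,
  42255029452340612465009666698,
  42255171123335098691803064488,
  42257437859246878320497429128,
  42293705633835352379607263368,
  42873990027250372175850941098,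
  52158540321890726299180894858,
  22447979379041562318170785932,
  22447979379041562318170785992,
  22447979379041562318170786952,
  22447979379041562318170802312,
  22447979379041562318171048072,
  22447979379041562318174980232,
  22447979379041562318237894792,
  22447979379041562319244527752,
  22447979379041562335350655112,
  22447979379041562593048692872,
  22447979379041566716217297032,
  22447979379041632686914963592,
  22447979379042688218077628552,
  22447979379059576716680267912,
  22447979379329792694322497672,
  22447979383653248336598173832,
  22447979452828538613008992392,
  22447980559633183035582089352,
  22447998268507493796751640712,
  22448281610496465975464462472,
  22452815082320020834869610632,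
  22525350631496898585351981192,
  23685919418326942593069910152,
  62062060636173731114942761100]

/-- Code of the moved vector. -/
def movedCode : ℕ := 46876672267978541824717986203

/-- Code of the image of the sum pair. -/
def sumImage : ℕ := 56780192616858799457353439641

/-- Code of the image of the difference pair. -/
def diffImage : ℕ := 47536897508558602556126370197

end Cfsg.Agent.Golay.CoTwo
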