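import Cfsg.Agent.Golay.CoTwoOutData
import Cfsg.Agent.Golay.SigmaFixed

/-!
Centralisers of the translation and of the doubling inside the stabiliser of the extra point, and a
relation fixing the exponent of the translation.
-/

set_option autoImplicit false

namespace Cfsg.Agent.Golay.CoTwo

open Cfsg

lemma sigmaBig_apply : (∀ x : ZMod 23, sigmaBig.1 (some x) = some (x + 1)) ∧
    sigmaBig.1 none = none := by
  decide +kernel

lemma sigmaSmall_apply : (∀ x : ZMod 23, sigmaSmall.1 (some x) = some (2 * x)) ∧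
    sigmaSmall.1 none = none := by
  decide +kernel

lemma big_pow_apply : ∀ (n : ℕ) (x : ZMod 23), (sigmaBig.1 ^ n) (some x) = some (x + n)
  | 0, x => by simp
  | n + 1, x => by
    rw [pow_succ', Equiv.Perm.mul_apply, big_pow_apply n x, sigmaBig_apply.1]
    push_cast
    rw [add_assoc]

lemma small_pow_apply : ∀ (n : ℕ) (x : ZMod 23), (sigmaSmall.1 ^ n) (some x) = some (2 ^ n * x)
  | 0, x => by simp
  | n + 1, x => by
    rw [pow_succ', Equiv.Perm.mul_apply, small_pow_apply n x, sigmaSmall_apply.1, pow_succ']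
    rw [mul_assoc]

lemma pow_fix_none {π : Equiv.Perm GolayPt} (h : π none = none) : ∀ n : ℕ, (π ^ n) none = none
  | 0 => rfl
  | n + 1 => by rw [pow_succ', Equiv.Perm.mul_apply, pow_fix_none h n, h]

lemma zmod23_natCast : ∀ x : ZMod 23, ((x.val : ℕ) : ZMod 23) = x := fun x => ZMod.natCast_zmod_val x

/-- The centraliser of the translation. -/
theorem centraliser_big {π : M24} (h0 : π.1 none = none) (hc : π * sigmaBig = sigmaBig * π) :
    π ∈ Subgroup.zpowers sigmaBig := by
  obtain ⟨k, hk⟩ : ∃ k : ZMod 23, π.1 (some 0) = some k := by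
    rcases h : π.1 (some 0) with _ | k
    · exact absurd (π.1.injective (h.trans h0.symm)) (by simp)
    · exact ⟨k, rfl⟩
  refine Subgroup.mem_zpowers_iff.2 ⟨(k.val : ℤ), ?_⟩
  rw [zpow_natCast]
  refine Subtype.ext (Equiv.ext fun p => ?_)
  rw [SubgroupClass.coe_pow]
  rcases p with _ | x
  · rw [pow_fix_none sigmaBig_apply.2, h0]
  · have e := congrArg (fun g : M24 => g.1 (some 0)) (Commute.pow_right hc x.val).eq
    simp only [Subgroup.coe_mul, SubgroupClass.coe_pow, Equiv.Perm.mul_apply] at e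
    rw [big_pow_apply, hk, big_pow_apply, zero_add, zmod23_natCast] at e
    rw [big_pow_apply, e, zmod23_natCast, add_comm]

/-! ### Tables of maps permuting the two cycles of the doubling -/

/-- The exponent of a nonzero residue with respect to its cycle. -/
def lg (q : ℕ) : ℕ :=
  (List.range 11).findIdx fun i => 2 ^ i % 23 == q || 5 * 2 ^ i % 23 == q

/-- A residue lies in the cycle of one. -/
def isQ (q : ℕ) : Bool := (List.range 11).any fun i => 2 ^ i % 23 == q

/-- The map sending `2 ^ i` and `5 * 2 ^ i` to the `m i`-th doublings of `a` and `b`. -/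
def candFn (m a b q : ℕ) : ℕ :=
  if q = 0 ∨ q = 23 then q
  else 2 ^ (m * lg q % 11) * (if isQ q = true then a else b) % 23

/-- Its table. -/
def candTbl (m a b : ℕ) : ℕ := mkTbl 24 (candFn m a b)

lemma cand_check :
    ((List.range 23).all fun a => (List.range 23).all fun b =>
      (!inM24 (candTbl 1 a b) || (List.range 11).any fun i =>
        candTbl 1 a b == candTbl 1 (2 ^ i % 23) (5 * 2 ^ i % 23)) &&
      !inM24 (candTbl 10 a b)) = true := by
  decide +kernel

lemma lg_facts : ∀ i < 11,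
    lg (2 ^ i % 23) = i ∧ isQ (2 ^ i % 23) = true ∧ lg (5 * 2 ^ i % 23) = i ∧
      isQ (5 * 2 ^ i % 23) = false ∧ 2 ^ i % 23 ≠ 0 ∧ 5 * 2 ^ i % 23 ≠ 0 := by
  decide +kernel

lemma cycle_cover : ∀ q < 23, q = 0 ∨ ∃ i < 11, 2 ^ i % 23 = q ∨ 5 * 2 ^ i % 23 = q := by
  decide +kernel

lemma small_orbit (n : ℕ) (a : ℕ) (ha : a < 23) :
    (sigmaSmall.1 ^ n) (some (a : ZMod 23)) = some (((2 ^ n * a % 23 : ℕ)) : ZMod 23) := by
  rw [small_pow_apply, ZMod.natCast_mod]
  push_cast
  rfl

lemma idx_some_cast (a : ℕ) : idx (some (a : ZMod 23)) = a % 23 := ZMod.val_natCast 23 a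

lemma small_pow_mod (n : ℕ) : sigmaSmall.1 ^ n = sigmaSmall.1 ^ (n % 11) := by
  have h := congrArg Subtype.val (pow_orderOf_eq_one sigmaSmall)
  rw [sigmaSmall_facts.2, SubgroupClass.coe_pow, OneMemClass.coe_one] at h
  exact pow_eq_pow_mod n h

/-- An element conjugating the doubling to its `m`-th power is given by one of the tables. -/
theorem tblOf_eq_cand {π : M24} (h0 : π.1 none = none) {m : ℕ}
    (hc : π * sigmaSmall = sigmaSmall ^ m * π) (hm : m = 1 ∨ m = 10) :
    ∃ a < 23, ∃ b < 23, tblOf π.1 = candTbl m a b := by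
  have hconj : ∀ n, π * sigmaSmall ^ n = sigmaSmall ^ (m * n) * π := by
    intro n
    induction n with
    | zero => simp
    | succ n ih =>
      rw [pow_succ, ← mul_assoc, ih, mul_assoc, hc, ← mul_assoc, ← pow_add, Nat.mul_succ]
  have hval : ∀ (p : GolayPt) (n : ℕ),
      π.1 ((sigmaSmall.1 ^ n) p) = (sigmaSmall.1 ^ (m * n % 11)) (π.1 p) := by
    intro p n
    have e := congrArg (fun g : M24 => g.1 p) (hconj n)
    simp only [Subgroup.coe_mul, SubgroupClass.coe_pow, Equiv.Perm.mul_apply] at e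
    rw [e, ← small_pow_mod]
  have hz : π.1 (some 0) = some 0 := by
    have e := hval (some 0) 1
    rw [pow_one, sigmaSmall_apply.1, mul_zero] at e
    rcases h : π.1 (some 0) with _ | k
    · exact absurd (π.1.injective (h.trans h0.symm)) (by simp)
    · rw [h, small_pow_apply] at e
      have e' : (2 ^ (m * 1 % 11) - 1 : ZMod 23) * k = 0 := by
        rw [sub_mul, one_mul, sub_eq_zero]; exact (Option.some.inj e).symm
      rcases hm with rfl | rfl
      · have key : ∀ k : ZMod 23, (2 ^ (1 * 1 % 11) - 1) * k = 0 → k = 0 := by decide +kernel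
        rw [key k e']
      · have key : ∀ k : ZMod 23, (2 ^ (10 * 1 % 11) - 1) * k = 0 → k = 0 := by decide +kernel
        rw [key k e']
  have himg : ∀ p : ℕ, p < 23 → p ≠ 0 → ∃ a : ℕ, a < 23 ∧ π.1 (some (p : ZMod 23)) = some (a : ZMod 23) := by
    intro p _ _
    rcases h : π.1 (some (p : ZMod 23)) with _ | k
    · exact absurd (π.1.injective (h.trans h0.symm)) (by simp)
    · exact ⟨k.val, ZMod.val_lt k, by rw [zmod23_natCast]⟩
  obtain ⟨a, ha, ea⟩ := himg 1 (by norm_num) (by norm_num)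
  obtain ⟨b, hb, eb⟩ := himg 5 (by norm_num) (by norm_num)
  refine ⟨a, ha, b, hb, ?_⟩
  unfold tblOf candTbl
  have key : ∀ q < 24, idx (π.1 (pt q)) = candFn m a b q := by
    intro q hq
    rcases Nat.lt_or_eq_of_le (Nat.le_of_lt_succ hq) with hq | rfl
    swap
    · rw [show pt 23 = none from rfl, h0]; rfl
    rw [show pt q = some (q : ZMod 23) from if_neg (by omega)]
    rcases cycle_cover q hq with rfl | ⟨i, hi, rfl | rfl⟩
    · rw [Nat.cast_zero, hz]; rfl
    · obtain ⟨l1, l2, -, -, l5, -⟩ := lg_facts i hi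
      have e := hval (some ((1 : ℕ) : ZMod 23)) i
      rw [small_orbit _ _ (by norm_num), mul_one, ea, small_orbit _ _ ha] at e
      rw [e, idx_some_cast, Nat.mod_mod, candFn, if_neg (by omega), l1, if_pos l2]
    · obtain ⟨-, -, l3, l4, -, l6⟩ := lg_facts i hi
      have e := hval (some ((5 : ℕ) : ZMod 23)) i
      rw [small_orbit _ _ (by norm_num), mul_comm (2 ^ i), eb, small_orbit _ _ hb] at e
      rw [e, idx_some_cast, Nat.mod_mod, candFn, if_neg (by omega), l3,
        if_neg (by rw [l4]; simp)]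
  have ext : ∀ (n : ℕ) (f g : ℕ → ℕ), (∀ i < n, f i = g i) → mkTbl n f = mkTbl n g := by
    intro n
    induction n with
    | zero => intros; rfl
    | succ n ih =>
      intro f g h
      show f 0 + 32 * _ = g 0 + 32 * _
      rw [h 0 (Nat.succ_pos n), ih _ _ fun i hi => h (i + 1) (Nat.succ_lt_succ hi)]
  exact ext _ _ _ key

lemma inM24_tblOf (π : M24) : inM24 (tblOf π.1) = true :=
  (inM24_iff (validT_tblOf _)).2 (by rw [mkPerm_tblOf]; exact π.2)

/-- The centraliser of the doubling. -/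
theorem centraliser_small {π : M24} (h0 : π.1 none = none)
    (hc : π * sigmaSmall = sigmaSmall * π) : π ∈ Subgroup.zpowers sigmaSmall := by
  obtain ⟨a, ha, b, hb, e⟩ := tblOf_eq_cand h0 (m := 1) (by rw [pow_one]; exact hc) (Or.inl rfl)
  have h := List.all_eq_true.1 (List.all_eq_true.1 cand_check a (List.mem_range.2 ha)) b
    (List.mem_range.2 hb)
  rw [← e, inM24_tblOf π] at h
  simp only [Bool.not_true, Bool.false_or, Bool.and_eq_true, List.any_eq_true,
    beq_iff_eq, List.mem_range] at h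
  obtain ⟨⟨i, hi, he⟩, -⟩ := h
  refine Subgroup.mem_zpowers_iff.2 ⟨(i : ℤ), ?_⟩
  rw [zpow_natCast]
  obtain ⟨a', ha', b', hb', e'⟩ := tblOf_eq_cand (π := sigmaSmall ^ i)
    (by rw [SubgroupClass.coe_pow]; exact pow_fix_none sigmaSmall_apply.2 i) (m := 1)
    (by rw [pow_one, pow_mul_comm']) (Or.inl rfl)
  refine Subtype.ext ?_
  rw [← mkPerm_tblOf (sigmaSmall ^ i).1, ← mkPerm_tblOf π.1, he, e']
  have h1 : app (candTbl 1 a' b') 1 = 2 ^ i % 23 ∧ app (candTbl 1 a' b') 5 = 5 * 2 ^ i % 23 := by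
    rw [← e', app_tblOf _ (by norm_num), app_tblOf _ (by norm_num)]
    refine ⟨?_, ?_⟩
    · rw [SubgroupClass.coe_pow, show pt 1 = some ((1 : ℕ) : ZMod 23) from rfl,
        small_orbit _ _ (by norm_num), idx_some_cast, Nat.mod_mod, mul_one]
    · rw [SubgroupClass.coe_pow, show pt 5 = some ((5 : ℕ) : ZMod 23) from rfl,
        small_orbit _ _ (by norm_num), idx_some_cast, Nat.mod_mod, mul_comm]
  have hf : ∀ x < 23, ∀ y < 23, app (candTbl 1 x y) 1 = x ∧ app (candTbl 1 x y) 5 = y := by
    decide +kernel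
  rw [← h1.1, ← h1.2, (hf a' ha' b' hb').1, (hf a' ha' b' hb').2]

/-- The doubling is not conjugate to its inverse by an element fixing the extra point. -/
theorem not_inverted {π : M24} (h0 : π.1 none = none) :
    π * sigmaSmall ≠ sigmaSmall ^ 10 * π := by
  intro hc
  obtain ⟨a, ha, b, hb, e⟩ := tblOf_eq_cand h0 (m := 10) hc (Or.inr rfl)
  have h := List.all_eq_true.1 (List.all_eq_true.1 cand_check a (List.mem_range.2 ha)) b
    (List.mem_range.2 hb)
  rw [← e, inM24_tblOf π] at h
  simp at h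

end Cfsg.Agent.Golay.CoTwo
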