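import Cfsg.Agent.Golay.Mask

/-!
The length-24 code as a list of 4096 masks, with kernel-checked counts.
-/

set_option autoImplicit false

namespace Cfsg.Agent.Golay

open Cfsg

/-- Reduced echelon basis of the code. -/
def basisList : List ℕ :=
  [5279, 10558, 18147, 36294, 69395, 133817, 262637, 525274, 1050548, 2101096, 4196943, 8391797]

/-- All xor combinations of a list of masks. -/
def spanList : List ℕ → List ℕ
  | [] => [0]
  | b :: t => spanList t ++ (spanList t).map (b ^^^ ·)

/-- The 4096 masks of code words. -/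
def codeList : List ℕ := spanList basisList.reverse

lemma xor_mem_spanList : ∀ (L : List ℕ) {x y : ℕ}, x ∈ spanList L → y ∈ spanList L →
    x ^^^ y ∈ spanList L
  | [], x, y, hx, hy => by simp_all [spanList]
  | b :: t, x, y, hx, hy => by
    simp only [spanList, List.mem_append, List.mem_map] at hx hy ⊢
    rcases hx with hx | ⟨x', hx, rfl⟩ <;> rcases hy with hy | ⟨y', hy, rfl⟩
    · exact Or.inl (xor_mem_spanList t hx hy)
    · refine Or.inr ⟨x ^^^ y', xor_mem_spanList t hx hy, ?_⟩
      rw [← Nat.xor_assoc, ← Nat.xor_assoc, Nat.xor_comm b x]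
    · exact Or.inr ⟨x' ^^^ y, xor_mem_spanList t hx hy, by rw [Nat.xor_assoc]⟩
    · refine Or.inl ?_
      rw [show b ^^^ x' ^^^ (b ^^^ y') = x' ^^^ y' by
        rw [Nat.xor_comm b x', Nat.xor_assoc, ← Nat.xor_assoc b b y', Nat.xor_self, Nat.zero_xor]]
      exact xor_mem_spanList t hx hy

lemma spanList_induction {P : ℕ → Prop} : ∀ (L : List ℕ), P 0 → (∀ b ∈ L, P b) →
    (∀ a b, P a → P b → P (a ^^^ b)) → ∀ x ∈ spanList L, P x
  | [], h0, _, _, x, hx => by simp only [spanList, List.mem_singleton] at hx; rwa [hx]
  | b :: t, h0, hb, hx', x, hx => by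
    have ih := spanList_induction t h0 (fun c hc => hb c (List.mem_cons_of_mem _ hc)) hx'
    simp only [spanList, List.mem_append, List.mem_map] at hx
    rcases hx with hx | ⟨y, hy, rfl⟩
    · exact ih x hx
    · exact hx' _ _ (hb b (by simp)) (ih y hy)

lemma zero_mem_spanList : ∀ L : List ℕ, 0 ∈ spanList L
  | [] => by simp [spanList]
  | b :: t => by simp [spanList, zero_mem_spanList t]

lemma mem_spanList_of_mem : ∀ (L : List ℕ) {b : ℕ}, b ∈ L → b ∈ spanList L
  | [], b, h => by simp at h
  | a :: t, b, h => by
    simp only [spanList, List.mem_append, List.mem_map]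
    rcases List.mem_cons.1 h with rfl | h
    · exact Or.inr ⟨0, zero_mem_spanList t, Nat.xor_zero _⟩
    · exact Or.inl (mem_spanList_of_mem t h)

lemma basisList_lt : ∀ b ∈ basisList, b < 2 ^ 24 := by decide +kernel

lemma codeList_lt {m : ℕ} (hm : m ∈ codeList) : m < 2 ^ 24 := by
  refine spanList_induction (P := fun m => m < 2 ^ 24) _ (by norm_num) ?_ ?_ m hm
  · intro b hb; exact basisList_lt b (List.mem_reverse.1 hb)
  · intro a b ha hb; exact xor_lt_full ha hb

/-! ### Fast membership -/

/-- Reduce a mask by the echelon basis; the result is 0 exactly for code words. -/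
def reduceMask (m : ℕ) : ℕ :=
  List.foldr (fun b x => if x.testBit (Nat.log2 b) then b ^^^ x else x) m basisList

/-- Is the mask a code word? -/
def inCode (m : ℕ) : Bool := reduceMask m == 0

lemma reduceMask_xor_mem (m : ℕ) : m ^^^ reduceMask m ∈ codeList := by
  have : ∀ L : List ℕ, (∀ b ∈ L, b ∈ codeList) →
      m ^^^ List.foldr (fun b x => if x.testBit (Nat.log2 b) then b ^^^ x else x) m L
        ∈ codeList := by
    intro L
    induction L with
    | nil =>
      intro _
      rw [List.foldr_nil, Nat.xor_self]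
      exact zero_mem_spanList _
    | cons b t ih =>
      intro hL
      have h := ih fun c hc => hL c (List.mem_cons_of_mem _ hc)
      simp only [List.foldr_cons]
      split
      · set y := List.foldr (fun b x => if x.testBit (Nat.log2 b) then b ^^^ x else x) m t
        rw [show m ^^^ (b ^^^ y) = b ^^^ (m ^^^ y) by
          rw [← Nat.xor_assoc, Nat.xor_comm m b, Nat.xor_assoc]]
        exact xor_mem_spanList _ (hL b (by simp)) h
      · exact h
  exact this basisList fun b hb => mem_spanList_of_mem _ (List.mem_reverse.2 hb)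

lemma codeList_all_inCode : codeList.all inCode = true := by decide +kernel

lemma inCode_iff {m : ℕ} : inCode m = true ↔ m ∈ codeList := by
  constructor
  · intro h
    have h0 : reduceMask m = 0 := by simpa [inCode] using h
    simpa [h0] using reduceMask_xor_mem m
  · intro h; exact List.all_eq_true.1 codeList_all_inCode m h

/-! ### The code -/

/-- The mask of a binary word. -/
def wordMask (w : GolayPt → ZMod 2) : ℕ := maskOf (support₂ w)

lemma ptSet_wordMask (w : GolayPt → ZMod 2) : ptSet (wordMask w) = support₂ w := ptSet_maskOf _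

lemma wordMask_zero : wordMask 0 = 0 := by decide +kernel

lemma support₂_add {α : Type*} [Fintype α] [DecidableEq α] (v w : α → ZMod 2) :
    support₂ (v + w) = symmDiff (support₂ v) (support₂ w) := by
  have key : ∀ a b : ZMod 2, (a + b ≠ 0) ↔ (a ≠ 0 ∧ ¬ b ≠ 0 ∨ b ≠ 0 ∧ ¬ a ≠ 0) := by decide
  ext p
  simpa [support₂, Finset.mem_symmDiff] using key (v p) (w p)

lemma wordMask_add (v w : GolayPt → ZMod 2) : wordMask (v + w) = wordMask v ^^^ wordMask w := by
  refine ptSet_injOn (maskOf_lt _) (xor_lt_full (maskOf_lt _) (maskOf_lt _)) ?_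
  rw [ptSet_xor, ptSet_wordMask, ptSet_wordMask, ptSet_wordMask, support₂_add]

/-- The binary word with given mask. -/
def maskWord (m : ℕ) : GolayPt → ZMod 2 := fun p => if m.testBit (idx p) then 1 else 0

lemma support₂_maskWord (m : ℕ) : support₂ (maskWord m) = ptSet m := by
  ext p; simp [support₂, maskWord, ptSet]

lemma support₂_injective {α : Type*} [Fintype α] :
    Function.Injective (support₂ (α := α)) := by
  intro v w h
  funext p
  have hp : (v p ≠ 0 ↔ w p ≠ 0) := by
    have := congrArg (fun s => p ∈ s) h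
    simpa [support₂] using this
  have key : ∀ a b : ZMod 2, (a ≠ 0 ↔ b ≠ 0) → a = b := by decide
  exact key _ _ hp

lemma maskWord_wordMask (w : GolayPt → ZMod 2) : maskWord (wordMask w) = w := by
  apply support₂_injective
  rw [support₂_maskWord, ptSet_wordMask]

lemma wordMask_maskWord {m : ℕ} (hm : m < 2 ^ 24) : wordMask (maskWord m) = m := by
  rw [wordMask, support₂_maskWord, maskOf_ptSet hm]

lemma gens_in_codeList : (∀ t : ZMod 23, inCode (wordMask (qrWord t)) = true) ∧
    inCode (wordMask (1 : GolayPt → ZMod 2)) = true := by decide +kernel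

/-- The spanning words, indexed by bit position. -/
def genWord (i : ℕ) : GolayPt → ZMod 2 :=
  match pt i with
  | none => 1
  | some t => qrWord t

lemma genWord_mem (i : ℕ) : genWord i ∈ golayCode := by
  refine Submodule.subset_span ?_
  rw [genWord]
  cases pt i with
  | none => exact Or.inr rfl
  | some t => exact Or.inl ⟨t, rfl⟩

/-- Which spanning words add up to each basis word. -/
def basisSupp : List ℕ := [345, 690, 1085, 665, 1131, 876, 1921, 1505, 289, 578, 1501, 8390294]

/-- The sum of the selected spanning words. -/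
def genSum (c : ℕ) : GolayPt → ZMod 2 :=
  (((List.range 24).filter fun i => c.testBit i).map genWord).sum

lemma genSum_mem (c : ℕ) : genSum c ∈ golayCode := by
  refine list_sum_mem fun x hx => ?_
  obtain ⟨i, -, rfl⟩ := List.mem_map.1 hx
  exact genWord_mem i

lemma basisSupp_spec : basisSupp.map (fun c => wordMask (genSum c)) = basisList := by
  decide +kernel

lemma mem_golayCode_iff {w : GolayPt → ZMod 2} : w ∈ golayCode ↔ wordMask w ∈ codeList := by
  constructor
  · intro hw
    unfold golayCode at hw
    induction hw using Submodule.span_induction with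
    | mem x hx =>
      apply inCode_iff.1
      rcases hx with ⟨t, rfl⟩ | hx
      · exact gens_in_codeList.1 t
      · rw [Set.mem_singleton_iff.1 hx]; exact gens_in_codeList.2
    | zero => rw [wordMask_zero]; exact zero_mem_spanList _
    | add x y _ _ hx hy => rw [wordMask_add]; exact xor_mem_spanList _ hx hy
    | smul c x _ hx =>
      rcases (by decide : ∀ c : ZMod 2, c = 0 ∨ c = 1) c with rfl | rfl
      · rw [zero_smul, wordMask_zero]; exact zero_mem_spanList _
      · rwa [one_smul]
  · intro hw
    rw [← maskWord_wordMask w]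
    refine spanList_induction (P := fun m => m < 2 ^ 24 ∧ maskWord m ∈ golayCode) _ ?_ ?_ ?_ _ hw |>.2
    · refine ⟨by norm_num, ?_⟩
      rw [show maskWord 0 = 0 by funext p; simp [maskWord]]
      exact Submodule.zero_mem _
    · intro b hb
      rw [List.mem_reverse] at hb
      refine ⟨basisList_lt b hb, ?_⟩
      obtain ⟨c, -, rfl⟩ := List.mem_map.1 (basisSupp_spec ▸ hb)
      rw [maskWord_wordMask]
      exact genSum_mem c
    · rintro a b ⟨ha, ha'⟩ ⟨hb, hb'⟩
      refine ⟨xor_lt_full ha hb, ?_⟩
      rw [show maskWord (a ^^^ b) = maskWord a + maskWord b from ?_]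
      · exact Submodule.add_mem _ ha' hb'
      · apply support₂_injective
        rw [support₂_add, support₂_maskWord, support₂_maskWord, support₂_maskWord, ptSet_xor]

/-! ### Supports -/

lemma mem_supports_iff {s : Finset GolayPt} :
    s ∈ supports (golayCode : Set (GolayPt → ZMod 2)) ↔ maskOf s ∈ codeList := by
  constructor
  · rintro ⟨w, hw, rfl⟩; exact mem_golayCode_iff.1 hw
  · intro h
    refine ⟨maskWord (maskOf s), ?_, by rw [support₂_maskWord, ptSet_maskOf]⟩
    rw [SetLike.mem_coe, mem_golayCode_iff, wordMask_maskWord (maskOf_lt s)]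
    exact h

lemma ptSet_mem_supports_iff {m : ℕ} (hm : m < 2 ^ 24) :
    ptSet m ∈ supports (golayCode : Set (GolayPt → ZMod 2)) ↔ m ∈ codeList := by
  rw [mem_supports_iff, maskOf_ptSet hm]

lemma supports_eq_image :
    supports (golayCode : Set (GolayPt → ZMod 2)) = ptSet '' {m | m ∈ codeList} := by
  ext s
  constructor
  · intro h; exact ⟨maskOf s, mem_supports_iff.1 h, ptSet_maskOf s⟩
  · rintro ⟨m, hm, rfl⟩; exact (ptSet_mem_supports_iff (codeList_lt hm)).2 hm

/-- Strictly increasing, as a Boolean. -/
def isIncr : List ℕ → Bool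
  | [] => true
  | [_] => true
  | a :: b :: t => decide (a < b) && isIncr (b :: t)

lemma isIncr_pairwise : ∀ {l : List ℕ}, isIncr l = true → l.Pairwise (· < ·)
  | [], _ => List.Pairwise.nil
  | [a], _ => List.pairwise_singleton _ a
  | a :: b :: t, h => by
    simp only [isIncr, Bool.and_eq_true, decide_eq_true_eq] at h
    have ih := isIncr_pairwise h.2
    refine List.pairwise_cons.2 ⟨fun c hc => ?_, ih⟩
    rcases List.mem_cons.1 hc with rfl | hc
    · exact h.1
    · exact h.1.trans ((List.pairwise_cons.1 ih).1 c hc)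

lemma isIncr_nodup {l : List ℕ} (h : isIncr l = true) : l.Nodup :=
  (isIncr_pairwise h).imp fun hab => ne_of_lt hab

lemma codeList_incr : isIncr codeList = true := by decide +kernel

lemma codeList_nodup : codeList.Nodup := isIncr_nodup codeList_incr

lemma codeList_length : codeList.length = 4096 := by decide +kernel

/-- Code masks of a given weight. -/
def wordList (k : ℕ) : List ℕ := codeList.filter fun m => popCnt m == k

lemma mem_wordList {k m : ℕ} : m ∈ wordList k ↔ m ∈ codeList ∧ popCnt m = k := by
  simp [wordList]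

lemma wordsOfWeight_eq (k : ℕ) :
    wordsOfWeight (golayCode : Set (GolayPt → ZMod 2)) k = ptSet '' {m | m ∈ wordList k} := by
  ext s
  constructor
  · rintro ⟨hs, hk⟩
    exact ⟨maskOf s, mem_wordList.2 ⟨mem_supports_iff.1 hs, by rw [popCnt_maskOf, hk]⟩,
      ptSet_maskOf s⟩
  · rintro ⟨m, hm, rfl⟩
    obtain ⟨hm1, hm2⟩ := mem_wordList.1 hm
    exact ⟨(ptSet_mem_supports_iff (codeList_lt hm1)).2 hm1, by rw [card_ptSet, hm2]⟩

lemma mem_wordsOfWeight_iff {k : ℕ} {s : Finset GolayPt} :
    s ∈ wordsOfWeight (golayCode : Set (GolayPt → ZMod 2)) k ↔ maskOf s ∈ wordList k := by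
  rw [mem_wordList, popCnt_maskOf, ← mem_supports_iff]
  exact Iff.rfl

/-- Counting a predicate on supports by a list of masks. -/
lemma ncard_ptSet_image {l : List ℕ} (hl : l.Nodup) (hlt : ∀ m ∈ l, m < 2 ^ 24) :
    (ptSet '' {m | m ∈ l}).ncard = l.length := by
  have hinj : Set.InjOn ptSet {m | m ∈ l} := fun a ha b hb h => ptSet_injOn (hlt a ha) (hlt b hb) h
  rw [hinj.ncard_image]
  rw [show {m | m ∈ l} = (l.toFinset : Set ℕ) by ext; simp, Set.ncard_coe_finset,
    List.toFinset_card_of_nodup hl]

lemma ncard_wordsOfWeight (k : ℕ) :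
    (wordsOfWeight (golayCode : Set (GolayPt → ZMod 2)) k).ncard = (wordList k).length := by
  rw [wordsOfWeight_eq]
  exact ncard_ptSet_image (codeList_nodup.filter _) fun m hm => codeList_lt (mem_wordList.1 hm).1

lemma wordList_eight_length : (wordList 8).length = 759 := by decide +kernel

lemma wordList_twelve_length : (wordList 12).length = 2576 := by decide +kernel

lemma ncard_octads : octads.ncard = 759 :=
  (ncard_wordsOfWeight 8).trans wordList_eight_length

lemma ncard_dodecads : dodecads.ncard = 2576 :=
  (ncard_wordsOfWeight 12).trans wordList_twelve_length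

lemma codeList_weights :
    codeList.all (fun m => [0, 8, 12, 16, 24].contains (popCnt m)) = true := by decide +kernel

lemma popCnt_codeList {m : ℕ} (hm : m ∈ codeList) :
    popCnt m = 0 ∨ popCnt m = 8 ∨ popCnt m = 12 ∨ popCnt m = 16 ∨ popCnt m = 24 := by
  have := List.all_eq_true.1 codeList_weights m hm
  simpa [List.contains_iff_mem] using this

lemma card_support {w : GolayPt → ZMod 2} (hw : w ∈ golayCode) :
    (support₂ w).card = 0 ∨ (support₂ w).card = 8 ∨ (support₂ w).card = 12 ∨
      (support₂ w).card = 16 ∨ (support₂ w).card = 24 := by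
  rw [← popCnt_maskOf]
  exact popCnt_codeList (mem_golayCode_iff.1 hw)

lemma card_mem_supports {s : Finset GolayPt}
    (hs : s ∈ supports (golayCode : Set (GolayPt → ZMod 2))) :
    s.card = 0 ∨ s.card = 8 ∨ s.card = 12 ∨ s.card = 16 ∨ s.card = 24 := by
  rw [← popCnt_maskOf]
  exact popCnt_codeList (mem_supports_iff.1 hs)

lemma hammingNorm_eq (w : GolayPt → ZMod 2) : hammingNorm w = (support₂ w).card := rfl

lemma symmDiff_mem_supports {s t : Finset GolayPt}
    (hs : s ∈ supports (golayCode : Set (GolayPt → ZMod 2)))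
    (ht : t ∈ supports (golayCode : Set (GolayPt → ZMod 2))) :
    symmDiff s t ∈ supports (golayCode : Set (GolayPt → ZMod 2)) := by
  obtain ⟨v, hv, rfl⟩ := hs
  obtain ⟨w, hw, rfl⟩ := ht
  exact ⟨v + w, Submodule.add_mem _ hv hw, support₂_add v w⟩

lemma octad_eq_of_five {o o' : Finset GolayPt} (ho : o ∈ octads) (ho' : o' ∈ octads)
    (h : 5 ≤ (o ∩ o').card) : o = o' := by
  have hc : (symmDiff o o').card + 2 * (o ∩ o').card = o.card + o'.card := by
    rw [show symmDiff o o' = (o ∪ o') \ (o ∩ o') by ext; simp [Finset.mem_symmDiff]; tauto]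
    have h1 := Finset.card_sdiff_add_card_eq_card
      (show o ∩ o' ⊆ o ∪ o' from Finset.inter_subset_left.trans Finset.subset_union_left)
    have h2 := Finset.card_union_add_card_inter o o'
    omega
  have hw := card_mem_supports (symmDiff_mem_supports ho.1 ho'.1)
  have h8 : o.card = 8 := ho.2
  have h8' : o'.card = 8 := ho'.2
  have h0 : (symmDiff o o').card = 0 := by omega
  rwa [Finset.card_eq_zero, ← Finset.bot_eq_empty, symmDiff_eq_bot] at h0

lemma octads_isSteinerSystem : IsSteinerSystem 5 8 octads := by
  refine ⟨fun o ho => ho.2, ?_⟩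
  classical
  let O : Finset (Finset GolayPt) := Finset.univ.filter (· ∈ octads)
  have hO : O.card = 759 := by
    rw [← ncard_octads, ← Set.ncard_coe_finset]; congr 1; ext; simp [O]
  have hdisj : (O : Set (Finset GolayPt)).PairwiseDisjoint fun o => o.powersetCard 5 := by
    intro o ho o' ho' hne
    rw [Function.onFun, Finset.disjoint_left]
    intro s hs hs'
    rw [Finset.mem_powersetCard] at hs hs'
    refine hne (octad_eq_of_five (by simpa [O] using ho) (by simpa [O] using ho') ?_)
    rw [← hs.2]
    exact Finset.card_le_card (Finset.subset_inter hs.1 hs'.1)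
  have huniv : (O.biUnion fun o => o.powersetCard 5)
      = (Finset.univ : Finset GolayPt).powersetCard 5 := by
    refine Finset.eq_of_subset_of_card_le ?_ ?_
    · intro s hs
      simp only [Finset.mem_biUnion, Finset.mem_powersetCard] at hs
      obtain ⟨o, -, -, h⟩ := hs
      exact Finset.mem_powersetCard.2 ⟨Finset.subset_univ _, h⟩
    · rw [Finset.card_biUnion hdisj, Finset.card_powersetCard,
        Finset.sum_congr rfl (g := fun _ => 56) ?_, Finset.sum_const, hO, smul_eq_mul,
        Finset.card_univ]
      · simp [GolayPt]; decide +kernel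
      · intro o ho
        rw [Finset.card_powersetCard, (show o ∈ octads by simpa [O] using ho).2]
        decide
  intro s hs
  have hs' : s ∈ (Finset.univ : Finset GolayPt).powersetCard 5 :=
    Finset.mem_powersetCard.2 ⟨Finset.subset_univ _, hs⟩
  rw [← huniv, Finset.mem_biUnion] at hs'
  obtain ⟨o, ho, hso⟩ := hs'
  rw [Finset.mem_powersetCard] at hso
  refine ⟨o, ⟨by simpa [O] using ho, hso.1⟩, ?_⟩
  rintro o' ⟨ho', hso'⟩
  refine octad_eq_of_five ho' (by simpa [O] using ho) ?_
  rw [← hs]
  exact Finset.card_le_card (Finset.subset_inter hso' hso.1)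

end Cfsg.Agent.Golay
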