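import Cfsg.Agent.Golay.Table

/-!
Dimension and self-orthogonality of the code; the standard permutations lie in its group.
-/

set_option autoImplicit false

namespace Cfsg.Agent.Golay

open Cfsg
open scoped Pointwise

lemma card_golayCode : Nat.card golayCode = 4096 := by
  let e : golayCode ≃ {m : ℕ // m ∈ codeList} :=
    { toFun := fun w => ⟨wordMask w.1, mem_golayCode_iff.1 w.2⟩
      invFun := fun m => ⟨maskWord m.1, mem_golayCode_iff.2 (by
        rw [wordMask_maskWord (codeList_lt m.2)]; exact m.2)⟩
      left_inv := fun w => Subtype.ext (maskWord_wordMask w.1)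
      right_inv := fun m => Subtype.ext (wordMask_maskWord (codeList_lt m.2)) }
  rw [Nat.card_congr e, Nat.card_eq_fintype_card,
    Fintype.card_of_subtype codeList.toFinset (by simp),
    List.toFinset_card_of_nodup codeList_nodup, codeList_length]

lemma finrank_golayCode : Module.finrank (ZMod 2) golayCode = 12 := by
  have h := Module.natCard_eq_pow_finrank (K := ZMod 2) (V := golayCode)
  rw [card_golayCode, Nat.card_zmod] at h
  exact (Nat.pow_right_injective le_rfl (h.symm.trans (by norm_num : (4096 : ℕ) = 2 ^ 12)))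

/-- Parity of the common support with every basis word. -/
lemma basis_orth :
    (basisList.all fun a => basisList.all fun b => popCnt (a &&& b) % 2 == 0) = true := by
  decide +kernel

lemma popCnt_xor_parity (a b c : ℕ) :
    popCnt ((a ^^^ b) &&& c) % 2 = (popCnt (a &&& c) + popCnt (b &&& c)) % 2 := by
  rw [← card_ptSet, ← card_ptSet, ← card_ptSet, Nat.and_xor_distrib_right, ptSet_xor,
    symmDiff_eq_sup_sdiff_inf, Finset.sup_eq_union, Finset.inf_eq_inter]
  set x := ptSet (a &&& c)
  set y := ptSet (b &&& c)
  have h1 := Finset.card_sdiff_add_card_eq_card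
    (show x ∩ y ⊆ x ∪ y from Finset.inter_subset_left.trans Finset.subset_union_left)
  have h2 := Finset.card_union_add_card_inter x y
  omega

lemma codeList_orth {a b : ℕ} (ha : a ∈ codeList) (hb : b ∈ codeList) :
    popCnt (a &&& b) % 2 = 0 := by
  refine spanList_induction (P := fun a => ∀ b ∈ codeList, popCnt (a &&& b) % 2 = 0) _ ?_ ?_ ?_
    a ha b hb
  · intro b _; rw [Nat.zero_and]; rfl
  · intro a ha b hb
    refine spanList_induction (P := fun b => popCnt (a &&& b) % 2 = 0) _ ?_ ?_ ?_ b hb
    · rw [Nat.and_zero]; rfl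
    · intro c hc
      have := List.all_eq_true.1 (List.all_eq_true.1 basis_orth a (List.mem_reverse.1 ha)) c
        (List.mem_reverse.1 hc)
      exact eq_of_beq this
    · intro x y hx hy
      rw [Nat.and_comm, popCnt_xor_parity, Nat.and_comm x, Nat.and_comm y]
      omega
  · intro x y hx hy b hb
    rw [popCnt_xor_parity]
    have := hx b hb; have := hy b hb
    omega

lemma even_card_inter {s t : Finset GolayPt}
    (hs : s ∈ supports (golayCode : Set (GolayPt → ZMod 2)))
    (ht : t ∈ supports (golayCode : Set (GolayPt → ZMod 2))) : (s ∩ t).card % 2 = 0 := by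
  have := codeList_orth (mem_supports_iff.1 hs) (mem_supports_iff.1 ht)
  rwa [← card_ptSet, ptSet_and, ptSet_maskOf, ptSet_maskOf] at this

lemma dot_eq_zero {v w : GolayPt → ZMod 2} (hv : v ∈ golayCode) (hw : w ∈ golayCode) :
    ∑ i, v i * w i = 0 := by
  have h := even_card_inter (Set.mem_image_of_mem support₂ hv) (Set.mem_image_of_mem support₂ hw)
  have key : ∀ a b : ZMod 2, a * b = if a ≠ 0 ∧ b ≠ 0 then 1 else 0 := by decide
  rw [Finset.sum_congr rfl fun i _ => key (v i) (w i), Finset.sum_boole]
  rw [show (Finset.univ.filter fun i => v i ≠ 0 ∧ w i ≠ 0) = support₂ v ∩ support₂ w by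
    ext i; simp [support₂]]
  rw [ZMod.natCast_eq_zero_iff_even, Nat.even_iff]
  exact h

lemma M24_eq_setSystemAut_octads : M24 = setSystemAut octads := by
  apply le_antisymm
  · intro σ hσ
    rw [setSystemAut, MulAction.mem_stabilizer_iff]
    refine Set.eq_of_subset_of_ncard_le ?_ ?_ (Set.toFinite _)
    · rintro s ⟨t, ht, rfl⟩; exact smul_mem_octads hσ ht
    · rw [← Set.image_smul, Set.ncard_image_of_injective _ (MulAction.injective σ)]
  · intro σ hσ
    rw [setSystemAut, MulAction.mem_stabilizer_iff] at hσ
    rw [← mkPerm_tblOf σ, ← inM24_iff (validT_tblOf σ), inM24, validT_tblOf, Bool.true_and,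
      List.all_eq_true]
    intro b hb
    have h8 : popCnt b = 8 := eq_of_beq (List.all_eq_true.1 basis_weight b hb)
    have hoct : ptSet b ∈ octads :=
      ⟨(ptSet_mem_supports_iff (basisList_lt b hb)).2
        (mem_spanList_of_mem _ (List.mem_reverse.2 hb)), by rw [card_ptSet, h8]⟩
    have := Set.smul_mem_smul_set (a := σ) hoct
    rw [hσ, ← ptSet_tblImg_tblOf] at this
    rw [inCode_iff, ← ptSet_mem_supports_iff (tblImg_lt (validT_tblOf σ) b)]
    exact this.1
where
  basis_weight : (basisList.all fun b => popCnt b == 8) = true := by decide +kernel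

/-- The translation `x ↦ x + 1` fixing the extra point. -/
def transl : Equiv.Perm GolayPt := Equiv.optionCongr (Equiv.addRight (1 : ZMod 23))

lemma transl_mem : transl ∈ M24 := mem_M24_of_tblOf (by decide +kernel)

lemma projInv_mem : projInv ∈ M24 := mem_M24_of_tblOf (by decide +kernel)

lemma tblOf_cubeTwist : tblOf cubeTwist = mkTbl 24 fun i => idx (cubeTwistFun (pt i)) := rfl

lemma cubeTwist_mem : cubeTwist ∈ M24 := mem_M24_of_tblOf (by
  rw [tblOf_cubeTwist]; decide +kernel)

lemma mulLeft_mem (u : (ZMod 23)ˣ) (hu : IsSquare u) :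
    Equiv.optionCongr (Units.mulLeft u) ∈ M24 := by
  obtain ⟨r, rfl⟩ := hu
  apply mem_M24_of_tblOf
  revert r
  decide +kernel

end Cfsg.Agent.Golay
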