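import Cfsg.Agent.Golay.Maximal
import Cfsg.Agent.Golay.Co1

/-!
Orders of stabilisers of short vectors and transitivity on triples of minimal vectors.
-/

set_option autoImplicit false

namespace Cfsg.Agent.Golay

open Cfsg
open scoped Pointwise

/-- A minimal vector with key `(-1, -3, 24)`. -/
def tripleFun : GolayPt → ℤ := fun p =>
  if p = none then -1 else if p = some 0 then -3 else if Nat.testBit 8394986 (idx p) then -1 else 1

lemma tripleFun_facts : inLeech tripleFun = true ∧ sqNorm tripleFun = 32 ∧ signsOK tripleFun = true ∧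
    keyVec tripleFun = (-1, -3, 24) ∧ dotInt repA.1 tripleFun = -16 ∧
    dotInt repW.1 tripleFun = 8 := by
  decide +kernel

/-- The same, inside the lattice. -/
def repT : leechLattice := ⟨tripleFun, mem_of_inLeech tripleFun_facts.1⟩

lemma repA_norm : sqNorm repA.1 = 32 := by decide +kernel

lemma repW_norm : sqNorm repW.1 = 32 := pairVec_facts.2.1

lemma dot_repW (w : GolayPt → ℤ) : dotInt repW.1 w = 4 * (w none - w (some 0)) := by
  rw [dotInt, ← Finset.sum_subset (Finset.subset_univ {none, some 0}) (fun l _ hl => by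
    simp only [Finset.mem_insert, Finset.mem_singleton, not_or] at hl
    show pairVec l * w l = 0
    simp [pairVec, hl.1, hl.2]), Finset.sum_pair (by simp)]
  show pairVec none * w none + pairVec (some 0) * w (some 0) = _
  simp [pairVec]; ring

theorem card_fixA : Nat.card fixA = 42305421312000 := by
  have h := Subgroup.card_mul_index (MulAction.stabilizer Co0 repA)
  rw [MulAction.index_stabilizer, orbit_min_card, card_co0] at h
  exact Nat.eq_of_mul_eq_mul_right (show 0 < 196560 by norm_num) (h.trans (by norm_num))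

theorem card_stab_min {v : leechLattice} (hv : sqNorm v.1 = 32) :
    Nat.card (MulAction.stabilizer Co0 v) = 42305421312000 := by
  obtain ⟨g, hg⟩ := co0_transitive_min v repA hv repA_norm
  rw [Nat.card_congr (MulAction.stabilizerEquivStabilizer hg.symm).toEquiv]
  exact card_fixA

theorem card_stab_fortyeight {u : leechLattice} (hu : sqNorm u.1 = 48) :
    Nat.card (MulAction.stabilizer Co0 u) = 495766656000 := by
  have horb : (MulAction.orbit Co0 u).ncard = 16773120 := by
    rw [← ncard_norm48, ← Set.ncard_image_of_injective _ Subtype.val_injective]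
    refine congrArg Set.ncard ?_
    ext x
    constructor
    · rintro ⟨_, ⟨g, rfl⟩, rfl⟩
      exact ⟨SetLike.coe_mem _, (co0_sqNorm g u).trans hu⟩
    · rintro ⟨hx, hn⟩
      exact ⟨⟨x, hx⟩, co0_transitive_fortyeight u ⟨x, hx⟩ hu hn, rfl⟩
  have h := Subgroup.card_mul_index (MulAction.stabilizer Co0 u)
  rw [MulAction.index_stabilizer, horb, card_co0] at h
  exact Nat.eq_of_mul_eq_mul_right (show 0 < 16773120 by norm_num) (h.trans (by norm_num))

theorem card_fixA_eight {w : leechLattice} (hw : sqNorm w.1 = 32) (hd : dotInt repA.1 w.1 = -8) :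
    Nat.card ↥(fixA ⊓ MulAction.stabilizer Co0 w) = 898128000 := by
  have horb : (MulAction.orbit fixA w).ncard = 47104 := by
    rw [← census_repA (d := -2) (n := 47104) (by simp),
      ← Set.ncard_image_of_injective _ Subtype.val_injective]
    refine congrArg Set.ncard ?_
    ext x
    constructor
    · rintro ⟨_, ⟨g, rfl⟩, rfl⟩
      refine ⟨SetLike.coe_mem _, (co0_sqNorm g.1 w).trans hw, ?_⟩
      have h := co0_dot g.1 repA w
      rw [show g.1 • repA = repA from g.2] at h
      exact h.trans (hd.trans (by norm_num))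
    · rintro ⟨hx, hn, hxd⟩
      obtain ⟨g, g1, g2⟩ := min_trans_eight (v := repA) (w := w) (w' := ⟨x, hx⟩) repA_norm hw hn hd
        (hxd.trans (by norm_num))
      exact ⟨⟨x, hx⟩, ⟨⟨g, g1⟩, g2⟩, rfl⟩
  have h := card_eq_orbit_mul fixA w
  rw [horb, card_fixA] at h
  omega

/-! ### Triples of minimal vectors -/

lemma mem_orbit_repW {a : leechLattice} (ha : sqNorm a.1 = 32) (hd : dotInt repA.1 a.1 = 0) :
    a ∈ MulAction.orbit fixA repW := by
  obtain ⟨g, g1, g2⟩ := min_trans_zero (v := repA) (w := repW) (w' := a) repA_norm repW_norm ha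
    (by rw [dot_repA]; simp [repW, pairVec]) hd
  rcases g2 with g2 | g2
  · exact ⟨⟨g, g1⟩, g2⟩
  · obtain ⟨k, hk⟩ := (orbit_repW_card fixA le_rfl inf_le_right).1
    refine ⟨⟨g, g1⟩ * k, ?_⟩
    show ((⟨g, g1⟩ : fixA) * k) • repW = a
    rw [mul_smul, show k • repW = -repW from hk]
    show g • (-repW) = a
    rw [co0_smul_neg, g2, neg_neg]

lemma mono_fixA_repW {k : Co0} (hk : k ∈ fixA) (hm : IsMono k) :
    k • repW = repW ∨ k • repW = -repW := by
  obtain ⟨σ, c, rfl⟩ := stdCross_stabiliser_eq_monomial k hm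
  have hval : ∀ (x : leechLattice) q, (monoAut σ c • x).1 (σ.1 q) = x.1 q ∨
      (monoAut σ c • x).1 (σ.1 q) = -x.1 q := by
    intro x q
    rw [monoAut_eq, mul_smul, signAut_apply, permAut_apply]
    split <;> simp
  have hpair : ∀ q, (q = none ∨ q = some 0) ↔ (σ.1 q = none ∨ σ.1 q = some 0) := by
    intro q
    have h := hval repA q
    rw [show monoAut σ c • repA = repA from hk] at h
    change repFour (σ.1 q) = repFour q ∨ repFour (σ.1 q) = -repFour q at h
    unfold repFour at h
    constructor <;> intro hq <;> by_contra hn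
    · rw [if_pos hq, if_neg hn] at h; omega
    · rw [if_neg hn, if_pos hq] at h; omega
  set y := monoAut σ c • repW with hy
  have hd : dotInt repA.1 y.1 = 0 := by
    have h := co0_dot (monoAut σ c) repA repW
    rw [show monoAut σ c • repA = repA from hk, pairVec_dot] at h
    exact h
  rw [dot_repA] at hd
  have hsupp : ∀ l, l ≠ none → l ≠ some 0 → y.1 l = 0 := by
    intro l h1 h2
    obtain ⟨q, rfl⟩ : ∃ q, σ.1 q = l := ⟨σ.1.symm l, σ.1.apply_symm_apply l⟩
    have hq : ¬ (q = none ∨ q = some 0) := fun h => ((hpair q).1 h).elim h1 h2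
    have h0 : repW.1 q = 0 := by
      simp only [not_or] at hq
      simp [repW, pairVec, hq.1, hq.2]
    rcases hval repW q with e | e <;> rw [hy, e, h0] <;> rfl
  have h4 : y.1 none = 4 ∨ y.1 none = -4 := by
    obtain ⟨q, hq⟩ : ∃ q, σ.1 q = none := ⟨σ.1.symm none, σ.1.apply_symm_apply none⟩
    have hq' : repW.1 q = 4 ∨ repW.1 q = -4 := by
      rcases (hpair q).2 (Or.inl hq) with rfl | rfl <;> simp [repW, pairVec]
    rcases hval repW q with e | e <;> rw [hy, ← hq, e] <;> omega
  have hW : ∀ l, repW.1 l = if l = none then 4 else if l = some 0 then -4 else 0 := fun l => rfl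
  rcases h4 with h4 | h4
  · refine Or.inl (Subtype.ext (funext fun l => ?_))
    rw [hW]
    split_ifs with h1 h2
    · rw [h1]; exact h4
    · rw [h2]; omega
    · exact hsupp l h1 h2
  · refine Or.inr (Subtype.ext (funext fun l => ?_))
    rw [AddSubgroup.coe_neg, Pi.neg_apply, hW]
    split_ifs with h1 h2
    · rw [h1]; exact h4
    · rw [h2]; omega
    · rw [hsupp l h1 h2]; rfl

lemma triple_keys : ((keysFor (-4)).all fun k =>
    decide (k.1 - k.2.1 ≠ 2) || decide (k = (-1, -3, 24))) = true := by decide +kernel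

lemma key_of_triple {b : leechLattice} (hb : sqNorm b.1 = 32) (h1 : dotInt repA.1 b.1 = -16)
    (h2 : dotInt repW.1 b.1 = 8) : keyVec b.1 = (-1, -3, 24) := by
  rw [dot_repA] at h1
  rw [dot_repW] at h2
  have hk := List.all_eq_true.1 triple_keys _ (key_mem_keysFor hb (d := -4) (by omega))
  rw [Bool.or_eq_true, decide_eq_true_eq, decide_eq_true_eq] at hk
  exact hk.resolve_left (fun h => h (by simp only [keyVec]; omega))

lemma exists_move_repT {b : leechLattice} (hb : sqNorm b.1 = 32) (h1 : dotInt repA.1 b.1 = -16)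
    (h2 : dotInt repW.1 b.1 = 8) : ∃ k ∈ fixA, k • repW = repW ∧ k • b = repT := by
  obtain ⟨-, hn, hs, hkey, -, hd⟩ := tripleFun_facts
  obtain ⟨k, hk, hm, he⟩ := mono_of_key (r := repT) hb hn hs
    ((key_of_triple hb h1 h2).trans hkey.symm)
  refine ⟨k, hk, (mono_fixA_repW hk hm).resolve_right fun hneg => ?_, he⟩
  have h := co0_dot k repW b
  rw [hneg, he, h2, AddSubgroup.coe_neg, dotInt] at h
  rw [show repT.1 = tripleFun from rfl] at h
  rw [dotInt] at hd
  simp only [Pi.neg_apply, neg_mul, Finset.sum_neg_distrib] at h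
  omega

/-- Triples `(x, a, b)` with products `0, -16, 8` are all alike. -/
theorem exists_move_triple {x a b : leechLattice} (hx : sqNorm x.1 = 32) (ha : sqNorm a.1 = 32)
    (hb : sqNorm b.1 = 32) (hxa : dotInt x.1 a.1 = 0) (hxb : dotInt x.1 b.1 = -16)
    (hab : dotInt a.1 b.1 = 8) :
    ∃ g : Co0, g • x = repA ∧ g • a = repW ∧ g • b = repT := by
  obtain ⟨g, hg⟩ := co0_transitive_min x repA hx repA_norm
  obtain ⟨⟨h, hh⟩, he⟩ := mem_orbit_repW (a := g • a) (by rw [co0_sqNorm, ha])
    (by rw [← hg, co0_dot, hxa])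
  have hh' : h • repA = repA := hh
  have he' : h • repW = g • a := he
  set g' := h⁻¹ * g
  have g1 : g' • x = repA := by
    rw [mul_smul, hg, inv_smul_eq_iff, hh']
  have g2 : g' • a = repW := by rw [mul_smul, inv_smul_eq_iff, he']
  obtain ⟨k, hk, hkW, hkT⟩ := exists_move_repT (b := g' • b) (by rw [co0_sqNorm, hb])
    (by rw [← g1, co0_dot, hxb]) (by rw [← g2, co0_dot, hab])
  refine ⟨k * g', ?_, ?_, ?_⟩
  · rw [mul_smul, g1]; exact hk
  · rw [mul_smul, g2, hkW]
  · rw [mul_smul, hkT]

lemma card_key_triple : (keyFin ((-1, -3, 24) : ℤ × ℤ × ℕ)).card = 1024 := by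
  obtain ⟨r, hr, hk⟩ : ∃ r ∈ keyRows, r.1 = ((-1, -3, 24) : ℤ × ℤ × ℕ) ∧ r.2.2 = 1024 := by
    decide +kernel
  rw [← hk.1, card_keyFin hr, hk.2]

theorem card_triple_stab :
    Nat.card ↥(fixA ⊓ MulAction.stabilizer Co0 repW ⊓ MulAction.stabilizer Co0 repT) = 443520 := by
  have h1 := card_eq_orbit_mul fixA repW
  rw [orbit_fixA_repW, card_fixA] at h1
  have h2 := card_eq_orbit_mul (fixA ⊓ MulAction.stabilizer Co0 repW) repT
  have horb : (MulAction.orbit ↥(fixA ⊓ MulAction.stabilizer Co0 repW) repT).ncard = 1024 := by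
    rw [← card_key_triple, ← Set.ncard_coe_finset,
      ← Set.ncard_image_of_injective _ Subtype.val_injective]
    obtain ⟨-, hn, -, hkey, hd1, hd2⟩ := tripleFun_facts
    refine congrArg Set.ncard ?_
    ext y
    simp only [keyFin, Finset.coe_filter, mem_normFin, Set.mem_setOf_eq, Nat.cast_ofNat]
    constructor
    · rintro ⟨_, ⟨⟨g, hg1, hg2⟩, rfl⟩, rfl⟩
      refine ⟨⟨SetLike.coe_mem _, (co0_sqNorm g repT).trans hn⟩, key_of_triple
        ((co0_sqNorm g repT).trans hn) ?_ ?_⟩
      · have h := co0_dot g repA repT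
        rw [show g • repA = repA from hg1] at h
        exact h.trans hd1
      · have h := co0_dot g repW repT
        rw [show g • repW = repW from hg2] at h
        exact h.trans hd2
    · rintro ⟨⟨hy, hyn⟩, hyk⟩
      simp only [keyVec, Prod.mk.injEq] at hyk
      obtain ⟨k, hk, hkW, hkT⟩ := exists_move_repT (b := ⟨y, hy⟩) hyn
        (by rw [dot_repA]; show 4 * (y none + y (some 0)) = -16; omega)
        (by rw [dot_repW]; show 4 * (y none - y (some 0)) = 8; omega)
      refine ⟨⟨y, hy⟩, ⟨⟨k, hk, hkW⟩⁻¹, ?_⟩, rfl⟩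
      show k⁻¹ • repT = _
      rw [inv_smul_eq_iff, hkT]
  rw [horb] at h2
  omega

end Cfsg.Agent.Golay
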