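import Cfsg.Agent.H95.GolayOrbit

/-!
Generated data: orbit programs of a dodecad stabiliser on dodecads.
-/

set_option autoImplicit false

namespace Cfsg.Agent.Golay

/-- Elements of the stabiliser of the reference dodecad. -/
def dodGens : List ℕ := [648646205671377711087552262390172045, 807816904497224227295665743531811241, 816051793049524868971383994076734470]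

/-- Dodecads meeting the reference one in 12 points. -/
def dodOrbit12 : List ℕ × List (List ℕ) :=
  ([340831], [
    ])

/-- Dodecads meeting the reference one in 8 points. -/
def dodOrbit8 : List ℕ × List (List ℕ) :=
  ([28637], [
    [7],
    [7,7,7],
    [7,7,7,7,7,7,7,7,7],
    [6,3,7,7,7,7,7,6,7,7,7,7,7,7,5,7,7,7,5,7,4,5,3,7,7,6,6],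
    [7,6,7,5,4,7,6,3,5,7,7,7,7,7,7,7,6,2,7,6,3,3,7,6,0,6,5,7,7,5,7,7,4,7,6,7,6,7,7,5,2,7,6,3,3,6,6,4,5,3,5,2,6,6,7,7,2,5,1,4,5,7,2,3,7,2,6,3,4,3],
    [1,1,3,4,3,4,7,3,3,5,7,6,4,3,5,2,7,4,6,7,6,6,4,3,6,6,4,2,4,3,3,6,2,1,7,2,7,7,3,5,4,2,6,5,5,5,3,2,1,0,2,7,1,7,0,1,3,2,2,0,3,0,2,3,7,0,2,6,1,2,3,5,6,2,5,2,0,0,6,1,1,1,4,4,6,6,1,1,0,0,3,5,2,0,0,5,4,0,1,1,0,0,0,0,1,1,0,3,1,4,4,2,1,1,0,4,6,5,1,0,0,4,1,4,1,1,0,2,0,0,5,4,2,4,0,7,1,6,4,0,0,0,6,0,2,0,0,0,0,2,3],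
    [0,6,2,0,4,0,1,4,0,0,0,2,0,1,0,2,6,2,0,1,1,1,2,0,0,2,0,4,2,1,0,0,0,0,0,4,4,4,2,0,0,0,0,0,0,0,4,1,0,0,0,0,2,0,0,4,0,0,4,1,0,4,0,1,0,1,0,0,0,0,0,0,1,0,0,2,0,0,0,0,4,4,0,0,0,4,0,0,0,0,0,0,0,0,4,0,0,0,0,0,0,0,0,0,0,0,4,0,0,0,0,0,0,0,1,0,2,4,0,0,0,0,0,0,0,0,0,0,0,0,0,0,1,0,0,0,0,0,0,0,0,0,0,1,0,0,0,0,1,0,0,0,0,0,0,0,0,0,0,0,0,0,0,1,0,0,0,0,2,0,0,0,0,0,0,0,0,0,0,0,0,0,0,0,0,0]])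

/-- Dodecads meeting the reference one in 6 points. -/
def dodOrbit6 : List ℕ × List (List ℕ) :=
  ([57274], [
    [7],
    [7,7,7],
    [7,7,7,7,7,6,7,7,7],
    [7,7,7,7,7,7,7,7,3,7,3,7,7,7,7,5,7,7,7,7,6,7,7,7,7,7],
    [7,3,7,5,7,5,7,7,7,7,7,7,7,7,7,3,7,5,7,7,7,7,7,6,5,7,7,6,7,7,4,7,7,5,7,7,7,5,7,7,4,6,7,7,7,7,7,7,7,7,7,7,6,6,7,3,7,5,7,7,1,7,7,6,7,7,7,7,7,7,7,5,7,3],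
    [5,7,7,5,7,7,7,5,5,2,7,7,7,7,7,7,7,7,7,6,7,3,7,3,7,0,7,5,5,5,5,7,7,7,7,7,3,3,6,6,7,6,6,3,7,5,7,7,7,7,6,7,5,5,5,7,7,5,7,7,7,7,6,5,6,6,7,5,5,5,7,7,5,6,3,7,1,3,4,3,7,7,7,6,3,2,3,3,2,5,3,5,0,7,7,7,7,5,4,7,7,7,7,7,7,6,7,7,7,6,7,6,6,7,4,3,7,7,7,7,4,7,7,0,3,5,7,7,2,6,1,3,7,7,7,7,5,3,5,7,3,3,7,3,3,2,7,7,5,7,5,3,6,5,6,2,5,5,1,7,7,7,5,7,7,6,2,7,5,1,5,7,3,3,1,5,3,0,6,5,1,2,1,3,7,7,3,7,7,7,6,1,2,2,7,5,3,5],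
    [4,7,3,4,3,6,5,7,0,3,4,3,5,7,6,1,7,5,7,7,3,0,7,0,7,7,5,1,7,2,7,3,4,7,3,7,6,3,5,1,4,2,3,2,6,5,6,0,6,7,5,0,6,7,2,1,7,7,3,4,5,7,5,2,5,0,1,4,1,2,7,5,5,2,2,7,7,2,7,5,1,7,4,5,0,6,6,4,2,7,5,3,3,7,6,3,2,2,3,6,4,6,3,6,7,2,5,1,1,3,4,3,5,4,2,7,6,0,1,0,3,5,3,3,4,2,7,7,1,0,5,1,4,1,5,4,4,3,3,3,6,4,6,2,4,4,0,5,2,1,2,0,4,3,3,1,2,5,3,6,5,6,7,6,6,1,4,6,7,6,5,6,6,2,1,1,5,0,1,6,4,0,0,0,3,1,4,2,2,6,6,0,5,4,0,5,4,7,3,1,1,0,7,2,0,2,3,6,5,5,1,0,6,6,0,6,0,4,5,3,5,4,6,2,5,0,7,0,4,6,5,2,5,6,7,3,4,2,4,2,2,4,4,0,2,6,2,0,4,1,5,5,6,0,7,7,4,1,4,2,2,0,4,0,4,7,5,5,1,1,0,4,2,2,0,2,0,6,3,2,1,6,2,4,4,1,0,6,1,0,1,1,2,1,0,0,4,2,2,3,4,3,2,0,4,0,0,3,6,5,2,1,3,2,4,2,4,7,0,5,1,6,1,2,3,1,1,0,6,2,5,2,1,5,0,2,7,2,2,2,4,3,2,1,0,0,7,1,0,4,4,0,0,2,0,2,2,5,3,2,6,0,1,0,1,4,0,6,6,4,0,6,1,0,3,3,5,3,0,1,0,0,0,4,6,1,1,2,5,4,0,0,6,2,0,0,7,2,0,1,2,0,5,1,1,5,4,2,2,0,5,0,4,5,0,2,0,7,0,0,0,7,0,0,2,0,0,2,1,0,3,2,0,0,1,0,6,2,1,2,2,0,4,2,4,0,2,7,0,4,0,5,1,0],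
    [2,4,3,0,4,0,0,0,0,2,3,3,4,0,1,7,2,3,6,5,1,4,4,0,0,0,6,2,4,1,1,4,2,2,1,1,1,0,2,0,4,2,3,0,0,6,4,0,0,0,0,4,0,1,6,4,0,1,3,0,1,2,0,1,0,0,0,7,0,0,0,0,0,0,5,5,0,1,2,0,4,1,0,4,0,0,0,0,1,3,0,5,0,4,0,2,2,2,0,0,0,0,0,1,1,4,2,1,0,2,0,1,0,2,0,2,0,2,1,0,0,0,1,4,0,0,0,0,0,1,0,0,0,4,4,0,0,4,4,1,2,0,0,0,1,1,0,0,0,1,0,1,1,0,4,1,2,1,0,1,4,0,3,4,0,0,0,3,2,2,0,2,1,0,0,0,0,3,0,1,0,0,0,0,4,4,0,0,2,0,2,0,0,0,0,0,2,0,1,2,4,0,0,0,0,0,0,0,0,0,4,0,1,0,0,0,0,0,0,0,2,0,0,0,0,6,0,5,0,1,2,0,0,0,0,4,0,4,0,0,0,6,2,0,0,4,0,0,0,2,0,0,0,0,0,0,0,0,2,0,2,0,0,0,0,0,0,0,2,0,1,1,0,1,0,1,2,0,0,0,0,1,0,0,0,0,0,0,1,0,4,0,0,2,1,0,0,2,0,0,0,0,0,0,0,0,0,1,1,0,0,0,0,0,0,0,0,0,1,0,0,4,1,0,0,0,0,0,2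,1,0,0,0,0,0,0,4,0,0,0,0,0,0,0,0,0,0,4,1,0,4,0,0,0,4,0,0,0,4,0,0,2,2,0,1,0,0,4,0,0,0,0,4,4,0,0,0,0,0,0,2,0,0,0,0,0,0,0,0,2,0,0,3,0,0,4,4,1,0,0,0,0,0,4,0,0,1,0,2,0,2,1,0,0,4,0,0,0,1,0,0,0,0,1,0,0,0,0,0,0,0,0,0,2,0,0,0,0,0,0,0,4,0,0,0,1,0,0,0,0,0,0,0,0,1,0,0,1,4,0,0,0,0,4,0,0,0,0,0,0,0,0,0,0,6,0,0,1,0,0,0,0,0,0,0,0,0,0,0,0,0,0,0,0,0,0,2,0,0,0,1,0,0,0,0,4,0,0,0,0,0,0,0,0,0,2,0,0,0,2,0,0,0,0,2,0,0,0,0,0,0,0,0,0,4,0,0,0,0,0,0,0,0,0,0,0,0,0,0,0,0,0,0,0,0,0,0,0,2,0,0,0,0,4,0,0,0,0,0,0,2,4,0,0,0,0,0,0,0,0,0,0,0,0,0,0,0,0,0,0,0,0,0,0,0,0,0,0,0,2,0,0],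
    [0,0,0,0,0,2,0,0,0,0,0,0,0,0,0,0,0,0,0,0,0,0,0,0,0,0,0,0,0,0,0,0,0,0,0,2,0,0,0,0,0,0,0,0,0,0,0,0,0,0,0,0,0,0,0,0,0,0,0,0,0,0,0,0,0,0,0,0,0,0,0,0,0,0,0,0,0,0,0,0,0,0,0,0,0,0,0,0,0,0,0,0,0,0,0,0,0,0,0,0,0,0,0,0,0,0,0,1,0,0,0,0,0,0,0,0,0,0,0,0,0,0,0,0,0,0,0,0,0,0,0,0,0,0,0,0,0,0,0,0,0,0,0,0,0,0,0,0,0,0,0,0,0,0,0,0,0,0,0,0,0,0,0,0,0,0,0,0,0,0,0,0,0,0,0,0,0,0,0,0,0,0,0,0,0,0,0,0,0,0,0,0,0,0,0,0,0,0,0,0,0,0,0,0,0,0,0,0,0,0,0,0,0,0]])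

/-- Dodecads meeting the reference one in 4 points. -/
def dodOrbit4 : List ℕ × List (List ℕ) :=
  ([1035448], [
    [7],
    [7,7,7],
    [7,7,7,7,7,7,3,7,7],
    [3,7,7,7,7,6,7,7,7,7,7,7,3,7,7,7,7,6,3,7,7,3,1,6,5,7],
    [3,7,7,7,7,6,7,7,6,6,6,6,3,7,5,7,3,7,7,7,7,5,7,3,4,4,6,7,3,6,7,7,5,7,3,7,6,3,0,3,1,2,1,0,7,1,7,5,7,1,3,7,3,6,7,2,3,3,4,2,5,1,7,4,7,3,5,0],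
    [0,2,0,4,7,5,7,6,5,1,4,1,2,6,5,1,7,7,5,6,1,1,0,7,7,0,2,6,2,7,7,2,2,7,2,0,7,2,6,0,5,7,2,5,7,7,5,0,7,4,1,6,0,0,2,5,5,4,5,0,2,0,2,7,4,7,7,5,1,7,1,0,7,5,4,0,4,5,0,7,1,1,4,0,2,5,1,6,0,4,5,4,2,2,2,0,5,7,7,0,6,6,5,6,1,6,6,4,1,0,0,0,1,4,0,1,1,2,0,1,0,0,2,1,0,0,5,2,4,5,0,1,1,0,1,2,6,2,6,4,5,1,0],
    [0,1,0,0,5,4,1,6,2,0,4,0,0,4,2,2,2,0,1,0,0,2,0,3,4,0,0,0,0,3,0,0,0,0,0,1,5,0,0,1,4,0,1,2,2,0,0,1,5,0,0,0,4,0,0,1,0,3,0,0,0,0,0,0,0,1,2,4,0,0,0,2,0,2,1,0,0,0,0,0,0,0,0,0,0,0,0,1,0,0,0,0,0,0,0,0,0,0,0,0,0,0,1,0,0,0,2,0,1,0,0,1,0,0,0,0,1,0,0,0,4,0,0,0,4,0,0,0,0,0,0,0,4,0,1,0,0,0,0,0,0,4,0,0,0,0,0,0,0,0,0,0,0,0,0,0,0,0,0,0,0,0,0,0,0,0,0,0,0,0,0,0,0,0,0,0,0,0,0,0,0,0,0,1,0,0,0,0,0,0,0],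
    [0,0,0,0,0,0,0,0,0,0,0,0,0,0,0,0,0,0,0,0,0,0,0,0,0,0,0,0,0,0,0,2,0,0,0,0,0,0,0,0,0,0,0,0,0,0,0,0,0,0,0,0,0]])

/-- Dodecads meeting the reference one in 0 points. -/
def dodOrbit0 : List ℕ × List (List ℕ) :=
  ([16436384], [
    ])

end Cfsg.Agent.Golay
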