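import Cfsg.Agent.Golay.Chain

/-!
Checked multiple transitivity on an invariant set of points.
-/

set_option autoImplicit false

namespace Cfsg.Agent.Golay

open Cfsg
open scoped Pointwise

/-- Levels move each base point to every position of `S` not used as an earlier base. -/
def checkTrans (E : List ℕ) : ℕ → ℕ → List (ℕ × List ℕ) → Bool
  | _, _, [] => true
  | F, S, (b, ts) :: rest =>
      (b < 24) && S.testBit b && (S &&& F == 0) && (ts.all (inStab E F)) &&
        ((List.range 24).all fun i => !S.testBit i || ts.any fun t => app t b == i) &&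
        checkTrans E (F ||| 2 ^ b) (S ^^^ 2 ^ b) rest

theorem exists_map_of_checkTrans (E : List ℕ) : ∀ (F S : ℕ) (L : List (ℕ × List ℕ)),
    checkTrans E F S L = true →
    (∀ σ ∈ stabGrp E F, ∀ p ∈ ptSet S, σ p ∈ ptSet S) →
    ∀ a : List GolayPt, a.length = L.length → a.Nodup → (∀ p ∈ a, p ∈ ptSet S) →
      ∃ σ ∈ stabGrp E F, (L.map fun l => σ (pt l.1)) = a
  | F, S, [], _, _, a, ha, _, _ =>
    ⟨1, one_mem _, by rw [List.length_eq_zero_iff.1 ha]; rfl⟩
  | F, S, (b, ts) :: rest, h, hinv, a, ha, hnd, hS => by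
    simp only [checkTrans, Bool.and_eq_true, decide_eq_true_eq, List.all_eq_true,
      List.mem_range] at h
    obtain ⟨⟨⟨⟨⟨hb, hSb⟩, hdisj⟩, hts⟩, hcov⟩, hrest⟩ := h
    obtain ⟨q, a, rfl⟩ : ∃ q t, a = q :: t := by
      cases a with
      | nil => simp at ha
      | cons q t => exact ⟨q, t, rfl⟩
    have hq := hcov (idx q) (idx_lt q)
    rw [mem_ptSet.1 (hS q (by simp)), Bool.not_true, Bool.false_or, List.any_eq_true] at hq
    obtain ⟨t, ht, htb⟩ := hq
    have hσ₀ := mem_stabGrp_of_inStab (hts t ht)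
    set σ₀ := mkPerm t
    have hb0 : σ₀ (pt b) = q := by
      have hv : validT t = true := by
        have := hts t ht
        simp only [inStab, Bool.and_eq_true] at this
        exact validT_of_inM24 this.1.1
      rw [mkPerm_pt hv hb, eq_of_beq htb, pt_idx]
    have hS' : ∀ p, p ∈ ptSet (S ^^^ 2 ^ b) ↔ p ∈ ptSet S ∧ p ≠ pt b := by
      intro p
      rw [ptSet_xor, ptSet_two_pow hb, Finset.mem_symmDiff, Finset.mem_singleton]
      constructor
      · rintro (⟨h1, h2⟩ | ⟨rfl, h2⟩)
        · exact ⟨h1, h2⟩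
        · exact absurd (by rw [mem_ptSet, idx_pt b hb]; exact hSb) h2
      · exact fun h => Or.inl h
    have hinv' : ∀ σ ∈ stabGrp E (F ||| 2 ^ b), ∀ p ∈ ptSet (S ^^^ 2 ^ b),
        σ p ∈ ptSet (S ^^^ 2 ^ b) := by
      intro σ hσ p hp
      rw [stabGrp_or E F hb] at hσ
      obtain ⟨hp1, hp2⟩ := (hS' p).1 hp
      refine (hS' _).2 ⟨hinv σ hσ.1 p hp1, fun h => hp2 (σ.injective ?_)⟩
      have : σ (pt b) = pt b := hσ.2
      rw [h, this]
    rw [List.nodup_cons] at hnd
    obtain ⟨σ, hσ, hmap⟩ := exists_map_of_checkTrans E _ _ rest hrest hinv'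
      (a.map σ₀.symm) (by simpa using ha) (hnd.2.map σ₀.symm.injective) (by
        intro p hp
        obtain ⟨r, hr, rfl⟩ := List.mem_map.1 hp
        refine (hS' _).2 ⟨?_, ?_⟩
        · exact hinv σ₀⁻¹ (inv_mem hσ₀) r (hS r (by simp [hr]))
        · intro h
          rw [Equiv.symm_apply_eq, hb0] at h
          exact hnd.1 (h ▸ hr))
    rw [stabGrp_or E F hb] at hσ
    refine ⟨σ₀ * σ, mul_mem hσ₀ hσ.1, ?_⟩
    have hσb : σ (pt b) = pt b := hσ.2
    rw [List.map_cons, Equiv.Perm.mul_apply, hσb, hb0]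
    congr 1
    have := congrArg (List.map σ₀) hmap
    rw [List.map_map, List.map_map] at this
    simpa [Function.comp_def] using this

end Cfsg.Agent.Golay
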