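import Cfsg.Agent.Golay.Transport
import Cfsg.Agent.Golay.Trans

/-!
Dodecad-point stabilisers, sharp transitivity and the octad pointwise stabiliser.
-/

set_option autoImplicit false

namespace Cfsg.Agent.Golay

open Cfsg
open scoped Pointwise

lemma m12_orbit_zero :
    MulAction.orbit Spor.M12 (pt 0) = (Spor.squareDodecad : Set GolayPt) := by
  have hL := m12Chain_check.1
  rw [levels_split.2, ext_facts.2.1] at hL
  rw [← stabGrp_squareMask, (orbit_of_checkChain hL).2.1, ← ptSet_squareMask]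
  congr 2

theorem exists_M24_map_dodecad_point {d : Finset GolayPt} (hd : d ∈ dodecads) {p : GolayPt}
    (hp : p ∈ d) : ∃ g : M24, g • d = Spor.squareDodecad ∧ g • p = (some 0 : GolayPt) := by
  obtain ⟨g, hg⟩ := exists_M24_map_dodecad hd squareDodecad_mem
  have hgp : g • p ∈ Spor.squareDodecad := hg ▸ Finset.smul_mem_smul_finset hp
  rw [← Finset.mem_coe, ← m12_orbit_zero] at hgp
  obtain ⟨h, hh⟩ := hgp
  refine ⟨(⟨h.1, h.2.1⟩ : M24)⁻¹ * g, ?_, ?_⟩
  · rw [mul_smul, hg, inv_smul_eq_iff]; exact (h.2.2).symm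
  · rw [mul_smul, inv_smul_eq_iff, ← pt_values.2]; exact hh.symm

theorem exists_dodecad_point_stab_iso {d : Finset GolayPt} (hd : d ∈ dodecads) {p : GolayPt}
    (hp : p ∈ d) :
    Nonempty (↥(MulAction.stabilizer M24 d ⊓ MulAction.stabilizer M24 p) ≃* Spor.M11) := by
  obtain ⟨g, hg, hgp⟩ := exists_M24_map_dodecad_point hd hp
  have h : g • (d, p) = ((Spor.squareDodecad, some 0) : Finset GolayPt × GolayPt) :=
    Prod.ext hg hgp
  have hmap : (MulAction.stabilizer M24 Spor.squareDodecad ⊓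
      MulAction.stabilizer M24 (some 0 : GolayPt)).map M24.subtype = Spor.M11 := by
    rw [map_inf_subtype, map_stabilizer_subtype, map_stabilizer_subtype]
    exact le_antisymm (fun σ h => ⟨h.1, h.2.2⟩) (fun σ h => ⟨h.1, h.1.1, h.2⟩)
  exact ⟨((MulEquiv.subgroupCongr (stabilizer_inf_eq_prod d p)).trans
    (MulAction.stabilizerEquivStabilizer h.symm)).trans
    ((MulEquiv.subgroupCongr (stabilizer_inf_eq_prod _ _).symm).trans
      ((subtypeEquiv _).trans (MulEquiv.subgroupCongr hmap)))⟩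

/-! ### Sharp five-fold transitivity on a dodecad -/

lemma m12_trans : checkTrans [squareMask] 0 squareMask m12Chain = true ∧
    m12Chain.map (fun l => l.1) = [0, 1, 2, 3, 4] ∧
    isTrivialStab [squareMask] (0 ||| 2 ^ 0 ||| 2 ^ 1 ||| 2 ^ 2 ||| 2 ^ 3 ||| 2 ^ 4) = true := by
  decide +kernel

lemma spor_M12_invariant {σ : Equiv.Perm GolayPt} (hσ : σ ∈ stabGrp [squareMask] 0)
    {p : GolayPt} (hp : p ∈ ptSet squareMask) : σ p ∈ ptSet squareMask := by
  rw [← hσ.2.1 squareMask (List.mem_singleton_self _)]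
  exact Finset.smul_mem_smul_finset hp

lemma exists_spor_M12_base (x : Fin 5 ↪ GolayPt) (hx : ∀ i, x i ∈ Spor.squareDodecad) :
    ∃ σ ∈ Spor.M12, ∀ i : Fin 5, σ (pt i.1) = x i := by
  obtain ⟨σ, hσ, hmap⟩ := exists_map_of_checkTrans _ _ _ _ m12_trans.1
    (fun σ hσ p hp => spor_M12_invariant hσ hp) (List.ofFn x)
    (by rw [List.length_ofFn, ← List.length_map (as := m12Chain) (fun l => l.1), m12_trans.2.1]
        rfl)
    (List.nodup_ofFn.2 x.injective)
    (by
      intro p hp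
      obtain ⟨i, rfl⟩ := List.mem_ofFn.1 hp
      rw [ptSet_squareMask]; exact hx i)
  rw [stabGrp_squareMask] at hσ
  refine ⟨σ, hσ, fun i => ?_⟩
  have h1 : (m12Chain.map fun l => σ (pt l.1)) = (List.range 5).map fun i => σ (pt i) := by
    have := congrArg (List.map fun b => σ (pt b)) m12_trans.2.1
    rw [List.map_map] at this
    exact this
  have h2 : ((List.range 5).map fun i => σ (pt i))[i.1]? = (List.ofFn x)[i.1]? := by
    rw [← h1, hmap]
  fin_cases i <;> simpa using h2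

lemma spor_M12_base_trivial {σ : Equiv.Perm GolayPt} (hσ : σ ∈ Spor.M12)
    (h : ∀ i : Fin 5, σ (pt i.1) = pt i.1) : σ = 1 := by
  have hmem : σ ∈ stabGrp [squareMask] (0 ||| 2 ^ 0 ||| 2 ^ 1 ||| 2 ^ 2 ||| 2 ^ 3 ||| 2 ^ 4) := by
    rw [stabGrp_or _ _ (by norm_num : (4 : ℕ) < 24), stabGrp_or _ _ (by norm_num : (3 : ℕ) < 24),
      stabGrp_or _ _ (by norm_num : (2 : ℕ) < 24), stabGrp_or _ _ (by norm_num : (1 : ℕ) < 24),
      stabGrp_or _ _ (by norm_num : (0 : ℕ) < 24), stabGrp_squareMask]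
    exact ⟨⟨⟨⟨⟨hσ, h 0⟩, h 1⟩, h 2⟩, h 3⟩, h 4⟩
  rw [stabGrp_eq_bot' m12_trans.2.2] at hmem
  exact Subgroup.mem_bot.1 hmem

theorem dodecad_sharply_five_transitive {d : Finset GolayPt} (hd : d ∈ dodecads)
    (x y : Fin 5 ↪ GolayPt) (hx : ∀ i, x i ∈ d) (hy : ∀ i, y i ∈ d) :
    ∃! g : MulAction.stabilizer M24 d,
      ∀ i, ((g : M24) : Equiv.Perm GolayPt) (x i) = y i := by
  obtain ⟨k, hk⟩ := exists_M24_map_dodecad hd squareDodecad_mem
  have hkd : ∀ z ∈ d, (k : Equiv.Perm GolayPt) z ∈ Spor.squareDodecad :=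
    fun z hz => hk ▸ Finset.smul_mem_smul_finset hz
  obtain ⟨α, hα, hαx⟩ := exists_spor_M12_base (x.trans k.1.toEmbedding) (fun i => hkd _ (hx i))
  obtain ⟨β, hβ, hβy⟩ := exists_spor_M12_base (y.trans k.1.toEmbedding) (fun i => hkd _ (hy i))
  have hdk : k.1⁻¹ • Spor.squareDodecad = d := by
    rw [inv_smul_eq_iff]; exact hk.symm
  set γ : Equiv.Perm GolayPt := k.1⁻¹ * (β * α⁻¹) * k.1 with hγ
  have hγM : γ ∈ M24 := M24.mul_mem (M24.mul_mem (M24.inv_mem k.2) (M24.mul_mem hβ.1 (M24.inv_mem hα.1))) k.2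
  have hγd : γ • d = d := by
    have hmid : (β * α⁻¹) • Spor.squareDodecad = Spor.squareDodecad :=
      (mul_mem hβ (inv_mem hα) : β * α⁻¹ ∈ Spor.M12).2
    rw [hγ, mul_smul, show k.1 • d = Spor.squareDodecad from hk, mul_smul, hmid, hdk]
  refine ⟨⟨⟨γ, hγM⟩, hγd⟩, fun i => ?_, fun g hg => ?_⟩
  · show γ (x i) = y i
    have h1 : α (pt i.1) = k.1 (x i) := hαx i
    have h2 : β (pt i.1) = k.1 (y i) := hβy i
    simp only [hγ, Equiv.Perm.mul_apply, ← h1]
    rw [Equiv.Perm.coe_inv, Equiv.Perm.coe_inv, Equiv.symm_apply_apply, h2,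
      Equiv.symm_apply_apply]
  · apply Subtype.ext
    apply Subtype.ext
    show ((g : M24) : Equiv.Perm GolayPt) = γ
    set τ : Equiv.Perm GolayPt := β⁻¹ * (k.1 * (g : M24).1 * k.1⁻¹) * α with hτ
    have hgd : (g : M24).1 • d = d := g.2
    have hmid : k.1 * (g : M24).1 * k.1⁻¹ ∈ Spor.M12 :=
      ⟨M24.mul_mem (M24.mul_mem k.2 (g : M24).2) (M24.inv_mem k.2), by
        show (k.1 * (g : M24).1 * k.1⁻¹) • Spor.squareDodecad = Spor.squareDodecad
        rw [mul_smul, mul_smul, hdk, hgd]; exact hk⟩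
    have hτ1 : τ = 1 := by
      refine spor_M12_base_trivial (mul_mem (mul_mem (inv_mem hβ) hmid) hα) fun i => ?_
      have h1 : α (pt i.1) = k.1 (x i) := hαx i
      have h2 : β (pt i.1) = k.1 (y i) := hβy i
      simp only [hτ, Equiv.Perm.mul_apply, h1]
      rw [Equiv.Perm.coe_inv, Equiv.Perm.coe_inv, Equiv.symm_apply_apply, hg i, ← h2,
        Equiv.symm_apply_apply]
    rw [hτ] at hτ1
    calc ((g : M24) : Equiv.Perm GolayPt)
        = k.1⁻¹ * (β * (β⁻¹ * (k.1 * (g : M24).1 * k.1⁻¹) * α) * α⁻¹) * k.1 := by group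
      _ = γ := by rw [hτ1, hγ, mul_one]

/-! ### The pointwise stabiliser of an octad -/

/-- The octad through the first five base points. -/
def baseOctad : ℕ :=
  (octadList.filter fun o => [23, 0, 1, 2, 3].all fun i => o.testBit i).headI

lemma baseOctad_facts : (octadList.contains baseOctad &&
    checkChain [] baseOctad (m24Chain.drop 6) &&
    (chainCard (m24Chain.drop 6) == 16) &&
    ((lvlTrans m24Chain 6).all fun t => tblMul t t == idTbl)) = true := by
  decide +kernel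

lemma drop_six : m24Chain.drop 6 = [(lvlBase m24Chain 6, lvlTrans m24Chain 6)] := rfl

lemma card_baseOctad_fix : Nat.card (stabGrp [] baseOctad) = 16 ∧
    ∀ σ ∈ stabGrp [] baseOctad, σ * σ = 1 := by
  have h := baseOctad_facts
  simp only [Bool.and_eq_true, beq_iff_eq, List.all_eq_true] at h
  obtain ⟨⟨⟨-, hL⟩, hc⟩, hsq⟩ := h
  refine ⟨by rw [card_stabGrp hL, hc], fun σ hσ => ?_⟩
  rw [drop_six] at hL
  obtain ⟨hb, horb, -, hrest⟩ := orbit_of_checkChain hL
  set b := lvlBase m24Chain 6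
  have hm : σ (pt b) ∈ MulAction.orbit (stabGrp [] baseOctad) (pt b) := ⟨⟨σ, hσ⟩, rfl⟩
  rw [horb, Finset.mem_coe, mem_ptSet, testBit_orbitMask] at hm
  obtain ⟨t, ht, hta⟩ := hm
  simp only [checkChain, Bool.and_eq_true, List.all_eq_true] at hL
  have hts := hL.1.1.1.2 t ht
  have hv : validT t = true := by
    simp only [inStab, Bool.and_eq_true] at hts; exact validT_of_inM24 hts.1.1
  have heq : (mkPerm t)⁻¹ * σ ∈ stabGrp [] (baseOctad ||| 2 ^ b) := by
    rw [stabGrp_or [] _ hb]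
    refine ⟨(stabGrp [] baseOctad).mul_mem
      ((stabGrp [] baseOctad).inv_mem (mem_stabGrp_of_inStab hts)) hσ, ?_⟩
    show ((mkPerm t)⁻¹ * σ) (pt b) = pt b
    rw [Equiv.Perm.mul_apply, Equiv.Perm.coe_inv, Equiv.symm_apply_eq, mkPerm_pt hv hb, hta,
      pt_idx]
  rw [stabGrp_eq_bot' hrest, Subgroup.mem_bot, inv_mul_eq_one] at heq
  rw [← heq, ← (tblMul_spec hv hv).2, eq_of_beq (by simpa using hsq t ht : (tblMul t t == idTbl) = true),
    idTbl_spec.2]

theorem octad_fixing {o : Finset GolayPt} (ho : o ∈ octads) :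
    Nat.card ↥(M24 ⊓ fixingSubgroup (Equiv.Perm GolayPt) (o : Set GolayPt)) = 16 ∧
      ∀ g ∈ M24 ⊓ fixingSubgroup (Equiv.Perm GolayPt) (o : Set GolayPt), g * g = 1 := by
  have hb : ptSet baseOctad ∈ octads := by
    have h := baseOctad_facts
    simp only [Bool.and_eq_true] at h
    exact ptSet_mem_octads (List.contains_iff_mem.1 h.1.1.1)
  obtain ⟨k, hk⟩ := exists_M24_map_octad ho hb
  have hiff : ∀ g, g ∈ M24 ⊓ fixingSubgroup (Equiv.Perm GolayPt) (o : Set GolayPt) ↔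
      k.1 * g * k.1⁻¹ ∈ stabGrp [] baseOctad := by
    intro g
    rw [Subgroup.mem_inf, mem_fixingSubgroup_iff, mem_stabGrp]
    constructor
    · rintro ⟨h1, h2⟩
      refine ⟨mul_mem (mul_mem k.2 h1) (inv_mem k.2), by simp, fun p hp => ?_⟩
      have : k.1⁻¹ p ∈ o := by
        rw [Equiv.Perm.coe_inv, ← mem_smul_finset_iff]
        exact (show k.1 • o = ptSet baseOctad from hk) ▸ hp
      have h3 : g (k.1⁻¹ p) = k.1⁻¹ p := h2 _ (Finset.mem_coe.2 this)
      rw [Equiv.Perm.mul_apply, Equiv.Perm.mul_apply, h3, Equiv.Perm.coe_inv,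
        Equiv.apply_symm_apply]
    · rintro ⟨h1, -, h2⟩
      refine ⟨?_, fun p hp => ?_⟩
      · have := mul_mem (mul_mem (inv_mem k.2) h1) k.2
        rwa [show k.1⁻¹ * (k.1 * g * k.1⁻¹) * k.1 = g by group] at this
      · have hm : k.1 p ∈ ptSet baseOctad :=
          (show k.1 • o = ptSet baseOctad from hk) ▸ Finset.smul_mem_smul_finset (Finset.mem_coe.1 hp)
        have := h2 _ hm
        rw [Equiv.Perm.mul_apply, Equiv.Perm.mul_apply, Equiv.Perm.coe_inv,
          Equiv.symm_apply_apply] at this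
        exact k.1.injective this
  refine ⟨?_, fun g hg => ?_⟩
  · rw [← card_baseOctad_fix.1]
    exact Nat.card_congr ((MulAut.conj k.1).toEquiv.subtypeEquiv hiff)
  · have h := card_baseOctad_fix.2 _ ((hiff g).1 hg)
    have h' : k.1 * (g * g) * k.1⁻¹ = 1 := by rw [← h]; group
    exact conj_eq_one_iff.1 h'

end Cfsg.Agent.Golay
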