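import Mathlib

/-!
Maximality of a point stabiliser from the lengths of its suborbits: no proper nontrivial union
of suborbits containing the point has a size dividing the degree.
-/

set_option autoImplicit false

namespace Cfsg.Agent.Golay

open scoped Pointwise

variable {G X : Type*} [Group G] [MulAction G X]

lemma card_stabilizer_mul_ncard_orbit (K : Subgroup G) (x : X)
    (hK : MulAction.stabilizer G x ≤ K) :
    Nat.card (MulAction.stabilizer G x) * (MulAction.orbit K x).ncard = Nat.card K := by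
  have h1 : MulAction.stabilizer K x = (MulAction.stabilizer G x).subgroupOf K := by
    ext g
    simp [Subgroup.mem_subgroupOf, Subgroup.smul_def]
  have h2 := Subgroup.card_mul_index (MulAction.stabilizer K x)
  rw [MulAction.index_stabilizer, h1] at h2
  rw [← h2, Nat.card_congr (Subgroup.subgroupOfEquivOfLe hK).toEquiv]

/-- A point stabiliser is maximal if its suborbit lengths forbid blocks. -/
theorem isCoatom_stabilizer_of_labels [Finite G] {x : X} {k : ℕ} (label : X → Fin (k + 1))
    (n : Fin (k + 1) → ℕ) (hx : label x = 0) (h0 : n 0 = 1)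
    (hn : ∀ i, {y | y ∈ MulAction.orbit G x ∧ label y = i}.ncard = n i)
    (hl : ∀ y ∈ MulAction.orbit G x, ∀ z ∈ MulAction.orbit G x, label y = label z →
      ∃ g ∈ MulAction.stabilizer G x, g • y = z)
    (hN : 1 < ∑ i, n i)
    (hS : ∀ S : Finset (Fin (k + 1)), 0 ∈ S → (∑ i ∈ S, n i) ∣ ∑ i, n i →
      S = {0} ∨ S = Finset.univ) :
    IsCoatom (MulAction.stabilizer G x) := by
  classical
  have hfin : (MulAction.orbit G x).Finite := Set.finite_range _
  have hpart : ∀ S : Finset (Fin (k + 1)),
      {y | y ∈ MulAction.orbit G x ∧ label y ∈ S}.ncard = ∑ i ∈ S, n i := by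
    intro S
    induction S using Finset.induction_on with
    | empty => simp
    | insert i S hi ih =>
      have e : {y | y ∈ MulAction.orbit G x ∧ label y ∈ insert i S}
          = {y | y ∈ MulAction.orbit G x ∧ label y = i} ∪
            {y | y ∈ MulAction.orbit G x ∧ label y ∈ S} := by
        ext y; simp [and_or_left]
      rw [e, Set.ncard_union_eq ?_ (hfin.subset fun y hy => hy.1) (hfin.subset fun y hy => hy.1),
        hn, ih, Finset.sum_insert hi]
      refine Set.disjoint_left.2 fun y hy hy' => hi ?_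
      rw [← hy.2]; exact hy'.2
  have hdeg : (MulAction.orbit G x).ncard = ∑ i, n i := by
    rw [← hpart Finset.univ]; simp
  have htop : Nat.card (MulAction.stabilizer G x) * ∑ i, n i = Nat.card G := by
    have h := Subgroup.card_mul_index (MulAction.stabilizer G x)
    rwa [MulAction.index_stabilizer, hdeg] at h
  refine ⟨fun e => ?_, fun K hK => ?_⟩
  · rw [e, Subgroup.card_top] at htop
    have hp : 0 < Nat.card G := Nat.card_pos
    nlinarith
  set H := MulAction.stabilizer G x
  set M := MulAction.orbit K x with hMdef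
  have hMsub : M ⊆ MulAction.orbit G x := by
    rintro _ ⟨g, rfl⟩; exact ⟨g.1, rfl⟩
  set S := (Finset.univ : Finset (Fin (k + 1))).filter fun i => ∃ y ∈ M, label y = i with hSdef
  have hMeq : M = {y | y ∈ MulAction.orbit G x ∧ label y ∈ S} := by
    ext z
    constructor
    · exact fun hz => ⟨hMsub hz, by rw [hSdef, Finset.mem_filter]; exact ⟨by simp, z, hz, rfl⟩⟩
    · rintro ⟨hz, hzS⟩
      rw [hSdef, Finset.mem_filter] at hzS
      obtain ⟨-, y, ⟨a, rfl⟩, hy⟩ := hzS
      obtain ⟨g, hg, hgz⟩ := hl _ (hMsub ⟨a, rfl⟩) z hz hy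
      refine ⟨⟨g, hK.le hg⟩ * a, ?_⟩
      show ((⟨g, hK.le hg⟩ : K) * a) • x = z
      rw [mul_smul]; exact hgz
  have h0S : (0 : Fin (k + 1)) ∈ S := by
    rw [hSdef, Finset.mem_filter]; exact ⟨by simp, x, MulAction.mem_orbit_self x, hx⟩
  have hM : M.ncard = ∑ i ∈ S, n i := by rw [hMeq, hpart]
  have hcardK := card_stabilizer_mul_ncard_orbit K x hK.le
  rw [← hMdef, hM] at hcardK
  have hdvd : (∑ i ∈ S, n i) ∣ ∑ i, n i := by
    refine Nat.dvd_of_mul_dvd_mul_left (Nat.card_pos (α := H)) ?_
    rw [hcardK, htop]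
    exact Subgroup.card_subgroup_dvd_card K
  rcases hS S h0S hdvd with h | h
  · exfalso
    refine lt_irrefl K (lt_of_le_of_lt (fun g hg => ?_) hK)
    rw [MulAction.mem_stabilizer_iff]
    have hgM : g • x ∈ M := ⟨⟨g, hg⟩, rfl⟩
    rw [hMeq, h] at hgM
    obtain ⟨z, hz⟩ := Set.ncard_eq_one.1 ((hn 0).trans h0)
    have h1 : g • x ∈ {y | y ∈ MulAction.orbit G x ∧ label y = 0} :=
      ⟨hgM.1, Finset.mem_singleton.1 hgM.2⟩
    have h2 : x ∈ {y | y ∈ MulAction.orbit G x ∧ label y = 0} := ⟨MulAction.mem_orbit_self x, hx⟩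
    rw [hz, Set.mem_singleton_iff] at h1 h2
    rw [h1, h2]
  · refine Subgroup.eq_top_of_card_eq _ ?_
    rw [← hcardK, h, htop]

end Cfsg.Agent.Golay
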