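import Cfsg.Agent.H95.GolaySys
import Cfsg.Agent.H44.OrbitTree
import Cfsg.Agent.Golay.DodecadOrbitData
import Cfsg.Agent.Golay.Stabilisers
import Cfsg.Agent.Golay.Suborbit
import Cfsg.Agent.Golay.Mathieu

/-!
The stabiliser of a dodecad on dodecads and on complementary pairs of dodecads.
-/

set_option autoImplicit false
set_option maxRecDepth 100000

namespace Cfsg.Agent.Golay

open Cfsg
open scoped Pointwise

/-- The five classes. -/
def dodOrbits : List (List ℕ × List (List ℕ)) :=
  [dodOrbit12, dodOrbit8, dodOrbit6, dodOrbit4, dodOrbit0]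

/-- One-block systems of dodecads. -/
def dodSys : Set (Finset (Finset GolayPt)) := (fun d => {d}) '' dodecads

lemma dodSys_smul (g : M24) : ∀ T ∈ dodSys, g • T ∈ dodSys := by
  rintro _ ⟨d, hd, rfl⟩
  exact ⟨g • d, smul_mem_dodecads g.2 hd, (Finset.smul_finset_singleton _).symm⟩

lemma dodOrbits_cert :
    H95.orbitCert [squareMask] dodGens 2576 dodOrbits = true := by
  decide +kernel

lemma dodOrbits_roots :
    (dodOrbits.all fun c => (c.1.length == 1) && c.1.all fun m => (wordList 12).contains m) = true ∧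
    (wordList 12).length = 2576 ∧
    (dodOrbits.map fun c => (H95.pc24 (Nat.land squareMask c.1.headI), (H95.classL dodGens c).length))
      = [(12, 1), (8, 495), (6, 1584), (4, 495), (0, 1)] := by
  decide +kernel

lemma dodOrbits_mem {c : List ℕ × List (List ℕ)} (hc : c ∈ dodOrbits) :
    ∃ m ∈ wordList 12, c.1 = [m] ∧ H95.sysOf c.1 = {ptSet m} ∧ H95.sysOf c.1 ∈ dodSys := by
  have h := List.all_eq_true.1 dodOrbits_roots.1 c hc
  simp only [Bool.and_eq_true, beq_iff_eq, List.all_eq_true, List.contains_iff_mem] at h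
  obtain ⟨m, hm⟩ := List.length_eq_one_iff.1 h.1
  have hm' : m ∈ wordList 12 := h.2 m (by rw [hm]; simp)
  refine ⟨m, hm', hm, by rw [hm]; simp [H95.sysOf], ⟨ptSet m, ?_, by rw [hm]; simp [H95.sysOf]⟩⟩
  show ptSet m ∈ wordsOfWeight (golayCode : Set (GolayPt → ZMod 2)) 12
  rw [mem_wordsOfWeight_iff, maskOf_ptSet (H44.wordList_lt hm')]
  exact hm'

/-- For the reference dodecad: meeting numbers, orbit lengths and transitivity. -/
theorem squareDodecad_pairs {d' : Finset GolayPt} (hd' : d' ∈ dodecads) :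
    ∃ k n, (k, n) ∈ [(12, 1), (8, 495), (6, 1584), (4, 495), (0, 1)] ∧
      (ptSet squareMask ∩ d').card = k ∧
      (MulAction.orbit (MulAction.stabilizer M24 (ptSet squareMask)) d').ncard = n ∧
      MulAction.orbit (MulAction.stabilizer M24 (ptSet squareMask)) d'
        = {x | x ∈ dodecads ∧ (ptSet squareMask ∩ x).card = k} := by
  have hinj : Function.Injective fun o : Finset GolayPt => ({o} : Finset (Finset GolayPt)) :=
    fun x y e => by simpa using e
  have hN : dodSys.ncard ≤ 2576 := by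
    rw [dodSys, Set.ncard_image_of_injective _ hinj, ncard_dodecads]
  have hroot : ∀ c ∈ dodOrbits, H95.sysOf c.1 ∈ dodSys := fun c hc =>
    (dodOrbits_mem hc).choose_spec.2.2.2
  have hA : H95.sysOf [squareMask] = {ptSet squareMask} := by simp [H95.sysOf]
  have cover : ∀ x ∈ dodecads, ∃ c ∈ dodOrbits, ({x} : Finset (Finset GolayPt)) ∈
      MulAction.orbit (MulAction.stabilizer M24 (ptSet squareMask)) (H95.sysOf c.1) := by
    intro x hx
    have := (H95.orbitCert_union dodOrbits_cert dodSys_smul hN hroot).1 ⟨x, hx, rfl⟩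
    rwa [hA, H95.stabilizer_singleton_sys] at this
  have keyk : ∀ c ∈ dodOrbits, ∀ x, ({x} : Finset (Finset GolayPt)) ∈
      MulAction.orbit (MulAction.stabilizer M24 (ptSet squareMask)) (H95.sysOf c.1) →
      (ptSet squareMask ∩ x).card = H95.pc24 (Nat.land squareMask c.1.headI) := by
    intro c hc x hx
    obtain ⟨m, -, hm, hs, -⟩ := dodOrbits_mem hc
    rw [hs, H95.orbit_singleton_sys] at hx
    obtain ⟨y, ⟨⟨g, hg⟩, rfl⟩, hy⟩ := hx
    have hy' : g • ptSet m = x := by simpa using hy
    rw [← hy', hm]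
    conv_lhs => rw [← MulAction.mem_stabilizer_iff.1 hg]
    rw [show (g • ptSet squareMask ∩ g • ptSet m).card = (ptSet squareMask ∩ ptSet m).card from
      H44.card_inter_smul g.1 _ _, ← ptSet_and, card_ptSet, H95.pc24_eq]
    rfl
  obtain ⟨c, hc, hdc⟩ := cover d' hd'
  have hmem := List.mem_map_of_mem (f := fun c => (H95.pc24 (Nat.land squareMask c.1.headI),
    (H95.classL dodGens c).length)) hc
  rw [dodOrbits_roots.2.2] at hmem
  refine ⟨_, _, hmem, keyk c hc d' hdc, ?_, ?_⟩
  · have h := (H95.orbitCert_orbit dodOrbits_cert dodSys_smul hN hroot hc).2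
    rw [hA, H95.stabilizer_singleton_sys] at h
    rw [← h, ← MulAction.orbit_eq_iff.2 hdc, H95.orbit_singleton_sys,
      Set.ncard_image_of_injective _ hinj]
  · ext x
    constructor
    · intro hx
      refine ⟨?_, keyk c hc x ?_⟩
      · obtain ⟨g, rfl⟩ := hx
        exact smul_mem_dodecads g.1.2 hd'
      · rw [← MulAction.orbit_eq_iff.2 hdc, H95.orbit_singleton_sys]
        exact ⟨x, hx, rfl⟩
    · rintro ⟨hx, hk⟩
      obtain ⟨e, he, hxe⟩ := cover x hx
      have hec : e = c := by
        refine List.inj_on_of_nodup_map (f := fun c : List ℕ × List (List ℕ) =>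
          H95.pc24 (Nat.land squareMask c.1.headI)) ?_ he hc ?_
        · have := congrArg (List.map Prod.fst) dodOrbits_roots.2.2
          rw [List.map_map] at this
          exact (this.trans (by rfl : _ = [12, 8, 6, 4, 0])) ▸ (by decide)
        · exact (keyk e he x hxe).symm.trans hk
      rw [hec, ← MulAction.orbit_eq_iff.2 hdc, H95.orbit_singleton_sys] at hxe
      obtain ⟨y, hy, hyx⟩ := hxe
      rwa [← hinj hyx]

/-- Dodecad pairs: meeting numbers and transitivity. -/
theorem dodecad_pairs {d d' : Finset GolayPt} (hd : d ∈ dodecads) (hd' : d' ∈ dodecads) :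
    ∃ k n, (k, n) ∈ [(12, 1), (8, 495), (6, 1584), (4, 495), (0, 1)] ∧
      (d ∩ d').card = k ∧ {x | x ∈ dodecads ∧ (d ∩ x).card = k}.ncard = n ∧
      ∀ x ∈ dodecads, (d ∩ x).card = k → ∃ g ∈ MulAction.stabilizer M24 d, g • d' = x := by
  have hsq : ptSet squareMask ∈ dodecads := by rw [ptSet_squareMask]; exact squareDodecad_mem
  obtain ⟨g, hg⟩ := exists_M24_map_dodecad hd hsq
  have hg' : (g : Equiv.Perm GolayPt) • d = ptSet squareMask := hg
  obtain ⟨k, n, hkn, hk, hn, hor⟩ := squareDodecad_pairs (d' := g • d') (smul_mem_dodecads g.2 hd')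
  refine ⟨k, n, hkn, ?_, ?_, ?_⟩
  · rw [← hk, ← hg']; exact (H44.card_inter_smul _ _ _).symm
  · rw [H44.ncard_eq_of_perm (g : Equiv.Perm GolayPt)
      (T := {x : Finset GolayPt | x ∈ dodecads ∧ (ptSet squareMask ∩ x).card = k}), ← hor, hn]
    intro x
    simp only [Set.mem_setOf_eq]
    rw [H44.smul_mem_dodecads_iff g.2, ← hg', H44.card_inter_smul]
  · intro x hx hxk
    have : g • x ∈ MulAction.orbit (MulAction.stabilizer M24 (ptSet squareMask)) (g • d') := by
      rw [hor]
      refine ⟨smul_mem_dodecads g.2 hx, ?_⟩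
      rw [← hg']
      exact (H44.card_inter_smul _ _ _).trans hxk
    obtain ⟨⟨h, hh⟩, he⟩ := this
    refine ⟨g⁻¹ * h * g, ?_, ?_⟩
    · rw [MulAction.mem_stabilizer_iff, mul_smul, mul_smul, hg,
        MulAction.mem_stabilizer_iff.1 hh, ← hg, inv_smul_smul]
    · rw [mul_smul, mul_smul, show h • g • d' = g • x from he, inv_smul_smul]

end Cfsg.Agent.Golay
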