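import Cfsg.Agent.Golay.DodecadPairs

/-!
Counts of dodecads by meeting numbers; maximality of the stabiliser of a complementary pair.
-/

set_option autoImplicit false

namespace Cfsg.Agent.Golay

open Cfsg
open scoped Pointwise

lemma dodecad_meet_check :
    ((wordList 12).filter fun m => Nat.beq (H95.pc24 (Nat.land squareMask m)) 4).length = 495 ∧
    ((wordList 12).filter fun m => Nat.beq (H95.pc24 (Nat.land squareMask m)) 6).length = 1584 ∧
    ((wordList 12).filter fun m => Nat.beq (H95.pc24 (Nat.land squareMask m)) 8).length = 495 := by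
  decide +kernel

theorem ncard_dodecads_meet {d : Finset GolayPt} (hd : d ∈ dodecads) :
    {x | x ∈ dodecads ∧ (d ∩ x).card = 4}.ncard = 495 ∧
    {x | x ∈ dodecads ∧ (d ∩ x).card = 6}.ncard = 1584 ∧
    {x | x ∈ dodecads ∧ (d ∩ x).card = 8}.ncard = 495 := by
  have hsq : ptSet squareMask ∈ dodecads := by rw [ptSet_squareMask]; exact squareDodecad_mem
  obtain ⟨g, hg⟩ := exists_M24_map_dodecad hd hsq
  have hg' : (g : Equiv.Perm GolayPt) • d = ptSet squareMask := hg
  have key : ∀ k, {x | x ∈ dodecads ∧ (d ∩ x).card = k}.ncard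
      = ((wordList 12).filter fun m => Nat.beq (H95.pc24 (Nat.land squareMask m)) k).length := by
    intro k
    rw [H44.ncard_eq_of_perm (g : Equiv.Perm GolayPt)
      (T := {x : Finset GolayPt | x ∈ dodecads ∧ (ptSet squareMask ∩ x).card = k})]
    · refine H44.ncard_dodecads_filter
        (fun m => Nat.beq (H95.pc24 (Nat.land squareMask m)) k) fun x => ?_
      rw [Nat.beq_eq, H95.pc24_eq, H44.card_inter_ptSet, Nat.and_comm]
      rfl
    · intro x
      simp only [Set.mem_setOf_eq]
      rw [H44.smul_mem_dodecads_iff g.2, ← hg', H44.card_inter_smul]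
  simp only [key]
  exact dodecad_meet_check

theorem dodecad_meet_values {d d' : Finset GolayPt} (hd : d ∈ dodecads) (hd' : d' ∈ dodecads) :
    ((d ∩ d').card = 12 ∧ d' = d) ∨ (d ∩ d').card = 8 ∨ (d ∩ d').card = 6 ∨ (d ∩ d').card = 4 ∨
      ((d ∩ d').card = 0 ∧ d' = dᶜ) := by
  obtain ⟨k, n, hkn, hk, -, -⟩ := dodecad_pairs hd hd'
  simp only [List.mem_cons, Prod.mk.injEq, List.not_mem_nil, or_false] at hkn
  have c12 := hd.2
  have c12' := hd'.2
  rcases hkn with ⟨rfl, -⟩ | ⟨rfl, -⟩ | ⟨rfl, -⟩ | ⟨rfl, -⟩ | ⟨rfl, -⟩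
  · refine Or.inl ⟨hk, ?_⟩
    rw [← Finset.eq_of_subset_of_card_le (Finset.inter_subset_left (s₁ := d) (s₂ := d')) (by omega)]
    exact (Finset.eq_of_subset_of_card_le Finset.inter_subset_right (by omega)).symm
  · exact Or.inr (Or.inl hk)
  · exact Or.inr (Or.inr (Or.inl hk))
  · exact Or.inr (Or.inr (Or.inr (Or.inl hk)))
  · refine Or.inr (Or.inr (Or.inr (Or.inr ⟨hk, ?_⟩)))
    refine Finset.eq_of_subset_of_card_le ?_ ?_
    · rw [Finset.subset_compl_iff_disjoint_left, Finset.disjoint_iff_inter_eq_empty,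
        ← Finset.card_eq_zero]
      exact hk
    · rw [Finset.card_compl, c12, c12']; rfl

theorem exists_smul_dodecad_pair {d d' d'' : Finset GolayPt} (hd : d ∈ dodecads)
    (hd' : d' ∈ dodecads) (hd'' : d'' ∈ dodecads) (h : (d ∩ d').card = (d ∩ d'').card) :
    ∃ g ∈ MulAction.stabilizer M24 d, g • d' = d'' := by
  obtain ⟨k, n, -, hk, -, htr⟩ := dodecad_pairs hd hd'
  exact htr d'' hd'' (h.symm.trans hk)

lemma compl_mem_dodecads {d : Finset GolayPt} (hd : d ∈ dodecads) : dᶜ ∈ dodecads := by
  obtain ⟨g, hg⟩ := exists_M24_map_dodecad (squareDodecad_mem) hd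
  have hs : (Spor.squareDodecad)ᶜ ∈ dodecads := by
    show _ ∈ wordsOfWeight (golayCode : Set (GolayPt → ZMod 2)) 12
    rw [mem_wordsOfWeight_iff, ← ptSet_squareMask]
    decide +kernel
  have e : dᶜ = g • (Spor.squareDodecad)ᶜ := by
    rw [← hg, Finset.compl_eq_univ_sdiff, Finset.compl_eq_univ_sdiff, Finset.smul_finset_sdiff,
      Finset.smul_finset_univ]
  rw [e]
  exact smul_mem_dodecads g.2 hs

/-- The pair of a dodecad and its complement. -/
def duum (d : Finset GolayPt) : Finset (Finset GolayPt) := {d, dᶜ}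

lemma smul_duum (g : M24) (d : Finset GolayPt) : g • duum d = duum (g • d) := by
  rw [duum, Finset.smul_finset_insert, Finset.smul_finset_singleton, duum]
  congr 1
  rw [Finset.compl_eq_univ_sdiff, Finset.compl_eq_univ_sdiff, Finset.smul_finset_sdiff,
    Finset.smul_finset_univ]

lemma duum_compl (d : Finset GolayPt) : duum dᶜ = duum d := by
  rw [duum, compl_compl, duum, Finset.pair_comm]

lemma duum_eq_iff {d e : Finset GolayPt} : duum d = duum e ↔ e = d ∨ e = dᶜ := by
  constructor
  · intro h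
    have : e ∈ duum d := by rw [h]; simp [duum]
    simpa [duum] using this
  · rintro (rfl | rfl)
    · rfl
    · exact (duum_compl d).symm

theorem isCoatom_duum_stabilizer {d : Finset GolayPt} (hd : d ∈ dodecads) :
    IsCoatom (MulAction.stabilizer M24 (duum d)) := by
  classical
  have horb : MulAction.orbit M24 (duum d) = duum '' dodecads := by
    ext X
    constructor
    · rintro ⟨g, rfl⟩
      exact ⟨g • d, smul_mem_dodecads g.2 hd, (smul_duum g d).symm⟩
    · rintro ⟨e, he, rfl⟩
      obtain ⟨g, hg⟩ := exists_M24_map_dodecad hd he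
      exact ⟨g, (smul_duum g d).trans (by rw [hg])⟩
  have hcompl : ∀ e : Finset GolayPt, (d ∩ eᶜ).card + (d ∩ e).card = 12 := by
    intro e
    rw [← hd.2, ← Finset.card_sdiff_add_card_inter d e, Finset.sdiff_eq_inter_compl]
  let label : Finset (Finset GolayPt) → Fin 3 := fun X =>
    if X = duum d then 0 else if ∃ e ∈ X, (d ∩ e).card = 6 then 2 else 1
  have key : ∀ e ∈ dodecads,
      (label (duum e) = 0 ∧ ((d ∩ e).card = 12 ∨ (d ∩ e).card = 0)) ∨
      (label (duum e) = 1 ∧ ((d ∩ e).card = 8 ∨ (d ∩ e).card = 4)) ∨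
      (label (duum e) = 2 ∧ (d ∩ e).card = 6) := by
    intro e he
    have h1 := hcompl e
    rcases dodecad_meet_values hd he with ⟨h, rfl⟩ | h | h | h | ⟨h, rfl⟩
    · exact Or.inl ⟨by simp [label], Or.inl h⟩
    · refine Or.inr (Or.inl ⟨?_, Or.inl h⟩)
      have hne : duum e ≠ duum d := fun hh => by
        rcases duum_eq_iff.1 hh.symm with rfl | rfl
        · rw [Finset.inter_self, hd.2] at h; omega
        · rw [Finset.inter_compl] at h; simp at h
      have : ¬ ∃ x ∈ duum e, (d ∩ x).card = 6 := by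
        rintro ⟨x, hx, hx6⟩
        rcases (by simpa [duum] using hx : x = e ∨ x = eᶜ) with rfl | rfl <;> omega
      simp [label, hne, this]
    · refine Or.inr (Or.inr ⟨?_, h⟩)
      have hne : duum e ≠ duum d := fun hh => by
        rcases duum_eq_iff.1 hh.symm with rfl | rfl
        · rw [Finset.inter_self, hd.2] at h; omega
        · rw [Finset.inter_compl] at h; simp at h
      have : ∃ x ∈ duum e, (d ∩ x).card = 6 := ⟨e, by simp [duum], h⟩
      simp only [label, if_neg hne, if_pos this]
    · refine Or.inr (Or.inl ⟨?_, Or.inr h⟩)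
      have hne : duum e ≠ duum d := fun hh => by
        rcases duum_eq_iff.1 hh.symm with rfl | rfl
        · rw [Finset.inter_self, hd.2] at h; omega
        · rw [Finset.inter_compl] at h; simp at h
      have : ¬ ∃ x ∈ duum e, (d ∩ x).card = 6 := by
        rintro ⟨x, hx, hx6⟩
        rcases (by simpa [duum] using hx : x = e ∨ x = eᶜ) with rfl | rfl <;> omega
      simp [label, hne, this]
    · exact Or.inl ⟨by simp [label, duum_compl], Or.inr h⟩
  obtain ⟨-, c6, c8⟩ := ncard_dodecads_meet hd
  have hstab : ∀ g ∈ MulAction.stabilizer M24 d, g ∈ MulAction.stabilizer M24 (duum d) := by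
    intro g hg
    rw [MulAction.mem_stabilizer_iff, smul_duum, MulAction.mem_stabilizer_iff.1 hg]
  refine isCoatom_stabilizer_of_labels label ![1, 495, 792] (by simp [label]) rfl
    ?_ ?_ (by decide) (by decide +kernel)
  · intro i
    rw [horb]
    fin_cases i
    · refine Set.ncard_eq_one.2 ⟨duum d, ?_⟩
      ext X
      simp only [Set.mem_setOf_eq, Set.mem_singleton_iff]
      constructor
      · rintro ⟨-, hl⟩
        by_contra hne
        simp only [label, if_neg hne] at hl
        split_ifs at hl <;> exact absurd hl (by decide)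
      · rintro rfl
        exact ⟨⟨d, hd, rfl⟩, by simp [label]⟩
    · have e8 : duum '' {x | x ∈ dodecads ∧ (d ∩ x).card = 8}
          = {X | X ∈ duum '' dodecads ∧ label X = 1} := by
        ext X
        constructor
        · rintro ⟨e, ⟨he, h8⟩, rfl⟩
          refine ⟨⟨e, he, rfl⟩, ?_⟩
          rcases key e he with ⟨-, h | h⟩ | ⟨h, -⟩ | ⟨-, h⟩ <;> first | exact h | omega
        · rintro ⟨⟨e, he, rfl⟩, hl⟩
          have h1 := hcompl e
          rcases key e he with ⟨h, -⟩ | ⟨-, h | h⟩ | ⟨h, -⟩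
          · rw [h] at hl; exact absurd hl (by decide)
          · exact ⟨e, ⟨he, h⟩, rfl⟩
          · exact ⟨eᶜ, ⟨compl_mem_dodecads he, by omega⟩, duum_compl e⟩
          · rw [h] at hl; exact absurd hl (by decide)
      show {X | X ∈ duum '' dodecads ∧ label X = 1}.ncard = 495
      rw [← e8, Set.ncard_image_of_injOn, c8]
      intro x hx y hy hxy
      rcases duum_eq_iff.1 hxy with rfl | rfl
      · rfl
      · have h1 := hcompl x
        have h2 := hx.2
        have h3 := hy.2
        omega
    · show {X | X ∈ duum '' dodecads ∧ label X = 2}.ncard = 792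
      have e6 : duum '' {x | x ∈ dodecads ∧ (d ∩ x).card = 6 ∧ none ∈ x}
          = {X | X ∈ duum '' dodecads ∧ label X = 2} := by
        ext X
        constructor
        · rintro ⟨e, ⟨he, h6, -⟩, rfl⟩
          refine ⟨⟨e, he, rfl⟩, ?_⟩
          rcases key e he with ⟨-, h | h⟩ | ⟨-, h | h⟩ | ⟨h, -⟩ <;> first | exact h | omega
        · rintro ⟨⟨e, he, rfl⟩, hl⟩
          have h1 := hcompl e
          rcases key e he with ⟨h, -⟩ | ⟨h, -⟩ | ⟨-, h⟩
          · rw [h] at hl; exact absurd hl (by decide)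
          · rw [h] at hl; exact absurd hl (by decide)
          · by_cases hn : none ∈ e
            · exact ⟨e, ⟨he, h, hn⟩, rfl⟩
            · exact ⟨eᶜ, ⟨compl_mem_dodecads he, by omega, Finset.mem_compl.2 hn⟩, duum_compl e⟩
      have hsplit : {x | x ∈ dodecads ∧ (d ∩ x).card = 6}
          = {x | x ∈ dodecads ∧ (d ∩ x).card = 6 ∧ none ∈ x} ∪
            {x | x ∈ dodecads ∧ (d ∩ x).card = 6 ∧ none ∉ x} := by
        ext x; simp only [Set.mem_setOf_eq, Set.mem_union]; tauto
      have heq : {x | x ∈ dodecads ∧ (d ∩ x).card = 6 ∧ none ∉ x}.ncard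
          = {x | x ∈ dodecads ∧ (d ∩ x).card = 6 ∧ none ∈ x}.ncard := by
        refine Set.ncard_congr (fun x _ => xᶜ) ?_ (fun a b _ _ h => compl_injective h) ?_
        · rintro x ⟨hx, h6, hn⟩
          have := hcompl x
          exact ⟨compl_mem_dodecads hx, by omega, Finset.mem_compl.2 hn⟩
        · rintro x ⟨hx, h6, hn⟩
          have := hcompl x
          refine ⟨xᶜ, ⟨compl_mem_dodecads hx, by omega, ?_⟩, compl_compl x⟩
          simp [hn]
      rw [hsplit, Set.ncard_union_eq (by
        refine Set.disjoint_left.2 fun x hx hx' => hx'.2.2 hx.2.2), heq] at c6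
      rw [← e6, Set.ncard_image_of_injOn]
      · omega
      intro x hx y hy hxy
      rcases duum_eq_iff.1 hxy with rfl | rfl
      · rfl
      · exact absurd hy.2.2 (fun h => Finset.mem_compl.1 h hx.2.2)
  · intro Y hY Z hZ h
    rw [horb] at hY hZ
    obtain ⟨e, he, rfl⟩ := hY
    obtain ⟨f, hf, rfl⟩ := hZ
    have h1 := hcompl f
    have : ∃ f' ∈ dodecads, duum f' = duum f ∧ (d ∩ e).card = (d ∩ f').card := by
      rcases key e he with ⟨le, ce⟩ | ⟨le, ce⟩ | ⟨le, ce⟩ <;>
        rcases key f hf with ⟨lf, cf⟩ | ⟨lf, cf⟩ | ⟨lf, cf⟩ <;>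
        rw [le, lf] at h <;> first
        | exact absurd h (by decide)
        | (by_cases hc : (d ∩ e).card = (d ∩ f).card
           · exact ⟨f, hf, rfl, hc⟩
           · exact ⟨fᶜ, compl_mem_dodecads hf, duum_compl f, by omega⟩)
    obtain ⟨f', hf', hff, hc⟩ := this
    obtain ⟨g, hg, hge⟩ := exists_smul_dodecad_pair hd he hf' hc
    exact ⟨g, hstab g hg, by rw [smul_duum, hge, hff]⟩

end Cfsg.Agent.Golay
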