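import Cfsg.Agent.Golay.ConwayOrders
import Cfsg.Prelude.Def_Spor_Conway

/-!
The hundred minimal vectors attached to a minimal vector and a vector of squared norm 48 at
product 16, and the order of their joint stabiliser.
-/

set_option autoImplicit false

namespace Cfsg.Agent.Golay

open Cfsg
open scoped Pointwise

/-- The minimal vector `(-4, 4, 0, …)`. -/
def negW : leechLattice := -repW

lemma negW_facts : sqNorm negW.1 = 32 ∧ sqNorm Spor.leechV.1 = 48 ∧
    dotInt negW.1 Spor.leechV.1 = 16 := by
  decide +kernel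

/-- The hundred points. -/
def hundred : Set leechLattice :=
  {a | sqNorm a.1 = 32 ∧ dotInt negW.1 a.1 = 0 ∧ dotInt Spor.leechV.1 a.1 = 24}

/-- Octads through both reference points. -/
def hundredOctads : List ℕ := octadList.filter fun o => o.testBit 23 && o.testBit 0

/-- Positions outside the reference pair. -/
def hundredPoints : List ℕ := (List.range 24).filter fun i => i != 23 && i != 0

/-- The candidates for the hundred points. -/
def hundredCand : List (GolayPt → ℤ) :=
  (fun l => if l = none ∨ l = some 0 then -4 else 0) ::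
    (hundredOctads.map fun o l => if o.testBit (idx l) then -2 else 0) ++
    (hundredPoints.map fun i l => if idx l = i then 3 else -1)

lemma hundredCand_length : hundredCand.length = 100 := by
  have h : hundredOctads.length = 77 ∧ hundredPoints.length = 22 := by decide +kernel
  simp [hundredCand, h.1, h.2]

lemma dot_negW (a : GolayPt → ℤ) : dotInt negW.1 a = 4 * (a (some 0) - a none) := by
  rw [show negW.1 = -repW.1 from rfl]
  have h := dot_repW a
  simp only [dotInt, Pi.neg_apply, neg_mul, Finset.sum_neg_distrib] at h ⊢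
  omega

lemma dot_leechV (a : GolayPt → ℤ) :
    dotInt Spor.leechV.1 a = -(∑ l, a l) - 4 * a none := by
  have : ∀ l, Spor.leechV.1 l * a l = -a l + (if l = none then -4 * a l else 0) := by
    intro l
    show Spor.vecV l * a l = _
    unfold Spor.vecV
    split_ifs <;> ring
  rw [dotInt, Finset.sum_congr rfl fun l _ => this l, Finset.sum_add_distrib, Finset.sum_neg_distrib,
    Finset.sum_ite_eq', if_pos (Finset.mem_univ _)]
  ring

theorem hundred_subset {a : leechLattice} (ha : a ∈ hundred) : a.1 ∈ hundredCand := by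
  classical
  obtain ⟨hn, h0, h24⟩ := ha
  rw [dot_negW] at h0
  rw [dot_leechV] at h24
  set t := a.1 none with ht
  have ht0 : a.1 (some 0) = t := by omega
  simp only [hundredCand, List.cons_append, List.mem_cons, List.mem_append, List.mem_map]
  rcases min_support a.2 hn with ⟨hc, hv⟩ | ⟨hc, ho, hv⟩ | ⟨-, i, hi, hv⟩
  · have hz : ∀ l, l ∉ suppVec a.1 → a.1 l = 0 := fun l hl => by simpa [suppVec] using hl
    obtain ⟨i, j, hij, he⟩ := Finset.card_eq_two.1 hc
    have hsum : ∑ l, a.1 l = a.1 i + a.1 j := by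
      rw [← Finset.sum_subset (Finset.subset_univ (suppVec a.1)) (fun l _ hl => hz l hl), he,
        Finset.sum_pair hij]
    have hiv := hv i (by rw [he]; simp)
    have hjv := hv j (by rw [he]; simp)
    have hne : t ≠ 0 := by intro e; omega
    have hmem : none ∈ suppVec a.1 ∧ some 0 ∈ suppVec a.1 := by
      simp [suppVec, ht0, ← ht, hne]
    have hpair : suppVec a.1 = {none, some 0} := by
      symm
      refine Finset.eq_of_subset_of_card_le ?_ (by rw [hc]; decide)
      simp [Finset.insert_subset_iff, hmem.1, hmem.2]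
    have htv := hv none hmem.1
    left
    funext l
    by_cases hl : l = none ∨ l = some 0
    · rw [if_pos hl]
      rcases hl with rfl | rfl <;> omega
    · rw [if_neg hl]
      refine hz l ?_
      rw [hpair]
      simpa using hl
  · have hz : ∀ l, l ∉ suppVec a.1 → a.1 l = 0 := fun l hl => by simpa [suppVec] using hl
    have hsum : ∑ l, a.1 l = ∑ l ∈ suppVec a.1, a.1 l :=
      (Finset.sum_subset (Finset.subset_univ _) (fun l _ hl => hz l hl)).symm
    have hge : (0 : ℤ) ≤ ∑ l ∈ suppVec a.1, (a.1 l + 2) :=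
      Finset.sum_nonneg fun l hl => by rcases hv l hl with e | e <;> omega
    have hs : ∑ l ∈ suppVec a.1, (a.1 l + 2) = (∑ l, a.1 l) + 16 := by
      rw [Finset.sum_add_distrib, ← hsum, Finset.sum_const, hc]; rfl
    have htv : t = 2 ∨ t = -2 ∨ t = 0 := by
      by_cases h : none ∈ suppVec a.1
      · rcases hv _ h with e | e <;> omega
      · have := hz _ h; omega
    have ht2 : t = -2 := by omega
    have hall : ∀ l ∈ suppVec a.1, a.1 l + 2 = 0 := by
      refine (Finset.sum_eq_zero_iff_of_nonneg fun l hl => ?_).1 (by omega)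
      rcases hv l hl with e | e <;> omega
    right; left
    refine ⟨maskOf (suppVec a.1), List.mem_filter.2 ⟨mem_octads_iff.1 ho, ?_⟩, ?_⟩
    · rw [Bool.and_eq_true]
      constructor
      · have h : none ∈ suppVec a.1 := by simp [suppVec, ← ht, ht2]
        rwa [← ptSet_maskOf (suppVec a.1), mem_ptSet] at h
      · have h : some 0 ∈ suppVec a.1 := by simp [suppVec, ht0, ht2]
        rwa [← ptSet_maskOf (suppVec a.1), mem_ptSet] at h
    · funext l
      by_cases hl : l ∈ suppVec a.1
      · have := hall l hl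
        rw [if_pos (by rw [← mem_ptSet, ptSet_maskOf]; exact hl)]
        omega
      · rw [if_neg (by rw [← mem_ptSet, ptSet_maskOf]; exact hl)]
        exact (hz l hl).symm
  · have hti : none ≠ i ∧ some 0 ≠ i := by
      constructor
      · intro e
        have := hv (some 0) (by rw [← e]; simp)
        rw [ht0] at this
        rw [← e, ← ht] at hi
        omega
      · intro e
        have := hv none (by rw [← e]; simp)
        rw [← ht] at this
        rw [← e, ht0] at hi
        omega
    have htv := hv none hti.1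
    rw [← ht] at htv
    set R := (Finset.univ : Finset GolayPt).erase i with hR
    have hsplit : ∑ l, a.1 l = a.1 i + ∑ l ∈ R, a.1 l := by
      rw [hR, Finset.add_sum_erase _ _ (Finset.mem_univ i)]
    have hRcard : R.card = 23 := by rw [hR, Finset.card_erase_of_mem (Finset.mem_univ i)]; rfl
    have hRv : ∀ l ∈ R, a.1 l = 1 ∨ a.1 l = -1 := fun l hl => hv l (Finset.mem_erase.1 hl).1
    have hcount : ∑ l ∈ R, a.1 l = 2 * ((R.filter fun l => a.1 l = 1).card : ℤ) - 23 := by
      rw [Finset.sum_congr rfl (g := fun l => 2 * (if a.1 l = 1 then (1 : ℤ) else 0) - 1) fun l hl => by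
        rcases hRv l hl with e | e <;> simp [e], Finset.sum_sub_distrib, ← Finset.mul_sum,
        Finset.sum_boole, Finset.sum_const, hRcard]
      simp
    have hneg : t = -1 := by
      rcases hi with e | e <;> omega
    rcases hi with hi | hi
    · have hP : (R.filter fun l => a.1 l = 1).card = 0 := by omega
      right; right
      refine ⟨idx i, List.mem_filter.2 ⟨List.mem_range.2 (idx_lt i), ?_⟩, ?_⟩
      · have h1 : idx i ≠ 23 := fun e => hti.1 (idx_injective (show idx none = idx i by rw [e]; rfl))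
        have h2 : idx i ≠ 0 := fun e => hti.2 (idx_injective (show idx (some 0) = idx i by rw [e]; rfl))
        simp [h1, h2]
      · funext l
        rcases eq_or_ne l i with rfl | hl
        · rw [if_pos rfl, hi]
        · rw [if_neg fun e => hl (idx_injective e)]
          have hlR : l ∈ R := Finset.mem_erase.2 ⟨hl, Finset.mem_univ l⟩
          rcases hRv l hlR with e | e
          · exfalso
            have := Finset.card_pos.2 (show (R.filter fun l => a.1 l = 1).Nonempty from
              ⟨l, Finset.mem_filter.2 ⟨hlR, e⟩⟩)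
            omega
          · exact e.symm
    · exfalso
      have hP : (R.filter fun l => a.1 l = 1).card = 3 := by omega
      obtain ⟨m, -, -, hd⟩ := mem_leech_iff.1 a.2
      have hsupp : support₂ (digitWord a.1) = R.filter fun l => ¬ a.1 l = 1 := by
        ext l
        simp only [support₂, digitWord, Finset.mem_filter, Finset.mem_univ, true_and,
          ne_eq, ZMod.intCast_zmod_eq_zero_iff_dvd]
        rcases eq_or_ne l i with rfl | hl
        · simp [hi, hR]
        · have hlR : l ∈ R := Finset.mem_erase.2 ⟨hl, Finset.mem_univ l⟩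
          rcases hRv l hlR with e | e <;> simp [e, hlR]
      have h20 : (support₂ (digitWord a.1)).card = 20 := by
        have := Finset.card_filter_add_card_filter_not (s := R) fun l => a.1 l = 1
        rw [hsupp]
        omega
      rcases card_support hd with h | h | h | h | h <;> omega

theorem ncard_hundred_le : hundred.ncard ≤ 100 := by
  classical
  rw [← Set.ncard_image_of_injective _ Subtype.val_injective]
  calc (Subtype.val '' hundred).ncard ≤ (hundredCand.toFinset : Set (GolayPt → ℤ)).ncard :=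
        Set.ncard_le_ncard (by
          rintro _ ⟨a, ha, rfl⟩
          exact List.mem_toFinset.2 (hundred_subset ha)) (Finset.finite_toSet _)
    _ ≤ 100 := by
        rw [Set.ncard_coe_finset]
        exact (List.toFinset_card_le _).trans hundredCand_length.le

/-! ### A census -/

/-- Coefficient tables for the values at the extra point. -/
def censusRows : List (ℤ × List ℕ) :=
  [(-2, [0, 0, 0, 0, 0, 0, 0, 0, 0, 0, 0, 0, 0, 0, 0, 0, 0, 0, 0, 0]),
   (-1, [0, 0, 1, 0, 0, 0, 1, 0, 0, 0, 1, 0, 0, 0, 1, 0, 0, 0, 0, 0]),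
   (0, [0, 0, 0, 0, 128, 0, 0, 0, 0, 0, 0, 0, 0, 0, 0, 0, 0, 0, 0, 0]),
   (1, [0, 231, 0, 0, 0, 231, 0, 0, 0, 231, 0, 0, 0, 231, 0, 0, 0, 0, 0, 0]),
   (2, [0, 0, 0, 0, 0, 0, 0, 1024, 0, 0, 0, 512, 0, 0, 0, 0, 0, 0, 0, 0]),
   (3, [0, 0, 231, 0, 0, 0, 231, 0, 0, 0, 231, 0, 0, 0, 231, 0, 0, 0, 0, 0]),
   (4, [0, 0, 0, 0, 128, 0, 0, 0, 0, 0, 0, 0, 0, 0, 0, 0, 0, 0, 0, 0]),
   (5, [0, 1, 0, 0, 0, 1, 0, 0, 0, 1, 0, 0, 0, 1, 0, 0, 0, 0, 0, 0]),
   (6, [0, 0, 0, 0, 0, 0, 0, 0, 0, 0, 0, 0, 0, 0, 0, 0, 0, 0, 0, 0])]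

/-- Table entry. -/
def tblEntry (T : List ℕ) (w : ℕ) (ba bb : Bool) : ℕ :=
  T.getD ((if w = 0 then 0 else if w = 8 then 4 else if w = 12 then 8 else if w = 16 then 12 else 16)
    + 2 * ba.toNat + bb.toNat) 0

lemma censusRows_ok : ∀ r ∈ censusRows, ∀ w ∈ [0, 8, 12, 16, 24], ∀ ba bb : Bool,
    termAt (fun v => v == r.1) (fun v => v == 4 - r.1) (fun _ => true) 48 w ba bb
      = tblEntry r.2 w ba bb := by
  decide +kernel

lemma censusRows_sum :
    (censusRows.map fun r =>
      (codeList.map fun m => tblEntry r.2 (popCnt m) (m.testBit 23) (m.testBit 0)).sum).sum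
      = 953856 ∧ (censusRows.map fun r => r.1) = [-2, -1, 0, 1, 2, 3, 4, 5, 6] := by
  decide +kernel

theorem census_fortyeight_sixteen :
    {y : leechLattice | sqNorm y.1 = 48 ∧ dotInt repA.1 y.1 = 16}.ncard ≤ 953856 := by
  classical
  set F : ℤ × List ℕ → Set (GolayPt → ℤ) := fun r => {x | x ∈ leechLattice ∧ sqNorm x = (48 : ℕ) ∧
    ∀ i, qPair (fun v => v == r.1) (fun v => v == 4 - r.1) (fun _ => true) i (x i) = true}
  have hF : ∀ r ∈ censusRows, (F r).ncard =
      (codeList.map fun m => tblEntry r.2 (popCnt m) (m.testBit 23) (m.testBit 0)).sum :=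
    fun r hr => ncard_leech_norm_at (fun v => v == r.1) (fun v => v == 4 - r.1) (fun _ => true)
      (fun _ => rfl) (N := 48) (by norm_num) (by norm_num) (tblEntry r.2) (censusRows_ok r hr)
  have hnd : censusRows.Nodup := List.Nodup.of_map (fun r => r.1) (by rw [censusRows_sum.2]; decide)
  rw [← Set.ncard_image_of_injective _ Subtype.val_injective, ← censusRows_sum.1,
    ← List.sum_toFinset _ hnd]
  refine le_trans (Set.ncard_le_ncard (t := ⋃ r ∈ censusRows.toFinset, F r) ?_ ?_) ?_
  · rintro _ ⟨y, ⟨hn, hd⟩, rfl⟩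
    rw [dot_repA] at hd
    have hsq : y.1 none ^ 2 + y.1 (some 0) ^ 2 ≤ 48 := by
      rw [← hn, sqNorm, ← Finset.sum_pair (f := fun l => y.1 l ^ 2) (show (none : GolayPt) ≠ some 0 by simp)]
      exact Finset.sum_le_sum_of_subset_of_nonneg (Finset.subset_univ _) fun l _ _ => sq_nonneg _
    have hr : y.1 none ∈ censusRows.map fun r => r.1 := by
      rw [censusRows_sum.2]
      have e : y.1 (some 0) = 4 - y.1 none := by omega
      have h1 : y.1 none ≤ 6 := by nlinarith
      have h2 : -2 ≤ y.1 none := by nlinarith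
      generalize y.1 none = t at h1 h2
      interval_cases t <;> simp
    obtain ⟨r, hr, hre⟩ := List.mem_map.1 hr
    refine Set.mem_biUnion (List.mem_toFinset.2 hr) ⟨y.2, hn, fun i => ?_⟩
    unfold qPair
    split_ifs with h1 h2
    · subst h1; simpa using hre.symm
    · subst h2
      simp only [beq_iff_eq]
      omega
    · rfl
  · exact Set.Finite.biUnion (Finset.finite_toSet _) fun r _ =>
      (finite_normSet 48 (by norm_num) rfl).subset fun x hx => ⟨hx.1, hx.2.1⟩
  · refine le_trans (Finset.set_ncard_biUnion_le _ _) (le_of_eq ?_)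
    exact Finset.sum_congr rfl fun r hr => hF r (List.mem_toFinset.1 hr)

/-! ### The joint stabiliser -/

/-- The joint stabiliser of the reference pair. -/
def hsStab : Subgroup Co0 :=
  MulAction.stabilizer Co0 negW ⊓ MulAction.stabilizer Co0 Spor.leechV

lemma partner_of_hundred {a : leechLattice} (ha : a ∈ hundred) :
    sqNorm (a - Spor.leechV).1 = 32 ∧ dotInt negW.1 (a - Spor.leechV).1 = -16 ∧
    dotInt a.1 (a - Spor.leechV).1 = 8 := by
  obtain ⟨hn, h0, h24⟩ := ha
  obtain ⟨-, hv, hd⟩ := negW_facts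
  rw [AddSubgroup.coe_sub]
  refine ⟨?_, ?_, ?_⟩
  · have : sqNorm (a.1 - Spor.leechV.1)
        = sqNorm a.1 + sqNorm Spor.leechV.1 - 2 * dotInt Spor.leechV.1 a.1 := by
      simp only [sqNorm, dotInt, Finset.mul_sum, ← Finset.sum_add_distrib, ← Finset.sum_sub_distrib]
      exact Finset.sum_congr rfl fun l _ => by simp only [Pi.sub_apply]; ring
    omega
  · have : dotInt negW.1 (a.1 - Spor.leechV.1) = dotInt negW.1 a.1 - dotInt negW.1 Spor.leechV.1 := by
      simp only [dotInt, ← Finset.sum_sub_distrib]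
      exact Finset.sum_congr rfl fun l _ => by simp only [Pi.sub_apply]; ring
    omega
  · have : dotInt a.1 (a.1 - Spor.leechV.1) = sqNorm a.1 - dotInt Spor.leechV.1 a.1 := by
      simp only [sqNorm, dotInt, ← Finset.sum_sub_distrib]
      exact Finset.sum_congr rfl fun l _ => by simp only [Pi.sub_apply]; ring
    omega

lemma orbit_hsStab {a : leechLattice} (ha : a ∈ hundred) :
    MulAction.orbit hsStab a = hundred := by
  ext y
  constructor
  · rintro ⟨⟨g, hg⟩, rfl⟩
    obtain ⟨hn, h0, h24⟩ := ha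
    refine ⟨(co0_sqNorm g a).trans hn, ?_, ?_⟩
    · have h := co0_dot g negW a
      rw [MulAction.mem_stabilizer_iff.1 hg.1] at h
      exact h.trans h0
    · have h := co0_dot g Spor.leechV a
      rw [MulAction.mem_stabilizer_iff.1 hg.2] at h
      exact h.trans h24
  · intro hy
    obtain ⟨p1, p2, p3⟩ := partner_of_hundred ha
    obtain ⟨q1, q2, q3⟩ := partner_of_hundred hy
    obtain ⟨g, g1, g2, g3⟩ := exists_move_triple negW_facts.1 ha.1 p1 ha.2.1 p2 p3
    obtain ⟨k, k1, k2, k3⟩ := exists_move_triple negW_facts.1 hy.1 q1 hy.2.1 q2 q3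
    have hN : (k⁻¹ * g) • negW = negW := by rw [mul_smul, g1, ← k1, inv_smul_smul]
    have hA : (k⁻¹ * g) • a = y := by rw [mul_smul, g2, ← k2, inv_smul_smul]
    have hB : (k⁻¹ * g) • (a - Spor.leechV) = y - Spor.leechV := by
      rw [mul_smul, g3, ← k3, inv_smul_smul]
    refine ⟨⟨k⁻¹ * g, hN, ?_⟩, hA⟩
    show (k⁻¹ * g) • Spor.leechV = Spor.leechV
    rw [co0_smul_sub, hA] at hB
    exact sub_right_injective hB

lemma card_hsStab_hundred {a : leechLattice} (ha : a ∈ hundred) :
    Nat.card hsStab = hundred.ncard * 443520 := by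
  have h := card_eq_orbit_mul hsStab a
  rw [orbit_hsStab ha] at h
  rw [h]
  congr 1
  obtain ⟨p1, p2, p3⟩ := partner_of_hundred ha
  obtain ⟨g, g1, g2, g3⟩ := exists_move_triple negW_facts.1 ha.1 p1 ha.2.1 p2 p3
  rw [← card_triple_stab]
  refine Nat.card_congr ((MulAut.conj g).toEquiv.subtypeEquiv fun x => ?_)
  show (x • negW = negW ∧ x • Spor.leechV = Spor.leechV) ∧ x • a = a ↔
    ((g * x * g⁻¹) • repA = repA ∧ (g * x * g⁻¹) • repW = repW) ∧ (g * x * g⁻¹) • repT = repT
  rw [← g1, ← g2, ← g3]
  simp only [mul_smul, inv_smul_smul, smul_left_cancel_iff]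
  constructor
  · rintro ⟨⟨h1, h2⟩, h3⟩
    exact ⟨⟨h1, h3⟩, by rw [co0_smul_sub, h3, h2]⟩
  · rintro ⟨⟨h1, h3⟩, h4⟩
    refine ⟨⟨h1, ?_⟩, h3⟩
    rw [co0_smul_sub, h3] at h4
    exact sub_right_injective h4

lemma firstPoint_mem :
    ∃ a : leechLattice, a ∈ hundred := by
  have h : inLeech (fun l : GolayPt => if l = none ∨ l = some 0 then -4 else 0) = true ∧
      sqNorm (fun l : GolayPt => if l = none ∨ l = some 0 then (-4 : ℤ) else 0) = 32 ∧
      dotInt negW.1 (fun l : GolayPt => if l = none ∨ l = some 0 then (-4 : ℤ) else 0) = 0 ∧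
      dotInt Spor.leechV.1 (fun l : GolayPt => if l = none ∨ l = some 0 then (-4 : ℤ) else 0) = 24 := by
    decide +kernel
  exact ⟨⟨_, mem_of_inLeech h.1⟩, h.2.1, h.2.2.1, h.2.2.2⟩

theorem card_hsStab : Nat.card hsStab = 44352000 ∧ hundred.ncard = 100 ∧
    MulAction.orbit (MulAction.stabilizer Co0 negW) Spor.leechV
      = {y : leechLattice | sqNorm y.1 = 48 ∧ dotInt negW.1 y.1 = 16} := by
  obtain ⟨a, ha⟩ := firstPoint_mem
  obtain ⟨hn, hv, hd⟩ := negW_facts
  have hA := card_hsStab_hundred ha
  have hX := card_stab_min hn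
  have horb := card_eq_orbit_mul (MulAction.stabilizer Co0 negW) Spor.leechV
  rw [hX] at horb
  change _ = _ * Nat.card hsStab at horb
  set O := MulAction.orbit (MulAction.stabilizer Co0 negW) Spor.leechV
  set Y := {y : leechLattice | sqNorm y.1 = 48 ∧ dotInt negW.1 y.1 = 16} with hY
  have hsub : O ⊆ Y := by
    rintro _ ⟨⟨g, hg⟩, rfl⟩
    refine ⟨(co0_sqNorm g _).trans hv, ?_⟩
    have h := co0_dot g negW Spor.leechV
    rw [MulAction.mem_stabilizer_iff.1 hg] at h
    exact h.trans hd
  have hYle : Y.ncard ≤ 953856 := by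
    obtain ⟨g, hg⟩ := co0_transitive_min negW repA hn repA_norm
    refine le_trans (le_of_eq ?_) census_fortyeight_sixteen
    refine Set.ncard_congr (fun y _ => g • y) ?_ (fun a b _ _ h => MulAction.injective g h) ?_
    · rintro y ⟨h1, h2⟩
      refine ⟨(co0_sqNorm g y).trans h1, ?_⟩
      rw [← hg, co0_dot]; exact h2
    · rintro y ⟨h1, h2⟩
      refine ⟨g⁻¹ • y, ⟨(co0_sqNorm g⁻¹ y).trans h1, ?_⟩, smul_inv_smul g y⟩
      rw [← co0_dot g, hg, smul_inv_smul]; exact h2
  have hYfin : Y.Finite :=
    ((finite_normSet 48 (by norm_num) rfl).preimage Subtype.val_injective.injOn).subset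
      fun y hy => ⟨y.2, hy.1⟩
  have hOle : O.ncard ≤ 953856 := (Set.ncard_le_ncard hsub hYfin).trans hYle
  rw [hA] at horb
  have h100 : hundred.ncard = 100 := by
    refine le_antisymm ncard_hundred_le ?_
    by_contra hlt
    have : O.ncard * (hundred.ncard * 443520) ≤ 953856 * (99 * 443520) :=
      Nat.mul_le_mul hOle (Nat.mul_le_mul_right _ (by omega))
    omega
  refine ⟨by rw [hA, h100], h100, Set.eq_of_subset_of_ncard_le hsub ?_ hYfin⟩
  rw [h100] at horb
  omega

end Cfsg.Agent.Golay
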