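import Cfsg.Agent.Golay.ConwaySimple
import Cfsg.Agent.Golay.HundredPoints

/-!
Simplicity of the joint stabiliser of two vectors of squared norm 48 at product -32.
-/

set_option autoImplicit false

namespace Cfsg.Agent.Golay

open Cfsg
open scoped Pointwise

lemma negW_values : (∀ l, negW.1 l = negW.1 (smallRep (smallClass l))) ∧
    negW.1 none = -4 ∧ negW.1 (some 0) = 4 ∧ negW.1 (some 1) = 0 ∧ negW.1 (some 5) = 0 ∧
    ∀ l, negW.1 l ≠ 0 → l = none ∨ l = some 0 := by
  decide +kernel

lemma isSimple_hsStab : IsSimpleGroup hsStab := by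
  obtain ⟨-, hconst, hne, hv5, hv1, -, hcls, hvc, hvd⟩ := leechV_facts
  obtain ⟨hxcls, hu, hu0, huc, hud, hsupp⟩ := negW_values
  have hcard : Nat.card hsStab = 44352000 := card_hsStab.1
  haveI : Fact (Nat.Prime 11) := ⟨by norm_num⟩
  have key := isSimple_of_axis (A := hsStab) isSimpleGroup_twoStab (by
      rintro _ ⟨τ, hτ, rfl⟩
      refine ⟨?_, oneStab_fix hτ.1 hconst⟩
      show permAut τ • negW = negW
      have e1 : τ.1 none = none := hτ.1
      have e2 : τ.1 (some 0) = some 0 := hτ.2
      refine Subtype.ext (funext fun l => ?_)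
      obtain ⟨q, rfl⟩ : ∃ q, τ.1 q = l := ⟨τ.1.symm l, τ.1.apply_symm_apply l⟩
      rw [permAut_apply]
      by_cases h : q = none ∨ q = some 0
      · rcases h with rfl | rfl
        · rw [e1]
        · rw [e2]
      · have z : ∀ r, ¬ (r = none ∨ r = some 0) → negW.1 r = 0 := fun r hr =>
          not_not.1 fun hh => hr (hsupp r hh)
        rw [z q h, z (τ.1 q) fun hh => h (hh.imp (fun e => τ.1.injective (e.trans e1.symm))
          (fun e => τ.1.injective (e.trans e2.symm)))])
    sigmaSmall_facts.1 sigmaSmall_facts.2 (by rw [hcard]; norm_num) (by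
      intro g hg hfix
      obtain ⟨hy, hdot, hnorm⟩ := fixed_small hfix
      have hd := co0_dot g Spor.leechV (axisVec none)
      rw [MulAction.mem_stabilizer_iff.1 hg.2, dot_axis, hv5] at hd
      have hd' := co0_dot g negW (axisVec none)
      rw [MulAction.mem_stabilizer_iff.1 hg.1, dot_axis, hu] at hd'
      have hd2 := hdot _ hcls
      rw [hv5, hv1, hvc, hvd, show dotInt (g • axisVec none).1 Spor.leechV.1
        = dotInt Spor.leechV.1 (g • axisVec none).1 from by simp [dotInt, mul_comm], hd] at hd2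
      have hd3 := hdot _ hxcls
      rw [hu, hu0, huc, hud, show dotInt (g • axisVec none).1 negW.1
        = dotInt negW.1 (g • axisVec none).1 from by simp [dotInt, mul_comm], hd'] at hd3
      rw [co0_sqNorm, axis_norm] at hnorm
      set a := (g • axisVec none).1 none with ha
      set b := (g • axisVec none).1 (some 0) with hb
      set c := (g • axisVec none).1 (some 1) with hc
      set d := (g • axisVec none).1 (some 5) with hd4
      obtain ⟨r1, r2, r3, r4⟩ : a = 8 ∧ b = 0 ∧ c = 0 ∧ d = 0 := by
        have h1 : c ≤ 2 := by nlinarith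
        have h2 : -2 ≤ c := by nlinarith
        have h3 : d ≤ 2 := by nlinarith
        have h4 : -2 ≤ d := by nlinarith
        interval_cases c <;> interval_cases d <;>
          first | exact ⟨by omega, by omega, rfl, rfl⟩ | omega | nlinarith
      exact small_axis hy r1 r2 r3 r4) (by
      intro τ c hA hax
      obtain ⟨h1, h2⟩ := mono_eq_perm hax hA.2 hconst hne
      refine ⟨τ, ⟨h1, ?_⟩, h2.symm⟩
      show τ.1 (some 0) = some 0
      have h3 : monoAut τ c • negW = negW := hA.1
      rw [h2] at h3
      have h4 := permAut_apply τ negW (some 0)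
      rw [show permAut τ • negW = negW from h3, hu0] at h4
      have e1 : τ.1 none = none := h1
      rcases hsupp _ (by rw [h4]; norm_num) with e | e
      · exact absurd (τ.1.injective (e.trans e1.symm)) (by simp)
      · exact e)
    (permAut_axis sigmaSmall_facts.1.1) (m := 100) (by rw [hcard, card_twoStab])
  haveI : Finite hsStab := inferInstance
  haveI : Nontrivial hsStab := Finite.one_lt_card_iff_nontrivial.1 (by omega)
  refine ⟨fun N hN => ?_⟩
  rcases key N hN with h | ⟨hd, hq⟩
  · exact Or.inr h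
  · left
    rw [← Subgroup.card_eq_one]
    by_contra hne1
    obtain ⟨q, hqp, hqN⟩ := Nat.exists_prime_and_dvd hne1
    have hk := exponent_check (p := 11) (n := 100) (a := 2) (b := 0) (c := 2) (by norm_num)
      (by decide) (by decide) (by decide) q _ hqp ((Nat.ordProj_dvd _ q).trans hd) (hq q hqp)
    have := (hqp.dvd_iff_one_le_factorization Nat.card_pos.ne').1 hqN
    omega

/-- Moving a pair of vectors of squared norm 48 at product `-32` to the reference one. -/
theorem exists_move_fortyeight_pair {v w : leechLattice} (hv : sqNorm v.1 = 48)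
    (hw : sqNorm w.1 = 48) (hd : dotInt v.1 w.1 = -32) :
    ∃ g : Co0, g • v = Spor.leechV ∧ g • w = negW - Spor.leechV := by
  have hx : sqNorm (v + w).1 = 32 := by
    rw [AddSubgroup.coe_add, (sqNorm_add_sub v.1 w.1).1, hv, hw, hd]; norm_num
  have hdx : dotInt (v + w).1 v.1 = 16 := by
    have : dotInt (v + w).1 v.1 = sqNorm v.1 + dotInt v.1 w.1 := by
      simp only [sqNorm, dotInt, AddSubgroup.coe_add, ← Finset.sum_add_distrib]
      exact Finset.sum_congr rfl fun l _ => by simp only [Pi.add_apply]; ring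
    omega
  obtain ⟨g, hg⟩ := co0_transitive_min (v + w) negW hx negW_facts.1
  have hmem : g • v ∈ MulAction.orbit (MulAction.stabilizer Co0 negW) Spor.leechV := by
    rw [card_hsStab.2.2]
    exact ⟨(co0_sqNorm g v).trans hv, by rw [← hg, co0_dot, hdx]⟩
  obtain ⟨⟨k, hk⟩, hkv⟩ := hmem
  have hkv' : k • Spor.leechV = g • v := hkv
  refine ⟨k⁻¹ * g, by rw [mul_smul, inv_smul_eq_iff, hkv'], ?_⟩
  have e : w = (v + w) - v := by rw [add_sub_cancel_left]
  rw [e, co0_smul_sub, mul_smul, mul_smul, hg, inv_smul_eq_iff.2 hkv'.symm,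
    inv_smul_eq_iff.2 (MulAction.mem_stabilizer_iff.1 hk).symm]

theorem isHS_stabilizer {v w : leechLattice} (hv : sqNorm v.1 = 48) (hw : sqNorm w.1 = 48)
    (hd : dotInt v.1 w.1 = -32) :
    IsHS ↥(MulAction.stabilizer Co0 v ⊓ MulAction.stabilizer Co0 w) := by
  obtain ⟨g, g1, g2⟩ := exists_move_fortyeight_pair hv hw hd
  have hp : g • (v, w) = ((Spor.leechV, negW - Spor.leechV) : leechLattice × leechLattice) :=
    Prod.ext g1 g2
  have hsame : MulAction.stabilizer Co0 Spor.leechV ⊓
      MulAction.stabilizer Co0 (negW - Spor.leechV) = hsStab := by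
    ext x
    simp only [hsStab, Subgroup.mem_inf, MulAction.mem_stabilizer_iff, co0_smul_sub]
    constructor
    · rintro ⟨h1, h2⟩; rw [h1] at h2; exact ⟨sub_left_injective h2, h1⟩
    · rintro ⟨h1, h2⟩; exact ⟨h2, by rw [h1, h2]⟩
  have e : ↥(MulAction.stabilizer Co0 v ⊓ MulAction.stabilizer Co0 w) ≃* hsStab :=
    (((MulEquiv.subgroupCongr (stabilizer_inf_eq_prod v w)).trans
      (MulAction.stabilizerEquivStabilizer hp.symm)).trans
      (MulEquiv.subgroupCongr (stabilizer_inf_eq_prod _ _)).symm).trans
      (MulEquiv.subgroupCongr hsame)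
  haveI := isSimple_hsStab
  exact ⟨e.isSimpleGroup, (Nat.card_congr e.toEquiv).trans card_hsStab.1⟩

end Cfsg.Agent.Golay
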