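import Cfsg.Agent.Golay.LeechCount

/-!
Counting lattice vectors with individual conditions at the two reference positions.
-/

set_option autoImplicit false

namespace Cfsg.Agent.Golay

open Cfsg
open scoped Pointwise

/-- Conditions at the two reference positions and a common one elsewhere. -/
def qPair (qa qb q0 : ℤ → Bool) (i : GolayPt) : ℤ → Bool :=
  if i = none then qa else if i = some 0 then qb else q0

lemma prod_pairVals (g : GolayPt → Bool → ℕ) (h : Bool → ℕ) (hg : ∀ i, i ≠ none → i ≠ some 0 → g i = h)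
    (m : ℕ) :
    (∏ i : GolayPt, g i (m.testBit (idx i))) =
      g none (m.testBit 23) * g (some 0) (m.testBit 0) *
        (h true ^ (popCnt m - (m.testBit 23).toNat - (m.testBit 0).toNat) *
          h false ^ (22 - (popCnt m - (m.testBit 23).toNat - (m.testBit 0).toNat))) := by
  rw [← Finset.mul_prod_erase Finset.univ _ (Finset.mem_univ none),
    ← Finset.mul_prod_erase _ _ (Finset.mem_erase.2 ⟨(by simp : (some 0 : GolayPt) ≠ none),
      Finset.mem_univ _⟩)]
  rw [← mul_assoc, show idx none = 23 from rfl, show idx (some 0) = 0 from rfl]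
  refine congrArg₂ (· * ·) rfl ?_
  set R := ((Finset.univ : Finset GolayPt).erase none).erase (some 0) with hR
  rw [Finset.prod_congr rfl (g := fun i => h (m.testBit (idx i))) (fun i hi => by
      simp only [hR, Finset.mem_erase] at hi
      rw [hg i hi.2.1 hi.1])]
  rw [← Finset.prod_filter_mul_prod_filter_not R (fun i : GolayPt => m.testBit (idx i) = true)]
  have ht : ∀ i ∈ R.filter (fun i : GolayPt => m.testBit (idx i) = true),
      h (m.testBit (idx i)) = h true := fun i hi => by rw [(Finset.mem_filter.1 hi).2]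
  have hf : ∀ i ∈ R.filter (fun i : GolayPt => ¬ m.testBit (idx i) = true),
      h (m.testBit (idx i)) = h false := fun i hi => by
    rw [Bool.eq_false_iff.2 (Finset.mem_filter.1 hi).2]
  rw [Finset.prod_congr rfl ht, Finset.prod_congr rfl hf, Finset.prod_const, Finset.prod_const]
  have h1 : (R.filter fun i : GolayPt => m.testBit (idx i) = true).card
      = popCnt m - (m.testBit 23).toNat - (m.testBit 0).toNat := by
    have : (R.filter fun i : GolayPt => m.testBit (idx i) = true)
        = ((ptSet m).erase none).erase (some 0) := by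
      ext i
      simp only [hR, Finset.mem_filter, Finset.mem_erase, Finset.mem_univ, and_true, mem_ptSet]
      tauto
    rw [this, Finset.card_erase_eq_ite, Finset.card_erase_eq_ite, card_ptSet]
    simp only [Finset.mem_erase, mem_ptSet, show idx none = 23 from rfl,
      show idx (some 0) = 0 from rfl, ne_eq, reduceCtorEq, not_false_eq_true, true_and]
    cases m.testBit 23 <;> cases m.testBit 0 <;> simp
  have h2 := Finset.card_filter_add_card_filter_not (s := R)
    (fun i : GolayPt => m.testBit (idx i) = true)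
  have hR22 : R.card = 22 := by rw [hR]; rfl
  rw [h1, hR22] at h2
  rw [h1, show (R.filter fun i : GolayPt => ¬ m.testBit (idx i) = true).card
    = 22 - (popCnt m - (m.testBit 23).toNat - (m.testBit 0).toNat) by omega]

/-- Even vectors with a given parity word and individual conditions. -/
def evenBoxAt (q : GolayPt → ℤ → Bool) (N m : ℕ) : Finset (GolayPt → ℤ) :=
  boxVecs (fun i => evenVals (q i) (m.testBit (idx i))) N

/-- Odd vectors with a given digit word and individual conditions. -/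
def oddBoxAt (q : GolayPt → ℤ → Bool) (N m : ℕ) : Finset (GolayPt → ℤ) :=
  boxVecs (fun i => oddVals (q i) (m.testBit (idx i))) N

/-- Even vectors meeting the sum condition. -/
def evenGoodAt (q : GolayPt → ℤ → Bool) (N m : ℕ) : Finset (GolayPt → ℤ) :=
  (evenBoxAt q N m).filter fun f => (∑ i, f i) % 8 = 0

lemma subset_evenBox (q : GolayPt → ℤ → Bool) (N m : ℕ) :
    evenBoxAt q N m ⊆ evenBox (fun _ => true) N m := by
  intro f hf
  obtain ⟨hv, hn⟩ := mem_boxVecs.1 hf
  refine mem_boxVecs.2 ⟨fun i => ?_, hn⟩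
  have := hv i
  simp only [evenVals, List.mem_filter] at this ⊢
  exact ⟨this.1, trivial⟩

lemma subset_oddBox (q : GolayPt → ℤ → Bool) (N m : ℕ) :
    oddBoxAt q N m ⊆ oddBox (fun _ => true) N m := by
  intro f hf
  obtain ⟨hv, hn⟩ := mem_boxVecs.1 hf
  refine mem_boxVecs.2 ⟨fun i => ?_, hn⟩
  have := hv i
  simp only [oddVals, List.mem_filter] at this ⊢
  exact ⟨this.1, trivial⟩

lemma mem_evenBoxAt (q : GolayPt → ℤ → Bool) (N m : ℕ) {f : GolayPt → ℤ} :
    f ∈ evenBoxAt q N m ↔ f ∈ evenBox (fun _ => true) N m ∧ ∀ i, q i (f i) = true := by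
  simp only [evenBoxAt, evenBox, mem_boxVecs, evenVals, List.mem_filter]
  exact ⟨fun h => ⟨⟨fun i => ⟨(h.1 i).1, trivial⟩, h.2⟩, fun i => (h.1 i).2⟩,
    fun h => ⟨fun i => ⟨(h.1.1 i).1, h.2 i⟩, h.1.2⟩⟩

lemma mem_oddBoxAt (q : GolayPt → ℤ → Bool) (N m : ℕ) {f : GolayPt → ℤ} :
    f ∈ oddBoxAt q N m ↔ f ∈ oddBox (fun _ => true) N m ∧ ∀ i, q i (f i) = true := by
  simp only [oddBoxAt, oddBox, mem_boxVecs, oddVals, List.mem_filter]
  exact ⟨fun h => ⟨⟨fun i => ⟨(h.1 i).1, trivial⟩, h.2⟩, fun i => (h.1 i).2⟩,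
    fun h => ⟨fun i => ⟨(h.1.1 i).1, h.2 i⟩, h.1.2⟩⟩

lemma evenGood_full_facts {N m : ℕ} {f : GolayPt → ℤ} (hm : m ∈ codeList)
    (hf : f ∈ evenBox (fun _ => true) N m) :
    (∀ i, f i % 2 = 0 ∧ ((f i / 2) % 2 = 1 ↔ m.testBit (idx i) = true)) ∧ (∑ i, f i) % 4 = 0 := by
  obtain ⟨hv, -⟩ := mem_boxVecs.1 hf
  have hv' := fun i => ((mem_evenVals (evenVals_sq (hv i))).1 (hv i)).2
  refine ⟨hv', ?_⟩
  have hd : digitWord f ∈ golayCode := by
    rw [mem_golayCode_iff, show wordMask (digitWord f) = m from ?_]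
    · exact hm
    · refine ptSet_injOn (maskOf_lt _) (codeList_lt hm) ?_
      ext i
      rw [mem_ptSet, mem_ptSet, testBit_wordMask_digit]
      exact (hv' i).2
  have hc := card_digit_dvd_four hd
  have hs : ∑ i, f i = 2 * ∑ i, f i / 2 := by
    rw [Finset.mul_sum]; exact Finset.sum_congr rfl fun i _ => by have := (hv' i).1; omega
  have hq4 := sum_sq_mod_four fun i => f i / 2
  have hp2 := evenGood_eq_all.sum_sq_mod_two fun i => f i / 2
  have : (support₂ fun i => ((f i / 2 : ℤ) : ZMod 2)).card % 4 = 0 :=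
    Nat.mod_eq_zero_of_dvd hc
  omega

lemma two_mul_card_evenGoodAt (qa qb q0 : ℤ → Bool) (hq : ∀ v, q0 (-v) = q0 v) (N : ℕ) {m : ℕ}
    (hm : m ∈ codeList) (h0 : m ≠ 0) :
    2 * (evenGoodAt (qPair qa qb q0) N m).card = (evenBoxAt (qPair qa qb q0) N m).card := by
  obtain ⟨p, hp, hpn, hp0⟩ : ∃ p, p ∈ ptSet m ∧ p ≠ none ∧ p ≠ some 0 := by
    have hc : 8 ≤ (ptSet m).card := by
      rw [card_ptSet]
      rcases popCnt_codeList hm with h | h | h | h | h
      · exfalso
        rw [← card_ptSet, Finset.card_eq_zero, ← ptSet_zero] at h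
        exact h0 (ptSet_injOn (codeList_lt hm) (by norm_num) h)
      all_goals omega
    by_contra h
    push Not at h
    have hsub : ptSet m ⊆ {none, some 0} := fun p hp => by
      by_cases e : p = none
      · simp [e]
      · simp [h p hp e]
    have := (Finset.card_le_card hsub).trans Finset.card_le_two
    omega
  set q := qPair qa qb q0 with hqdef
  have hqp : ∀ v, q p (-v) = q p v := fun v => by simp [hqdef, qPair, hpn, hp0, hq]
  set flip : (GolayPt → ℤ) → (GolayPt → ℤ) := fun f i => if i = p then -f i else f i with hflip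
  have hinv : ∀ f, flip (flip f) = f := fun f => by
    funext i; simp only [hflip]; split <;> simp
  have hmem : ∀ f ∈ evenBoxAt q N m, flip f ∈ evenBoxAt q N m ∧
      ((∑ i, flip f i) % 8 = 0 ↔ ¬ (∑ i, f i) % 8 = 0) := by
    intro f hf
    obtain ⟨hfull, hfq⟩ := (mem_evenBoxAt q N m).1 hf
    obtain ⟨hv', h4⟩ := evenGood_full_facts hm hfull
    obtain ⟨hv, hnorm⟩ := mem_boxVecs.1 hf
    refine ⟨mem_boxVecs.2 ⟨fun i => ?_, ?_⟩, ?_⟩
    · simp only [hflip]
      split
      · next e =>
        refine (mem_evenVals (by nlinarith [evenVals_sq (hv i)])).2 ⟨?_, ?_, ?_⟩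
        · rw [e, hqp]; exact hfq p
        · have := (hv' i).1; omega
        · rw [← (hv' i).2]; have := (hv' i).1; omega
      · exact hv i
    · rw [← hnorm, sqNorm, sqNorm]
      refine Finset.sum_congr rfl fun i _ => ?_
      simp only [hflip]; split <;> ring
    · have h1 : ∑ i, flip f i = (∑ i, f i) - 2 * f p := by
        rw [Finset.sum_congr rfl (fun i _ => show flip f i = f i - 2 * (if i = p then f i else 0) by
          simp only [hflip]; split <;> ring), Finset.sum_sub_distrib, ← Finset.mul_sum]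
        simp
      have h2 : f p % 2 = 0 ∧ (f p / 2) % 2 = 1 := ⟨(hv' p).1, (hv' p).2.2 (mem_ptSet.1 hp)⟩
      omega
  have hbij : ((evenBoxAt q N m).filter fun f => ¬ (∑ i, f i) % 8 = 0).card
      = (evenGoodAt q N m).card := by
    refine Finset.card_bij' (fun f _ => flip f) (fun f _ => flip f) ?_ ?_ (fun f _ => hinv f)
      (fun f _ => hinv f)
    · intro f hf
      obtain ⟨h1, h2⟩ := Finset.mem_filter.1 hf
      exact Finset.mem_filter.2 ⟨(hmem f h1).1, (hmem f h1).2.2 h2⟩
    · intro f hf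
      obtain ⟨h1, h2⟩ := Finset.mem_filter.1 hf
      refine Finset.mem_filter.2 ⟨(hmem f h1).1, fun h => (hmem f h1).2.1 h h2⟩
  have hadd := Finset.card_filter_add_card_filter_not (s := evenBoxAt q N m)
    (fun f => (∑ i, f i) % 8 = 0)
  rw [hbij] at hadd
  rw [evenGoodAt] at hadd ⊢
  omega

/-- Coefficient with individual conditions at the two reference positions. -/
def waysAt (vals : (ℤ → Bool) → Bool → List ℤ) (qa qb q0 : ℤ → Bool) (N w : ℕ) (ba bb : Bool) : ℕ :=
  packVals (vals qa ba) * packVals (vals qb bb) *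
    (packVals (vals q0 true) ^ (w - ba.toNat - bb.toNat) *
      packVals (vals q0 false) ^ (22 - (w - ba.toNat - bb.toNat))) / (2 ^ 64) ^ N % 2 ^ 64

/-- Contribution of a code word. -/
def termAt (qa qb q0 : ℤ → Bool) (N w : ℕ) (ba bb : Bool) : ℕ :=
  (if w = 0 then (if N % 32 = 0 then waysAt evenVals qa qb q0 N 0 ba bb else 0)
    else waysAt evenVals qa qb q0 N w ba bb / 2) + waysAt oddVals qa qb q0 N w ba bb

lemma evenZero_sum (q : GolayPt → ℤ → Bool) {N : ℕ} (h : N % 32 = 0) {x : GolayPt → ℤ}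
    (hx : x ∈ evenBoxAt q N 0) : (∑ i, x i) % 8 = 0 := by
  have hg := (Finset.ext_iff.1 (evenGood_eq_all (fun _ => true) h) x).2 (subset_evenBox q N 0 hx)
  rw [evenGood, Finset.mem_filter] at hg
  exact hg.2

lemma evenZero_empty (q : GolayPt → ℤ → Bool) {N : ℕ} (h : N % 32 = 16) {x : GolayPt → ℤ}
    (hx : x ∈ evenGoodAt q N 0) : False := by
  rw [evenGoodAt, Finset.mem_filter] at hx
  have h3 := (Finset.ext_iff.1 (evenGood_eq_empty (fun _ => true) h) x).1
  rw [evenGood, Finset.mem_filter] at h3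
  exact absurd (h3 ⟨subset_evenBox q N 0 hx.1, hx.2⟩) (Finset.notMem_empty x)

lemma qPair_values (qa qb q0 : ℤ → Bool) :
    qPair qa qb q0 none = qa ∧ qPair qa qb q0 (some 0) = qb ∧
      ∀ i, i ≠ none → i ≠ some 0 → qPair qa qb q0 i = q0 :=
  ⟨if_pos rfl, by rw [qPair, if_neg (by simp), if_pos rfl],
    fun i h1 h2 => by rw [qPair, if_neg h1, if_neg h2]⟩

set_option maxHeartbeats 200000 in
lemma card_evenBoxAt (qa qb q0 : ℤ → Bool) (N m : ℕ) :
    (evenBoxAt (qPair qa qb q0) N m).card
      = waysAt evenVals qa qb q0 N (popCnt m) (m.testBit 23) (m.testBit 0) := by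
  obtain ⟨h1, h2, h3⟩ := qPair_values qa qb q0
  rw [evenBoxAt, card_boxVecs _ _ (fun i => (evenVals_nodup _ _).1) (fun i => (evenVals_nodup _ _).2),
    prod_pairVals (fun i b => packVals (evenVals (qPair qa qb q0 i) b))
      (fun b => packVals (evenVals q0 b)) (fun i a b => by simp only [h3 i a b]) m]
  simp only [h1, h2, waysAt]

set_option maxHeartbeats 200000 in
lemma card_oddBoxAt (qa qb q0 : ℤ → Bool) (N m : ℕ) :
    (oddBoxAt (qPair qa qb q0) N m).card
      = waysAt oddVals qa qb q0 N (popCnt m) (m.testBit 23) (m.testBit 0) := by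
  obtain ⟨h1, h2, h3⟩ := qPair_values qa qb q0
  rw [oddBoxAt, card_boxVecs _ _ (fun i => (oddVals_nodup _ _).1) (fun i => (oddVals_nodup _ _).2),
    prod_pairVals (fun i b => packVals (oddVals (qPair qa qb q0 i) b))
      (fun b => packVals (oddVals q0 b)) (fun i a b => by simp only [h3 i a b]) m]
  simp only [h1, h2, waysAt]

set_option maxHeartbeats 400000 in
theorem ncard_leech_norm_at (qa qb q0 : ℤ → Bool) (hq : ∀ v, q0 (-v) = q0 v) {N : ℕ} (hN : N ≤ 64)
    (h16 : N % 16 = 0) (T : ℕ → Bool → Bool → ℕ)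
    (hT : ∀ w ∈ [0, 8, 12, 16, 24], ∀ ba bb, termAt qa qb q0 N w ba bb = T w ba bb) :
    {x : GolayPt → ℤ | x ∈ leechLattice ∧ sqNorm x = N ∧ ∀ i, qPair qa qb q0 i (x i) = true}.ncard
      = (codeList.map fun m => T (popCnt m) (m.testBit 23) (m.testBit 0)).sum := by
  set q := qPair qa qb q0 with hqdef
  have hset : {x : GolayPt → ℤ | x ∈ leechLattice ∧ sqNorm x = N ∧ ∀ i, q i (x i) = true}
      = ↑(codeList.toFinset.biUnion fun m => evenGoodAt q N m ∪ oddBoxAt q N m) := by
    have hall := leech_filter_eq_box (fun _ => true) hN h16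
    ext x
    have hx := Set.ext_iff.1 hall x
    simp only [Set.mem_setOf_eq, leechBox, Finset.coe_biUnion, Set.mem_iUnion, Finset.mem_coe,
      List.mem_toFinset, exists_prop, Finset.mem_union, evenGood, evenGoodAt, Finset.mem_filter,
      implies_true, and_true, mem_evenBoxAt, mem_oddBoxAt] at hx ⊢
    rw [← and_assoc, hx]
    constructor
    · rintro ⟨⟨m, hm, h | h⟩, hq'⟩
      · exact ⟨m, hm, Or.inl ⟨⟨h.1, hq'⟩, h.2⟩⟩
      · exact ⟨m, hm, Or.inr ⟨h, hq'⟩⟩
    · rintro ⟨m, hm, ⟨⟨h, hq'⟩, hs⟩ | ⟨h, hq'⟩⟩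
      · exact ⟨⟨m, hm, Or.inl ⟨h, hs⟩⟩, hq'⟩
      · exact ⟨⟨m, hm, Or.inr h⟩, hq'⟩
  have hbox : ∀ m, evenGoodAt q N m ∪ oddBoxAt q N m
      ⊆ evenGood (fun _ => true) N m ∪ oddBox (fun _ => true) N m := by
    intro m x hx
    rcases Finset.mem_union.1 hx with hx | hx
    · obtain ⟨h1, h2⟩ := Finset.mem_filter.1 hx
      exact Finset.mem_union.2 (Or.inl (Finset.mem_filter.2 ⟨subset_evenBox q N m h1, h2⟩))
    · exact Finset.mem_union.2 (Or.inr (subset_oddBox q N m hx))
  have hdisj : (codeList.toFinset : Set ℕ).PairwiseDisjoint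
      fun m => evenGoodAt q N m ∪ oddBoxAt q N m := by
    intro a ha b hb hab
    rw [Function.onFun, Finset.disjoint_left]
    intro x hxa hxb
    exact hab ((digit_of_mem (codeList_lt (List.mem_toFinset.1 ha)) (hbox a hxa)).symm.trans
      (digit_of_mem (codeList_lt (List.mem_toFinset.1 hb)) (hbox b hxb)))
  rw [hset, Set.ncard_coe_finset, Finset.card_biUnion hdisj, List.sum_toFinset _ codeList_nodup]
  refine congrArg List.sum (List.map_congr_left fun m hm => ?_)
  have hdis : Disjoint (evenGoodAt q N m) (oddBoxAt q N m) := by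
    rw [Finset.disjoint_left]
    intro x hx hx'
    have h1 := (mem_boxVecs.1 (Finset.mem_filter.1 hx).1).1 none
    have h2 := (mem_boxVecs.1 hx').1 none
    have := ((mem_evenVals (evenVals_sq h1)).1 h1).2.1
    have := ((mem_oddVals (oddVals_sq h2)).1 h2).2.1
    omega
  have hce : ∀ m, (evenBoxAt q N m).card
      = waysAt evenVals qa qb q0 N (popCnt m) (m.testBit 23) (m.testBit 0) :=
    fun m => card_evenBoxAt qa qb q0 N m
  have hco := card_oddBoxAt qa qb q0 N m
  rw [← hqdef] at hco
  rw [Finset.card_union_of_disjoint hdis, ← hT (popCnt m) (by simpa using popCnt_codeList hm),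
    termAt, hco]
  refine congrArg (· + waysAt oddVals qa qb q0 N (popCnt m) (m.testBit 23) (m.testBit 0)) ?_
  by_cases h0 : m = 0
  · subst h0
    rw [if_pos (show popCnt 0 = 0 from rfl)]
    split
    · next h =>
      rw [evenGoodAt, Finset.filter_true_of_mem, hce]
      · rw [show popCnt 0 = 0 from rfl]
      · intro x hx
        exact evenZero_sum q h hx
    · next h =>
      refine Finset.card_eq_zero.2 (Finset.eq_empty_of_forall_notMem fun x hx => ?_)
      exact evenZero_empty q (by omega) hx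
  · have hpop : popCnt m ≠ 0 := by
      rw [← card_ptSet]
      intro h
      rw [Finset.card_eq_zero, ← ptSet_zero] at h
      exact h0 (ptSet_injOn (codeList_lt hm) (by norm_num) h)
    have h2 := two_mul_card_evenGoodAt qa qb q0 hq N hm h0
    rw [← hqdef] at h2
    rw [if_neg hpop, ← hce, ← h2]
    omega

end Cfsg.Agent.Golay
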