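import Cfsg.Agent.Golay.PairTrans
import Cfsg.Agent.Golay.LeechCountAt
import Cfsg.Agent.Golay.LeechClasses

/-!
Census of minimal vectors by their values at the reference pair and by inner product.
-/

set_option autoImplicit false

namespace Cfsg.Agent.Golay

open Cfsg
open scoped Pointwise

/-- Keys, coefficient tables and totals. -/
def keyRows : List ((ℤ × ℤ × ℕ) × List ℕ × ℕ) :=
  [((0, 0, 2), [924, 0, 0, 0, 0, 0, 0, 0, 0, 0, 0, 0, 0, 0, 0, 0, 0, 0, 0, 0], 924),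
   ((4, -4, 2), [1, 0, 0, 0, 0, 0, 0, 0, 0, 0, 0, 0, 0, 0, 0, 0, 0, 0, 0, 0], 1),
   ((-4, 4, 2), [1, 0, 0, 0, 0, 0, 0, 0, 0, 0, 0, 0, 0, 0, 0, 0, 0, 0, 0, 0], 1),
   ((0, 0, 8), [0, 0, 0, 0, 128, 0, 0, 0, 0, 0, 0, 0, 0, 0, 0, 0, 0, 0, 0, 0], 42240),
   ((2, -2, 8), [0, 0, 0, 0, 0, 0, 0, 32, 0, 0, 0, 0, 0, 0, 0, 0, 0, 0, 0, 0], 2464),
   ((-2, 2, 8), [0, 0, 0, 0, 0, 0, 0, 32, 0, 0, 0, 0, 0, 0, 0, 0, 0, 0, 0, 0], 2464),
   ((1, -1, 24), [0, 22, 0, 0, 0, 22, 0, 0, 0, 22, 0, 0, 0, 22, 0, 0, 0, 0, 0, 0], 22528),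
   ((-1, 1, 24), [0, 0, 22, 0, 0, 0, 22, 0, 0, 0, 22, 0, 0, 0, 22, 0, 0, 0, 0, 0], 22528),
   ((0, -4, 2), [44, 0, 0, 0, 0, 0, 0, 0, 0, 0, 0, 0, 0, 0, 0, 0, 0, 0, 0, 0], 44),
   ((-4, 0, 2), [44, 0, 0, 0, 0, 0, 0, 0, 0, 0, 0, 0, 0, 0, 0, 0, 0, 0, 0, 0], 44),
   ((-2, -2, 8), [0, 0, 0, 0, 0, 0, 0, 32, 0, 0, 0, 0, 0, 0, 0, 0, 0, 0, 0, 0], 2464),
   ((-1, -3, 24), [0, 0, 1, 0, 0, 0, 1, 0, 0, 0, 1, 0, 0, 0, 1, 0, 0, 0, 0, 0], 1024),
   ((-3, -1, 24), [0, 1, 0, 0, 0, 1, 0, 0, 0, 1, 0, 0, 0, 1, 0, 0, 0, 0, 0, 0], 1024),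
   ((0, -2, 8), [0, 0, 0, 0, 0, 64, 0, 0, 0, 0, 0, 0, 0, 0, 0, 0, 0, 0, 0, 0], 11264),
   ((-2, 0, 8), [0, 0, 0, 0, 0, 0, 64, 0, 0, 0, 0, 0, 0, 0, 0, 0, 0, 0, 0, 0], 11264),
   ((1, -3, 24), [1, 0, 0, 0, 1, 0, 0, 0, 1, 0, 0, 0, 1, 0, 0, 0, 0, 0, 0, 0], 1024),
   ((-1, -1, 24), [0, 0, 0, 22, 0, 0, 0, 22, 0, 0, 0, 22, 0, 0, 0, 22, 0, 0, 0, 22], 22528),
   ((-3, 1, 24), [1, 0, 0, 0, 1, 0, 0, 0, 1, 0, 0, 0, 1, 0, 0, 0, 0, 0, 0, 0], 1024)]

/-- Allowed values for a support size. -/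
def valsOf (c : ℕ) (v : ℤ) : Bool :=
  if c = 2 then [0, 4, -4].contains v else if c = 8 then [0, 2, -2].contains v
  else [1, -1, 3, -3].contains v

/-- Table entry. -/
def tblAt (T : List ℕ) (w : ℕ) (ba bb : Bool) : ℕ :=
  T.getD ((if w = 0 then 0 else if w = 8 then 4 else if w = 12 then 8 else if w = 16 then 12 else 16)
    + 2 * ba.toNat + bb.toNat) 0

lemma keyRows_ok : ∀ r ∈ keyRows,
    (∀ w ∈ [0, 8, 12, 16, 24], ∀ ba bb : Bool,
      termAt (fun v => v == r.1.1) (fun v => v == r.1.2.1) (valsOf r.1.2.2) 32 w ba bb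
        = tblAt r.2.1 w ba bb) ∧
    (codeList.map fun m => tblAt r.2.1 (popCnt m) (m.testBit 23) (m.testBit 0)).sum = r.2.2 ∧
    (r.1.2.2 = 2 ∨ r.1.2.2 = 8 ∨ r.1.2.2 = 24) ∧
    valsOf r.1.2.2 r.1.1 = true ∧ valsOf r.1.2.2 r.1.2.1 = true := by
  decide +kernel

lemma valsOf_neg (c : ℕ) (v : ℤ) : valsOf c (-v) = valsOf c v := by
  unfold valsOf
  split_ifs <;> simp only [List.contains_eq_mem, List.mem_cons, List.mem_nil_iff, or_false,
    decide_eq_decide] <;> omega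

/-- Minimal vectors with a given key. -/
noncomputable def keyFin (k : ℤ × ℤ × ℕ) : Finset (GolayPt → ℤ) :=
  (normFin 32 (by norm_num) rfl).filter fun x => keyVec x = k

theorem card_keyFin {r : (ℤ × ℤ × ℕ) × List ℕ × ℕ} (hr : r ∈ keyRows) :
    (keyFin r.1).card = r.2.2 := by
  obtain ⟨⟨a, b, c⟩, T, n⟩ := r
  obtain ⟨hT, hsum, hc, hva, hvb⟩ := keyRows_ok _ hr
  simp only at hT hsum hc hva hvb ⊢
  rw [← hsum, ← ncard_leech_norm_at (fun v => v == a) (fun v => v == b) (valsOf c) (valsOf_neg c)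
    (N := 32) (by norm_num) (by norm_num) (tblAt T) hT, ← Set.ncard_coe_finset]
  refine congrArg Set.ncard ?_
  ext x
  simp only [keyFin, Finset.coe_filter, mem_normFin, Set.mem_setOf_eq, Nat.cast_ofNat, keyVec,
    Prod.mk.injEq]
  constructor
  · rintro ⟨⟨hx, hn⟩, ha, hb, hcard⟩
    refine ⟨hx, hn, fun i => ?_⟩
    have hall : valsOf c (x i) = true := by
      have val : ∀ l, l ∉ suppVec x → x l = 0 := fun l hl => by simpa [suppVec] using hl
      rcases min_support hx hn with ⟨e, h⟩ | ⟨e, -, h⟩ | ⟨e, j, hj, h⟩ <;>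
        rw [e] at hcard <;> subst hcard
      · by_cases hi : i ∈ suppVec x
        · rcases h i hi with e | e <;> simp [valsOf, e]
        · simp [valsOf, val i hi]
      · by_cases hi : i ∈ suppVec x
        · rcases h i hi with e | e <;> simp [valsOf, e]
        · simp [valsOf, val i hi]
      · rcases eq_or_ne i j with rfl | hij
        · rcases hj with e | e <;> simp [valsOf, e]
        · rcases h i hij with e | e <;> simp [valsOf, e]
    unfold qPair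
    split_ifs with h1 h2
    · subst h1; simpa using ha
    · subst h2; simpa using hb
    · exact hall
  · rintro ⟨hx, hn, hq⟩
    have ha : x none = a := by simpa [qPair] using hq none
    have hb : x (some 0) = b := by simpa [qPair] using hq (some 0)
    have hall : ∀ i, valsOf c (x i) = true := by
      intro i
      have := hq i
      unfold qPair at this
      split_ifs at this with h1 h2
      · subst h1; rw [ha]; exact hva
      · subst h2; rw [hb]; exact hvb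
      · exact this
    refine ⟨⟨hx, hn⟩, ha, hb, ?_⟩
    rcases min_support hx hn with ⟨e, h⟩ | ⟨e, -, h⟩ | ⟨e, j, hj, h⟩ <;> rw [e]
    · obtain ⟨i, hi⟩ := Finset.card_pos.1 (show 0 < (suppVec x).card by omega)
      rcases hc with rfl | rfl | rfl <;> rcases h i hi with f | f <;>
        simpa [valsOf, f] using hall i
    · obtain ⟨i, hi⟩ := Finset.card_pos.1 (show 0 < (suppVec x).card by omega)
      rcases hc with rfl | rfl | rfl <;> rcases h i hi with f | f <;>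
        simpa [valsOf, f] using hall i
    · rcases hc with rfl | rfl | rfl <;> rcases hj with f | f <;>
        simpa [valsOf, f] using hall j

lemma keys_rows : ((keysFor 0).all fun k => keyRows.any fun r => decide (r.1 = k)) = true ∧
    ((keysFor (-4)).all fun k => keyRows.any fun r => decide (r.1 = k)) = true ∧
    ((keysFor (-2)).all fun k => keyRows.any fun r => decide (r.1 = k)) = true ∧
    (∀ d ∈ [((0 : ℤ), 93150), (-4, 4600), (-2, 47104)],
      ((keyRows.filter fun r => decide (r.1.1 + r.1.2.1 = d.1)).map fun r => r.2.2).sum = d.2) ∧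
    (keyRows.map fun r => r.1).Nodup := by
  decide +kernel

theorem census_repA {d : ℤ} {n : ℕ} (hd : (d, n) ∈ [((0 : ℤ), 93150), (-4, 4600), (-2, 47104)]) :
    {w : GolayPt → ℤ | w ∈ leechLattice ∧ sqNorm w = 32 ∧ dotInt repA.1 w = 4 * d}.ncard = n := by
  classical
  obtain ⟨k0, k4, k2, hsum, hnd⟩ := keys_rows
  have hcov : ((keysFor d).all fun k => keyRows.any fun r => decide (r.1 = k)) = true := by
    simp only [List.mem_cons, List.mem_nil_iff, or_false, Prod.mk.injEq] at hd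
    rcases hd with ⟨rfl, -⟩ | ⟨rfl, -⟩ | ⟨rfl, -⟩
    exacts [k0, k4, k2]
  set S := (normFin 32 (by norm_num) rfl).filter fun x => x none + x (some 0) = d with hS
  have hset : {w : GolayPt → ℤ | w ∈ leechLattice ∧ sqNorm w = 32 ∧ dotInt repA.1 w = 4 * d}
      = ↑S := by
    ext x
    simp only [hS, Finset.coe_filter, mem_normFin, Set.mem_setOf_eq, Nat.cast_ofNat, dot_repA]
    constructor
    · rintro ⟨a, b, c⟩; exact ⟨⟨a, b⟩, by omega⟩
    · rintro ⟨⟨a, b⟩, c⟩; exact ⟨a, b, by omega⟩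
  set L := keyRows.filter fun r => decide (r.1.1 + r.1.2.1 = d) with hL
  have hLk : (L.map fun r => r.1).Nodup := hnd.sublist ((List.filter_sublist (l := keyRows)).map _)
  rw [hset, Set.ncard_coe_finset, Finset.card_eq_sum_card_fiberwise
    (f := keyVec) (t := (L.map fun r => r.1).toFinset) ?_]
  · rw [List.sum_toFinset _ hLk, List.map_map]
    refine Eq.trans (congrArg List.sum (List.map_congr_left fun r hr => ?_)) (hsum (d, n) hd)
    obtain ⟨hr1, hr2⟩ := List.mem_filter.1 hr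
    rw [← card_keyFin hr1, Function.comp_apply, keyFin]
    congr 1
    rw [hS, Finset.filter_filter]
    refine Finset.filter_congr fun x _ => ⟨fun h => h.2, fun h => ⟨?_, h⟩⟩
    have e := of_decide_eq_true hr2
    rw [← h] at e
    exact e
  · intro x hx
    rw [hS, Finset.coe_filter] at hx
    obtain ⟨hxn, hxd⟩ := hx
    obtain ⟨hxL, hxn'⟩ := mem_normFin.1 hxn
    have hk := key_mem_keysFor (w := ⟨x, hxL⟩) hxn' hxd
    obtain ⟨r, hr, hrk⟩ := List.any_eq_true.1 (List.all_eq_true.1 hcov _ hk)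
    rw [decide_eq_true_eq] at hrk
    rw [Finset.mem_coe, List.mem_toFinset, List.mem_map]
    refine ⟨r, List.mem_filter.2 ⟨hr, decide_eq_true ?_⟩, hrk⟩
    rw [hrk]; exact hxd

theorem census_min {v : GolayPt → ℤ} (hv : v ∈ leechLattice) (hn : sqNorm v = 32) {d : ℤ} {n : ℕ}
    (hd : (d, n) ∈ [((0 : ℤ), 93150), (-4, 4600), (-2, 47104)]) :
    {w : GolayPt → ℤ | w ∈ leechLattice ∧ sqNorm w = 32 ∧ dotInt v w = 4 * d}.ncard = n := by
  rw [← census_repA hd]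
  obtain ⟨g, hg⟩ := co0_transitive_min ⟨v, hv⟩ repA hn (by decide +kernel)
  refine Set.ncard_congr (fun w hw => (g • (⟨w, hw.1⟩ : leechLattice)).1) ?_ ?_ ?_
  · intro w hw
    refine ⟨(g • (⟨w, hw.1⟩ : leechLattice)).2, (co0_sqNorm g _).trans hw.2.1, ?_⟩
    rw [← hg, co0_dot]
    exact hw.2.2
  · intro a b ha hb h
    exact congrArg Subtype.val (smul_left_cancel g (Subtype.ext h : g • (⟨a, ha.1⟩ : leechLattice) = g • ⟨b, hb.1⟩))
  · intro y hy
    refine ⟨(g⁻¹ • (⟨y, hy.1⟩ : leechLattice)).1, ⟨SetLike.coe_mem _, (co0_sqNorm g⁻¹ _).trans hy.2.1, ?_⟩, ?_⟩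
    · show dotInt (⟨v, hv⟩ : leechLattice).1 _ = _
      rw [← co0_dot g, hg, smul_inv_smul]
      exact hy.2.2
    · show (g • g⁻¹ • (⟨y, hy.1⟩ : leechLattice)).1 = y
      rw [smul_inv_smul]

end Cfsg.Agent.Golay
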