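import Cfsg.Agent.Golay.CodeFacts

/-!
The lattice built from the code: the defining set is a subgroup; parity data and norms.
-/

set_option autoImplicit false

namespace Cfsg.Agent.Golay

open Cfsg
open scoped Pointwise

/-- Second binary digit of each coordinate. -/
def digitWord (x : GolayPt → ℤ) : GolayPt → ZMod 2 := fun i => ((x i / 2 : ℤ) : ZMod 2)

/-- The lattice conditions with common parity `m`. -/
def HasParity (x : GolayPt → ℤ) (m : ℤ) : Prop :=
  (∀ i, x i % 2 = m % 2) ∧ (∑ i, x i) % 8 = 4 * m % 8 ∧ digitWord x ∈ golayCode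

lemma one_mem_golayCode : (1 : GolayPt → ZMod 2) ∈ golayCode :=
  Submodule.subset_span (Or.inr rfl)

lemma univ_mem_supports : (Finset.univ : Finset GolayPt) ∈
    supports (golayCode : Set (GolayPt → ZMod 2)) :=
  ⟨1, one_mem_golayCode, by ext p; simp [support₂]⟩

lemma empty_mem_supports : (∅ : Finset GolayPt) ∈
    supports (golayCode : Set (GolayPt → ZMod 2)) :=
  ⟨0, Submodule.zero_mem _, by ext p; simp [support₂]⟩

lemma support₂_mem_supports_iff {w : GolayPt → ZMod 2} :
    support₂ w ∈ supports (golayCode : Set (GolayPt → ZMod 2)) ↔ w ∈ golayCode :=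
  support₂_injective.mem_set_image

lemma mem_support₂ {α : Type*} [Fintype α] {w : α → ZMod 2} {i : α} :
    i ∈ support₂ w ↔ w i ≠ 0 := by simp [support₂]

lemma zmod2_eq_iff (a : ℤ) : ((a : ℤ) : ZMod 2) ≠ 0 ↔ a % 2 = 1 := by
  rw [Ne, ZMod.intCast_zmod_eq_zero_iff_dvd]
  omega

lemma leech_filter_eq (x : GolayPt → ℤ) (m k : ℤ) (hm : ∀ i, x i % 2 = m % 2) (hk : k % 2 = m % 2) :
    (Finset.univ.filter fun i => x i ≡ k [ZMOD 4]) =
      if (k / 2) % 2 = 1 then support₂ (digitWord x) else (support₂ (digitWord x))ᶜ := by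
  ext i
  have := hm i
  have h1 : i ∈ support₂ (digitWord x) ↔ (x i / 2) % 2 = 1 := by
    simp only [support₂, digitWord, Finset.mem_filter, Finset.mem_univ, true_and, zmod2_eq_iff]
  split
  · next h =>
    rw [Finset.mem_filter, h1]
    simp only [Finset.mem_univ, true_and, Int.ModEq]
    omega
  · next h =>
    rw [Finset.mem_filter, Finset.mem_compl, h1]
    simp only [Finset.mem_univ, true_and, Int.ModEq]
    omega

lemma mem_leechSet_iff {x : GolayPt → ℤ} : x ∈ leechSet ↔ ∃ m, HasParity x m := by
  constructor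
  · rintro ⟨m, hm, hsum, hk⟩
    have hm' : ∀ i, x i % 2 = m % 2 := fun i => hm i
    refine ⟨m, hm', hsum, support₂_mem_supports_iff.1 ?_⟩
    have := hk (m % 2 + 2)
    rwa [leech_filter_eq x m _ hm' (by omega), if_pos (by omega)] at this
  · rintro ⟨m, hm, hsum, hd⟩
    refine ⟨m, hm, hsum, fun k => ?_⟩
    by_cases hk : k % 2 = m % 2
    · rw [leech_filter_eq x m k hm hk]
      have hs := support₂_mem_supports_iff.2 hd
      split
      · exact hs
      · have := symmDiff_mem_supports hs univ_mem_supports
        rwa [show symmDiff (support₂ (digitWord x)) Finset.univ = (support₂ (digitWord x))ᶜ by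
          ext; simp [Finset.mem_symmDiff]] at this
    · rw [Finset.filter_false_of_mem (s := (Finset.univ : Finset GolayPt))]
      · exact empty_mem_supports
      · intro i _ h
        have := hm i
        simp only [Int.ModEq] at h
        omega

lemma smul_mem_golayCode (c : ZMod 2) : c • (1 : GolayPt → ZMod 2) ∈ golayCode :=
  Submodule.smul_mem _ _ one_mem_golayCode

lemma HasParity.add {x y : GolayPt → ℤ} {m n : ℤ} (hx : HasParity x m) (hy : HasParity y n) :
    HasParity (x + y) (m + n) := by
  obtain ⟨h1, h2, h3⟩ := hx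
  obtain ⟨k1, k2, k3⟩ := hy
  refine ⟨fun i => ?_, ?_, ?_⟩
  · have := h1 i; have := k1 i; simp only [Pi.add_apply]; omega
  · simp only [Pi.add_apply, Finset.sum_add_distrib]; omega
  · have : digitWord (x + y) = digitWord x + digitWord y
        + (((m % 2 + n % 2) / 2 : ℤ) : ZMod 2) • (1 : GolayPt → ZMod 2) := by
      funext i
      simp only [digitWord, Pi.add_apply, Pi.smul_apply, Pi.one_apply, smul_eq_mul, mul_one]
      rw [← Int.cast_add, ← Int.cast_add]
      congr 1
      have := h1 i; have := k1 i
      omega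
    rw [this]
    exact Submodule.add_mem _ (Submodule.add_mem _ h3 k3) (smul_mem_golayCode _)

lemma HasParity.neg {x : GolayPt → ℤ} {m : ℤ} (hx : HasParity x m) : HasParity (-x) (-m) := by
  obtain ⟨h1, h2, h3⟩ := hx
  refine ⟨fun i => ?_, ?_, ?_⟩
  · have := h1 i; simp only [Pi.neg_apply]; omega
  · simp only [Pi.neg_apply, Finset.sum_neg_distrib]; omega
  · have : digitWord (-x) = digitWord x + ((m % 2 : ℤ) : ZMod 2) • (1 : GolayPt → ZMod 2) := by
      funext i
      simp only [digitWord, Pi.add_apply, Pi.neg_apply, Pi.smul_apply, Pi.one_apply, smul_eq_mul,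
        mul_one]
      rw [← Int.cast_add, ZMod.intCast_eq_intCast_iff']
      have := h1 i
      omega
    rw [this]
    exact Submodule.add_mem _ h3 (smul_mem_golayCode _)

lemma HasParity.zero : HasParity 0 0 := by
  refine ⟨fun i => rfl, by simp, ?_⟩
  rw [show digitWord 0 = 0 by funext i; simp [digitWord]]
  exact Submodule.zero_mem _

/-- The defining set, as a subgroup. -/
def leechSub : AddSubgroup (GolayPt → ℤ) where
  carrier := leechSet
  zero_mem' := mem_leechSet_iff.2 ⟨0, HasParity.zero⟩
  add_mem' := by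
    intro x y hx hy
    obtain ⟨m, hm⟩ := mem_leechSet_iff.1 hx
    obtain ⟨n, hn⟩ := mem_leechSet_iff.1 hy
    exact mem_leechSet_iff.2 ⟨m + n, hm.add hn⟩
  neg_mem' := by
    intro x hx
    obtain ⟨m, hm⟩ := mem_leechSet_iff.1 hx
    exact mem_leechSet_iff.2 ⟨-m, hm.neg⟩

lemma leechLattice_eq : leechLattice = leechSub := AddSubgroup.closure_eq leechSub

lemma mem_leech_iff {x : GolayPt → ℤ} : x ∈ leechLattice ↔ ∃ m, HasParity x m := by
  rw [leechLattice_eq]; exact mem_leechSet_iff

/-- An even lattice vector is twice a vector with code-word parities and sum divisible by 4. -/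
lemma mem_leech_two_smul {a : GolayPt → ℤ} :
    2 • a ∈ leechLattice ↔ (fun i => (a i : ZMod 2)) ∈ golayCode ∧ (∑ i, a i) % 4 = 0 := by
  have hd : digitWord (2 • a) = fun i => (a i : ZMod 2) := by
    funext i; simp [digitWord]
  rw [mem_leech_iff]
  constructor
  · rintro ⟨m, h1, h2, h3⟩
    have h4 : m % 2 = 0 := by have := h1 none; simp at this; omega
    refine ⟨hd ▸ h3, ?_⟩
    simp only [Pi.smul_apply, nsmul_eq_mul, Nat.cast_ofNat, ← Finset.mul_sum] at h2
    omega
  · rintro ⟨h1, h2⟩
    refine ⟨0, fun i => by simp, ?_, hd.symm ▸ h1⟩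
    simp only [Pi.smul_apply, nsmul_eq_mul, Nat.cast_ofNat, ← Finset.mul_sum]
    omega

lemma card_digit_dvd_four {x : GolayPt → ℤ} (h : digitWord x ∈ golayCode) :
    4 ∣ (support₂ (digitWord x)).card := by
  rcases card_support h with h | h | h | h | h <;> rw [h] <;> norm_num

lemma sum_sq_mod_four (a : GolayPt → ℤ) :
    (∑ i, a i ^ 2) % 4 = ((support₂ fun i => (a i : ZMod 2)).card : ℤ) % 4 := by
  rw [Finset.sum_int_mod]
  congr 1
  rw [support₂, Finset.card_filter, Nat.cast_sum]
  refine Finset.sum_congr rfl fun i _ => ?_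
  rcases Int.even_or_odd (a i) with ⟨k, hk⟩ | ⟨k, hk⟩
  · rw [if_neg (by rw [zmod2_eq_iff]; omega), hk, show (k + k) ^ 2 = 4 * (k * k) by ring]
    omega
  · rw [if_pos (by rw [zmod2_eq_iff]; omega), hk,
      show (2 * k + 1) ^ 2 = 4 * (k * k + k) + 1 by ring]
    omega

theorem sixteen_dvd_sqNorm {x : GolayPt → ℤ} (hx : x ∈ leechLattice) : (16 : ℤ) ∣ sqNorm x := by
  obtain ⟨m, h1, h2, h3⟩ := mem_leech_iff.1 hx
  have hd := card_digit_dvd_four h3
  rcases Int.even_or_odd m with ⟨k, hk⟩ | ⟨k, hk⟩
  · have hx2 : ∀ i, x i = 2 * (x i / 2) := fun i => by have := h1 i; omega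
    have hs : sqNorm x = 4 * ∑ i, (x i / 2) ^ 2 := by
      rw [sqNorm, Finset.mul_sum]
      refine Finset.sum_congr rfl fun i _ => ?_
      conv_lhs => rw [hx2 i]
      ring
    have hq := sum_sq_mod_four fun i => x i / 2
    have : (support₂ fun i => ((x i / 2 : ℤ) : ZMod 2)).card % 4 = 0 := by
      exact Nat.mod_eq_zero_of_dvd hd
    omega
  · set a : GolayPt → ℤ := fun i => x i / 2 with ha
    have hx2 : ∀ i, x i = 2 * a i + 1 := fun i => by have := h1 i; simp only [ha]; omega
    have hs : sqNorm x = 24 + 4 * (∑ i, a i ^ 2) + 4 * ∑ i, a i := by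
      rw [sqNorm, Finset.sum_congr rfl fun i _ =>
        show x i ^ 2 = 1 + 4 * a i ^ 2 + 4 * a i by rw [hx2 i]; ring]
      rw [Finset.sum_add_distrib, Finset.sum_add_distrib, ← Finset.mul_sum, ← Finset.mul_sum,
        Finset.sum_const, Finset.card_univ, show Fintype.card GolayPt = 24 from rfl]
      ring
    have hsum : ∑ i, x i = 2 * (∑ i, a i) + 24 := by
      rw [Finset.sum_congr rfl fun i _ => hx2 i, Finset.sum_add_distrib, ← Finset.mul_sum,
        Finset.sum_const, Finset.card_univ, show Fintype.card GolayPt = 24 from rfl]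
      ring
    have hq := sum_sq_mod_four a
    have : (support₂ fun i => ((a i : ℤ) : ZMod 2)).card % 4 = 0 := Nat.mod_eq_zero_of_dvd hd
    omega

theorem thirtytwo_le_sqNorm {x : GolayPt → ℤ} (hx : x ∈ leechLattice) (h0 : x ≠ 0) :
    32 ≤ sqNorm x := by
  have h16 := sixteen_dvd_sqNorm hx
  obtain ⟨m, h1, h2, h3⟩ := mem_leech_iff.1 hx
  rcases Int.even_or_odd m with ⟨k, hk⟩ | ⟨k, hk⟩
  · have hx2 : ∀ i, x i = 2 * (x i / 2) := fun i => by have := h1 i; omega
    by_cases hz : digitWord x = 0
    · have h4 : ∀ i, x i = 4 * (x i / 4) := by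
        intro i
        have hi : ((x i / 2 : ℤ) : ZMod 2) = 0 := congrFun hz i
        rw [ZMod.intCast_zmod_eq_zero_iff_dvd] at hi
        have := hx2 i
        omega
      obtain ⟨i, hi⟩ : ∃ i, x i ≠ 0 := Function.ne_iff.1 h0
      have h1' : x i ^ 2 ≤ sqNorm x :=
        Finset.single_le_sum (fun j _ => sq_nonneg (x j)) (Finset.mem_univ i)
      have hge : 16 ≤ x i ^ 2 := by
        have hne : x i / 4 ≠ 0 := fun h => hi (by rw [h4 i, h, mul_zero])
        have : 1 ≤ (x i / 4) ^ 2 := by
          have := sq_pos_of_ne_zero hne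
          omega
        rw [h4 i]
        nlinarith
      by_contra hlt
      have hx16 : sqNorm x = 16 := by omega
      have hz' : ∀ j, j ≠ i → x j = 0 := by
        intro j hj
        have hsum := Finset.add_sum_erase Finset.univ (fun l => x l ^ 2) (Finset.mem_univ i)
        have hj' : x j ^ 2 ≤ ∑ l ∈ Finset.univ.erase i, x l ^ 2 :=
          Finset.single_le_sum (f := fun l => x l ^ 2) (fun l _ => sq_nonneg _)
            (Finset.mem_erase.2 ⟨hj, Finset.mem_univ j⟩)
        have : x j ^ 2 = 0 := by
          have := sq_nonneg (x j)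
          simp only [sqNorm] at hx16 h1'
          omega
        exact pow_eq_zero_iff (by norm_num) |>.1 this
      have hs : ∑ j, x j = x i := Finset.sum_eq_single i (fun j _ hj => hz' j hj) (by simp)
      have hi4 := h4 i
      have hxi : x i ^ 2 = 16 := by
        simp only [sqNorm] at hx16 h1'
        omega
      have : x i = 4 ∨ x i = -4 := sq_eq_sq_iff_eq_or_eq_neg.1 (by rw [hxi]; norm_num)
      rw [hs] at h2
      omega
    · have hc : 8 ≤ (support₂ (digitWord x)).card := by
        rcases card_support h3 with h | h | h | h | h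
        · exact absurd (support₂_injective (a₂ := 0) (by
            rw [Finset.card_eq_zero] at h; rw [h]; ext p; simp [support₂])) hz
        all_goals omega
      have : ∀ i ∈ support₂ (digitWord x), 4 ≤ x i ^ 2 := by
        intro i hi
        simp only [support₂, digitWord, Finset.mem_filter, Finset.mem_univ, true_and,
          zmod2_eq_iff] at hi
        have hne : x i / 2 ≠ 0 := by omega
        have := sq_pos_of_ne_zero hne
        rw [hx2 i]
        nlinarith
      calc (32 : ℤ) ≤ ((support₂ (digitWord x)).card : ℤ) * 4 := by omega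
        _ ≤ ∑ i ∈ support₂ (digitWord x), x i ^ 2 := by
          rw [← nsmul_eq_mul]; exact Finset.card_nsmul_le_sum _ _ _ this
        _ ≤ sqNorm x :=
          Finset.sum_le_sum_of_subset_of_nonneg (Finset.subset_univ _) fun i _ _ => sq_nonneg _
  · have : (24 : ℤ) ≤ sqNorm x := by
      calc (24 : ℤ) = ∑ _i : GolayPt, (1 : ℤ) := by simp [GolayPt]
        _ ≤ sqNorm x := Finset.sum_le_sum fun i _ => by
            have hne : x i ≠ 0 := by have := h1 i; omega
            have := sq_pos_of_ne_zero hne
            omega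
    omega

lemma leech_perm {σ : Equiv.Perm GolayPt} (hσ : σ ∈ M24) {x : GolayPt → ℤ}
    (hx : x ∈ leechLattice) : (fun i => x (σ i)) ∈ leechLattice := by
  obtain ⟨m, h1, h2, h3⟩ := mem_leech_iff.1 hx
  refine mem_leech_iff.2 ⟨m, fun i => h1 (σ i), ?_, support₂_mem_supports_iff.1 ?_⟩
  · rw [Equiv.sum_comp σ x]; exact h2
  · rw [show support₂ (digitWord fun i => x (σ i)) = σ⁻¹ • support₂ (digitWord x) by
      ext i
      rw [mem_smul_finset_iff]
      show i ∈ _ ↔ σ i ∈ _
      rw [mem_support₂, mem_support₂]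
      rfl]
    exact smul_mem_supports (M24.inv_mem hσ) (support₂_mem_supports_iff.2 h3)

lemma support₂_signed (x : GolayPt → ℤ) (c : Finset GolayPt) (m : ℤ)
    (h1 : ∀ i, x i % 2 = m % 2) :
    support₂ (digitWord fun i => if i ∈ c then -x i else x i) =
      if m % 2 = 1 then symmDiff (support₂ (digitWord x)) c else support₂ (digitWord x) := by
  ext i
  have hi := h1 i
  split
  · simp only [Finset.mem_symmDiff, support₂, digitWord, Finset.mem_filter, Finset.mem_univ,
      true_and, zmod2_eq_iff]
    by_cases hc : i ∈ c <;> simp [hc] <;> omega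
  · simp only [support₂, digitWord, Finset.mem_filter, Finset.mem_univ, true_and, zmod2_eq_iff]
    split <;> omega

lemma leech_signs {c : Finset GolayPt} (hc : c ∈ supports (golayCode : Set (GolayPt → ZMod 2)))
    {x : GolayPt → ℤ} (hx : x ∈ leechLattice) :
    (fun i => if i ∈ c then -x i else x i) ∈ leechLattice := by
  obtain ⟨m, h1, h2, h3⟩ := mem_leech_iff.1 hx
  refine mem_leech_iff.2 ⟨m, fun i => ?_, ?_, support₂_mem_supports_iff.1 ?_⟩
  · have := h1 i; dsimp only; split <;> omega
  · -- the sum changes by twice the sum over `c`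
    have hdiff : ∑ i, (if i ∈ c then -x i else x i) = (∑ i, x i) - 2 * ∑ i ∈ c, x i := by
      rw [Finset.sum_congr rfl (fun i _ => show (if i ∈ c then -x i else x i)
        = x i - 2 * (if i ∈ c then x i else 0) by split <;> omega),
        Finset.sum_sub_distrib, ← Finset.mul_sum]
      simp
    have key : (∑ i ∈ c, x i) % 4 = 0 := by
      set a : GolayPt → ℤ := fun i => x i / 2 with ha
      have hx2 : ∀ i, x i = 2 * a i + m % 2 := fun i => by have := h1 i; simp only [ha]; omega
      have hpar : (∑ i ∈ c, a i) % 2 = 0 := by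
        have hev := even_card_inter (support₂_mem_supports_iff.2 h3) hc
        have hcast : ((∑ i ∈ c, a i : ℤ) : ZMod 2) = 0 := by
          rw [Int.cast_sum]
          have : ∀ z : ZMod 2, z = if z ≠ 0 then 1 else 0 := by decide
          rw [Finset.sum_congr rfl fun i _ => this (a i : ZMod 2), Finset.sum_boole,
            show (c.filter fun i => (a i : ZMod 2) ≠ 0) = support₂ (digitWord x) ∩ c by
              ext i
              rw [Finset.mem_filter, Finset.mem_inter, mem_support₂]
              exact and_comm,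
            ZMod.natCast_eq_zero_iff_even, Nat.even_iff]
          exact hev
        rw [ZMod.intCast_zmod_eq_zero_iff_dvd] at hcast
        omega
      have hc4 : (c.card : ℤ) % 4 = 0 := by
        rcases card_mem_supports hc with h | h | h | h | h <;> simp [h]
      rw [Finset.sum_congr rfl fun i _ => hx2 i, Finset.sum_add_distrib, ← Finset.mul_sum,
        Finset.sum_const, nsmul_eq_mul]
      rcases Int.emod_two_eq_zero_or_one m with h | h <;> rw [h] <;> omega
    dsimp only
    rw [hdiff]
    omega
  · rw [support₂_signed x c m h1]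
    split
    · exact symmDiff_mem_supports (support₂_mem_supports_iff.2 h3) hc
    · exact support₂_mem_supports_iff.2 h3

end Cfsg.Agent.Golay
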