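import Cfsg.Agent.Golay.LeechCount

/-!
Shapes of the lattice vectors with sum of squares 48.
-/

set_option autoImplicit false

namespace Cfsg.Agent.Golay

open Cfsg
open scoped Pointwise

/-- Allowed absolute values, as a predicate. -/
def absIn (l : List ℕ) (v : ℤ) : Bool := l.contains v.natAbs

lemma absIn_neg (l : List ℕ) (v : ℤ) : absIn l (-v) = absIn l v := by simp [absIn]

/-- Norm 48 vectors with absolute coordinate values in `l`. -/
def shape48 (l : List ℕ) : Set (GolayPt → ℤ) :=
  {x | x ∈ leechLattice ∧ sqNorm x = 48 ∧ ∀ i, absIn l (x i) = true}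

lemma ncard_shape48 (l : List ℕ) (T : ℕ → ℕ)
    (hT : ∀ w ∈ [0, 8, 12, 16, 24], weightTerm (absIn l) 48 w = T w) :
    (shape48 l).ncard = (codeList.map fun m => T (popCnt m)).sum :=
  ncard_leech_norm (absIn l) (absIn_neg l) (by norm_num) (by norm_num) T hT

lemma ncard_small : (shape48 [0, 2]).ncard = 5275648 ∧ (shape48 [0, 2, 4]).ncard = 8384512 ∧
    (shape48 [1, 3]).ncard = 8290304 ∧ (shape48 [1, 3, 5]).ncard = 8388608 ∧
    (shape48 [0, 1, 2, 3, 4, 5]).ncard = 16773120 := by
  refine ⟨?_, ?_, ?_, ?_, ?_⟩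
  · rw [ncard_shape48 _ (weightTbl 0 0 2048 0 0) (by decide +kernel)]; decide +kernel
  · rw [ncard_shape48 _ (weightTbl 0 4096 2048 0 0) (by decide +kernel)]; decide +kernel
  · rw [ncard_shape48 _ (weightTbl 2024 2024 2024 2024 2024) (by decide +kernel)]; decide +kernel
  · rw [ncard_shape48 _ (weightTbl 2048 2048 2048 2048 2048) (by decide +kernel)]; decide +kernel
  · rw [ncard_shape48 _ (weightTbl (0 + 2048) (4096 + 2048) (2048 + 2048) 2048 2048)
      (by decide +kernel)]; decide +kernel

lemma finite_norm48 : {x : GolayPt → ℤ | x ∈ leechLattice ∧ sqNorm x = 48}.Finite :=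
  Set.finite_of_ncard_pos (by rw [ncard_norm48]; norm_num)

lemma shape48_finite (l : List ℕ) : (shape48 l).Finite :=
  finite_norm48.subset fun _ hx => ⟨hx.1, hx.2.1⟩

lemma norm48_eq_all : {x : GolayPt → ℤ | x ∈ leechLattice ∧ sqNorm x = 48}
    = shape48 [0, 1, 2, 3, 4, 5] :=
  (Set.eq_of_subset_of_ncard_le (s := shape48 [0, 1, 2, 3, 4, 5])
    (t := {x : GolayPt → ℤ | x ∈ leechLattice ∧ sqNorm x = 48}) (fun _ hx => ⟨hx.1, hx.2.1⟩)
    (by rw [ncard_norm48, ncard_small.2.2.2.2]) finite_norm48).symm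

lemma absIn_iff {l : List ℕ} {v : ℤ} : absIn l v = true ↔ v.natAbs ∈ l := by
  simp [absIn, List.contains_iff_mem]

lemma shape48_union :
    shape48 [0, 2, 4] ∪ shape48 [1, 3, 5] = shape48 [0, 1, 2, 3, 4, 5] := by
  refine Set.eq_of_subset_of_ncard_le ?_ ?_ (shape48_finite _)
  · intro x hx
    rcases hx with ⟨h1, h2, h3⟩ | ⟨h1, h2, h3⟩ <;>
    · refine ⟨h1, h2, fun i => ?_⟩
      have := absIn_iff.1 (h3 i)
      rw [absIn_iff]
      simp only [List.mem_cons, List.not_mem_nil, or_false] at this ⊢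
      omega
  · rw [ncard_small.2.2.2.2, Set.ncard_union_eq ?_ (shape48_finite _) (shape48_finite _),
      ncard_small.2.1, ncard_small.2.2.2.1]
    rw [Set.disjoint_left]
    rintro x ⟨-, -, h⟩ ⟨-, -, h'⟩
    have := absIn_iff.1 (h none)
    have := absIn_iff.1 (h' none)
    simp only [List.mem_cons, List.not_mem_nil, or_false] at *
    omega

theorem shape48_census :
    {x : GolayPt → ℤ | x ∈ leechLattice ∧ sqNorm x = 48 ∧
      ∀ i, x i = 0 ∨ x i = 2 ∨ x i = -2}.ncard = 5275648 ∧
    {x : GolayPt → ℤ | x ∈ leechLattice ∧ sqNorm x = 48 ∧ ∃ i j k, i ≠ j ∧ j ≠ k ∧ i ≠ k ∧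
      |x i| = 3 ∧ |x j| = 3 ∧ |x k| = 3}.ncard = 8290304 ∧
    {x : GolayPt → ℤ | x ∈ leechLattice ∧ sqNorm x = 48 ∧ ∃ i, |x i| = 4}.ncard = 3108864 ∧
    {x : GolayPt → ℤ | x ∈ leechLattice ∧ sqNorm x = 48 ∧ ∃ i, |x i| = 5}.ncard = 98304 := by
  have hcases : ∀ x : GolayPt → ℤ, x ∈ leechLattice → sqNorm x = 48 →
      x ∈ shape48 [0, 2, 4] ∨ x ∈ shape48 [1, 3, 5] := by
    intro x hx hn
    have : x ∈ shape48 [0, 1, 2, 3, 4, 5] := by rw [← norm48_eq_all]; exact ⟨hx, hn⟩
    rwa [← shape48_union] at this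
  have hsub : ∀ {a b : List ℕ}, a ⊆ b → shape48 a ⊆ shape48 b := fun hab x hx =>
    ⟨hx.1, hx.2.1, fun i => absIn_iff.2 (hab (absIn_iff.1 (hx.2.2 i)))⟩
  refine ⟨?_, ?_, ?_, ?_⟩
  · rw [← ncard_small.1]
    congr 1
    ext x
    refine and_congr_right fun _ => and_congr_right fun _ => forall_congr' fun i => ?_
    rw [absIn_iff]
    simp only [List.mem_cons, List.not_mem_nil, or_false]
    omega
  · rw [← ncard_small.2.2.1]
    congr 1
    ext x
    constructor
    · rintro ⟨h1, h2, i, j, k, hij, hjk, hik, hi, hj, hk⟩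
      refine ⟨h1, h2, fun l => absIn_iff.2 ?_⟩
      have hodd : x ∈ shape48 [1, 3, 5] := by
        refine (hcases x h1 h2).resolve_left fun h => ?_
        have := absIn_iff.1 (h.2.2 i)
        have hi' : (x i).natAbs = 3 := by rw [Int.abs_eq_natAbs] at hi; omega
        rw [hi'] at this
        simp at this
      have hge : ∀ q, 1 ≤ x q ^ 2 := fun q => by
        have := absIn_iff.1 (hodd.2.2 q)
        simp only [List.mem_cons, List.not_mem_nil, or_false] at this
        have : x q ≠ 0 := by omega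
        have := sq_pos_of_ne_zero this
        omega
      have hl := absIn_iff.1 (hodd.2.2 l)
      simp only [List.mem_cons, List.not_mem_nil, or_false] at hl ⊢
      rcases hl with h | h | h
      · exact Or.inl h
      · exact Or.inr h
      · exfalso
        have hl2 : x l ^ 2 = 25 := by rw [← Int.natAbs_sq, h]; norm_num
        have hi2 : x i ^ 2 = 9 := by rw [← sq_abs, hi]; norm_num
        have hj2 : x j ^ 2 = 9 := by rw [← sq_abs, hj]; norm_num
        have hk2 : x k ^ 2 = 9 := by rw [← sq_abs, hk]; norm_num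
        have hli : l ≠ i := by rintro rfl; omega
        have hlj : l ≠ j := by rintro rfl; omega
        have hlk : l ≠ k := by rintro rfl; omega
        have hs : ∑ q ∈ ({l, i, j, k} : Finset GolayPt), x q ^ 2 ≤ sqNorm x :=
          Finset.sum_le_sum_of_subset_of_nonneg (Finset.subset_univ _) fun q _ _ => sq_nonneg _
        rw [Finset.sum_insert (by simp [hli, hlj, hlk]), Finset.sum_insert (by simp [hij, hik]),
          Finset.sum_pair hjk] at hs
        omega
    · rintro ⟨h1, h2, h3⟩
      refine ⟨h1, h2, ?_⟩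
      have hsum : ∀ q, x q ^ 2 = 1 + 8 * (if |x q| = 3 then 1 else 0) := by
        intro q
        have := absIn_iff.1 (h3 q)
        simp only [List.mem_cons, List.not_mem_nil, or_false] at this
        rcases this with h | h
        · rw [if_neg (by rw [Int.abs_eq_natAbs]; omega), ← Int.natAbs_sq, h]; norm_num
        · rw [if_pos (by rw [Int.abs_eq_natAbs]; omega), ← Int.natAbs_sq, h]; norm_num
      have hcard : (Finset.univ.filter fun q => |x q| = 3).card = 3 := by
        have h := h2
        rw [sqNorm, Finset.sum_congr rfl fun q _ => hsum q, Finset.sum_add_distrib,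
          ← Finset.mul_sum, Finset.sum_boole, Finset.sum_const, Finset.card_univ,
          show Fintype.card GolayPt = 24 from rfl] at h
        simp only [nsmul_eq_mul, Nat.cast_ofNat, mul_one] at h
        omega
      obtain ⟨i, j, k, hij, hik, hjk, he⟩ := Finset.card_eq_three.1 hcard
      have hm : ∀ q ∈ ({i, j, k} : Finset GolayPt), |x q| = 3 := fun q hq => by
        rw [← he] at hq
        exact (Finset.mem_filter.1 hq).2
      exact ⟨i, j, k, hij, hjk, hik, hm i (by simp), hm j (by simp), hm k (by simp)⟩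
  · have hd : {x : GolayPt → ℤ | x ∈ leechLattice ∧ sqNorm x = 48 ∧ ∃ i, |x i| = 4}
        = shape48 [0, 2, 4] \ shape48 [0, 2] := by
      ext x
      constructor
      · rintro ⟨h1, h2, i, hi⟩
        rw [Int.abs_eq_natAbs] at hi
        refine ⟨(hcases x h1 h2).resolve_right fun h => ?_, fun h => ?_⟩ <;>
        · have := absIn_iff.1 (h.2.2 i)
          simp only [List.mem_cons, List.not_mem_nil, or_false] at this
          omega
      · rintro ⟨⟨h1, h2, h3⟩, h4⟩
        refine ⟨h1, h2, ?_⟩
        by_contra hne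
        refine h4 ⟨h1, h2, fun i => ?_⟩
        have := absIn_iff.1 (h3 i)
        have h5 : ¬ |x i| = 4 := fun h => hne ⟨i, h⟩
        rw [Int.abs_eq_natAbs] at h5
        rw [absIn_iff]
        simp only [List.mem_cons, List.not_mem_nil, or_false] at this ⊢
        omega
    rw [hd, Set.ncard_sdiff (hsub (by simp)) (shape48_finite _), ncard_small.1, ncard_small.2.1]
  · have hd : {x : GolayPt → ℤ | x ∈ leechLattice ∧ sqNorm x = 48 ∧ ∃ i, |x i| = 5}
        = shape48 [1, 3, 5] \ shape48 [1, 3] := by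
      ext x
      constructor
      · rintro ⟨h1, h2, i, hi⟩
        rw [Int.abs_eq_natAbs] at hi
        refine ⟨(hcases x h1 h2).resolve_left fun h => ?_, fun h => ?_⟩ <;>
        · have := absIn_iff.1 (h.2.2 i)
          simp only [List.mem_cons, List.not_mem_nil, or_false] at this
          omega
      · rintro ⟨⟨h1, h2, h3⟩, h4⟩
        refine ⟨h1, h2, ?_⟩
        by_contra hne
        refine h4 ⟨h1, h2, fun i => ?_⟩
        have := absIn_iff.1 (h3 i)
        have h5 : ¬ |x i| = 5 := fun h => hne ⟨i, h⟩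
        rw [Int.abs_eq_natAbs] at h5
        rw [absIn_iff]
        simp only [List.mem_cons, List.not_mem_nil, or_false] at this ⊢
        omega
    rw [hd, Set.ncard_sdiff (hsub (by simp)) (shape48_finite _), ncard_small.2.2.1,
      ncard_small.2.2.2.1]

end Cfsg.Agent.Golay
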