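import Mathlib

/-!
Levels of a chain.
-/

set_option autoImplicit false

namespace Cfsg.Agent.Golay

open Cfsg
open scoped Pointwise

/-- Base position of level `i`. -/
def lvlBase (L : List (ℕ × List ℕ)) (i : ℕ) : ℕ := (L.getD i (0, [])).1

/-- Transversal of level `i`. -/
def lvlTrans (L : List (ℕ × List ℕ)) (i : ℕ) : List ℕ := (L.getD i (0, [])).2

end Cfsg.Agent.Golay
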