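import Cfsg.Agent.Golay.Stabilisers

/-!
Three-fold transitivity of the dodecad-point stabiliser on the complementary dodecad.
-/

set_option autoImplicit false

namespace Cfsg.Agent.Golay

open Cfsg
open scoped Pointwise

/-- Levels moving three points outside the dodecad of squares. -/
def m11OutChain : List (ℕ × List ℕ) :=
  [(23, [236721353683679186710966488233550976, 304343466768076496742423081594916928, 425065600324620800576849938857078848, 470804973151481974163011911959119104, 609105456723149571302591985715065344, 650805694340575007296433153990828320, 721046562558839904869265658136834080, 804144703851516529123064171509321120, 849900912343265737304538413193595136, 901456413054820527457677973815079104, 944168564639925426850153130843276800, 984818244535754528103549039458486304]),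
   (5, [984818244535754528103549039458486304, 973771934485359221574051886180447296, 984654223438125024706643685492854848, 973861927542461528734160353872618912, 975720221702399069978909154363908608, 968592107822464625347207413275954208, 962778939348733940774758880100005440, 969081432026541382114444915337462880, 962587119164613651409514796578705824, 980753583740874584527874379361851904, 977921862155276092200133848789496096]),
   (7, [984818244535754528103549039458486304, 980958309107290892929826708479459520, 969196510957040032812623886447679744, 981980925563086763750854056418394304, 964937475981399069504140369698620928, 965300289861748889990672440075108384, 969277917667870129153987709871719680, 984644637122988982120502427423999488, 970379725149793591663282045170353408, 965056821765719142683987426599674912])]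

lemma m11OutChain_check :
    checkTrans [squareMask] (0 ||| 2 ^ 0) (fullMask ^^^ squareMask) m11OutChain = true ∧
    m11OutChain.map (fun l => l.1) = [23, 5, 7] := by
  decide +kernel

lemma m11Out_invariant {σ : Equiv.Perm GolayPt} (hσ : σ ∈ stabGrp [squareMask] (0 ||| 2 ^ 0))
    {p : GolayPt} (hp : p ∈ ptSet (fullMask ^^^ squareMask)) :
    σ p ∈ ptSet (fullMask ^^^ squareMask) := by
  rw [ptSet_compl, Finset.mem_compl] at hp ⊢
  intro h
  rw [← hσ.2.1 squareMask (List.mem_singleton_self _), mem_smul_finset_iff,
    Equiv.symm_apply_apply] at h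
  exact hp h

lemma exists_spor_M11_out (x : Fin 3 ↪ GolayPt) (hx : ∀ i, x i ∉ Spor.squareDodecad) :
    ∃ σ ∈ Spor.M11, List.map σ [pt 23, pt 5, pt 7] = [x 0, x 1, x 2] := by
  obtain ⟨σ, hσ, hmap⟩ := exists_map_of_checkTrans _ _ _ _ m11OutChain_check.1
    (fun σ hσ p hp => m11Out_invariant hσ hp) [x 0, x 1, x 2]
    (by rw [← List.length_map (as := m11OutChain) (fun l => l.1), m11OutChain_check.2]; rfl)
    (by simp)
    (by
      intro p hp
      simp only [List.mem_cons, List.not_mem_nil, or_false] at hp
      rw [ptSet_compl, ptSet_squareMask, Finset.mem_compl]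
      rcases hp with rfl | rfl | rfl <;> exact hx _)
  refine ⟨σ, spor_M11_eq ▸ hσ, ?_⟩
  rw [← hmap]
  have := congrArg (List.map fun b => σ (pt b)) m11OutChain_check.2
  rw [List.map_map] at this
  exact this.symm

theorem dodecad_point_three_transitive {d : Finset GolayPt} (hd : d ∈ dodecads) {p : GolayPt}
    (hp : p ∈ d) (x y : Fin 3 ↪ GolayPt) (hx : ∀ i, x i ∉ d) (hy : ∀ i, y i ∉ d) :
    ∃ g ∈ MulAction.stabilizer M24 d ⊓ MulAction.stabilizer M24 p,
      ∀ i, (g : Equiv.Perm GolayPt) (x i) = y i := by
  obtain ⟨k, hk, hkp⟩ := exists_M24_map_dodecad_point hd hp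
  have hkd : ∀ z, z ∉ d → (k : Equiv.Perm GolayPt) z ∉ Spor.squareDodecad := by
    intro z hz h
    rw [← hk] at h
    exact hz ((Finset.smul_mem_smul_finset_iff k).1 h)
  obtain ⟨α, hα, hαx⟩ := exists_spor_M11_out (x.trans k.1.toEmbedding) (fun i => hkd _ (hx i))
  obtain ⟨β, hβ, hβy⟩ := exists_spor_M11_out (y.trans k.1.toEmbedding) (fun i => hkd _ (hy i))
  simp only [List.map_cons, List.map_nil, List.cons.injEq, and_true] at hαx hβy
  have hγ : β * α⁻¹ ∈ Spor.M11 := mul_mem hβ (inv_mem hα)
  have hM12 : β * α⁻¹ ∈ Spor.M12 := hγ.1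
  have hM24 : β * α⁻¹ ∈ M24 := hM12.1
  set g : M24 := k⁻¹ * (⟨β * α⁻¹, hM24⟩ : M24) * k with hg
  have hd' : (⟨β * α⁻¹, hM24⟩ : M24) • Spor.squareDodecad = Spor.squareDodecad := hM12.2
  have hp' : (⟨β * α⁻¹, hM24⟩ : M24) • (some 0 : GolayPt) = some 0 := hγ.2
  refine ⟨g, ⟨?_, ?_⟩, fun i => ?_⟩
  · show g • d = d
    rw [hg, mul_smul, mul_smul, hk, hd', inv_smul_eq_iff, hk]
  · show g • p = p
    rw [hg, mul_smul, mul_smul, hkp, hp', inv_smul_eq_iff, hkp]
  · show k.1⁻¹ (β (α⁻¹ (k.1 (x i)))) = y i
    rw [Equiv.Perm.coe_inv, Equiv.Perm.coe_inv, Equiv.symm_apply_eq]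
    match i with
    | 0 =>
      rw [show α.symm (k.1 (x 0)) = pt 23 from (Equiv.symm_apply_eq α).2 hαx.1.symm]
      exact hβy.1
    | 1 =>
      rw [show α.symm (k.1 (x 1)) = pt 5 from (Equiv.symm_apply_eq α).2 hαx.2.1.symm]
      exact hβy.2.1
    | 2 =>
      rw [show α.symm (k.1 (x 2)) = pt 7 from (Equiv.symm_apply_eq α).2 hαx.2.2.symm]
      exact hβy.2.2

end Cfsg.Agent.Golay
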