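import Cfsg.Agent.Golay.M24Data

/-!
Order, generation and five-fold transitivity of the group of the code.
-/

set_option autoImplicit false

namespace Cfsg.Agent.Golay

open Cfsg
open scoped Pointwise

lemma m24Chain_check : checkChain [] 0 m24Chain = true := by decide +kernel

lemma m24Chain_chainCard : chainCard m24Chain = 244823040 := by decide +kernel

theorem card_M24 : Nat.card M24 = 244823040 := by
  rw [← stabGrp_nil_zero, card_stabGrp m24Chain_check, m24Chain_chainCard]

lemma m24Prog_check :
    checkSLP [translTbl, projInvTbl, cubeTwistTbl, idTblVal] m24Prog = true := by decide +kernel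

lemma gen_tables : validT translTbl = true ∧ validT projInvTbl = true ∧
    validT cubeTwistTbl = true ∧ validT idTblVal = true ∧
    tblOf transl = translTbl ∧ tblOf projInv = projInvTbl ∧
    mkTbl 24 (fun i => idx (cubeTwistFun (pt i))) = cubeTwistTbl ∧ idTbl = idTblVal := by
  decide +kernel

lemma m24Chain_covered :
    (m24Chain.all fun l => l.2.all fun t =>
      ([translTbl, projInvTbl, cubeTwistTbl, idTblVal] ++ m24Prog.map fun n => n.1).contains t)
      = true := by
  decide +kernel

theorem closure_eq_M24 : Subgroup.closure {transl, projInv, cubeTwist} = M24 := by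
  set H := Subgroup.closure ({transl, projInv, cubeTwist} : Set (Equiv.Perm GolayPt))
  have hH : H ≤ stabGrp [] 0 := by
    rw [stabGrp_nil_zero, Subgroup.closure_le]
    rintro σ (rfl | rfl | rfl)
    exacts [transl_mem, projInv_mem, cubeTwist_mem]
  obtain ⟨v1, v2, v3, v4, e1, e2, e3, e4⟩ := gen_tables
  have h1 : mkPerm translTbl ∈ H := by
    rw [← e1, mkPerm_tblOf]; exact Subgroup.subset_closure (by simp)
  have h2 : mkPerm projInvTbl ∈ H := by
    rw [← e2, mkPerm_tblOf]; exact Subgroup.subset_closure (by simp)
  have h3 : mkPerm cubeTwistTbl ∈ H := by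
    rw [← e3, ← tblOf_cubeTwist, mkPerm_tblOf]; exact Subgroup.subset_closure (by simp)
  have h4 : mkPerm idTblVal ∈ H := by
    rw [← e4, idTbl_spec.2]; exact one_mem _
  have hk : ∀ A ∈ [translTbl, projInvTbl, cubeTwistTbl, idTblVal],
      validT A = true ∧ mkPerm A ∈ H := by
    intro A hA
    simp only [List.mem_cons, List.not_mem_nil, or_false] at hA
    rcases hA with rfl | rfl | rfl | rfl
    exacts [⟨v1, h1⟩, ⟨v2, h2⟩, ⟨v3, h3⟩, ⟨v4, h4⟩]
  rw [← stabGrp_nil_zero]
  refine eq_stabGrp_of_mem m24Chain_check hH fun l hl t ht => ?_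
  have := List.all_eq_true.1 (List.all_eq_true.1 m24Chain_covered l hl) t ht
  exact (checkSLP_mem _ _ m24Prog_check hk t (List.contains_iff_mem.1 this)).2

end Cfsg.Agent.Golay
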