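import Mathlib
import Cfsg.Prelude.Def_Sporadic_a

/-!
Bit masks for sets of the 24 points: bit `x.val` for `some x`, bit 23 for the extra point.
-/

set_option autoImplicit false

namespace Cfsg.Agent.Golay

open Cfsg

/-- Bit position of a point. -/
def idx : GolayPt → ℕ
  | none => 23
  | some x => x.val

/-- Point at a bit position. -/
def pt (i : ℕ) : GolayPt := if i = 23 then none else some (i : ZMod 23)

lemma idx_lt : ∀ p : GolayPt, idx p < 24 := by decide

lemma pt_idx : ∀ p : GolayPt, pt (idx p) = p := by decide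

lemma idx_pt : ∀ i : ℕ, i < 24 → idx (pt i) = i := by decide

lemma idx_injective : Function.Injective idx := fun p q h => by
  rw [← pt_idx p, ← pt_idx q, h]

lemma pt_inj {i j : ℕ} (hi : i < 24) (hj : j < 24) : pt i = pt j ↔ i = j := by
  constructor
  · intro h; rw [← idx_pt i hi, ← idx_pt j hj, h]
  · rintro rfl; rfl

/-- The set of points of a mask. -/
def ptSet (m : ℕ) : Finset GolayPt := Finset.univ.filter fun p => m.testBit (idx p)

@[simp] lemma mem_ptSet {m : ℕ} {p : GolayPt} : p ∈ ptSet m ↔ m.testBit (idx p) = true := by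
  simp [ptSet]

/-- The mask with all 24 bits. -/
def fullMask : ℕ := 2 ^ 24 - 1

lemma ptSet_injOn {m n : ℕ} (hm : m < 2 ^ 24) (hn : n < 2 ^ 24) (h : ptSet m = ptSet n) :
    m = n := by
  apply Nat.eq_of_testBit_eq
  intro i
  by_cases hi : i < 24
  · have := congrArg (fun s => pt i ∈ s) h
    simp only [mem_ptSet, idx_pt i hi, eq_iff_iff] at this
    exact Bool.eq_iff_iff.2 this
  · have h24 : 2 ^ 24 ≤ 2 ^ i := Nat.pow_le_pow_right (by norm_num) (by omega)
    rw [Nat.testBit_lt_two_pow (by omega), Nat.testBit_lt_two_pow (by omega)]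

lemma two_pow_idx_lt (p : GolayPt) : 2 ^ idx p < 2 ^ 24 :=
  Nat.pow_lt_pow_right (by norm_num) (idx_lt p)

/-- The mask of a set of points. -/
def maskOf (s : Finset GolayPt) : ℕ :=
  ((List.range 24).filter fun i => decide (pt i ∈ s)).foldl (fun acc i => acc ||| (1 <<< i)) 0

lemma testBit_foldl_or (l : List ℕ) (acc j : ℕ) :
    (l.foldl (fun acc i => acc ||| (1 <<< i)) acc).testBit j = (acc.testBit j || decide (j ∈ l)) := by
  induction l generalizing acc with
  | nil => simp
  | cons a t ih =>
    rw [List.foldl_cons, ih, Nat.testBit_or, Nat.one_shiftLeft, Nat.testBit_two_pow]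
    by_cases h : a = j
    · subst h; simp
    · simp [h, Ne.symm h]

lemma testBit_maskOf (s : Finset GolayPt) (j : ℕ) :
    (maskOf s).testBit j = decide (j < 24 ∧ pt j ∈ s) := by
  rw [maskOf, testBit_foldl_or]
  simp [List.mem_filter, List.mem_range]

@[simp] lemma ptSet_maskOf (s : Finset GolayPt) : ptSet (maskOf s) = s := by
  ext p
  simp [testBit_maskOf, idx_lt, pt_idx]

lemma maskOf_lt (s : Finset GolayPt) : maskOf s < 2 ^ 24 := by
  apply Nat.lt_pow_two_of_testBit
  intro i hi
  simp [testBit_maskOf]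
  omega

lemma maskOf_ptSet {m : ℕ} (hm : m < 2 ^ 24) : maskOf (ptSet m) = m :=
  ptSet_injOn (maskOf_lt _) hm (ptSet_maskOf _)

lemma maskOf_injective : Function.Injective maskOf := fun s t h => by
  rw [← ptSet_maskOf s, ← ptSet_maskOf t, h]

lemma ptSet_zero : ptSet 0 = ∅ := by ext p; simp

lemma ptSet_or (a b : ℕ) : ptSet (a ||| b) = ptSet a ∪ ptSet b := by
  ext p; simp [Nat.testBit_or]

lemma ptSet_and (a b : ℕ) : ptSet (a &&& b) = ptSet a ∩ ptSet b := by
  ext p; simp [Nat.testBit_and]

lemma ptSet_xor (a b : ℕ) : ptSet (a ^^^ b) = symmDiff (ptSet a) (ptSet b) := by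
  ext p
  simp only [mem_ptSet, Nat.testBit_xor, Finset.mem_symmDiff]
  cases a.testBit (idx p) <;> cases b.testBit (idx p) <;> simp

lemma ptSet_fullMask : ptSet fullMask = Finset.univ := by decide +kernel

lemma ptSet_compl (a : ℕ) : ptSet (fullMask ^^^ a) = (ptSet a)ᶜ := by
  rw [ptSet_xor, ptSet_fullMask]
  ext p
  simp [Finset.mem_symmDiff]

lemma xor_lt_full {a b : ℕ} (ha : a < 2 ^ 24) (hb : b < 2 ^ 24) : a ^^^ b < 2 ^ 24 :=
  Nat.xor_lt_two_pow ha hb

lemma and_lt_full {a b : ℕ} (ha : a < 2 ^ 24) : a &&& b < 2 ^ 24 :=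
  lt_of_le_of_lt Nat.and_le_left ha

lemma ptSet_two_pow {i : ℕ} (hi : i < 24) : ptSet (2 ^ i) = {pt i} := by
  ext p
  simp only [mem_ptSet, Nat.testBit_two_pow, decide_eq_true_eq, Finset.mem_singleton]
  constructor
  · rintro rfl; exact (pt_idx p).symm
  · rintro rfl; exact (idx_pt i hi).symm

/-- Number of set bits among the lowest 24. -/
def popCnt (m : ℕ) : ℕ :=
  Nat.rec (motive := fun _ => ℕ → ℕ → ℕ) (fun _ acc => acc)
    (fun _ f x acc => f (x >>> 1) (acc + (x &&& 1))) 24 m 0

lemma popCnt_aux (n : ℕ) : ∀ x acc : ℕ,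
    Nat.rec (motive := fun _ => ℕ → ℕ → ℕ) (fun _ acc => acc)
      (fun _ f x acc => f (x >>> 1) (acc + (x &&& 1))) n x acc
      = acc + ((Finset.range n).filter fun i => x.testBit i).card := by
  induction n with
  | zero => intro x acc; simp
  | succ n ih =>
    intro x acc
    rw [show ((Finset.range (n + 1)).filter fun i => x.testBit i).card
        = (if x.testBit 0 then 1 else 0)
          + ((Finset.range n).filter fun i => (x >>> 1).testBit i).card from ?_]
    · simp only [ih]
      have : x &&& 1 = if x.testBit 0 then 1 else 0 := by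
        rw [Nat.and_one_is_mod, Nat.testBit_zero]
        rcases Nat.mod_two_eq_zero_or_one x with h | h <;> simp [h]
      omega
    · simp only [Finset.card_filter, Finset.sum_range_succ']
      rw [add_comm]
      congr 1
      refine Finset.sum_congr rfl fun i _ => ?_
      simp [Nat.testBit_shiftRight, add_comm]

lemma card_ptSet (m : ℕ) : (ptSet m).card = popCnt m := by
  rw [popCnt, popCnt_aux, zero_add]
  refine Finset.card_bij (fun p _ => idx p) ?_ ?_ ?_
  · intro p hp; simpa [idx_lt] using hp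
  · intro p _ q _ h; exact idx_injective h
  · intro i hi
    simp only [Finset.mem_filter, Finset.mem_range] at hi
    exact ⟨pt i, by simp [idx_pt i hi.1, hi.2], idx_pt i hi.1⟩

lemma popCnt_maskOf (s : Finset GolayPt) : popCnt (maskOf s) = s.card := by
  rw [← card_ptSet, ptSet_maskOf]

end Cfsg.Agent.Golay
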