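import Cfsg.Agent.Golay.SumPairs

/-!
The monomial group is a maximal subgroup of the isometry group.
-/

set_option autoImplicit false

namespace Cfsg.Agent.Golay

open Cfsg
open scoped Pointwise

lemma card_eq_orbit_mul (A : Subgroup Co0) {β : Type*} [MulAction Co0 β] (x : β) :
    Nat.card A = (MulAction.orbit A x).ncard * Nat.card ↥(A ⊓ MulAction.stabilizer Co0 x) := by
  rw [← Subgroup.index_mul_card (MulAction.stabilizer A x), MulAction.index_stabilizer]
  congr 1
  rw [← Subgroup.card_map_of_injective A.subtype_injective]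
  congr 2
  ext g
  simp only [Subgroup.mem_map, Subgroup.mem_inf, MulAction.mem_stabilizer_iff, Subgroup.coe_subtype]
  constructor
  · rintro ⟨⟨a, ha⟩, h, rfl⟩; exact ⟨ha, h⟩
  · rintro ⟨ha, h⟩; exact ⟨⟨g, ha⟩, h, rfl⟩

/-- The vector `(4, -4)` on the reference pair. -/
def pairVec : GolayPt → ℤ := fun p => if p = none then 4 else if p = some 0 then -4 else 0

lemma pairVec_facts : inLeech pairVec = true ∧ sqNorm pairVec = 32 ∧ signsOK pairVec = true ∧
    (suppVec pairVec).card = 2 := by decide +kernel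

/-- The same, inside the lattice. -/
def repW : leechLattice := ⟨pairVec, mem_of_inLeech pairVec_facts.1⟩

lemma pairVec_dot : dotInt repA.1 repW.1 = 0 := by
  rw [dot_repA]; simp [repW, pairVec]

lemma axis_sum : repA + repW = axisVec none ∧ repA - repW = axisVec (some 0) := by
  constructor <;> refine Subtype.ext (funext fun p => ?_)
  · show repFour p + pairVec p = (Pi.single none 8 : GolayPt → ℤ) p
    rcases eq_or_ne p none with rfl | e1
    · simp [repFour, pairVec]
    · rcases eq_or_ne p (some 0) with rfl | e2 <;> simp [repFour, pairVec, *]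
  · show repFour p - pairVec p = (Pi.single (some 0) 8 : GolayPt → ℤ) p
    rcases eq_or_ne p none with rfl | e1
    · simp [repFour, pairVec]
    · rcases eq_or_ne p (some 0) with rfl | e2 <;> simp [repFour, pairVec, *]

lemma isMono_of_fix {g : Co0} (hv : g • repA = repA) (hw : g • repW = repW ∨ g • repW = -repW) :
    g ∈ crossStab := by
  show g • stdSet = stdSet
  rw [← crossSet_axis none, smul_crossSet, ← axis_sum.1, co0_smul_add, hv]
  rcases hw with hw | hw <;> rw [hw]
  rw [← sub_eq_add_neg, axis_sum.2, axis_sum.1, crossSet_axis, crossSet_axis]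

lemma pairShape {x : leechLattice} (hx : sqNorm x.1 = 32) (hc : (suppVec x.1).card = 2) :
    ∃ i j, i ≠ j ∧ suppVec x.1 = {i, j} ∧ (x.1 i = 4 ∨ x.1 i = -4) ∧ (x.1 j = 4 ∨ x.1 j = -4) ∧
      ∀ l, l ≠ i → l ≠ j → x.1 l = 0 := by
  rcases min_support x.2 hx with ⟨-, h⟩ | ⟨e, -⟩ | ⟨e, -⟩
  · obtain ⟨i, j, hij, he⟩ := Finset.card_eq_two.1 hc
    refine ⟨i, j, hij, he, h i (by simp [he]), h j (by simp [he]), fun l a b => ?_⟩
    by_contra hne
    have : l ∈ ({i, j} : Finset GolayPt) := he ▸ (by simp [suppVec, hne] : l ∈ suppVec x.1)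
    simp [a, b] at this
  · omega
  · omega

/-- Preserving the shape `(±4, ±4, 0, …)` forces preserving the standard cross. -/
lemma isMono_of_pairs {g : Co0}
    (h : ∀ x : leechLattice, sqNorm x.1 = 32 → (suppVec x.1).card = 2 →
      (suppVec (g • x).1).card = 2) : IsMono g := by
  classical
  rintro v ⟨i, s, hs, hv⟩
  set y := g • v with hy
  have hvn : sqNorm v.1 = 64 := by rw [hv, sqNorm_single]; rcases hs with rfl | rfl <;> norm_num
  have hyn : sqNorm y.1 = 64 := by rw [hy, co0_sqNorm, hvn]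
  have mk : ∀ j, j ≠ i → ∃ a : leechLattice, sqNorm a.1 = 32 ∧ (suppVec a.1).card = 2 ∧
      sqNorm (v - a).1 = 32 ∧ (suppVec (v - a).1).card = 2 ∧ suppVec a.1 = {i, j} ∧
      dotInt a.1 (v - a).1 = 0 := by
    intro j hj
    obtain ⟨t, rfl⟩ : ∃ t, s = 2 * t := ⟨s / 2, by omega⟩
    set a0 : GolayPt → ℤ := 2 • (Pi.single i (t / 2) + Pi.single j 2 : GolayPt → ℤ) with ha0
    have hmem : a0 ∈ leechLattice := by
      rw [ha0, mem_leech_two_smul]
      constructor
      · convert Submodule.zero_mem golayCode using 1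
        funext l
        rw [Pi.zero_apply, ZMod.intCast_zmod_eq_zero_iff_dvd, Pi.add_apply]
        simp only [Pi.single_apply]
        split <;> split <;> omega
      · simp only [Pi.add_apply, Finset.sum_add_distrib, Finset.sum_pi_single', Finset.mem_univ,
          if_true]
        omega
    have hval : ∀ l, a0 l = if l = i then t else if l = j then 4 else 0 := by
      intro l
      simp only [ha0, nsmul_fun_apply, Pi.add_apply, Pi.single_apply, Nat.cast_ofNat]
      rcases eq_or_ne l i with rfl | e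
      · simp [Ne.symm hj]; omega
      · rcases eq_or_ne l j with rfl | e' <;> simp [e, *]
    have hval' : ∀ l, (v - ⟨a0, hmem⟩).1 l = if l = i then t else if l = j then -4 else 0 := by
      intro l
      rw [AddSubgroup.coe_sub, Pi.sub_apply, hv, Pi.single_apply]
      show _ - a0 l = _
      rw [hval]
      split_ifs <;> omega
    have hsupp : ∀ (f : GolayPt → ℤ) (b : ℤ), b ≠ 0 →
        (∀ l, f l = if l = i then t else if l = j then b else 0) → suppVec f = {i, j} := by
      intro f b hb hf
      ext l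
      simp only [suppVec, Finset.mem_filter, Finset.mem_univ, true_and, Finset.mem_insert,
        Finset.mem_singleton, hf l]
      split_ifs <;> simp [*] <;> omega
    have hnorm : ∀ (f : GolayPt → ℤ) (b : ℤ), b ^ 2 = 16 →
        (∀ l, f l = if l = i then t else if l = j then b else 0) → sqNorm f = 32 := by
      intro f b hb hf
      rw [sqNorm, Finset.sum_congr rfl (g := fun l => (if l = i then t ^ 2 else 0) +
        (if l = j then b ^ 2 else 0)) (fun l _ => by
          rw [hf]
          rcases eq_or_ne l i with rfl | e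
          · simp [Ne.symm hj]
          · rcases eq_or_ne l j with rfl | e' <;> simp [e, *]),
        Finset.sum_add_distrib, Finset.sum_ite_eq', Finset.sum_ite_eq']
      simp only [Finset.mem_univ, if_true, hb]
      rcases hs with e | e
      · obtain rfl : t = 4 := by omega
        norm_num
      · obtain rfl : t = -4 := by omega
        norm_num
    have hA := hnorm a0 4 (by norm_num) hval
    have hB := hnorm _ (-4) (by norm_num) hval'
    refine ⟨⟨a0, hmem⟩, hA, ?_, hB, ?_, hsupp a0 4 (by norm_num) hval, ?_⟩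
    · rw [hsupp a0 4 (by norm_num) hval, Finset.card_pair (Ne.symm hj)]
    · rw [hsupp _ (-4) (by norm_num) hval', Finset.card_pair (Ne.symm hj)]
    · have h1 := (sqNorm_add_sub a0 (v - ⟨a0, hmem⟩).1).1
      rw [hA, hB, AddSubgroup.coe_sub] at h1
      change sqNorm (a0 + (v.1 - a0)) = 32 + 32 + 2 * dotInt a0 (v.1 - a0) at h1
      rw [add_sub_cancel, hvn] at h1
      show dotInt a0 (v.1 - a0) = 0
      omega
  choose a ha using mk
  by_cases hone : ∃ p, ∀ l, l ≠ p → y.1 l = 0
  · obtain ⟨p, hp⟩ := hone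
    refine ⟨p, y.1 p, ?_, funext fun l => ?_⟩
    · have : y.1 p ^ 2 = 64 := by
        rw [← hyn, sqNorm, Finset.sum_eq_single p (fun l _ hl => by simp [hp l hl]) (by simp)]
      exact sq_eq_sq_iff_eq_or_eq_neg.1 (this.trans (by norm_num : (64 : ℤ) = 8 ^ 2))
    · rcases eq_or_ne l p with rfl | e
      · simp
      · rw [hp l e, Pi.single_eq_of_ne e]
  exfalso
  have key : ∀ j (hj : j ≠ i), ∃ p q, p ≠ q ∧ suppVec y.1 = suppVec (g • a j hj).1 ∪ {p, q} ∧
      Disjoint (suppVec (g • a j hj).1) {p, q} ∧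
      ∀ l ∈ suppVec (g • a j hj).1, y.1 l = (g • a j hj).1 l := by
    intro j hj
    obtain ⟨h1, h2, h3, h4, h5, h6⟩ := ha j hj
    set A := g • a j hj with hA
    set B := g • (v - a j hj) with hB
    have hsum : ∀ l, y.1 l = A.1 l + B.1 l := fun l => by
      rw [hy, hA, hB, ← Pi.add_apply, ← AddSubgroup.coe_add, ← co0_smul_add, add_sub_cancel]
    have hAn : sqNorm A.1 = 32 := by rw [hA, co0_sqNorm, h1]
    have hBn : sqNorm B.1 = 32 := by rw [hB, co0_sqNorm, h3]
    have hdot : dotInt A.1 B.1 = 0 := by rw [hA, hB, co0_dot, h6]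
    obtain ⟨p, q, hpq, hAs, hAp, hAq, hA0⟩ := pairShape hAn (h _ h1 h2)
    obtain ⟨r, t, hrt, hBs, hBr, hBt, hB0⟩ := pairShape hBn (h _ h3 h4)
    have hd2 : A.1 p * B.1 p + A.1 q * B.1 q = 0 := by
      rw [← hdot, dotInt, ← Finset.sum_subset (Finset.subset_univ {p, q}) (fun l _ hl => by
        simp only [Finset.mem_insert, Finset.mem_singleton, not_or] at hl
        simp [hA0 l hl.1 hl.2]), Finset.sum_pair hpq]
    have hnot : ¬ (p = r ∨ p = t) ∧ ¬ (q = r ∨ q = t) := by
      by_contra hh
      -- some overlap: then both points are shared, and `y` has one nonzero coordinate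
      have hboth : (p = r ∨ p = t) ∧ (q = r ∨ q = t) := by
        by_contra hnb
        by_cases hp' : p = r ∨ p = t
        · have hq' : ¬ (q = r ∨ q = t) := fun e => hnb ⟨hp', e⟩
          simp only [not_or] at hq'
          rw [hB0 q hq'.1 hq'.2, mul_zero, add_zero] at hd2
          rcases hp' with rfl | rfl <;> rcases hAp with e | e <;> rcases hBr with e' | e' <;>
            rcases hBt with e'' | e'' <;> rw [e] at hd2 <;> omega
        · have hq' : q = r ∨ q = t := by
            by_contra e; exact hh ⟨hp', e⟩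
          simp only [not_or] at hp'
          rw [hB0 p hp'.1 hp'.2, mul_zero, zero_add] at hd2
          rcases hq' with rfl | rfl <;> rcases hAq with e | e <;> rcases hBr with e' | e' <;>
            rcases hBt with e'' | e'' <;> rw [e] at hd2 <;> omega
      have hBp : B.1 p = 4 ∨ B.1 p = -4 := by rcases hboth.1 with rfl | rfl <;> assumption
      have hBq : B.1 q = 4 ∨ B.1 q = -4 := by rcases hboth.2 with rfl | rfl <;> assumption
      have hzero : ∀ l, l ≠ p → l ≠ q → y.1 l = 0 := by
        intro l e1 e2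
        rw [hsum, hA0 l e1 e2, zero_add]
        apply hB0 <;> intro e <;> subst e <;>
          rcases hboth.1 with u | u <;> rcases hboth.2 with u' | u' <;>
          first | exact e1 u.symm | exact e2 u'.symm | exact hpq (u.trans u'.symm)
      have hcanc : y.1 p = 0 ∨ y.1 q = 0 := by
        rcases hAp with a1 | a1 <;> rcases hAq with a2 | a2 <;> rcases hBp with b1 | b1 <;>
          rcases hBq with b2 | b2 <;> rw [hsum, hsum, a1, a2, b1, b2] <;>
          rw [a1, a2, b1, b2] at hd2 <;> omega
      rcases hcanc with e | e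
      · exact hone ⟨q, fun l hl => by rcases eq_or_ne l p with rfl | e'
                                      · exact e
                                      · exact hzero l e' hl⟩
      · exact hone ⟨p, fun l hl => by rcases eq_or_ne l q with rfl | e'
                                      · exact e
                                      · exact hzero l hl e'⟩
    simp only [not_or] at hnot
    refine ⟨r, t, hrt, ?_, ?_, ?_⟩
    · rw [hAs]
      ext l
      simp only [suppVec, Finset.mem_filter, Finset.mem_univ, true_and, Finset.mem_union,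
        Finset.mem_insert, Finset.mem_singleton, hsum]
      by_cases c1 : l = p ∨ l = q
      · simp only [c1, true_or, iff_true]
        rcases c1 with rfl | rfl
        · rw [hB0 l hnot.1.1 hnot.1.2]; omega
        · rw [hB0 l hnot.2.1 hnot.2.2]; omega
      · simp only [not_or] at c1
        rw [hA0 l c1.1 c1.2, zero_add]
        simp only [c1.1, c1.2, false_or]
        refine ⟨fun e => ?_, fun e => ?_⟩
        · by_contra c2
          simp only [not_or] at c2
          exact e (hB0 l c2.1 c2.2)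
        · rcases e with rfl | rfl <;> omega
    · rw [hAs]
      simp [hnot.1.1, hnot.1.2, hnot.2.1, hnot.2.2, Ne.symm hnot.1.1, Ne.symm hnot.1.2,
        Ne.symm hnot.2.1, Ne.symm hnot.2.2]
    · intro l hl
      rw [hAs] at hl
      simp only [Finset.mem_insert, Finset.mem_singleton] at hl
      rw [hsum]
      rcases hl with rfl | rfl
      · rw [hB0 l hnot.1.1 hnot.1.2, add_zero]
      · rw [hB0 l hnot.2.1 hnot.2.2, add_zero]
  obtain ⟨j0, hj0⟩ := exists_ne i
  have h4 : (suppVec y.1).card = 4 := by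
    obtain ⟨p, q, hpq, he, hd, -⟩ := key j0 hj0
    obtain ⟨h1, h2, -⟩ := ha j0 hj0
    rw [he, Finset.card_union_of_disjoint hd, h _ h1 h2, Finset.card_pair hpq]
  -- the 23 decompositions give distinct two-element parts of a four-element set
  have hinj : Function.Injective fun j : {j : GolayPt // j ≠ i} => suppVec (g • a j.1 j.2).1 := by
    intro j k hjk
    simp only at hjk
    obtain ⟨-, -, -, -, -, hv1⟩ := key j.1 j.2
    obtain ⟨-, -, -, -, -, hv2⟩ := key k.1 k.2
    have he : g • a j.1 j.2 = g • a k.1 k.2 := by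
      refine Subtype.ext (funext fun l => ?_)
      by_cases hl : l ∈ suppVec (g • a j.1 j.2).1
      · rw [← hv1 l hl, ← hv2 l (hjk ▸ hl)]
      · have hl' : l ∉ suppVec (g • a k.1 k.2).1 := hjk ▸ hl
        simp only [suppVec, Finset.mem_filter, Finset.mem_univ, true_and, not_not] at hl hl'
        rw [hl, hl']
    have h5 := (ha j.1 j.2).2.2.2.2.1
    rw [smul_left_cancel g he, (ha k.1 k.2).2.2.2.2.1] at h5
    apply Subtype.ext
    have : k.1 ∈ ({i, j.1} : Finset GolayPt) := h5 ▸ (by simp)
    simp only [Finset.mem_insert, Finset.mem_singleton] at this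
    exact (this.resolve_left k.2).symm
  have hsub : Finset.univ.image (fun j : {j : GolayPt // j ≠ i} => suppVec (g • a j.1 j.2).1)
      ⊆ (suppVec y.1).powersetCard 2 := by
    intro S hS
    obtain ⟨j, -, rfl⟩ := Finset.mem_image.1 hS
    obtain ⟨p, q, -, he, -, -⟩ := key j.1 j.2
    obtain ⟨h1, h2, -⟩ := ha j.1 j.2
    exact Finset.mem_powersetCard.2 ⟨he ▸ Finset.subset_union_left, h _ h1 h2⟩
  have := Finset.card_le_card hsub
  rw [Finset.card_image_of_injective _ hinj, Finset.card_univ, Finset.card_powersetCard, h4,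
    Fintype.card_subtype_compl, Fintype.card_subtype_eq] at this
  revert this
  decide

lemma mem_crossStab_iff {g : Co0} : g ∈ crossStab ↔ IsMono g := mem_crossStab

/-- Counts of unions of shapes. -/
lemma shape_counts :
    {x : GolayPt → ℤ | x ∈ leechLattice ∧ sqNorm x = 32 ∧ ∀ i, [0, 4, -4].contains (x i) = true}.ncard = 1104 ∧
    {x : GolayPt → ℤ | x ∈ leechLattice ∧ sqNorm x = 32 ∧
      ∀ i, [0, 4, -4, 2, -2].contains (x i) = true}.ncard = 98256 ∧
    {x : GolayPt → ℤ | x ∈ leechLattice ∧ sqNorm x = 32 ∧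
      ∀ i, [0, 4, -4, 1, -1, 3, -3].contains (x i) = true}.ncard = 99408 := by
  have hq : ∀ (l : List ℤ), (∀ v ∈ l, -v ∈ l) → ∀ v : ℤ, l.contains (-v) = l.contains v := by
    intro l hl v
    simp only [List.contains_eq_mem, decide_eq_decide]
    exact ⟨fun h => neg_neg v ▸ hl _ h, hl v⟩
  refine ⟨?_, ?_, ?_⟩
  · exact (ncard_leech_norm (fun v => [0, 4, -4].contains v) (hq _ (by decide)) (N := 32)
      (by norm_num) (by norm_num) (weightTbl 1104 0 0 0 0) (by decide +kernel)).trans (by decide +kernel)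
  · exact (ncard_leech_norm (fun v => [0, 4, -4, 2, -2].contains v) (hq _ (by decide)) (N := 32)
      (by norm_num) (by norm_num) (weightTbl 1104 128 0 0 0) (by decide +kernel)).trans (by decide +kernel)
  · exact (ncard_leech_norm (fun v => [0, 4, -4, 1, -1, 3, -3].contains v) (hq _ (by decide)) (N := 32)
      (by norm_num) (by norm_num) (weightTbl (1104 + 24) 24 24 24 24) (by decide +kernel)).trans
      (by decide +kernel)

/-- Keys of minimal vectors orthogonal to the reference vector, with their numbers. -/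
def zeroKeys : List ((ℤ × ℤ × ℕ) × ℕ) :=
  (keyRows.filter fun r => decide (r.1.1 + r.1.2.1 = 0)).map fun r => (r.1, r.2.2)

/-- Negating a key. -/
def negKey (k : ℤ × ℤ × ℕ) : ℤ × ℤ × ℕ := (-k.1, -k.2.1, k.2.2)

lemma zeroKeys_facts :
    (∀ L ∈ zeroKeys.sublists, (L.any fun k => decide (k.1 = (4, -4, 2))) = true →
      (∀ k ∈ L, (L.any fun k' => decide (k'.1 = negKey k.1)) = true) →
      93150 % (L.map fun k => k.2).sum = 0 →
      (L.map fun k => k.2).sum = 2 ∨ (L.map fun k => k.2).sum = 93150) ∧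
    (∀ k ∈ zeroKeys, ((rootsZero ++ chainZero).any fun M => decide (k.1 = keyVec (vecOf M))) = true) ∧
    (zeroKeys.map fun k => k.1).Nodup := by
  decide +kernel

lemma keyVec_neg (x : GolayPt → ℤ) : keyVec (-x) = negKey (keyVec x) := by
  simp [keyVec, negKey, suppVec]

/-- Orbit sizes under a subgroup containing the monomial part of the stabiliser. -/
lemma orbit_repW_card (A : Subgroup Co0) (hA : A ≤ fixA) (hmono : crossStab ⊓ fixA ≤ A) :
    (-repW : leechLattice) ∈ MulAction.orbit A repW ∧
    ∀ n, (MulAction.orbit A repW).ncard = n → n ∣ 93150 → n = 2 ∨ n = 93150 := by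
  classical
  set W := MulAction.orbit A repW with hW
  have hmem : ∀ {k : Co0}, k ∈ fixA → IsMono k → k ∈ A :=
    fun h1 h2 => hmono ⟨mem_crossStab_iff.2 h2, h1⟩
  have hrw : sqNorm repW.1 = 32 := pairVec_facts.2.1
  -- negation
  have hneg : (-repW : leechLattice) ∈ W := by
    obtain ⟨σ, hσ⟩ := exists_M24_map_points (k := 2) (by norm_num)
      (a := ![none, some 0]) (b := ![some 0, none])
      (by intro a b; fin_cases a <;> fin_cases b <;> simp)
      (by intro a b; fin_cases a <;> fin_cases b <;> simp)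
    have h10 : σ.1 (some 0) = none := hσ 1
    have h01 : σ.1 none = some 0 := hσ 0
    set k := signAut noSigns * permAut σ with hk
    have e : ∀ (x : leechLattice) q, (k • x).1 (σ.1 q) = x.1 q := by
      intro x q
      rw [hk, mul_smul, signAut_apply, permAut_apply]
      simp [noSigns]
    have hfix : k • repA = repA := by
      refine Subtype.ext (funext fun l => ?_)
      obtain ⟨q, rfl⟩ : ∃ q, σ.1 q = l := ⟨σ.1.symm l, σ.1.apply_symm_apply l⟩
      rw [e]
      have c1 : σ.1 q = none ↔ q = some 0 := by rw [← σ.1.apply_eq_iff_eq (x := q), h10]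
      have c2 : σ.1 q = some 0 ↔ q = none := by rw [← σ.1.apply_eq_iff_eq (x := q), h01]
      show repFour q = repFour (σ.1 q)
      simp only [repFour, c1, c2]
      exact if_congr Or.comm rfl rfl
    refine ⟨⟨k, hmem hfix (isMono_signed _ σ)⟩, ?_⟩
    show k • repW = -repW
    refine Subtype.ext (funext fun l => ?_)
    obtain ⟨q, rfl⟩ : ∃ q, σ.1 q = l := ⟨σ.1.symm l, σ.1.apply_symm_apply l⟩
    rw [e, AddSubgroup.coe_neg, Pi.neg_apply]
    have c1 : σ.1 q = none ↔ q = some 0 := by rw [← σ.1.apply_eq_iff_eq (x := q), h10]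
    have c2 : σ.1 q = some 0 ↔ q = none := by rw [← σ.1.apply_eq_iff_eq (x := q), h01]
    show pairVec q = -pairVec (σ.1 q)
    simp only [pairVec, c1, c2]
    rcases eq_or_ne q none with rfl | e1
    · simp
    · rcases eq_or_ne q (some 0) with rfl | e2 <;> simp [*]
  refine ⟨hneg, ?_⟩
  intro n hn hdvd
  have hWneg : ∀ x ∈ W, -x ∈ W := by
    rintro _ ⟨a, rfl⟩
    show -(a.1 • repW) ∈ W
    rw [← co0_smul_neg]
    exact MulAction.mem_orbit_of_mem_orbit a hneg
  have hWsub : ∀ x ∈ W, sqNorm x.1 = 32 ∧ x.1 none + x.1 (some 0) = 0 := by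
    rintro _ ⟨a, rfl⟩
    have h1 : sqNorm (a.1 • repW).1 = 32 := by rw [co0_sqNorm, hrw]
    refine ⟨h1, ?_⟩
    have h2 := co0_dot a.1 repA repW
    rw [show a.1 • repA = repA from hA a.2, pairVec_dot, dot_repA] at h2
    show (a.1 • repW).1 none + (a.1 • repW).1 (some 0) = 0
    omega
  set V : Set (GolayPt → ℤ) := Subtype.val '' W
  have hVfin : V.Finite := (finite_normSet 32 (by norm_num) rfl).subset (by
    rintro _ ⟨x, hx, rfl⟩; exact ⟨x.2, (hWsub x hx).1⟩)
  set Vf := hVfin.toFinset
  have hcardV : Vf.card = n := by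
    rw [← Set.ncard_eq_toFinset_card V hVfin, Set.ncard_image_of_injective _ Subtype.val_injective, hn]
  set L := zeroKeys.filter (fun k => decide (k.1 ∈ Vf.image keyVec)) with hL
  have hk1 : ∀ x ∈ W, ∃ k ∈ L, k.1 = keyVec x.1 := by
    intro x hx
    obtain ⟨h1, h2⟩ := hWsub x hx
    obtain ⟨r, hr, hrk⟩ := List.any_eq_true.1
      (List.all_eq_true.1 keys_rows.1 _ (key_mem_keysFor h1 h2))
    rw [decide_eq_true_eq] at hrk
    refine ⟨(r.1, r.2.2), List.mem_filter.2 ⟨List.mem_map.2 ⟨r, List.mem_filter.2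
      ⟨hr, decide_eq_true (by rw [hrk]; exact h2)⟩, rfl⟩, decide_eq_true ?_⟩, hrk⟩
    rw [hrk]
    exact Finset.mem_image_of_mem _ (hVfin.mem_toFinset.2 ⟨x, hx, rfl⟩)
  -- each key class met by the orbit is contained in it
  have hall : ∀ k ∈ L, (Vf.filter fun x => keyVec x = k.1) = keyFin k.1 := by
    intro k hk
    obtain ⟨hkz, hki⟩ := List.mem_filter.1 hk
    obtain ⟨y, hy, hyk⟩ := Finset.mem_image.1 (of_decide_eq_true hki)
    obtain ⟨y', hyW, rfl⟩ := hVfin.mem_toFinset.1 hy
    obtain ⟨M, hM, hMk⟩ := List.any_eq_true.1 (zeroKeys_facts.2.1 k hkz)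
    rw [decide_eq_true_eq] at hMk
    have hrep := (linksOK_spec rootsZero chainZero links_ok.1 M hM).1
    simp only [repOK, Bool.and_eq_true, decide_eq_true_eq] at hrep
    set r : leechLattice := ⟨vecOf M, mem_of_inLeech hrep.1.1⟩
    have toRep : ∀ x : leechLattice, sqNorm x.1 = 32 → keyVec x.1 = k.1 →
        ∃ a : A, a • x = r := by
      intro x hx hxk
      obtain ⟨g, g1, g2, g3⟩ := mono_of_key hx (r := r) hrep.1.2 hrep.2 (hxk.trans hMk)
      exact ⟨⟨g, hmem g1 g2⟩, g3⟩
    ext x
    simp only [Finset.mem_filter, keyFin, mem_normFin, Nat.cast_ofNat, Vf, Set.Finite.mem_toFinset]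
    constructor
    · rintro ⟨⟨x', hx', rfl⟩, hxk⟩
      exact ⟨⟨x'.2, (hWsub x' hx').1⟩, hxk⟩
    · rintro ⟨⟨hxL, hxn⟩, hxk⟩
      obtain ⟨a, ha⟩ := toRep y' (hWsub y' hyW).1 hyk
      obtain ⟨b, hb⟩ := toRep ⟨x, hxL⟩ hxn hxk
      refine ⟨⟨⟨x, hxL⟩, ?_, rfl⟩, hxk⟩
      have : (⟨x, hxL⟩ : leechLattice) = (b⁻¹ * a) • y' := by rw [mul_smul, ha, ← hb, inv_smul_smul]
      rw [this]
      exact MulAction.mem_orbit_of_mem_orbit (b⁻¹ * a) hyW
  have hLnd : (L.map fun k => k.1).Nodup :=
    zeroKeys_facts.2.2.sublist ((List.filter_sublist (l := zeroKeys)).map _)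
  have hsum : (L.map fun k => k.2).sum = n := by
    rw [← hcardV, Finset.card_eq_sum_card_fiberwise (f := keyVec)
      (t := (L.map fun k => k.1).toFinset) ?_, List.sum_toFinset _ hLnd, List.map_map]
    · refine congrArg List.sum (List.map_congr_left fun k hk => ?_)
      obtain ⟨r, hr, rfl⟩ := List.mem_map.1 (List.mem_filter.1 hk).1
      rw [Function.comp_apply, hall _ hk]
      exact (card_keyFin (List.mem_filter.1 hr).1).symm
    · intro x hx
      obtain ⟨x', hx', rfl⟩ := hVfin.mem_toFinset.1 hx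
      obtain ⟨k, hk, he⟩ := hk1 x' hx'
      rw [Finset.mem_coe, List.mem_toFinset]
      exact List.mem_map.2 ⟨k, hk, he⟩
  refine hsum ▸ zeroKeys_facts.1 L (List.mem_sublists.2 List.filter_sublist) ?_ ?_ ?_
  · obtain ⟨k, hk, he⟩ := hk1 repW (MulAction.mem_orbit_self repW)
    refine List.any_eq_true.2 ⟨k, hk, decide_eq_true ?_⟩
    rw [he]
    decide +kernel
  · intro k hk
    obtain ⟨y, hy, hyk⟩ := Finset.mem_image.1 (of_decide_eq_true (List.mem_filter.1 hk).2)
    obtain ⟨y', hyW, rfl⟩ := hVfin.mem_toFinset.1 hy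
    obtain ⟨k', hk', he⟩ := hk1 (-y') (hWneg y' hyW)
    refine List.any_eq_true.2 ⟨k', hk', decide_eq_true ?_⟩
    rw [he, AddSubgroup.coe_neg, keyVec_neg, hyk]
  · rw [hsum]; exact Nat.mod_eq_zero_of_dvd hdvd

lemma orbit_min_card : (MulAction.orbit Co0 repA).ncard = 196560 := by
  rw [← ncard_norm32, ← Set.ncard_image_of_injective _ Subtype.val_injective]
  refine congrArg Set.ncard ?_
  ext x
  constructor
  · rintro ⟨_, ⟨g, rfl⟩, rfl⟩
    exact ⟨SetLike.coe_mem _, (co0_sqNorm g repA).trans (by decide +kernel)⟩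
  · rintro ⟨hx, hn⟩
    exact ⟨⟨x, hx⟩, min_orbit hn, rfl⟩

lemma orbit_fixA_repW :
    (MulAction.orbit fixA repW).ncard = 93150 := by
  have hneg := (orbit_repW_card fixA le_rfl inf_le_right).1
  rw [← census_repA (d := 0) (n := 93150) (by simp), ← Set.ncard_image_of_injective _ Subtype.val_injective]
  refine congrArg Set.ncard ?_
  ext x
  constructor
  · rintro ⟨_, ⟨g, rfl⟩, rfl⟩
    refine ⟨SetLike.coe_mem _, (co0_sqNorm g.1 repW).trans pairVec_facts.2.1, ?_⟩
    have h := co0_dot g.1 repA repW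
    rw [show g.1 • repA = repA from g.2] at h
    exact h.trans (pairVec_dot.trans (mul_zero 4).symm)
  · rintro ⟨hx, hn, hd⟩
    obtain ⟨g, g1, g2⟩ := min_trans_zero (v := repA) (w := repW) (w' := ⟨x, hx⟩) (by decide +kernel)
      pairVec_facts.2.1 hn pairVec_dot (hd.trans (mul_zero 4))
    obtain ⟨k, hk⟩ := hneg
    rcases g2 with g2 | g2
    · exact ⟨⟨x, hx⟩, ⟨⟨g, g1⟩, g2⟩, rfl⟩
    · refine ⟨⟨x, hx⟩, ⟨⟨g, g1⟩ * k, ?_⟩, rfl⟩
      show ((⟨g, g1⟩ : fixA) * k) • repW = _
      rw [mul_smul]
      show g • (k • repW) = _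
      rw [show k • repW = -repW from hk, co0_smul_neg, g2, neg_neg]

theorem crossStab_isCoatom : IsCoatom crossStab := by
  classical
  have hne : crossStab ≠ ⊤ := by
    intro h
    have := index_crossStab
    rw [h, Subgroup.index_top] at this
    norm_num at this
  refine ⟨hne, fun K hK => ?_⟩
  obtain ⟨hle, g₀, hg₀K, hg₀⟩ := SetLike.lt_iff_le_and_exists.1 hK
  haveI : Finite K := inferInstance
  have hmonoK : ∀ {k : Co0}, IsMono k → k ∈ K := fun h => hle (mem_crossStab_iff.2 h)
  have h32 : sqNorm repA.1 = 32 := by decide +kernel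
  set O := MulAction.orbit K repA with hO
  have hOn : ∀ x ∈ O, sqNorm x.1 = 32 := by rintro _ ⟨k, rfl⟩; exact (co0_sqNorm k.1 repA).trans h32
  have pull : ∀ {x r : leechLattice} {k : Co0}, IsMono k → k • x = r → (x ∈ O ↔ r ∈ O) := by
    intro x r k hk he
    subst he
    refine ⟨fun h => MulAction.mem_orbit_of_mem_orbit (⟨k, hmonoK hk⟩ : K) h, fun h => ?_⟩
    have h2 := MulAction.mem_orbit_of_mem_orbit (⟨k, hmonoK hk⟩ : K)⁻¹ h
    have h3 : (⟨k, hmonoK hk⟩ : K)⁻¹ • (k • x) = x :=
      inv_smul_smul (⟨k, hmonoK hk⟩ : K) x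
    rwa [h3] at h2
  have pairIn : ∀ x : leechLattice, sqNorm x.1 = 32 → (suppVec x.1).card = 2 → x ∈ O := by
    intro x hx hc
    obtain ⟨i, j, hij, -, hi, hj, h0⟩ := pairShape hx hc
    obtain ⟨k, hk, he⟩ := mono_of_pair hij hi hj h0
    exact (pull hk he).2 (MulAction.mem_orbit_self repA)
  -- the shapes with 8 and with 24 nonzero coordinates are each inside or outside
  have octIn : ∀ x : leechLattice, sqNorm x.1 = 32 → (suppVec x.1).card = 8 → (x ∈ O ↔ repB ∈ O) := by
    intro x hx hc
    rcases min_support x.2 hx with ⟨e, -⟩ | ⟨-, ho, h⟩ | ⟨e, -⟩ <;> try omega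
    obtain ⟨k, hk, he⟩ := mono_of_octad (v := x) ho h (fun l hl => by simpa [suppVec] using hl)
    exact pull hk he
  have oddIn : ∀ x : leechLattice, sqNorm x.1 = 32 → (suppVec x.1).card = 24 → (x ∈ O ↔ repC ∈ O) := by
    intro x hx hc
    rcases min_support x.2 hx with ⟨e, -⟩ | ⟨e, -⟩ | ⟨-, i, hi, h⟩ <;> try omega
    obtain ⟨k, hk, he⟩ := mono_of_odd (v := x) hi h
    exact pull hk he
  have hdvdO : O.ncard ∣ 8315553613086720000 := by
    rw [← card_co0]
    refine Dvd.dvd.trans ?_ (Subgroup.card_subgroup_dvd_card K)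
    rw [hO, ← MulAction.index_stabilizer]
    exact Subgroup.index_dvd_card _
  have hbig : repB ∈ O ∨ repC ∈ O := by
    by_contra hno
    rw [not_or] at hno
    refine hg₀ (mem_crossStab_iff.2 (isMono_of_pairs fun x hx hc => ?_))
    have hgx : g₀ • x ∈ O := MulAction.mem_orbit_of_mem_orbit (⟨g₀, hg₀K⟩ : K) (pairIn x hx hc)
    have hgn : sqNorm (g₀ • x).1 = 32 := by rw [co0_sqNorm, hx]
    rcases min_support (g₀ • x).2 hgn with ⟨e, -⟩ | ⟨e, -⟩ | ⟨e, -⟩
    · exact e
    · exact absurd ((octIn _ hgn e).1 hgx) hno.1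
    · exact absurd ((oddIn _ hgn e).1 hgx) hno.2
  have hvals : ∀ x : leechLattice, sqNorm x.1 = 32 →
      ((suppVec x.1).card = 2 ↔ ∀ i, [(0 : ℤ), 4, -4].contains (x.1 i) = true) ∧
      ((suppVec x.1).card ≠ 24 ↔ ∀ i, [(0 : ℤ), 4, -4, 2, -2].contains (x.1 i) = true) ∧
      ((suppVec x.1).card ≠ 8 ↔ ∀ i, [(0 : ℤ), 4, -4, 1, -1, 3, -3].contains (x.1 i) = true) := by
    intro x hx
    have val : ∀ l, l ∉ suppVec x.1 → x.1 l = 0 := fun l hl => by simpa [suppVec] using hl
    rcases min_support x.2 hx with ⟨e, h⟩ | ⟨e, -, h⟩ | ⟨e, i, hi, h⟩ <;> rw [e]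
    · have hv : ∀ l, x.1 l = 0 ∨ x.1 l = 4 ∨ x.1 l = -4 := fun l => by
        by_cases hl : l ∈ suppVec x.1
        · exact Or.inr (h l hl)
        · exact Or.inl (val l hl)
      refine ⟨iff_of_true rfl fun l => ?_, iff_of_true (by norm_num) fun l => ?_,
        iff_of_true (by norm_num) fun l => ?_⟩ <;> rcases hv l with a | a | a <;> simp [a]
    · have hv : ∀ l, x.1 l = 0 ∨ x.1 l = 2 ∨ x.1 l = -2 := fun l => by
        by_cases hl : l ∈ suppVec x.1
        · exact Or.inr (h l hl)
        · exact Or.inl (val l hl)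
      obtain ⟨l0, hl0⟩ := Finset.card_pos.1 (show 0 < (suppVec x.1).card by omega)
      refine ⟨iff_of_false (by norm_num) fun hh => ?_, iff_of_true (by norm_num) fun l => ?_,
        iff_of_false (fun hh => hh rfl) fun hh => ?_⟩
      · rcases h l0 hl0 with a | a <;> simpa [a] using hh l0
      · rcases hv l with a | a | a <;> simp [a]
      · rcases h l0 hl0 with a | a <;> simpa [a] using hh l0
    · refine ⟨iff_of_false (by norm_num) fun hh => ?_, iff_of_false (fun hh => hh rfl) fun hh => ?_,
        iff_of_true (by norm_num) fun l => ?_⟩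
      · rcases hi with a | a <;> simpa [a] using hh i
      · rcases hi with a | a <;> simpa [a] using hh i
      · rcases eq_or_ne l i with rfl | e'
        · rcases hi with a | a <;> simp [a]
        · rcases h l e' with a | a <;> simp [a]
  have htrans : O.ncard = 196560 := by
    have key : ∀ (P : leechLattice → Prop) (Q : (GolayPt → ℤ) → Prop) (n : ℕ),
        (∀ x : leechLattice, sqNorm x.1 = 32 → (P x ↔ Q x.1)) →
        (∀ x : leechLattice, sqNorm x.1 = 32 → (x ∈ O ↔ P x)) →
        {x : GolayPt → ℤ | x ∈ leechLattice ∧ sqNorm x = 32 ∧ Q x}.ncard = n → O.ncard = n := by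
      intro P Q n hPQ hP hn
      rw [← hn, ← Set.ncard_image_of_injective _ Subtype.val_injective]
      refine congrArg Set.ncard ?_
      ext x
      constructor
      · rintro ⟨y, hy, rfl⟩
        exact ⟨y.2, hOn y hy, (hPQ y (hOn y hy)).1 ((hP y (hOn y hy)).1 hy)⟩
      · rintro ⟨hx, hxn, hq⟩
        exact ⟨⟨x, hx⟩, (hP _ hxn).2 ((hPQ ⟨x, hx⟩ hxn).2 hq), rfl⟩
    by_cases hB : repB ∈ O <;> by_cases hC : repC ∈ O
    · refine key (fun _ => True) (fun _ => True) _ (fun _ _ => Iff.rfl) (fun x hx => iff_true_intro ?_)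
        (by simpa using ncard_norm32)
      rcases min_support x.2 hx with ⟨e, -⟩ | ⟨e, -⟩ | ⟨e, -⟩
      · exact pairIn x hx e
      · exact (octIn x hx e).2 hB
      · exact (oddIn x hx e).2 hC
    · exfalso
      have h := key (fun x => (suppVec x.1).card ≠ 24) _ _ (fun x hx => (hvals x hx).2.1)
        (fun x hx => ?_) shape_counts.2.1
      · rw [h] at hdvdO; revert hdvdO; norm_num
      rcases min_support x.2 hx with ⟨e, -⟩ | ⟨e, -⟩ | ⟨e, -⟩
      · exact iff_of_true (pairIn x hx e) (by omega)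
      · exact iff_of_true ((octIn x hx e).2 hB) (by omega)
      · exact iff_of_false (fun h => hC ((oddIn x hx e).1 h)) (by omega)
    · exfalso
      have h := key (fun x => (suppVec x.1).card ≠ 8) _ _ (fun x hx => (hvals x hx).2.2)
        (fun x hx => ?_) shape_counts.2.2
      · rw [h] at hdvdO; revert hdvdO; norm_num
      rcases min_support x.2 hx with ⟨e, -⟩ | ⟨e, -⟩ | ⟨e, -⟩
      · exact iff_of_true (pairIn x hx e) (by omega)
      · exact iff_of_false (fun h => hB ((octIn x hx e).1 h)) (by omega)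
      · exact iff_of_true ((oddIn x hx e).2 hC) (by omega)
    · exact absurd hbig (by simp [hB, hC])
  -- the stabiliser of the reference vector
  have hcK : Nat.card K = 196560 * Nat.card ↥(K ⊓ fixA) := by
    rw [card_eq_orbit_mul K repA, ← hO, htrans]
  have hcG : Nat.card Co0 = 196560 * Nat.card fixA := by
    rw [← Subgroup.index_mul_card fixA, MulAction.index_stabilizer, orbit_min_card]
  set Kv := K ⊓ fixA with hKv
  set S := fixA ⊓ MulAction.stabilizer Co0 repW with hS
  have hSK : S ≤ K := fun g hg => hle (isMono_of_fix hg.1 (Or.inl hg.2))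
  have hKvS : Kv ⊓ MulAction.stabilizer Co0 repW = S := by
    rw [hKv, hS, inf_assoc, inf_eq_right.2 (hS ▸ hSK)]
  have hcKv := card_eq_orbit_mul Kv repW
  rw [hKvS] at hcKv
  have hcA := card_eq_orbit_mul fixA repW
  rw [orbit_fixA_repW, ← hS] at hcA
  have hSpos : 0 < Nat.card S := Nat.card_pos
  obtain ⟨hneg, hopt⟩ := orbit_repW_card Kv inf_le_right (fun g hg => ⟨hle hg.1, hg.2⟩)
  set n := (MulAction.orbit Kv repW).ncard
  have hdvd : n ∣ 93150 := by
    have h := Subgroup.card_dvd_of_le (inf_le_right : Kv ≤ fixA)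
    rw [hcKv, hcA] at h
    exact Nat.dvd_of_mul_dvd_mul_right hSpos h
  rcases hopt n rfl hdvd with hn2 | hnall
  · exfalso
    have hKvle : Kv ≤ crossStab := by
      intro g hg
      refine isMono_of_fix hg.2 ?_
      have hsub : ({repW, -repW} : Set leechLattice) ⊆ MulAction.orbit Kv repW :=
        Set.insert_subset (MulAction.mem_orbit_self _) (Set.singleton_subset_iff.2 hneg)
      have hne' : repW ≠ -repW := by
        intro h
        have := congrArg (fun x : leechLattice => x.1 none) h
        simp [repW, pairVec] at this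
      have hfin : (MulAction.orbit Kv repW).Finite :=
        Set.finite_of_ncard_ne_zero (show n ≠ 0 by omega)
      have heq := Set.eq_of_subset_of_ncard_le hsub (by rw [Set.ncard_pair hne']; exact hn2.le) hfin
      have hm : g • repW ∈ MulAction.orbit Kv repW :=
        MulAction.mem_orbit_of_mem_orbit (⟨g, hg⟩ : Kv) (MulAction.mem_orbit_self _)
      rw [← heq] at hm
      simpa using hm
    have hH : Nat.card crossStab = 1104 * Nat.card Kv := by
      rw [card_eq_orbit_mul crossStab repA]
      congr 1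
      · rw [← shape_counts.1, ← Set.ncard_image_of_injective _ Subtype.val_injective]
        refine congrArg Set.ncard ?_
        ext x
        constructor
        · rintro ⟨_, ⟨k, rfl⟩, rfl⟩
          have hk32 : sqNorm (k.1 • repA).1 = 32 := (co0_sqNorm k.1 repA).trans h32
          refine ⟨SetLike.coe_mem _, hk32, (hvals _ hk32).1.1 ?_⟩
          obtain ⟨σ, c, he⟩ := stdCross_stabiliser_eq_monomial k.1 (mem_crossStab_iff.1 k.2)
          show (suppVec (k.1 • repA).1).card = 2
          rw [he, monoAut_apply]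
          have e : suppVec (signedPerm σ.1 c.1 repA.1) = {σ.1 none, σ.1 (some 0)} := by
            ext l
            obtain ⟨q, rfl⟩ : ∃ q, σ.1 q = l := ⟨σ.1.symm l, σ.1.apply_symm_apply l⟩
            rw [suppVec, Finset.mem_filter, signedPerm_apply, Equiv.symm_apply_apply]
            simp only [Finset.mem_insert, Finset.mem_singleton, EmbeddingLike.apply_eq_iff_eq,
              Finset.mem_univ, true_and]
            by_cases hmem' : σ.1 q ∈ c.1 <;> simp [hmem', repA, repFour] <;> tauto
          rw [e, Finset.card_pair]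
          simp
        · rintro ⟨hx, hxn, hq⟩
          have hc := (hvals ⟨x, hx⟩ hxn).1.2 hq
          obtain ⟨i, j, hij, -, hi, hj, h0⟩ := pairShape (x := ⟨x, hx⟩) hxn hc
          obtain ⟨k, hk, he⟩ := mono_of_pair (v := ⟨x, hx⟩) hij hi hj h0
          refine ⟨⟨x, hx⟩, ⟨(⟨k, mem_crossStab_iff.2 hk⟩ : crossStab)⁻¹, ?_⟩, rfl⟩
          show k⁻¹ • repA = _
          rw [← he, inv_smul_smul]
      · have e : crossStab ⊓ fixA = Kv :=
          le_antisymm (fun g hg => ⟨hle hg.1, hg.2⟩) (le_inf hKvle inf_le_right)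
        rw [e]
    have h := Subgroup.card_dvd_of_le hle
    rw [hH, hcK] at h
    have h' := Nat.dvd_of_mul_dvd_mul_right Nat.card_pos h
    norm_num at h'
  · have hKvA : Nat.card Kv = Nat.card fixA := by rw [hcKv, hcA, hnall]
    apply Subgroup.eq_top_of_card_eq
    rw [hcK, hKvA, hcG]

end Cfsg.Agent.Golay
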