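import Cfsg.Agent.Golay.McLLinesData
import Cfsg.Agent.Compute.PermRep

/-!
The graph on the 112 lines: every half set of a regular bipartition is one of 648.
-/

set_option autoImplicit false
set_option Elab.async false

namespace Cfsg.Agent.Golay.McLLines

open Cfsg.Agent.Compute

/-! ### Adjacency -/

/-- The neighbour mask of a line. -/
noncomputable def row (i : ℕ) : ℕ := nth 0 adjRows i

/-- Adjacency of lines. -/
noncomputable def adjB (i j : ℕ) : Bool := (row i).testBit j

/-- Adjacency on `Fin 112`. -/
def Adj (i j : Fin 112) : Prop := adjB i j = true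

noncomputable instance : DecidableRel Adj := fun i j => inferInstanceAs (Decidable (adjB i j = true))

/-- A number has exactly `k` bits, removed lowest first. -/
noncomputable def popIs (k : ℕ) : ℕ → Bool :=
  Nat.rec (fun m => Nat.beq m 0)
    (fun _ ih m => !Nat.beq m 0 && ih (Nat.land m (Nat.sub m 1))) k

/-- Removing the lowest bit. -/
theorem exists_low {m : ℕ} (hm : m ≠ 0) : ∃ i, m.testBit i = true ∧
    ∀ w, (m &&& (m - 1)).testBit w = (m.testBit w && decide (w ≠ i)) := by
  obtain ⟨i, r, ⟨q, hq⟩, rfl⟩ := Nat.exists_eq_two_pow_mul_odd hm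
  subst hq
  have hlt : (2 ^ i - 1) < 2 ^ i := Nat.sub_lt (by positivity) one_pos
  have e : 2 ^ i * (2 * q + 1) - 1 = 2 ^ i * (2 * q) + (2 ^ i - 1) := by
    rw [Nat.mul_add, mul_one]; omega
  have hb : ∀ w, (2 ^ i * (2 * q + 1)).testBit w
      = if w < i then false else (2 * q + 1).testBit (w - i) := fun w => by
    have := Nat.testBit_two_pow_mul_add (2 * q + 1) (b := 0) (i := i) (by positivity) w
    simpa using this
  refine ⟨i, by rw [hb]; simp, fun w => ?_⟩
  rw [Nat.testBit_and, hb, e, Nat.testBit_two_pow_mul_add (2 * q) hlt]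
  by_cases hw : w < i
  · simp [hw]
  · rw [if_neg hw, if_neg hw]
    rcases Nat.eq_zero_or_pos (w - i) with h0 | h0
    · have : w = i := by omega
      subst this; simp
    · obtain ⟨k, hk⟩ : ∃ k, w - i = k + 1 := ⟨w - i - 1, by omega⟩
      rw [hk, Nat.testBit_add_one, Nat.testBit_add_one, show (2 * q + 1) / 2 = q by omega,
        show 2 * q / 2 = q by omega, Bool.and_self, decide_eq_true (show w ≠ i by omega),
        Bool.and_true]

theorem popIs_card : ∀ (k m : ℕ), popIs k m = true → m < 2 ^ 112 →
    (Finset.univ.filter fun i : Fin 112 => m.testBit i).card = k := by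
  intro k
  induction k with
  | zero =>
    intro m h _
    rw [Nat.eq_of_beq_eq_true h]
    simp
  | succ k ih =>
    intro m h hm
    have h' : (!Nat.beq m 0 && popIs k (Nat.land m (Nat.sub m 1))) = true := h
    rw [Bool.and_eq_true, Bool.not_eq_true', ← Bool.not_eq_true, Nat.beq_eq] at h'
    obtain ⟨i, hi, hlow⟩ := exists_low h'.1
    have hi112 : i < 112 := by
      by_contra hge
      rw [Nat.testBit_eq_false_of_lt (hm.trans_le (Nat.pow_le_pow_right (by norm_num) (by omega)))] at hi
      exact Bool.false_ne_true hi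
    have hcard := ih (m &&& (m - 1)) h'.2 (lt_of_le_of_lt Nat.and_le_left hm)
    have e : (Finset.univ.filter fun j : Fin 112 => (m &&& (m - 1)).testBit j)
        = (Finset.univ.filter fun j : Fin 112 => m.testBit j).erase ⟨i, hi112⟩ := by
      ext j
      simp [hlow, Fin.ext_iff, and_comm]
    rw [e, Finset.card_erase_of_mem (by simp [hi])] at hcard
    have : 0 < (Finset.univ.filter fun j : Fin 112 => m.testBit j).card :=
      Finset.card_pos.2 ⟨⟨i, hi112⟩, by simp [hi]⟩
    omega

/-- The local conditions of the graph. -/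
noncomputable def graphOK : Bool :=
  allN 112 fun i => !adjB i i && Nat.ble (row i + 1) (2 ^ 112) && popIs 30 (row i) &&
    allN 112 fun j => (adjB i j == adjB j i) &&
      (!Nat.ble (i + 1) j || popIs (bif adjB i j then 2 else 10) (Nat.land (row i) (row j)))

theorem graph_ok : graphOK = true := by decide +kernel

theorem adj_irrefl (i : Fin 112) : ¬ Adj i i := by
  have h := graph_ok
  simp only [graphOK, allN_iff, Bool.and_eq_true, Bool.not_eq_true'] at h
  simp [Adj, (h i i.2).1.1.1]

theorem adj_symm {i j : Fin 112} (hij : Adj i j) : Adj j i := by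
  have h := graph_ok
  simp only [graphOK, allN_iff, Bool.and_eq_true, beq_iff_eq] at h
  have e := ((h i i.2).2 j j.2).1
  unfold Adj at hij ⊢
  rw [← e]; exact hij

theorem row_lt (i : Fin 112) : row i < 2 ^ 112 := by
  have h := graph_ok
  simp only [graphOK, allN_iff, Bool.and_eq_true, Nat.ble_eq] at h
  exact (h i i.2).1.1.2

theorem card_adj (i : Fin 112) : (Finset.univ.filter fun k => Adj i k).card = 30 := by
  have h := graph_ok
  simp only [graphOK, allN_iff, Bool.and_eq_true] at h
  exact popIs_card _ _ (h i i.2).1.2 (row_lt i)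

theorem card_common {i j : Fin 112} (hij : i ≠ j) :
    (Finset.univ.filter fun k => Adj i k ∧ Adj j k).card = if Adj i j then 2 else 10 := by
  have key : ∀ a b : Fin 112, a < b →
      (Finset.univ.filter fun k => Adj a k ∧ Adj b k).card = if Adj a b then 2 else 10 := by
    intro a b hab
    have h := graph_ok
    simp only [graphOK, allN_iff, Bool.and_eq_true, Bool.or_eq_true, Bool.not_eq_true',
      ← Bool.not_eq_true, Nat.ble_eq] at h
    have h' := ((h a a.2).2 b b.2).2.resolve_left (not_not.2 (by omega))
    have hc := popIs_card _ _ h' (lt_of_le_of_lt Nat.and_le_left (row_lt a))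
    have e : (Finset.univ.filter fun k => Adj a k ∧ Adj b k)
        = Finset.univ.filter fun k : Fin 112 => (Nat.land (row a) (row b)).testBit k := by
      ext k
      simp only [Finset.mem_filter, Finset.mem_univ, true_and]
      show adjB a k = true ∧ adjB b k = true ↔ (row a &&& row b).testBit k = true
      rw [Nat.testBit_and, Bool.and_eq_true]
      exact Iff.rfl
    rw [e, hc]
    cases hb : adjB a b <;> simp [Adj, hb]
  rcases lt_or_gt_of_ne hij with h | h
  · exact key i j h
  · have e : Adj i j ↔ Adj j i := ⟨adj_symm, adj_symm⟩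
    rw [if_congr e rfl rfl, ← key j i h]
    congr 1
    ext k
    simp [and_comm]

/-! ### The search -/

/-- A bit. -/
noncomputable def bit (s i : ℕ) : Bool := Nat.beq (Nat.land (Nat.shiftRight s i) 1) 1

theorem bit_eq (s i : ℕ) : bit s i = s.testBit i := by
  have h : Nat.land (Nat.shiftRight s i) 1 = s / 2 ^ i % 2 := by
    show (s >>> i) &&& 1 = _
    rw [Nat.and_one_is_mod, Nat.shiftRight_eq_div_pow]
  rw [bit, h, Nat.testBit_eq_decide_div_mod_eq]
  rcases Nat.mod_two_eq_zero_or_one (s / 2 ^ i) with e | e <;> rw [e] <;> rfl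

/-- No earlier pair is monochrome false. -/
noncomputable def allowF (s : ℕ) (ps : List (ℕ × ℕ × ℕ)) : Bool :=
  List.rec true (fun q _ ih => bif Nat.beq (Nat.land s q.2.2) 0 then false else ih) ps

/-- No earlier pair is monochrome true. -/
noncomputable def allowT (s : ℕ) (ps : List (ℕ × ℕ × ℕ)) : Bool :=
  List.rec true (fun q _ ih => bif Nat.beq (Nat.land s q.2.2) q.2.2 then false else ih) ps

/-- The masks of the four families. -/
noncomputable def famRows : ℕ → List (ℕ × ℕ × ℕ × ℕ) :=
  nth [] [famRows0, famRows1, famRows2, famRows3]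

/-- A mask is in one of the families. -/
noncomputable def isFam (s : ℕ) : Bool :=
  !allN 4 fun i => lall (famRows i) fun e => !Nat.beq e.1 s

/-- A state is one of those after the first steps. -/
noncomputable def isFrontier (s : ℕ) : Bool :=
  !(lall frontier0 (fun t => !Nat.beq t s) && lall frontier1 (fun t => !Nat.beq t s) &&
    lall frontier2 (fun t => !Nat.beq t s) && lall frontier3 (fun t => !Nat.beq t s))

/-- Depth-first search over steps, ending in a test. -/
noncomputable def search (fin : ℕ → Bool) (l : List (ℕ × List (ℕ × ℕ × ℕ))) : ℕ → Bool :=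
  List.rec fin (fun p _ ih s =>
    (bif allowF s p.2 then ih s else true) &&
      (bif allowT s p.2 then ih (Nat.lor s (Nat.shiftLeft 1 p.1)) else true)) l

/-- The lines visited by some steps. -/
noncomputable def doneAfter (l : List (ℕ × List (ℕ × ℕ × ℕ))) : ℕ → ℕ :=
  List.rec (fun done => done) (fun p _ ih done => ih (Nat.lor done (Nat.shiftLeft 1 p.1))) l

/-- The steps are new lines and their pairs are earlier triangles. -/
noncomputable def stepsOK (l : List (ℕ × List (ℕ × ℕ × ℕ))) : ℕ → Bool :=
  List.rec (fun _ => true) (fun p _ ih done =>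
    Nat.ble (p.1 + 1) 112 && !bit done p.1 &&
      lall p.2 (fun q => Nat.ble (q.1 + 1) 112 && Nat.ble (q.2.1 + 1) 112 && bit done q.1 &&
        bit done q.2.1 && adjB p.1 q.1 && adjB p.1 q.2.1 && adjB q.1 q.2.1 &&
        Nat.beq q.2.2 (Nat.lor (Nat.shiftLeft 1 q.1) (Nat.shiftLeft 1 q.2.1))) &&
      ih (Nat.lor done (Nat.shiftLeft 1 p.1))) l

/-! ### Counting -/

section Count

variable {V : Type*} [Fintype V] [DecidableEq V] (A : V → V → Prop) [DecidableRel A]

/-- In a graph with 30 neighbours per point and 2 per edge, a set of half the points meeting the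
neighbourhood of each of its points in ten contains no triangle, nor does its complement. -/
theorem no_mono_triangle (hsym : ∀ x y, A x y → A y x) (hdeg : ∀ x, (Finset.univ.filter (A x)).card = 30)
    (hlam : ∀ x y, A x y → (Finset.univ.filter fun z => A x z ∧ A y z).card = 2)
    (hV : Fintype.card V = 112) (t : V → Bool) (ht : (Finset.univ.filter fun x => t x).card = 56)
    (hten : ∀ x, t x = true → (Finset.univ.filter fun y => A x y ∧ t y).card = 10)
    {a b c : V} (hab : A a b) (hac : A a c) (hbc : A b c) : ¬ (t a = t b ∧ t a = t c) := by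
  classical
  set T : Finset (V × V × V) :=
    Finset.univ.filter fun x => A x.1 x.2.1 ∧ A x.1 x.2.2 ∧ A x.2.1 x.2.2 with hT
  set f : V × V × V → ℕ := fun x => if t x.1 ≠ t x.2.1 then 1 else 0 with hf
  have hpair : ∀ (P : V → V → Prop) [DecidableRel P],
      (T.filter fun x => P x.1 x.2.1).card = ∑ x : V, 2 * (Finset.univ.filter fun y => A x y ∧ P x y).card := by
    intro P _
    have e : T.filter (fun x : V × V × V => P x.1 x.2.1) = (Finset.univ.sigma (fun x : V =>
        (Finset.univ.filter fun y => A x y ∧ P x y).sigma fun y =>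
          Finset.univ.filter fun z => A x z ∧ A y z)).map
        ⟨fun x => (x.1, x.2.1, x.2.2), by rintro ⟨a, b, c⟩ ⟨a', b', c'⟩ h; simp_all⟩ := by
      ext ⟨x, y, z⟩
      simp only [hT, Finset.mem_filter, Finset.mem_univ, true_and, Finset.mem_map,
        Finset.mem_sigma, Function.Embedding.coeFn_mk, Prod.mk.injEq]
      constructor
      · rintro ⟨⟨h1, h2, h3⟩, hP⟩
        exact ⟨⟨x, y, z⟩, ⟨⟨h1, hP⟩, h2, h3⟩, rfl⟩
      · rintro ⟨⟨x', y', z'⟩, ⟨⟨h1, hP⟩, h2, h3⟩, hxyz⟩
        cases hxyz
        exact ⟨⟨h1, h2, h3⟩, hP⟩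
    rw [e, Finset.card_map, Finset.card_sigma]
    refine Finset.sum_congr rfl fun x _ => ?_
    rw [Finset.card_sigma, Finset.sum_congr rfl fun y hy => hlam x y (Finset.mem_filter.1 hy).2.1,
      Finset.sum_const, smul_eq_mul, mul_comm]
  have hTcard : T.card = 6720 := by
    have := hpair (fun _ _ => True)
    simp only [Finset.filter_true, and_true] at this
    rw [this, Finset.sum_congr rfl fun x _ => by rw [hdeg x], Finset.sum_const, Finset.card_univ, hV]
    rfl
  have hbi : (T.filter fun x => t x.1 ≠ t x.2.1).card = 4480 := by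
    rw [hpair fun x y => t x ≠ t y, ← Finset.mul_sum]
    set e : V → ℕ := fun x => (Finset.univ.filter fun y => A x y ∧ t x ≠ t y).card with he
    have h1 : ∀ x, t x = true → e x = 20 := by
      intro x hx
      have hsplit := Finset.card_filter_add_card_filter_not (s := Finset.univ.filter (A x))
        (fun y => t y = true)
      rw [Finset.filter_filter, Finset.filter_filter, hdeg, hten x hx] at hsplit
      have : e x = (Finset.univ.filter fun y => A x y ∧ ¬ t y = true).card := by
        simp only [he]
        congr 1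
        ext y
        simp [hx]
      omega
    have h2 : ∑ x ∈ Finset.univ.filter (fun x => ¬ t x = true), e x
        = ∑ x ∈ Finset.univ.filter (fun x => t x = true), e x := by
      have hb := Finset.sum_card_bipartiteAbove_eq_sum_card_bipartiteBelow (r := fun x y => A x y)
        (s := Finset.univ.filter fun x => ¬ t x = true) (t := Finset.univ.filter fun x => t x = true)
      refine (Finset.sum_congr rfl fun x hx => ?_).trans (hb.trans (Finset.sum_congr rfl fun x hx => ?_))
      · simp only [Finset.mem_filter, Finset.mem_univ, true_and] at hx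
        simp only [he, Finset.bipartiteAbove, Finset.filter_filter]
        congr 1
        ext y
        simp [Bool.eq_false_iff.2 hx, and_comm]
      · simp only [Finset.mem_filter, Finset.mem_univ, true_and] at hx
        simp only [he, Finset.bipartiteBelow, Finset.filter_filter]
        congr 1
        ext y
        simp only [Finset.mem_filter, Finset.mem_univ, true_and, hx]
        constructor
        · rintro ⟨h1, h2⟩
          exact ⟨hsym _ _ h2, fun h => h1 h.symm⟩
        · rintro ⟨h1, h2⟩
          exact ⟨fun h => h2 h.symm, hsym _ _ h1⟩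
    rw [← Finset.sum_filter_add_sum_filter_not Finset.univ (fun x => t x = true) e, h2,
      Finset.sum_congr rfl fun x hx => h1 x (Finset.mem_filter.1 hx).2, Finset.sum_const, ht]
    rfl
  have hsum : ∑ x ∈ T, f x = 4480 := by rw [hf, Finset.sum_boole, hbi]; rfl
  have hrot : ∑ x ∈ T, f (x.2.1, x.2.2, x.1) = 4480 := by
    rw [← hsum]
    refine Finset.sum_nbij' (fun x => (x.2.1, x.2.2, x.1)) (fun x => (x.2.2, x.1, x.2.1)) ?_ ?_
      (fun _ _ => rfl) (fun _ _ => rfl) (fun _ _ => rfl)
    · intro x hx
      simp only [hT, Finset.mem_coe, Finset.mem_filter, Finset.mem_univ, true_and] at hx ⊢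
      exact ⟨hx.2.2, hsym _ _ hx.1, hsym _ _ hx.2.1⟩
    · intro x hx
      simp only [hT, Finset.mem_coe, Finset.mem_filter, Finset.mem_univ, true_and] at hx ⊢
      exact ⟨hsym _ _ hx.2.1, hsym _ _ hx.2.2, hx.1⟩
  have hrot2 : ∑ x ∈ T, f (x.2.2, x.1, x.2.1) = 4480 := by
    rw [← hsum]
    refine Finset.sum_nbij' (fun x => (x.2.2, x.1, x.2.1)) (fun x => (x.2.1, x.2.2, x.1)) ?_ ?_
      (fun _ _ => rfl) (fun _ _ => rfl) (fun _ _ => rfl)
    · intro x hx
      simp only [hT, Finset.mem_coe, Finset.mem_filter, Finset.mem_univ, true_and] at hx ⊢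
      exact ⟨hsym _ _ hx.2.1, hsym _ _ hx.2.2, hx.1⟩
    · intro x hx
      simp only [hT, Finset.mem_coe, Finset.mem_filter, Finset.mem_univ, true_and] at hx ⊢
      exact ⟨hx.2.2, hsym _ _ hx.1, hsym _ _ hx.2.1⟩
  rintro ⟨e1, e2⟩
  have hlt : ∑ x ∈ T, (f x + f (x.2.1, x.2.2, x.1) + f (x.2.2, x.1, x.2.1)) < ∑ x ∈ T, 2 := by
    refine Finset.sum_lt_sum (fun x _ => ?_) ⟨(a, b, c), ?_, ?_⟩
    · simp only [hf]
      cases t x.1 <;> cases t x.2.1 <;> cases t x.2.2 <;> simp
    · simp [hT, hab, hac, hbc]
    · simp [hf, ← e1, ← e2]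
  rw [Finset.sum_add_distrib, Finset.sum_add_distrib, hsum, hrot, hrot2, Finset.sum_const,
    hTcard] at hlt
  simp at hlt

end Count

end Cfsg.Agent.Golay.McLLines
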