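import Cfsg.Agent.Golay.McLLines
import Cfsg.Agent.H95.UFourThreeData

/-!
Kernel checks: U4(3) on the 112 lines, its suborbits and its four families of half sets.
-/

set_option autoImplicit false
set_option Elab.async false

namespace Cfsg.Agent.Golay.McLLines

open Cfsg.Agent.Compute Cfsg.Agent.H95.UFourThree

/-- The far half sets, as masks. -/
noncomputable def farRow (j : ℕ) : ℕ := nth 0 farRows j

/-- The half set of a far point. -/
noncomputable def farSet (j : Fin 162) : Finset (Fin 112) :=
  Finset.univ.filter fun w => (farRow j).testBit w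

/-- A code fixing the base point and equal to a top generator. -/
noncomputable def isTopFix (g : ℕ × ℕ) : Bool :=
  Nat.beq (getP 7 g.1 0) 0 &&
    Option.isSome (lfind (nextGens u43Chain) fun g' => Nat.beq g'.1 g.1)

/-- An orbit tree, checked position by position. -/
noncomputable def treeChk {α : Type} (d : α × ℕ × ℕ) (ng : ℕ) (step : ℕ → α → α → Bool)
    (l : List (α × ℕ × ℕ)) : Bool :=
  allN l.length fun k => Nat.beq k 0 ||
    (Nat.ble ((nth d l k).2.1 + 1) k && Nat.ble ((nth d l k).2.2 + 1) ng &&
      step (nth d l k).2.2 (nth d l (nth d l k).2.1).1 (nth d l k).1)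

theorem treeChk_spec {α : Type} {d : α × ℕ × ℕ} {ng : ℕ} {step : ℕ → α → α → Bool}
    {l : List (α × ℕ × ℕ)} (h : treeChk d ng step l = true) (P : α → Prop)
    (h0 : P (nth d l 0).1) (hstep : ∀ g a b, g < ng → step g a b = true → P a → P b) :
    ∀ k < l.length, P (nth d l k).1 := by
  simp only [treeChk, allN_iff, Bool.or_eq_true, Bool.and_eq_true, Nat.beq_eq, Nat.ble_eq] at h
  intro k
  induction k using Nat.strong_induction_on with
  | _ k ih =>
    intro hk
    rcases h k hk with rfl | ⟨⟨hp, hg⟩, hs⟩
    · exact h0
    · exact hstep _ _ _ hg hs (ih _ hp (lt_trans hp hk))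

/-- A tree of points reaches every point satisfying a test. -/
noncomputable def covers (l : List (ℕ × ℕ × ℕ)) (test : ℕ → Bool) : Bool :=
  allN 112 fun v => !test v || !allN l.length fun k => !Nat.beq (nth (0, 0, 0) l k).1 v

/-- The step of a point tree. -/
noncomputable def pointStep (gs : List (ℕ × ℕ)) (g a b : ℕ) : Bool :=
  Nat.beq (getP 7 (nth (0, 0) gs g).1 a) b

/-- Every top generator preserves adjacency. -/
noncomputable def gensAdjOK : Bool :=
  lall (nextGens u43Chain) fun g => allN 112 fun i => allN 112 fun j =>
    adjB (getP 7 g.1 i) (getP 7 g.1 j) == adjB i j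

/-- The second-level generators. -/
noncomputable def fixGens : List (ℕ × ℕ) := u43Lv1.gens

/-- The three point trees. -/
noncomputable def treesOK : Bool :=
  lall fixGens isTopFix &&
  treeChk (0, 0, 0) (nextGens u43Chain).length (pointStep (nextGens u43Chain)) allTree &&
  Nat.beq (nth (0, 0, 0) allTree 0).1 0 && covers allTree (fun _ => true) &&
  treeChk (0, 0, 0) fixGens.length (pointStep fixGens) nearTree &&
  covers nearTree (fun v => adjB 0 v) && Nat.ble ((nth (0, 0, 0) nearTree 0).1 + 1) 112 &&
  treeChk (0, 0, 0) fixGens.length (pointStep fixGens) farTree &&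
  covers farTree (fun v => !Nat.beq v 0 && !adjB 0 v) &&
  Nat.ble ((nth (0, 0, 0) farTree 0).1 + 1) 112

/-- The rows of a family as a tree of masks. -/
noncomputable def famTree (i : ℕ) : List (ℕ × ℕ × ℕ) :=
  (famRows i).map fun e => (e.1, e.2.1, e.2.2.1)

/-- A mask is moved to another by a permutation code. -/
noncomputable def maskMap (g a b : ℕ) : Bool :=
  allN 112 fun w => bit b (getP 7 g w) == bit a w

/-- The image index of an entry. -/
noncomputable def famImg (i k : ℕ) : ℕ := (nth (0, 0, 0, 0) (famRows i) k).2.2.2

/-- One family. -/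
noncomputable def famOK (i : ℕ) : Bool :=
  Nat.beq (famRows i).length 162 &&
  treeChk (0, 0, 0) (nextGens u43Chain).length
    (fun g a b => maskMap (nth (0, 0) (nextGens u43Chain) g).1 a b) (famTree i) &&
  (allN 112 fun v => Nat.ble (getP 7 (nth 0 famPerms i) v + 1) 112 && allN 112 fun w =>
    (adjB (getP 7 (nth 0 famPerms i) v) (getP 7 (nth 0 famPerms i) w) == adjB v w) &&
      (Nat.beq v w || !Nat.beq (getP 7 (nth 0 famPerms i) v) (getP 7 (nth 0 famPerms i) w))) &&
  (allN 162 fun k => Nat.ble (famImg i k + 1) 162 &&
    maskMap (nth 0 famPerms i) (nth (0, 0, 0, 0) (famRows i) k).1 (farRow (famImg i k))) &&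
  distinct ((famRows i).map fun e => e.2.2.2) 0

/-- The element of order five. -/
noncomputable def fiveOK : Bool :=
  invPerm 7 112 fiveCode (mulPerm 7 112 (mulPerm 7 112 fiveCode fiveCode)
      (mulPerm 7 112 fiveCode fiveCode)) &&
  sift (permOps 7 112) u43Chain fiveCode && !Nat.beq fiveCode (onePerm 7 112) &&
  !allN 112 (fun v => allN 112 fun w => !(Nat.ble (v + 1) w &&
    allN 112 fun z => Nat.beq (getP 7 fiveCode z) z == (Nat.beq z v || Nat.beq z w)))

/-- Two far half sets share twenty or thirty-two lines, twenty for 56 partners of each. -/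
noncomputable def farOK : Bool :=
  allN 162 fun j => popIs 56 (farRow j) && Nat.ble (farRow j + 1) (2 ^ 112) &&
    allN 162 fun k => Nat.ble k j ||
      popIs 20 (Nat.land (farRow j) (farRow k)) || popIs 32 (Nat.land (farRow j) (farRow k))

theorem gens_adj_ok : gensAdjOK = true := by decide +kernel
theorem trees_ok : treesOK = true := by decide +kernel
theorem fam_ok_0 : famOK 0 = true := by decide +kernel
theorem fam_ok_1 : famOK 1 = true := by decide +kernel
theorem fam_ok_2 : famOK 2 = true := by decide +kernel
theorem fam_ok_3 : famOK 3 = true := by decide +kernel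
theorem five_ok : fiveOK = true := by decide +kernel
theorem far_ok : farOK = true := by decide +kernel

end Cfsg.Agent.Golay.McLLines
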