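import Cfsg.Agent.Golay.McLSearchCheck

/-!
Every half set of a regular bipartition of the lines is listed.
-/

set_option autoImplicit false
set_option Elab.async false

namespace Cfsg.Agent.Golay.McLLines

open Cfsg.Agent.Compute

lemma testBit_lor_single (s v w : ℕ) :
    (Nat.lor s (Nat.shiftLeft 1 v)).testBit w = (s.testBit w || decide (v = w)) := by
  show (s ||| (1 <<< v)).testBit w = _
  rw [Nat.testBit_or, Nat.one_shiftLeft, Nat.testBit_two_pow]

lemma testBit_pair (a b w : ℕ) :
    (Nat.lor (Nat.shiftLeft 1 a) (Nat.shiftLeft 1 b)).testBit w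
      = (decide (a = w) || decide (b = w)) := by
  show ((1 <<< a) ||| (1 <<< b)).testBit w = _
  rw [Nat.testBit_or, Nat.one_shiftLeft, Nat.one_shiftLeft, Nat.testBit_two_pow, Nat.testBit_two_pow]

lemma allowF_of {s : ℕ} : ∀ {ps : List (ℕ × ℕ × ℕ)},
    (∀ q ∈ ps, Nat.land s q.2.2 ≠ 0) → allowF s ps = true
  | [], _ => rfl
  | q :: t, h => by
    have e : allowF s (q :: t) = bif Nat.beq (Nat.land s q.2.2) 0 then false else allowF s t := rfl
    rw [e, Bool.eq_false_iff.2 (fun he => h q List.mem_cons_self (Nat.eq_of_beq_eq_true he)),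
      cond_false]
    exact allowF_of fun q' hq' => h q' (List.mem_cons_of_mem _ hq')

lemma allowT_of {s : ℕ} : ∀ {ps : List (ℕ × ℕ × ℕ)},
    (∀ q ∈ ps, Nat.land s q.2.2 ≠ q.2.2) → allowT s ps = true
  | [], _ => rfl
  | q :: t, h => by
    have e : allowT s (q :: t)
        = bif Nat.beq (Nat.land s q.2.2) q.2.2 then false else allowT s t := rfl
    rw [e, Bool.eq_false_iff.2 (fun he => h q List.mem_cons_self (Nat.eq_of_beq_eq_true he)),
      cond_false]
    exact allowT_of fun q' hq' => h q' (List.mem_cons_of_mem _ hq')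

/-- Soundness of the search. -/
theorem search_sound (fin : ℕ → Bool) (t : ℕ → Bool)
    (ht : ∀ a b c : Fin 112, Adj a b → Adj a c → Adj b c → ¬ (t a = t b ∧ t a = t c)) :
    ∀ (l : List (ℕ × List (ℕ × ℕ × ℕ))) (done s : ℕ), stepsOK l done = true →
      search fin l s = true → (∀ w, s.testBit w = (done.testBit w && t w)) →
      ∃ r, fin r = true ∧ ∀ w, r.testBit w = ((doneAfter l done).testBit w && t w) := by
  intro l
  induction l with
  | nil =>
    intro done s _ hr hinv
    exact ⟨s, hr, hinv⟩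
  | cons p rest ih =>
    intro done s hs hr hinv
    have hs' : (Nat.ble (p.1 + 1) 112 && !bit done p.1 &&
      lall p.2 (fun q => Nat.ble (q.1 + 1) 112 && Nat.ble (q.2.1 + 1) 112 && bit done q.1 &&
        bit done q.2.1 && adjB p.1 q.1 && adjB p.1 q.2.1 && adjB q.1 q.2.1 &&
        Nat.beq q.2.2 (Nat.lor (Nat.shiftLeft 1 q.1) (Nat.shiftLeft 1 q.2.1))) &&
      stepsOK rest (Nat.lor done (Nat.shiftLeft 1 p.1))) = true := hs
    simp only [Bool.and_eq_true, Nat.ble_eq, lall_iff, Bool.not_eq_true', bit_eq, Nat.beq_eq] at hs'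
    obtain ⟨⟨⟨hv, hfresh⟩, hps⟩, hnext⟩ := hs'
    have hno : ∀ q ∈ p.2, ¬ (t p.1 = t q.1 ∧ t p.1 = t q.2.1) := fun q hq => by
      obtain ⟨⟨⟨⟨⟨⟨⟨ha, hb⟩, -⟩, -⟩, h1⟩, h2⟩, h3⟩, -⟩ := hps q hq
      exact ht ⟨p.1, hv⟩ ⟨q.1, ha⟩ ⟨q.2.1, hb⟩ h1 h2 h3
    have hr' : ((bif allowF s p.2 then search fin rest s else true) &&
      (bif allowT s p.2 then search fin rest (Nat.lor s (Nat.shiftLeft 1 p.1)) else true)) = true :=
      hr
    rw [Bool.and_eq_true] at hr'
    cases htp : t p.1
    · have hal : allowF s p.2 = true := by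
        refine allowF_of fun q hq h0 => ?_
        obtain ⟨⟨⟨⟨⟨⟨-, hda⟩, hdb⟩, -⟩, -⟩, -⟩, hm⟩ := hps q hq
        refine hno q hq ⟨?_, ?_⟩
        all_goals rw [htp]; symm
        · have := congrArg (fun n => Nat.testBit n q.1) h0
          simp only [Nat.land, hm] at this
          change (s &&& Nat.lor (Nat.shiftLeft 1 q.1) (Nat.shiftLeft 1 q.2.1)).testBit q.1
            = Nat.testBit 0 q.1 at this
          rw [Nat.testBit_and, hinv, testBit_pair, hda, Nat.zero_testBit] at this
          simpa using this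
        · have := congrArg (fun n => Nat.testBit n q.2.1) h0
          simp only [Nat.land, hm] at this
          change (s &&& Nat.lor (Nat.shiftLeft 1 q.1) (Nat.shiftLeft 1 q.2.1)).testBit q.2.1
            = Nat.testBit 0 q.2.1 at this
          rw [Nat.testBit_and, hinv, testBit_pair, hdb, Nat.zero_testBit] at this
          simpa using this
      rw [hal, cond_true] at hr'
      refine ih _ s hnext hr'.1 fun w => ?_
      rw [hinv, testBit_lor_single]
      by_cases hw : p.1 = w
      · subst hw; simp [htp]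
      · simp [hw]
    · have hal : allowT s p.2 = true := by
        refine allowT_of fun q hq h0 => ?_
        obtain ⟨⟨⟨⟨⟨⟨-, hda⟩, hdb⟩, -⟩, -⟩, -⟩, hm⟩ := hps q hq
        refine hno q hq ⟨?_, ?_⟩
        all_goals rw [htp]; symm
        · have := congrArg (fun n => Nat.testBit n q.1) h0
          simp only [hm] at this
          change (s &&& Nat.lor (Nat.shiftLeft 1 q.1) (Nat.shiftLeft 1 q.2.1)).testBit q.1
            = (Nat.lor (Nat.shiftLeft 1 q.1) (Nat.shiftLeft 1 q.2.1)).testBit q.1 at this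
          rw [Nat.testBit_and, hinv, testBit_pair, hda] at this
          simpa using this
        · have := congrArg (fun n => Nat.testBit n q.2.1) h0
          simp only [hm] at this
          change (s &&& Nat.lor (Nat.shiftLeft 1 q.1) (Nat.shiftLeft 1 q.2.1)).testBit q.2.1
            = (Nat.lor (Nat.shiftLeft 1 q.1) (Nat.shiftLeft 1 q.2.1)).testBit q.2.1 at this
          rw [Nat.testBit_and, hinv, testBit_pair, hdb] at this
          simpa using this
      rw [hal, cond_true] at hr'
      refine ih _ _ hnext hr'.2 fun w => ?_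
      rw [testBit_lor_single, hinv, testBit_lor_single]
      by_cases hw : p.1 = w
      · subst hw; simp [htp]
      · simp [hw]

/-- A half set of a regular bipartition is one of the listed masks. -/
theorem exists_fam (S : Finset (Fin 112)) (hS : S.card = 56)
    (hten : ∀ x ∈ S, (S.filter fun y => Adj x y).card = 10) :
    ∃ i < 4, ∃ e ∈ famRows i, ∀ w : Fin 112, e.1.testBit w = decide (w ∈ S) := by
  classical
  set t : ℕ → Bool := fun w => decide (∃ h : w < 112, (⟨w, h⟩ : Fin 112) ∈ S) with ht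
  have htS : ∀ w : Fin 112, t w = decide (w ∈ S) := fun w => by simp [ht]
  have hmono := fun a b c => no_mono_triangle Adj (fun _ _ => adj_symm) card_adj
    (fun x y h => by
      rw [card_common (fun e : x = y => adj_irrefl x (e ▸ h)), if_pos h])
    (Fintype.card_fin 112) (fun x : Fin 112 => t x) (by simp [htS, hS])
    (fun x hx => by
      simp only [htS, decide_eq_true_eq] at hx ⊢
      rw [← hten x hx]
      congr 1
      ext y
      simp [and_comm]) (a := a) (b := b) (c := c)
  have hsteps := steps_ok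
  simp only [Bool.and_eq_true, Nat.beq_eq] at hsteps
  obtain ⟨⟨hh, htl⟩, hfull⟩ := hsteps
  obtain ⟨r₁, hr₁, hr₁t⟩ := search_sound isFrontier t hmono stepsHead 0 0 hh head_ok
    (fun w => by simp)
  have hr₁' : search isFam stepsTail r₁ = true := by
    simp only [isFrontier, Bool.not_eq_true', Bool.eq_false_iff, ne_eq, Bool.and_eq_true,
      lall_iff] at hr₁
    by_contra hne
    refine hr₁ ⟨⟨⟨?_, ?_⟩, ?_⟩, ?_⟩ <;> intro u hu <;> rw [Nat.beq_eq] <;> rintro rfl
    exacts [hne ((lall_iff _ _).1 tail_ok_0 _ hu), hne ((lall_iff _ _).1 tail_ok_1 _ hu),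
      hne ((lall_iff _ _).1 tail_ok_2 _ hu), hne ((lall_iff _ _).1 tail_ok_3 _ hu)]
  obtain ⟨r, hr, hrt'⟩ := search_sound isFam t hmono stepsTail _ r₁ htl hr₁' hr₁t
  have hrt : ∀ w < 112, r.testBit w = t w := fun w hw => by
    rw [hrt', hfull, Nat.testBit_two_pow_sub_one, decide_eq_true hw, Bool.true_and]
  simp only [isFam, Bool.not_eq_true', Bool.eq_false_iff, ne_eq, allN_iff, lall_iff] at hr
  push Not at hr
  obtain ⟨i, hi, e, he, hne⟩ := hr
  have her : e.1 = r := by simpa using hne
  exact ⟨i, hi, e, he, fun w => by rw [her, hrt w w.2, htS]⟩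

end Cfsg.Agent.Golay.McLLines
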