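import Cfsg.Agent.Golay.McLLinesChecks
import Cfsg.Agent.Golay.McLSearch
import Cfsg.Agent.H95.UFourThree

/-!
U4(3) on the 112 lines: every subgroup of index 112 fixes a line, invariant graphs, half sets.
-/

set_option autoImplicit false

namespace Cfsg.Agent.Golay.McLLines

open Cfsg.Agent.Compute Cfsg.Agent.H95.UFourThree

attribute [local irreducible] checkChain treeChk covers famOK invPerm mulPerm sift onePerm permDen u43Chain fiveCode

/-- The group on the lines. -/
noncomputable abbrev K : Subgroup (Equiv.Perm (Fin 112)) := chainGrp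

theorem chain_meaning : Meaning (permSound 7 112 two_pow_seven) u43Chain :=
  checkChain_sound _ chain_ok

theorem card_K : Nat.card K = 3265920 := card_chainGrp

lemma perm_apply_inv {α : Type*} (f : Equiv.Perm α) (x : α) : f (f⁻¹ x) = x := f.apply_symm_apply x

lemma perm_inv_apply {α : Type*} (f : Equiv.Perm α) (x : α) : f⁻¹ (f x) = x := f.symm_apply_apply x

/-- The permutation of a top generator. -/
noncomputable def topPerm (g : ℕ) : Equiv.Perm (Fin 112) :=
  permDen 7 112 (nth (0, 0) (nextGens u43Chain) g).1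

theorem topPerm_spec {g : ℕ} (hg : g < (nextGens u43Chain).length) :
    topPerm g ∈ K ∧
      ∀ i : Fin 112, (topPerm g i : ℕ) = getP 7 (nth (0, 0) (nextGens u43Chain) g).1 i :=
  ⟨gens_mem (permSound 7 112 two_pow_seven) u43Chain (nth_mem _ _ _ hg),
    fun i => permDen_apply (chain_meaning.gens_ok _ (nth_mem _ _ _ hg)) i⟩

theorem adj_perm {x : Equiv.Perm (Fin 112)} (hx : x ∈ K) (i j : Fin 112) :
    Adj (x i) (x j) ↔ Adj i j := by
  revert i j
  rw [K, chainGrp, Sound.grp] at hx
  induction hx using Subgroup.closure_induction with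
  | mem y hy =>
    obtain ⟨a, ⟨g, hg, rfl⟩, rfl⟩ := hy
    intro i j
    have h := gens_adj_ok
    simp only [gensAdjOK, lall_iff, allN_iff, beq_iff_eq] at h
    have e : ∀ i : Fin 112, ((permSound 7 112 two_pow_seven).den g.1 i : ℕ) = getP 7 g.1 i :=
      permDen_apply (chain_meaning.gens_ok g hg)
    unfold Adj
    rw [e, e, h g hg i i.2 j j.2]
  | one => simp
  | mul a b _ _ iha ihb => intro i j; exact (iha (b i) (b j)).trans (ihb i j)
  | inv a _ iha =>
    intro i j
    rw [← iha, perm_apply_inv, perm_apply_inv]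

/-- What a point tree gives. -/
theorem point_tree {gs : List (ℕ × ℕ)} {l : List (ℕ × ℕ × ℕ)}
    (h : treeChk (0, 0, 0) gs.length (pointStep gs) l = true) {test : ℕ → Bool}
    (hc : covers l test = true) (H : Subgroup (Equiv.Perm (Fin 112)))
    (hgs : ∀ g ∈ gs, ∃ x ∈ H, ∀ i : Fin 112, (x i : ℕ) = getP 7 g.1 i)
    (r : Fin 112) (hr : (nth (0, 0, 0) l 0).1 = r) (v : Fin 112) (hv : test v = true) :
    ∃ x ∈ H, x r = v := by
  have key := treeChk_spec h (fun a => ∃ x ∈ H, (x r : ℕ) = a) ⟨1, one_mem _, by simp [hr]⟩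
    fun g a b hg hs ⟨x, hx, hxa⟩ => by
      obtain ⟨y, hy, hya⟩ := hgs _ (nth_mem (0, 0) gs g hg)
      refine ⟨y * x, mul_mem hy hx, ?_⟩
      rw [Equiv.Perm.mul_apply, hya, hxa]
      exact Nat.eq_of_beq_eq_true hs
  unfold covers at hc
  simp only [allN_iff, Bool.or_eq_true, Bool.not_eq_true'] at hc
  rcases hc v v.2 with h' | h'
  · rw [hv] at h'; exact absurd h' (by decide)
  · rw [← Bool.not_eq_true, allN_iff] at h'
    push Not at h'
    obtain ⟨k, hk, hkv⟩ := h'
    simp only [ne_eq, Bool.not_eq_true, Bool.not_eq_false', Nat.beq_eq] at hkv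
    obtain ⟨x, hx, hxv⟩ := key k hk
    exact ⟨x, hx, Fin.ext (hxv.trans hkv)⟩

theorem trans_K (L : Fin 112) : ∃ x ∈ K, x 0 = L := by
  have h := trees_ok
  simp only [treesOK, Bool.and_eq_true, Nat.beq_eq, lall_iff, Nat.ble_eq] at h
  obtain ⟨⟨⟨⟨⟨⟨⟨⟨⟨-, h1⟩, h2⟩, h3⟩, -⟩, -⟩, -⟩, -⟩, -⟩, -⟩ := h
  exact point_tree h1 h3 K (fun g hg => ⟨_, gens_mem (permSound 7 112 two_pow_seven) u43Chain hg,
    fun i => permDen_apply (chain_meaning.gens_ok _ hg) i⟩) 0 h2 L rfl

theorem fix_gens {g : ℕ × ℕ} (hg : g ∈ fixGens) :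
    ∃ x ∈ K ⊓ MulAction.stabilizer (Equiv.Perm (Fin 112)) (0 : Fin 112),
      ∀ i : Fin 112, (x i : ℕ) = getP 7 g.1 i := by
  have h := trees_ok
  simp only [treesOK, Bool.and_eq_true, lall_iff] at h
  have hg' := h.1.1.1.1.1.1.1.1.1 g hg
  simp only [isTopFix, Bool.and_eq_true, Nat.beq_eq] at hg'
  obtain ⟨g', hg1⟩ := Option.isSome_iff_exists.1 hg'.2
  obtain ⟨hm, he⟩ := lfind_some hg1
  rw [Nat.beq_eq] at he
  have ha := fun i : Fin 112 => permDen_apply (chain_meaning.gens_ok _ hm) i
  refine ⟨_, Subgroup.mem_inf.2 ⟨gens_mem (permSound 7 112 two_pow_seven) u43Chain hm, ?_⟩,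
    fun i => by rw [← he]; exact ha i⟩
  rw [MulAction.mem_stabilizer_iff]
  refine Fin.ext ?_
  show (permDen 7 112 g'.1 (0 : Fin 112) : ℕ) = _
  rw [ha, he]
  exact hg'.1

theorem suborbit_zero {v w : Fin 112} (hv : v ≠ 0) (hw : w ≠ 0) (h : Adj 0 v ↔ Adj 0 w) :
    ∃ x ∈ K, x 0 = 0 ∧ x v = w := by
  have ht := trees_ok
  simp only [treesOK, Bool.and_eq_true, Nat.beq_eq, Nat.ble_eq] at ht
  obtain ⟨⟨⟨⟨⟨⟨⟨⟨⟨-, -⟩, -⟩, -⟩, hn1⟩, hn2⟩, hnr⟩, hf1⟩, hf2⟩, hfr⟩ := ht
  set H := K ⊓ MulAction.stabilizer (Equiv.Perm (Fin 112)) (0 : Fin 112)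
  have mk : ∀ {r : Fin 112}, (∃ x ∈ H, x r = v) → (∃ x ∈ H, x r = w) →
      ∃ x ∈ K, x 0 = 0 ∧ x v = w := by
    rintro r ⟨x, hx, hxv⟩ ⟨y, hy, hyw⟩
    obtain ⟨h1, h2⟩ := Subgroup.mem_inf.1 (mul_mem hy (inv_mem hx))
    refine ⟨y * x⁻¹, h1, h2, ?_⟩
    rw [Equiv.Perm.mul_apply, ← hxv, perm_inv_apply, hyw]
  by_cases ha : Adj 0 v
  · exact mk (point_tree hn1 hn2 H (fun g => fix_gens) ⟨_, hnr⟩ rfl v ha)
      (point_tree hn1 hn2 H (fun g => fix_gens) ⟨_, hnr⟩ rfl w (h.1 ha))
  · have t : ∀ u : Fin 112, u ≠ 0 → ¬ Adj 0 u → (!Nat.beq u 0 && !adjB 0 u) = true := by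
      intro u hu ha'
      rw [Bool.and_eq_true, Bool.not_eq_true', Bool.not_eq_true', ← Bool.not_eq_true, Nat.beq_eq]
      exact ⟨fun e => hu (Fin.ext e), Bool.eq_false_iff.2 ha'⟩
    exact mk (point_tree hf1 hf2 H (fun g => fix_gens) ⟨_, hfr⟩ rfl v (t v hv ha))
      (point_tree hf1 hf2 H (fun g => fix_gens) ⟨_, hfr⟩ rfl w (t w hw (fun e => ha (h.2 e))))

/-- A line stabiliser is transitive on the neighbours and on the other lines. -/
theorem suborbit {L v w : Fin 112} (hv : v ≠ L) (hw : w ≠ L) (h : Adj L v ↔ Adj L w) :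
    ∃ x ∈ K, x L = L ∧ x v = w := by
  obtain ⟨t, ht, ht0⟩ := trans_K L
  have e : ∀ u, Adj 0 (t⁻¹ u) ↔ Adj L u := fun u => by
    rw [← adj_perm ht 0 (t⁻¹ u), ht0, perm_apply_inv]
  have ne : ∀ u, u ≠ L → t⁻¹ u ≠ 0 := fun u hu he => hu (by
    rw [← ht0, ← he, perm_apply_inv])
  obtain ⟨x, hx, hx0, hxv⟩ := suborbit_zero (ne v hv) (ne w hw) ((e v).trans (h.trans (e w).symm))
  refine ⟨t * x * t⁻¹, mul_mem (mul_mem ht hx) (inv_mem ht), ?_, ?_⟩
  · have : t⁻¹ L = 0 := by rw [← ht0, perm_inv_apply]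
    rw [Equiv.Perm.mul_apply, Equiv.Perm.mul_apply, this, hx0, ht0]
  · rw [Equiv.Perm.mul_apply, Equiv.Perm.mul_apply, hxv, perm_apply_inv]

theorem card_near (L : Fin 112) : {w | Adj L w}.ncard = 30 := by
  rw [Set.ncard_eq_toFinset_card', Set.toFinset_ofPred]
  exact card_adj L

theorem card_far (L : Fin 112) : {w | w ≠ L ∧ ¬ Adj L w}.ncard = 81 := by
  classical
  rw [Set.ncard_eq_toFinset_card', Set.toFinset_ofPred]
  have h := Finset.card_filter_add_card_filter_not (s := Finset.univ.erase L) (fun w => Adj L w)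
  rw [Finset.card_erase_of_mem (Finset.mem_univ _), Finset.card_univ, Fintype.card_fin,
    Finset.filter_erase, Finset.erase_eq_of_notMem (by simpa using adj_irrefl L), card_adj] at h
  have e : (Finset.univ.filter fun w => w ≠ L ∧ ¬ Adj L w)
      = (Finset.univ.erase L).filter fun w => ¬ Adj L w := by
    ext w; simp
  rw [e]
  omega

theorem card_stab (L : Fin 112) : Nat.card (MulAction.stabilizer K L) = 29160 := by
  have h := Nat.card_congr (MulAction.orbitProdStabilizerEquivGroup K L)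
  rw [Nat.card_prod, card_K, show MulAction.orbit K L = Set.univ from Set.eq_univ_iff_forall.2
    fun v => by
      obtain ⟨a, ha, ha0⟩ := trans_K L
      obtain ⟨b, hb, hb0⟩ := trans_K v
      exact ⟨⟨b * a⁻¹, mul_mem hb (inv_mem ha)⟩, by
        show (b * a⁻¹) L = v
        rw [Equiv.Perm.mul_apply, ← ha0, perm_inv_apply, hb0]⟩,
    Nat.card_coe_set_eq, Set.ncard_univ, Nat.card_eq_fintype_card, Fintype.card_fin] at h
  omega

/-- The elements fixing two given lines. -/
theorem card_stab_pair {L v : Fin 112} (hv : v ≠ L) :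
    Nat.card ↥(MulAction.stabilizer K L ⊓ MulAction.stabilizer K v) =
      if Adj L v then 972 else 360 := by
  classical
  have horb : MulAction.orbit (MulAction.stabilizer K L) v = {w | w ≠ L ∧ (Adj L v ↔ Adj L w)} := by
    ext w
    constructor
    · rintro ⟨⟨⟨x, hx⟩, hxL⟩, rfl⟩
      have hxL' : x L = L := hxL
      refine ⟨fun e => hv (x.injective ((show x v = L from e).trans hxL'.symm)), ?_⟩
      show Adj L v ↔ Adj L (x v)
      conv_rhs => rw [← hxL']
      exact (adj_perm hx L v).symm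
    · rintro ⟨hw, he⟩
      obtain ⟨x, hx, hxL, hxv⟩ := suborbit hv hw he
      exact ⟨⟨⟨x, hx⟩, hxL⟩, hxv⟩
  have h := Nat.card_congr (MulAction.orbitProdStabilizerEquivGroup (MulAction.stabilizer K L) v)
  rw [Nat.card_prod, card_stab, horb, Nat.card_coe_set_eq] at h
  have e : Nat.card ↥(MulAction.stabilizer K L ⊓ MulAction.stabilizer K v)
      = Nat.card (MulAction.stabilizer (MulAction.stabilizer K L) v) :=
    Nat.card_congr
      { toFun := fun x => ⟨⟨x.1, x.2.1⟩, x.2.2⟩
        invFun := fun x => ⟨x.1.1, x.1.2, x.2⟩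
        left_inv := fun _ => rfl
        right_inv := fun _ => rfl }
  rw [e]
  by_cases ha : Adj L v
  · have : {w | w ≠ L ∧ (Adj L v ↔ Adj L w)} = {w | Adj L w} := by
      ext w
      simp only [ha, true_iff, Set.mem_ofPred_eq, and_iff_right_iff_imp]
      exact fun hw e => adj_irrefl L (e ▸ hw)
    rw [this, card_near] at h
    rw [if_pos ha]; omega
  · have : {w | w ≠ L ∧ (Adj L v ↔ Adj L w)} = {w | w ≠ L ∧ ¬ Adj L w} := by
      ext w; simp [ha]
    rw [this, card_far] at h
    rw [if_neg ha]; omega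

/-- The element of order five fixes exactly two lines. -/
theorem exists_five : ∃ x : K, orderOf x = 5 ∧ {v : Fin 112 | x • v = v}.ncard = 2 := by
  classical
  have h := five_ok
  simp only [fiveOK, Bool.and_eq_true, Bool.not_eq_true'] at h
  obtain ⟨⟨⟨hinv, hsift⟩, hne⟩, hfix⟩ := h
  let S := permSound 7 112 two_pow_seven
  obtain ⟨ha, -, hden⟩ := S.okInv_sound hinv
  have hmem : permDen 7 112 fiveCode ∈ K := (chain_meaning.sift_iff _ ha).1 hsift
  rw [show mulPerm 7 112 = (permOps 7 112).mul from rfl,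
    S.den_mul (S.ok_mul ha ha) (S.ok_mul ha ha), S.den_mul ha ha] at hden
  set σ := permDen 7 112 fiveCode with hσ
  have hden' : σ * σ * (σ * σ) = σ⁻¹ := hden
  have h5 : σ ^ 5 = 1 := by
    rw [pow_succ', show σ ^ 4 = σ * σ * (σ * σ) by simp [pow_succ, mul_assoc], hden', mul_inv_cancel]
  have h1 : σ ≠ 1 := fun e => by
    have := permOK_ext ha S.ok_one (e.trans S.den_one.symm)
    rw [← Bool.not_eq_true, Nat.beq_eq] at hne
    exact hne this
  refine ⟨⟨σ, hmem⟩, orderOf_eq_prime (hp := ⟨Nat.prime_five⟩) (Subtype.ext h5)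
    (fun e => h1 (congrArg Subtype.val e)), ?_⟩
  rw [← Bool.not_eq_true, allN_iff] at hfix
  push Not at hfix
  obtain ⟨v, hv, hv'⟩ := hfix
  rw [ne_eq, allN_iff] at hv'
  push Not at hv'
  obtain ⟨w, hw, hw'⟩ := hv'
  simp only [ne_eq, Bool.not_eq_true, Bool.not_eq_false', Bool.and_eq_true, allN_iff, Nat.ble_eq,
    beq_iff_eq] at hw'
  have e : {z : Fin 112 | (⟨σ, hmem⟩ : K) • z = z} = {(⟨v, hv⟩ : Fin 112), ⟨w, hw⟩} := by
    ext z
    have hz := hw'.2 z z.2
    rw [Bool.eq_iff_iff, Bool.or_eq_true, Nat.beq_eq, Nat.beq_eq, Nat.beq_eq, ← permDen_apply ha] at hz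
    simp only [Set.mem_ofPred_eq, Set.mem_insert_iff, Set.mem_singleton_iff, Fin.ext_iff,
      Subgroup.smul_def, Equiv.Perm.smul_def]
    exact hz
  rw [e, Set.ncard_pair]
  intro e'
  have := congrArg Fin.val e'
  simp only at this
  omega

/-- An element of order five fixes at most two lines. -/
theorem fixed_five {y : K} (hy : orderOf y = 5) : {v : Fin 112 | y • v = v}.ncard ≤ 2 := by
  obtain ⟨x, hx, hfix⟩ := exists_five
  haveI : Fact (Nat.Prime 5) := ⟨Nat.prime_five⟩
  have hc : ∀ z : K, orderOf z = 5 → Nat.card (Subgroup.zpowers z)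
      = 5 ^ (Nat.card K).factorization 5 := fun z hz => by
    rw [Nat.card_zpowers, hz, card_K, show (3265920 : ℕ) = 5 * 653184 from rfl,
      Nat.factorization_mul (by norm_num) (by norm_num), Finsupp.add_apply,
      Nat.Prime.factorization_self Nat.prime_five, Nat.factorization_eq_zero_of_not_dvd (by norm_num)]
    rfl
  obtain ⟨g, hg⟩ := MulAction.exists_smul_eq K (Sylow.ofCard _ (hc x hx)) (Sylow.ofCard _ (hc y hy))
  have hmem : g * x * g⁻¹ ∈ Subgroup.zpowers y := by
    have : g * x * g⁻¹ ∈ ((g • Sylow.ofCard _ (hc x hx) : Sylow 5 K) : Subgroup K) := by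
      rw [Sylow.coe_subgroup_smul, Subgroup.mem_pointwise_smul_iff_inv_smul_mem,
        MulAut.smul_def]
      simp [mul_assoc]
    rw [hg] at this
    simpa using this
  obtain ⟨n, hn⟩ := hmem
  rw [← hfix]
  refine Set.ncard_le_ncard_of_injOn (fun v => g⁻¹ • v) (fun v hv => ?_)
    ((MulAction.injective g⁻¹).injOn) (Set.toFinite _)
  have hv' : y • v = v := hv
  have h1 : y ^ n • v = v :=
    MulAction.mem_stabilizer_iff.1 (zpow_mem (MulAction.mem_stabilizer_iff.2 hv') n)
  rw [show y ^ n = g * x * g⁻¹ from hn, mul_smul, mul_smul, smul_eq_iff_eq_inv_smul] at h1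
  exact h1

/-- A subgroup of order 29160 fixes a line. -/
theorem exists_fixed (H : Subgroup K) (hH : Nat.card H = 29160) :
    ∃ L : Fin 112, H = MulAction.stabilizer K L := by
  classical
  haveI : Fact (Nat.Prime 3) := ⟨Nat.prime_three⟩
  obtain ⟨P, hP⟩ := Sylow.exists_subgroup_card_pow_prime (G := H) 3 (n := 6) (by rw [hH]; norm_num)
  have hPg : IsPGroup 3 P := IsPGroup.of_card hP
  obtain ⟨L, hL⟩ := hPg.nonempty_fixed_point_of_prime_not_dvd_card (Fin 112)
    (by rw [Nat.card_eq_fintype_card, Fintype.card_fin]; norm_num)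
  refine ⟨L, ?_⟩
  set O : Set (Fin 112) := MulAction.orbit H L with hO
  -- the pair stabilisers
  have hpair : ∀ v, v ≠ L →
      Nat.card (MulAction.stabilizer P v) ∣ if Adj L v then 972 else 360 := by
    intro v hv
    rw [← card_stab_pair hv]
    let f : MulAction.stabilizer P v →*
        ↥(MulAction.stabilizer K L ⊓ MulAction.stabilizer K v) :=
      { toFun := fun p => ⟨((p.1 : H) : K), ⟨hL p.1, p.2⟩⟩
        map_one' := rfl
        map_mul' := fun _ _ => rfl }
    refine Subgroup.card_dvd_of_injective f fun a b h => ?_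
    exact Subtype.ext (Subtype.ext (Subtype.ext (congrArg (fun t : ↥(MulAction.stabilizer K L ⊓ MulAction.stabilizer K v) => (t : K)) h)))
  have hfixed : ∀ v, (∀ p : P, p • v = v) → v = L := by
    intro v hv
    by_contra hne
    have h := hpair v hne
    rw [show MulAction.stabilizer P v = ⊤ from eq_top_iff.2 fun p _ => hv p, Subgroup.card_top, hP] at h
    split_ifs at h <;> norm_num at h
  -- size of the orbit modulo three
  have hmod : O.ncard ≡ 1 [MOD 3] := by
    have h := hPg.card_modEq_card_fixedPoints (MulAction.orbit H L)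
    have e : Nat.card (MulAction.fixedPoints P (MulAction.orbit H L)) = 1 := by
      rw [Nat.card_eq_one_iff_unique]
      refine ⟨⟨fun a b => ?_⟩, ⟨⟨⟨L, MulAction.mem_orbit_self L⟩, fun p => Subtype.ext (hL p)⟩⟩⟩
      refine Subtype.ext (Subtype.ext ?_)
      rw [hfixed a.1.1 (fun p => congrArg Subtype.val (a.2 p)),
        hfixed b.1.1 (fun p => congrArg Subtype.val (b.2 p))]
    rw [e, Nat.card_coe_set_eq] at h
    exact h
  have hdvd : O.ncard ∣ 29160 := by
    rw [← hH, ← Nat.card_congr (MulAction.orbitProdStabilizerEquivGroup H L), Nat.card_prod,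
      Nat.card_coe_set_eq]
    exact dvd_mul_right _ _
  -- all other orbit points are neighbours
  have hnear : ∀ v ∈ O, v ≠ L → Adj L v := by
    intro v hv hne
    by_contra ha
    have h1 := hpair v hne
    rw [if_neg ha] at h1
    have h2 : Nat.card (MulAction.stabilizer P v) ∣ 729 := by
      rw [show (729 : ℕ) = Nat.card P from hP.symm]; exact Subgroup.card_subgroup_dvd_card _
    have h9 : Nat.card (MulAction.stabilizer P v) ≤ 9 :=
      Nat.le_of_dvd (by norm_num) (Nat.dvd_gcd h1 h2)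
    have h := Nat.card_congr (MulAction.orbitProdStabilizerEquivGroup P v)
    rw [Nat.card_prod, hP, Nat.card_coe_set_eq] at h
    have h81 : 81 ≤ (MulAction.orbit P v).ncard := by nlinarith
    have hsub : insert L (MulAction.orbit P v) ⊆ O := by
      rintro w (rfl | ⟨p, rfl⟩)
      · exact MulAction.mem_orbit_self _
      · obtain ⟨q, rfl⟩ := hv
        exact ⟨(p : H) * q, mul_smul _ _ _⟩
    have hins : L ∉ MulAction.orbit P v := by
      rintro ⟨p, hp⟩
      refine hne ?_
      have : v = p⁻¹ • L := by rw [← hp]; simp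
      rw [this]; exact hL p⁻¹
    have h82 : 82 ≤ O.ncard := by
      have := Set.ncard_le_ncard hsub (Set.toFinite _)
      rw [Set.ncard_insert_of_notMem hins (Set.toFinite _)] at this
      omega
    have hle : O.ncard ≤ 112 := by
      have := Set.ncard_le_ncard (Set.subset_univ O) (Set.toFinite _)
      rwa [Set.ncard_univ, Nat.card_eq_fintype_card, Fintype.card_fin] at this
    generalize O.ncard = n at hmod hdvd h82 hle
    have key : ∀ m : Fin 113, 82 ≤ m.1 → m.1 % 3 = 1 → ¬ m.1 ∣ 29160 := by decide +kernel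
    exact key ⟨n, by omega⟩ h82 hmod hdvd
  have hclique : ∀ u ∈ O, ∀ v ∈ O, u ≠ v → Adj u v := by
    intro u hu v hv huv
    obtain ⟨h, rfl⟩ := hu
    have hh : ((h : K) : Equiv.Perm (Fin 112)) ∈ K := (h : K).2
    have hv' : h⁻¹ • v ∈ O := by
      obtain ⟨k, rfl⟩ := hv
      exact ⟨h⁻¹ * k, mul_smul _ _ _⟩
    have := (adj_perm hh L (h⁻¹ • v)).2 (hnear _ hv' fun e => huv (by
      show h • L = v
      rw [← e, smul_inv_smul]))
    have e : ((h : K) : Equiv.Perm (Fin 112)) (h⁻¹ • v) = v := smul_inv_smul h v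
    rw [e] at this
    exact this
  have h4 : O.ncard ≤ 4 := by
    by_cases hone : O ⊆ {L}
    · have := Set.ncard_le_ncard hone (Set.toFinite _)
      rw [Set.ncard_singleton] at this
      omega
    obtain ⟨y, hy, hyL⟩ := Set.not_subset.1 hone
    have hsub : O ⊆ insert L (insert y
        ((Finset.univ.filter fun k => Adj L k ∧ Adj y k : Finset (Fin 112)) : Set (Fin 112))) := by
      intro w hw
      by_cases e1 : w = L
      · exact Or.inl e1
      by_cases e2 : w = y
      · exact Or.inr (Or.inl e2)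
      · exact Or.inr (Or.inr (by simp [hnear w hw e1, hclique y hy w hw (Ne.symm e2)]))
    have hLy : Adj L y := hnear y hy hyL
    refine (Set.ncard_le_ncard hsub (Set.toFinite _)).trans ((Set.ncard_insert_le _ _).trans
      (Nat.succ_le_succ ((Set.ncard_insert_le _ _).trans (Nat.succ_le_succ ?_))))
    rw [Set.ncard_coe_finset, card_common (Ne.symm hyL), if_pos hLy]
  have hstab : O.ncard * Nat.card (MulAction.stabilizer H L) = 29160 := by
    rw [← Nat.card_coe_set_eq, ← Nat.card_prod,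
      Nat.card_congr (MulAction.orbitProdStabilizerEquivGroup H L), hH]
  have hone : O.ncard = 1 := by
    rcases (show O.ncard = 1 ∨ O.ncard = 4 by
      unfold Nat.ModEq at hmod; omega) with h | h
    · exact h
    exfalso
    haveI : Fact (Nat.Prime 5) := ⟨Nat.prime_five⟩
    obtain ⟨y, hy⟩ := exists_prime_orderOf_dvd_card' (G := MulAction.stabilizer H L) 5 (by
      rw [h] at hstab
      rw [show Nat.card (MulAction.stabilizer H L) = 7290 by omega]; norm_num)
    have hy5 : orderOf ((y : H) : K) = 5 := by rw [Subgroup.orderOf_coe, Subgroup.orderOf_coe, hy]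
    set Y : Subgroup H := Subgroup.zpowers (y : H) with hY
    have hYg : IsPGroup 5 Y := IsPGroup.of_card (n := 1) (by
      rw [hY, Nat.card_zpowers, Subgroup.orderOf_coe, hy, pow_one])
    have hm := hYg.card_modEq_card_fixedPoints (MulAction.orbit H L)
    rw [Nat.card_coe_set_eq, show (MulAction.orbit H L).ncard = 4 from h] at hm
    have hle := Set.ncard_le_ncard (Set.subset_univ (MulAction.fixedPoints Y (MulAction.orbit H L)))
      (Set.toFinite _)
    rw [Set.ncard_univ, Nat.card_coe_set_eq, show (MulAction.orbit H L).ncard = 4 from h,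
      ← Nat.card_coe_set_eq] at hle
    have hfix4 : Nat.card (MulAction.fixedPoints Y (MulAction.orbit H L)) = 4 := by
      unfold Nat.ModEq at hm; omega
    have hle2 : Nat.card (MulAction.fixedPoints Y (MulAction.orbit H L))
        ≤ Nat.card {v : Fin 112 | ((y : H) : K) • v = v} :=
      Nat.card_le_card_of_injective
        (fun a => ⟨a.1.1, congrArg Subtype.val (a.2 ⟨y, Subgroup.mem_zpowers _⟩)⟩)
        fun a b e => Subtype.ext (Subtype.ext (Subtype.mk.inj e))
    rw [Nat.card_coe_set_eq {v : Fin 112 | ((y : H) : K) • v = v}] at hle2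
    have := fixed_five hy5
    omega
  refine Subgroup.eq_of_le_of_card_ge (fun x hx => ?_) (by rw [card_stab, hH])
  have hsing : O ⊆ {L} := by
    obtain ⟨a, ha⟩ := Set.ncard_eq_one.1 hone
    have : L ∈ O := MulAction.mem_orbit_self L
    rw [ha, Set.mem_singleton_iff] at this
    rw [ha, this]
  exact hsing ⟨⟨x, hx⟩, rfl⟩

/-- An invariant relation with thirty images per line is adjacency. -/
theorem eq_adj (R : Fin 112 → Fin 112 → Prop) [DecidableRel R]
    (hinv : ∀ x ∈ K, ∀ i j, R (x i) (x j) ↔ R i j) (hirr : ∀ i, ¬ R i i)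
    (h30 : ∀ i, (Finset.univ.filter (R i)).card = 30) : ∀ i j, R i j ↔ Adj i j := by
  classical
  intro L v
  by_cases hv : v = L
  · subst hv; exact iff_of_false (hirr _) (adj_irrefl _)
  have hconst : ∀ a b, a ≠ L → b ≠ L → (Adj L a ↔ Adj L b) → (R L a ↔ R L b) := by
    intro a b ha hb hab
    obtain ⟨x, hx, hxL, hxa⟩ := suborbit ha hb hab
    have := hinv x hx L a
    rw [hxL, hxa] at this
    exact this.symm
  have hN := card_adj L
  have hF := card_far L
  rw [Set.ncard_eq_toFinset_card', Set.toFinset_ofPred] at hF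
  constructor
  · intro hR
    by_contra ha
    have : (Finset.univ.filter fun w => w ≠ L ∧ ¬ Adj L w) ⊆ Finset.univ.filter (R L) := by
      intro w hw
      simp only [Finset.mem_filter, Finset.mem_univ, true_and] at hw ⊢
      exact (hconst v w hv hw.1 (iff_of_false ha hw.2)).1 hR
    have := Finset.card_le_card this
    rw [hF, h30] at this
    omega
  · intro ha
    by_contra hR
    have hsub : Finset.univ.filter (R L) ⊆ Finset.univ.filter fun w => w ≠ L ∧ ¬ Adj L w := by
      intro w hw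
      simp only [Finset.mem_filter, Finset.mem_univ, true_and] at hw ⊢
      exact ⟨fun e => hirr L (e ▸ hw), fun hw' =>
        hR ((hconst v w hv (fun e => hirr L (e ▸ hw)) (iff_of_true ha hw')).2 hw)⟩
    obtain ⟨w, hw⟩ := Finset.card_pos.1 (show 0 < (Finset.univ.filter (R L)).card by rw [h30]; norm_num)
    have hw' := Finset.mem_filter.1 (hsub hw)
    have : (Finset.univ.filter fun w => w ≠ L ∧ ¬ Adj L w) ⊆ Finset.univ.filter (R L) := by
      intro u hu
      simp only [Finset.mem_filter, Finset.mem_univ, true_and] at hu hw ⊢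
      exact (hconst w u hw'.2.1 hu.1 (iff_of_false hw'.2.2 hu.2)).1 hw
    have := Finset.card_le_card this
    rw [hF, h30] at this
    omega

/-! ### The families -/

theorem fam_ok {i : ℕ} (hi : i < 4) : famOK i = true := by
  interval_cases i
  exacts [fam_ok_0, fam_ok_1, fam_ok_2, fam_ok_3]

/-- A half set is carried by a symmetry of the lines to the far half sets, all of them in its
orbit. -/
theorem exists_symmetry (S : Finset (Fin 112)) (hS : S.card = 56)
    (hten : ∀ x ∈ S, (S.filter fun y => Adj x y).card = 10) :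
    ∃ π : Equiv.Perm (Fin 112), (∀ v w, Adj (π v) (π w) ↔ Adj v w) ∧
      ∀ j, ∃ x ∈ K, ∀ w, π (x w) ∈ farSet j ↔ w ∈ S := by
  obtain ⟨i, hi, e, he, heS⟩ := exists_fam S hS hten
  have h := fam_ok hi
  unfold famOK at h
  simp only [Bool.and_eq_true, Nat.beq_eq, allN_iff, beq_iff_eq, Bool.or_eq_true,
    Bool.not_eq_true', ← Bool.not_eq_true, Nat.ble_eq] at h
  obtain ⟨⟨⟨⟨hlen, htree⟩, hperm⟩, himg⟩, hdist⟩ := h
  set p := nth 0 famPerms i with hp
  have hlt : ∀ v : Fin 112, getP 7 p v < 112 := fun v => by have := (hperm v v.2).1; omega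
  let f : Fin 112 → Fin 112 := fun v => ⟨getP 7 p v, hlt v⟩
  have hf : Function.Injective f := fun v w e => by
    rcases ((hperm v v.2).2 w w.2).2 with h | h
    · exact Fin.ext h
    · exact absurd (congrArg Fin.val e) h
  set π := Equiv.ofBijective f (Finite.injective_iff_bijective.1 hf)
  refine ⟨π, fun v w => by
    show adjB (getP 7 p v) (getP 7 p w) = true ↔ _
    rw [((hperm v v.2).2 w w.2).1]; exact Iff.rfl, ?_⟩
  -- the tree
  set T := famTree i with hT
  have hTlen : T.length = 162 := by rw [hT, famTree, List.length_map, hlen]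
  have hTnth : ∀ k < 162, (nth (0, 0, 0) T k).1 = (nth (0, 0, 0, 0) (famRows i) k).1 := by
    intro k hk
    rw [nth_eq_getElem _ _ _ (hTlen ▸ hk), nth_eq_getElem _ _ _ (hlen ▸ hk)]
    simp [hT, famTree]
  set root := (nth (0, 0, 0) T 0).1
  have key := treeChk_spec htree
    (fun m => ∃ x ∈ K, ∀ w : Fin 112, m.testBit (x w : ℕ) = root.testBit w)
    ⟨1, one_mem _, fun w => by simp [root, hT]⟩
    fun g a b hg hs ⟨x, hx, hxa⟩ => by
      obtain ⟨hy, hya⟩ := topPerm_spec hg
      refine ⟨topPerm g * x, mul_mem hy hx, fun w => ?_⟩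
      simp only [maskMap, allN_iff, beq_iff_eq, bit_eq] at hs
      rw [Equiv.Perm.mul_apply, hya, hs _ (x w).2, hxa]
  rw [hTlen] at key
  obtain ⟨k₀, hk₀, hk₀e⟩ : ∃ k < 162, nth (0, 0, 0, 0) (famRows i) k = e := by
    obtain ⟨k, hk, hke⟩ := List.getElem_of_mem he
    exact ⟨k, hlen ▸ hk, by rw [nth_eq_getElem _ _ _ hk, hke]⟩
  obtain ⟨x₀, hx₀, hx₀r⟩ := key k₀ hk₀
  -- every image index occurs
  have hsurj : ∀ j : Fin 162, ∃ k < 162, famImg i k = j := by
    intro j
    have hnd := (distinct_sound _ _ hdist).1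
    let g : Fin 162 → Fin 162 := fun k => ⟨famImg i k, by have := (himg k k.2).1; omega⟩
    have hg : Function.Injective g := by
      intro a b e
      have e' : famImg i a = famImg i b := congrArg Fin.val e
      rw [famImg, famImg, nth_eq_getElem _ _ _ (hlen.symm ▸ a.2),
        nth_eq_getElem _ _ _ (hlen.symm ▸ b.2)] at e'
      exact Fin.ext ((List.Nodup.getElem_inj_iff hnd (hi := by simp [hlen]) (hj := by simp [hlen])).1
        (by simpa using e'))
    obtain ⟨k, hk⟩ := (Finite.injective_iff_surjective.1 hg) j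
    exact ⟨k, k.2, congrArg Fin.val hk⟩
  intro j
  obtain ⟨k, hk, hkj⟩ := hsurj j
  obtain ⟨x, hx, hxr⟩ := key k hk
  refine ⟨x * x₀⁻¹, mul_mem hx (inv_mem hx₀), fun w => ?_⟩
  have hmap := (himg k hk).2
  simp only [maskMap, allN_iff, beq_iff_eq, bit_eq] at hmap
  have h1 := hmap ((x * x₀⁻¹) w : Fin 112) ((x * x₀⁻¹) w).2
  rw [hkj, ← hTnth k hk] at h1
  rw [Equiv.Perm.mul_apply] at h1
  rw [hxr] at h1
  have h2 := hx₀r (x₀⁻¹ w)
  rw [perm_apply_inv, hTnth k₀ hk₀, hk₀e, heS] at h2
  rw [← h2] at h1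
  simp only [farSet, Finset.mem_filter, Finset.mem_univ, true_and]
  show (farRow j).testBit (getP 7 p ((x * x₀⁻¹) w : Fin 112)) = true ↔ _
  rw [Equiv.Perm.mul_apply, h1, decide_eq_true_iff]

theorem card_farSet (j : Fin 162) : (farSet j).card = 56 := by
  have h := far_ok
  simp only [farOK, allN_iff, Bool.and_eq_true, Nat.ble_eq] at h
  exact popIs_card _ _ (h j j.2).1.1 (h j j.2).1.2

/-- Two far half sets share twenty or thirty-two lines. -/
theorem farSet_inter {j k : Fin 162} (h : j ≠ k) :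
    (farSet j ∩ farSet k).card = 20 ∨ (farSet j ∩ farSet k).card = 32 := by
  have key : ∀ a b : Fin 162, a < b →
      (farSet a ∩ farSet b).card = 20 ∨ (farSet a ∩ farSet b).card = 32 := by
    intro a b hab
    have hok := far_ok
    simp only [farOK, allN_iff, Bool.and_eq_true, Bool.or_eq_true, Nat.ble_eq] at hok
    obtain ⟨⟨-, hlt⟩, hab'⟩ := hok a a.2
    have e : farSet a ∩ farSet b
        = Finset.univ.filter fun w : Fin 112 => (Nat.land (farRow a) (farRow b)).testBit w := by
      ext w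
      simp only [farSet, Finset.mem_inter, Finset.mem_filter, Finset.mem_univ, true_and]
      show _ ↔ (farRow a &&& farRow b).testBit w = true
      rw [Nat.testBit_and, Bool.and_eq_true]
    rw [e]
    rcases hab' b b.2 with (h' | h') | h'
    · omega
    · exact Or.inl (popIs_card _ _ h' (lt_of_le_of_lt Nat.and_le_left hlt))
    · exact Or.inr (popIs_card _ _ h' (lt_of_le_of_lt Nat.and_le_left hlt))
  rcases lt_or_gt_of_ne h with h | h
  · exact key j k h
  · rw [Finset.inter_comm]; exact key k j h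

end Cfsg.Agent.Golay.McLLines
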