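import Cfsg.Agent.Golay.McLLinesChecks
import Cfsg.Agent.H92.McLOrbit

/-!
Kernel checks: inner products of the 275 lattice vectors follow the line model.
-/

set_option autoImplicit false
set_option Elab.async false

namespace Cfsg.Agent.Golay.McLLines

open Cfsg.Agent.Compute Cfsg.Agent.H92.LeechOrbit

/-- The near vectors follow adjacency of lines. -/
noncomputable def nearDotOK : Bool :=
  allN 112 fun i => allN 112 fun j => Nat.ble j i ||
    dotTest (mclNearCert.code i) (mclNearCert.code j) (bif adjB i j then 8 else 16)

/-- Near against far vectors follows membership in half sets. -/
noncomputable def crossDotOK : Bool :=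
  allN 112 fun i => allN 162 fun j =>
    dotTest (mclNearCert.code i) (mclFarCert.code j) (bif (farRow j).testBit i then 8 else 16)

/-- Far vectors follow the size of the common part. -/
noncomputable def farDotOK : Bool :=
  allN 162 fun i => allN 162 fun j => Nat.ble j i ||
    dotTest (mclFarCert.code i) (mclFarCert.code j)
      (bif popIs 20 (Nat.land (farRow i) (farRow j)) then 8 else 16)

theorem root_ref_ok : Nat.beq (mclCert.code mclCert.root) 62062060636173731114942777480 = true := by
  decide +kernel

theorem near_dot_ok : nearDotOK = true := by decide +kernel
theorem cross_dot_ok : crossDotOK = true := by decide +kernel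
theorem far_dot_ok : farDotOK = true := by decide +kernel

end Cfsg.Agent.Golay.McLLines
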