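import Cfsg.Agent.Golay.McLLinesGroup
import Cfsg.Agent.Golay.McLModelChecks
import Cfsg.Agent.H32.OutMcL.Main
import Cfsg.Prelude.Def_Spor_Conway

/-!
The McLaughlin group is the only rank three group of degree 275 with point stabiliser U4(3) and
suborbits of lengths 112 and 162.
-/

set_option autoImplicit false
set_option linter.style.haveILetI false

namespace Cfsg.Agent.Golay.McLRankThree

open Cfsg.Agent.Golay.McLLines MulAction

section

variable {Ω : Type*} [Fintype Ω] [DecidableEq Ω]

/-- The hypothesis. -/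
structure Setup (G : Subgroup (Equiv.Perm Ω)) (a b c : Ω) where
  card_pts : Fintype.card Ω = 275
  trans : ∀ x y : Ω, ∃ g : G, g • x = y
  e : stabilizer G a ≃* K
  orb_b : (orbit (stabilizer G a) b).ncard = 112
  orb_c : (orbit (stabilizer G a) c).ncard = 162

variable {G : Subgroup (Equiv.Perm Ω)} {a b c : Ω}

/-- The orbital of the first suborbit. -/
def Edge (G : Subgroup (Equiv.Perm Ω)) (a b x y : Ω) : Prop := ∃ g : G, g • a = x ∧ g • b = y

lemma edge_smul {g : G} {x y : Ω} : Edge G a b (g • x) (g • y) ↔ Edge G a b x y := by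
  constructor
  · rintro ⟨h, h1, h2⟩
    exact ⟨g⁻¹ * h, by rw [mul_smul, h1, inv_smul_smul], by rw [mul_smul, h2, inv_smul_smul]⟩
  · rintro ⟨h, h1, h2⟩
    exact ⟨g * h, by rw [mul_smul, h1], by rw [mul_smul, h2]⟩

namespace Setup

variable (D : Setup G a b c)
include D

lemma not_mem_self {x : Ω} {n : ℕ} (h : (orbit (stabilizer G a) x).ncard = n) (hn : n ≠ 1) :
    a ∉ orbit (stabilizer G a) x := by
  intro ha
  rw [← orbit_eq_iff.2 ha] at h
  have e : orbit (stabilizer G a) a = {a} := by
    ext y
    constructor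
    · rintro ⟨g, rfl⟩; exact g.2
    · rintro rfl; exact mem_orbit_self _
  rw [e, Set.ncard_singleton] at h
  exact hn h.symm

lemma disjoint_NM : Disjoint (orbit (stabilizer G a) b) (orbit (stabilizer G a) c) := by
  rw [Set.disjoint_left]
  intro x h1 h2
  have := D.orb_b
  rw [← orbit_eq_iff.2 h1, orbit_eq_iff.2 h2, D.orb_c] at this
  omega

lemma cases (x : Ω) :
    x = a ∨ x ∈ orbit (stabilizer G a) b ∨ x ∈ orbit (stabilizer G a) c := by
  classical
  have hu : (insert a (orbit (stabilizer G a) b ∪ orbit (stabilizer G a) c) : Set Ω) = Set.univ := by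
    refine Set.eq_of_subset_of_ncard_le (Set.subset_univ _) ?_ (Set.toFinite _)
    rw [Set.ncard_univ, Nat.card_eq_fintype_card, D.card_pts,
      Set.ncard_insert_of_notMem (fun h => h.elim (D.not_mem_self D.orb_b (by norm_num))
        (D.not_mem_self D.orb_c (by norm_num))) (Set.toFinite _),
      Set.ncard_union_eq D.disjoint_NM (Set.toFinite _) (Set.toFinite _), D.orb_b, D.orb_c]
  have hx := Set.mem_univ x
  rw [← hu] at hx
  simpa using hx

lemma edge_base {y : Ω} : Edge G a b a y ↔ y ∈ orbit (stabilizer G a) b := by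
  constructor
  · rintro ⟨g, h1, h2⟩; exact ⟨⟨g, h1⟩, h2⟩
  · rintro ⟨g, rfl⟩; exact ⟨g, g.2, rfl⟩

lemma edge_irrefl (x : Ω) : ¬ Edge G a b x x := by
  rintro ⟨g, h1, h2⟩
  refine D.not_mem_self D.orb_b (by norm_num) ?_
  rw [← smul_left_cancel g (h2.trans h1.symm)]
  exact mem_orbit_self _

open Classical in
/-- The neighbours of a point. -/
noncomputable def nb (_D : Setup G a b c) (x : Ω) : Finset Ω :=
  Finset.univ.filter fun y => Edge G a b x y

lemma mem_nb {x y : Ω} : y ∈ D.nb x ↔ Edge G a b x y := by simp [nb]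

lemma nb_smul (g : G) (x : Ω) : D.nb (g • x) = (D.nb x).image fun y => g • y := by
  classical
  ext y
  simp only [Finset.mem_image, mem_nb]
  constructor
  · intro h
    exact ⟨g⁻¹ • y, by rw [← edge_smul (g := g), smul_inv_smul]; exact h, smul_inv_smul g y⟩
  · rintro ⟨z, hz, rfl⟩
    exact edge_smul.2 hz

lemma card_nb (x : Ω) : (D.nb x).card = 112 := by
  classical
  obtain ⟨g, rfl⟩ := D.trans a x
  rw [D.nb_smul, Finset.card_image_of_injective _ (MulAction.injective g), ← D.orb_b,
    ← Set.ncard_coe_finset]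
  congr 1
  ext y
  rw [Finset.mem_coe, mem_nb, edge_base D]

lemma edge_symm {x y : Ω} (h : Edge G a b x y) : Edge G a b y x := by
  classical
  suffices hb : Edge G a b b a by
    obtain ⟨g, rfl, rfl⟩ := h
    exact edge_smul.2 hb
  set In : Ω → Finset Ω := fun x => Finset.univ.filter fun y => Edge G a b y x with hIn
  have hInsmul : ∀ (g : G) x, (In (g • x)).card = (In x).card := by
    intro g x
    rw [← Finset.card_image_of_injective (In x) (MulAction.injective g)]
    congr 1
    ext y
    simp only [hIn, Finset.mem_filter, Finset.mem_univ, true_and, Finset.mem_image]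
    constructor
    · intro h
      exact ⟨g⁻¹ • y, by rw [← edge_smul (g := g), smul_inv_smul]; exact h, smul_inv_smul g y⟩
    · rintro ⟨z, hz, rfl⟩
      exact edge_smul.2 hz
  have hIn112 : (In a).card = 112 := by
    have hd := Finset.sum_card_bipartiteAbove_eq_sum_card_bipartiteBelow (r := Edge G a b)
      (s := (Finset.univ : Finset Ω)) (t := (Finset.univ : Finset Ω))
    rw [Finset.sum_congr rfl (fun x _ => show (Finset.univ.bipartiteAbove (Edge G a b) x).card = 112
        from D.card_nb x),
      Finset.sum_congr rfl (fun x _ => show (Finset.univ.bipartiteBelow (Edge G a b) x).card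
        = (In a).card by
          obtain ⟨g, rfl⟩ := D.trans a x
          exact hInsmul g a),
      Finset.sum_const, Finset.sum_const, Finset.card_univ, D.card_pts] at hd
    simp only [smul_eq_mul] at hd
    omega
  obtain ⟨g₀, hg₀⟩ := D.trans b a
  have hy₀ : Edge G a b (g₀ • a) a := ⟨g₀, rfl, hg₀⟩
  have hinv : ∀ y, Edge G a b y a → ∀ z ∈ orbit (stabilizer G a) y, Edge G a b z a := by
    rintro y hy z ⟨g, rfl⟩
    have := (edge_smul (g := (g : G))).2 hy
    rw [show (g : G) • a = a from g.2] at this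
    exact this
  have hnoM : ∀ y, Edge G a b y a → y ∉ orbit (stabilizer G a) c := by
    intro y hy hyc
    have hsub : orbit (stabilizer G a) c ⊆ (In a : Set Ω) := by
      intro z hz
      rw [← orbit_eq_iff.2 hyc] at hz
      simp [hIn, hinv y hy z hz]
    have := Set.ncard_le_ncard hsub (Set.toFinite _)
    rw [D.orb_c, Set.ncard_coe_finset, hIn112] at this
    omega
  rcases D.cases (g₀ • a) with e | e | e
  · exact absurd hy₀ (fun h => D.edge_irrefl a (by rwa [e] at h))
  · exact hinv _ hy₀ b (by rw [orbit_eq_iff.2 e]; exact mem_orbit_self b)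
  · exact absurd e (hnoM _ hy₀)

/-! ### The neighbours of the base point -/

lemma exists_line : ∃ L : Fin 112, ∀ g : stabilizer G a, g • b = b ↔ D.e g • L = L := by
  classical
  have horb := Nat.card_congr (orbitProdStabilizerEquivGroup (stabilizer G a) b)
  rw [Nat.card_prod, Nat.card_coe_set_eq, D.orb_b, Nat.card_congr D.e.toEquiv, card_K] at horb
  obtain ⟨L, hL⟩ := exists_fixed ((stabilizer (stabilizer G a) b).map D.e.toMonoidHom) (by
    rw [Subgroup.card_map_of_injective (f := D.e.toMonoidHom) D.e.injective]; omega)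
  refine ⟨L, fun g => ?_⟩
  rw [← mem_stabilizer_iff, ← mem_stabilizer_iff, ← hL, Subgroup.mem_map]
  constructor
  · intro h; exact ⟨g, h, rfl⟩
  · rintro ⟨g', h1, h2⟩; rwa [← D.e.injective h2]

/-- The line of the chosen neighbour. -/
noncomputable def line : Fin 112 := D.exists_line.choose

lemma line_spec (g : stabilizer G a) : g • b = b ↔ D.e g • D.line = D.line :=
  D.exists_line.choose_spec g

lemma exists_mover (v : Fin 112) : ∃ x : K, x • D.line = v := by
  obtain ⟨p, hp, hp0⟩ := trans_K D.line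
  obtain ⟨q, hq, hq0⟩ := trans_K v
  refine ⟨⟨q * p⁻¹, mul_mem hq (inv_mem hp)⟩, ?_⟩
  show (q * p⁻¹) D.line = v
  rw [Equiv.Perm.mul_apply, ← hp0, perm_inv_apply, hq0]

/-- The neighbour belonging to a line. -/
noncomputable def pt (v : Fin 112) : Ω := D.e.symm (D.exists_mover v).choose • b

lemma pt_smul (x : K) : D.e.symm x • b = D.pt (x • D.line) := by
  have h := (D.exists_mover (x • D.line)).choose_spec
  set y := (D.exists_mover (x • D.line)).choose
  show _ = D.e.symm y • b
  rw [← inv_smul_eq_iff, ← mul_smul, D.line_spec, ← map_inv, ← map_mul, MulEquiv.apply_symm_apply,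
    mul_smul, inv_smul_eq_iff]
  exact h.symm

lemma smul_pt (g : stabilizer G a) (v : Fin 112) : g • D.pt v = D.pt (D.e g • v) := by
  conv_rhs => rw [← (D.exists_mover v).choose_spec, ← mul_smul, ← pt_smul D, map_mul,
    MulEquiv.symm_apply_apply, mul_smul]
  rfl

lemma pt_injective : Function.Injective D.pt := by
  intro v w h
  unfold pt at h
  rw [← inv_smul_eq_iff, ← mul_smul, D.line_spec, ← map_inv, ← map_mul, MulEquiv.apply_symm_apply,
    mul_smul, inv_smul_eq_iff, (D.exists_mover v).choose_spec, (D.exists_mover w).choose_spec] at h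
  exact h

lemma edge_pt (v : Fin 112) : Edge G a b a (D.pt v) :=
  (edge_base D).2 ⟨_, rfl⟩

lemma exists_pt {y : Ω} (h : Edge G a b a y) : ∃ v, D.pt v = y := by
  obtain ⟨g, hg⟩ := (edge_base D).1 h
  refine ⟨D.e g • D.line, ?_⟩
  rw [← pt_smul D, MulEquiv.symm_apply_apply]
  exact hg

lemma nb_base : D.nb a = Finset.univ.map ⟨D.pt, D.pt_injective⟩ := by
  ext y
  simp only [mem_nb, Finset.mem_map, Finset.mem_univ, true_and, Function.Embedding.coeFn_mk]
  exact ⟨D.exists_pt, fun ⟨v, hv⟩ => hv ▸ D.edge_pt v⟩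

open Classical in
/-- The lines seen from a point. -/
noncomputable def seen (x : Ω) : Finset (Fin 112) :=
  Finset.univ.filter fun v => Edge G a b x (D.pt v)

lemma mem_seen {x : Ω} {v : Fin 112} : v ∈ D.seen x ↔ Edge G a b x (D.pt v) := by simp [seen]

lemma nb_inter_base (x : Ω) : (D.nb x ∩ D.nb a).card = (D.seen x).card := by
  classical
  rw [← Finset.card_map (f := ⟨D.pt, D.pt_injective⟩) (s := D.seen x)]
  congr 1
  ext y
  simp only [Finset.mem_inter, mem_nb, Finset.mem_map, Function.Embedding.coeFn_mk, mem_seen]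
  constructor
  · rintro ⟨h1, h2⟩
    obtain ⟨v, rfl⟩ := D.exists_pt h2
    exact ⟨v, h1, rfl⟩
  · rintro ⟨v, hv, rfl⟩
    exact ⟨hv, D.edge_pt v⟩

lemma seen_smul (g : stabilizer G a) (x : Ω) (v : Fin 112) :
    D.e g • v ∈ D.seen ((g : G) • x) ↔ v ∈ D.seen x := by
  rw [mem_seen, mem_seen, ← D.smul_pt g v]
  exact edge_smul

lemma card_seen_smul (g : stabilizer G a) (x : Ω) :
    (D.seen ((g : G) • x)).card = (D.seen x).card := by
  classical
  rw [← Finset.card_image_of_injective (D.seen x) (MulAction.injective (D.e g))]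
  congr 1
  ext w
  simp only [Finset.mem_image]
  constructor
  · intro hw
    refine ⟨(D.e g)⁻¹ • w, ?_, smul_inv_smul _ _⟩
    rw [← D.seen_smul g, smul_inv_smul]; exact hw
  · rintro ⟨v, hv, rfl⟩; exact (D.seen_smul g x v).2 hv

open Classical in
/-- The points outside the closed neighbourhood of the base point. -/
noncomputable def far (_D : Setup G a b c) : Finset Ω := Finset.univ.filter fun y => y ∈ orbit (stabilizer G a) c

lemma mem_far {y : Ω} : y ∈ D.far ↔ y ∈ orbit (stabilizer G a) c := by simp [far]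

lemma card_far : D.far.card = 162 := by
  classical
  rw [← D.orb_c, ← Set.ncard_coe_finset]
  congr 1
  ext y
  simp [far]

lemma far_not {y : Ω} (h : y ∈ D.far) : ¬ Edge G a b a y ∧ y ≠ a := by
  rw [mem_far] at h
  refine ⟨fun h' => Set.disjoint_left.1 D.disjoint_NM ((edge_base D).1 h') h, ?_⟩
  rintro rfl
  exact D.not_mem_self D.orb_c (by norm_num) h

lemma split_cases (y : Ω) : y = a ∨ Edge G a b a y ∨ y ∈ D.far := by
  rcases D.cases y with h | h | h
  · exact Or.inl h
  · exact Or.inr (Or.inl ((edge_base D).2 h))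
  · exact Or.inr (Or.inr (D.mem_far.2 h))

lemma card_split (s : Finset Ω) :
    s.card = (s ∩ {a}).card + (s ∩ D.nb a).card + (s ∩ D.far).card := by
  classical
  rw [← Finset.card_union_of_disjoint, ← Finset.card_union_of_disjoint]
  · congr 1
    ext y
    simp only [Finset.mem_union, Finset.mem_inter, Finset.mem_singleton, mem_nb]
    have := D.split_cases y
    tauto
  · simp only [Finset.disjoint_left, Finset.mem_union, Finset.mem_inter, mem_nb, Finset.mem_singleton]
    intro y hy hy'
    obtain ⟨h1, h2⟩ := D.far_not hy'.2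
    tauto
  · simp only [Finset.disjoint_left, Finset.mem_inter, mem_nb, Finset.mem_singleton]
    rintro y ⟨-, rfl⟩ hy
    exact D.edge_irrefl _ hy.2

lemma edge_pt_smul (g : stabilizer G a) (v w : Fin 112) :
    Edge G a b (D.pt (D.e g • v)) (D.pt (D.e g • w)) ↔ Edge G a b (D.pt v) (D.pt w) := by
  rw [← D.smul_pt, ← D.smul_pt]
  exact edge_smul

lemma card_seen_pt (v : Fin 112) : (D.seen (D.pt v)).card = (D.seen (D.pt D.line)).card := by
  obtain ⟨x, hx⟩ := D.exists_mover v
  obtain ⟨g, rfl⟩ := D.e.surjective x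
  rw [← hx, ← D.smul_pt]
  exact D.card_seen_smul g _

lemma count_far : 162 * (D.seen c).card = 112 * (111 - (D.seen (D.pt D.line)).card) := by
  classical
  have hd := Finset.sum_card_bipartiteAbove_eq_sum_card_bipartiteBelow (r := Edge G a b)
    (s := D.far) (t := D.nb a)
  have h1 : ∀ x ∈ D.far, ((D.nb a).bipartiteAbove (Edge G a b) x).card = (D.seen c).card := by
    intro x hx
    obtain ⟨g, rfl⟩ := D.mem_far.1 hx
    have e : (D.nb a).bipartiteAbove (Edge G a b) ((g : G) • c) = D.nb ((g : G) • c) ∩ D.nb a := by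
      ext y; simp [Finset.bipartiteAbove, mem_nb, and_comm]
    show ((D.nb a).bipartiteAbove (Edge G a b) ((g : G) • c)).card = _
    rw [e, D.nb_inter_base, D.card_seen_smul]
  have h2 : ∀ y ∈ D.nb a,
      (D.far.bipartiteBelow (Edge G a b) y).card = 111 - (D.seen (D.pt D.line)).card := by
    intro y hy
    obtain ⟨v, rfl⟩ := D.exists_pt (D.mem_nb.1 hy)
    have e : D.far.bipartiteBelow (Edge G a b) (D.pt v) = D.nb (D.pt v) ∩ D.far := by
      ext z
      simp only [Finset.bipartiteBelow, Finset.mem_filter, Finset.mem_inter, mem_nb]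
      exact ⟨fun h => ⟨D.edge_symm h.2, h.1⟩, fun h => ⟨h.2, D.edge_symm h.1⟩⟩
    have hs := D.card_split (D.nb (D.pt v))
    rw [D.card_nb, D.nb_inter_base, D.card_seen_pt v, Finset.inter_singleton_of_mem
      (D.mem_nb.2 (D.edge_symm (D.edge_pt v))), Finset.card_singleton] at hs
    rw [e]
    omega
  rw [Finset.sum_congr rfl h1, Finset.sum_congr rfl h2, Finset.sum_const, Finset.sum_const,
    D.card_far, D.card_nb, smul_eq_mul, smul_eq_mul] at hd
  exact hd

lemma seen_pt_card : (D.seen (D.pt D.line)).card = 30 := by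
  classical
  have hcount := D.count_far
  have hle : (D.seen (D.pt D.line)).card ≤ 111 := by
    have h : D.seen (D.pt D.line) ⊆ Finset.univ.erase D.line := fun v hv => Finset.mem_erase.2
      ⟨fun e => D.edge_irrefl (D.pt D.line) (by
        have := D.mem_seen.1 hv; rwa [e] at this), Finset.mem_univ _⟩
    simpa using Finset.card_le_card h
  by_contra hne
  have h111 : (D.seen (D.pt D.line)).card = 111 := by omega
  -- the closed neighbourhoods are blocks of 113 points
  set C : Ω → Finset Ω := fun x => insert x (D.nb x) with hC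
  have hCs : ∀ (g : G) x, C (g • x) = (C x).image fun y => g • y := fun g x => by
    simp only [hC, D.nb_smul, Finset.image_insert]
  have hbase : ∀ y ∈ C a, C y = C a := by
    intro y hy
    rcases Finset.mem_insert.1 hy with rfl | hy
    · rfl
    obtain ⟨v, rfl⟩ := D.exists_pt (D.mem_nb.1 hy)
    symm
    refine Finset.eq_of_subset_of_card_le (fun z hz => ?_) ?_
    · rcases Finset.mem_insert.1 hz with rfl | hz
      · exact Finset.mem_insert_of_mem (D.mem_nb.2 (D.edge_symm (D.edge_pt v)))
      · obtain ⟨w, rfl⟩ := D.exists_pt (D.mem_nb.1 hz)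
        by_cases e : w = v
        · subst e; exact Finset.mem_insert_self _ _
        · refine Finset.mem_insert_of_mem (D.mem_nb.2 ?_)
          have hfull : D.seen (D.pt v) = Finset.univ.erase v := by
            refine Finset.eq_of_subset_of_card_le (fun u hu => Finset.mem_erase.2
              ⟨fun e => D.edge_irrefl (D.pt v) (by
                have := D.mem_seen.1 hu; rwa [e] at this), Finset.mem_univ _⟩) ?_
            rw [D.card_seen_pt, h111]; simp
          have : w ∈ D.seen (D.pt v) := by rw [hfull]; simp [e]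
          exact D.mem_seen.1 this
    · simp only [hC]
      rw [Finset.card_insert_of_notMem (fun h => D.edge_irrefl _ (D.mem_nb.1 h)),
        Finset.card_insert_of_notMem (fun h => D.edge_irrefl _ (D.mem_nb.1 h)), D.card_nb, D.card_nb]
  have hblock : ∀ x, ∀ y ∈ C x, C y = C x := by
    intro x y hy
    obtain ⟨g, rfl⟩ := D.trans a x
    rw [hCs, Finset.mem_image] at hy
    obtain ⟨z, hz, rfl⟩ := hy
    rw [hCs, hCs, hbase z hz]
  have hdisj : ∀ x y, y ∉ C x → Disjoint (C x) (C y) := by
    intro x y hxy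
    rw [Finset.disjoint_left]
    intro z h1 h2
    refine hxy ?_
    rw [← hblock x z h1, hblock y z h2]
    exact Finset.mem_insert_self _ _
  have hcard : ∀ x, (C x).card = 113 := fun x => by
    simp only [hC]
    rw [Finset.card_insert_of_notMem (fun h => D.edge_irrefl _ (D.mem_nb.1 h)), D.card_nb]
  have hc : c ∉ C a := by
    intro h
    rcases Finset.mem_insert.1 h with h | h
    · exact (D.far_not (D.mem_far.2 (mem_orbit_self c))).2 h
    · exact (D.far_not (D.mem_far.2 (mem_orbit_self c))).1 (D.mem_nb.1 h)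
  obtain ⟨d, -, hd⟩ := Finset.exists_mem_notMem_of_card_lt_card (s := C a ∪ C c) (t := Finset.univ) (by
    rw [Finset.card_union_of_disjoint (hdisj a c hc), hcard, hcard, Finset.card_univ, D.card_pts]
    norm_num)
  rw [Finset.mem_union, not_or] at hd
  have h3 := Finset.card_le_univ ((C a ∪ C c) ∪ C d)
  rw [Finset.card_union_of_disjoint (Finset.disjoint_union_left.2 ⟨hdisj a d hd.1, hdisj c d hd.2⟩),
    Finset.card_union_of_disjoint (hdisj a c hc), hcard, hcard, hcard, D.card_pts] at h3
  omega

lemma seen_far_card : (D.seen c).card = 56 := by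
  have h := D.count_far
  rw [D.seen_pt_card] at h
  omega

lemma edge_iff_adj (v w : Fin 112) : Edge G a b (D.pt v) (D.pt w) ↔ Adj v w := by
  classical
  refine eq_adj (fun v w => Edge G a b (D.pt v) (D.pt w)) ?_ (fun v => D.edge_irrefl _) ?_ v w
  · intro x hx i j
    obtain ⟨g, hg⟩ := D.e.surjective ⟨x, hx⟩
    have h := D.edge_pt_smul g i j
    rw [hg] at h
    exact h
  · intro i
    rw [← D.seen_pt_card, ← D.card_seen_pt i]
    rfl

lemma common_near (v : Fin 112) : (D.nb (D.pt v) ∩ D.nb a).card = 30 := by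
  rw [D.nb_inter_base, D.card_seen_pt, D.seen_pt_card]

/-- The common neighbourhood of an edge has thirty points. -/
lemma common_edge {x y : Ω} (h : Edge G a b x y) : (D.nb x ∩ D.nb y).card = 30 := by
  classical
  obtain ⟨g, rfl, rfl⟩ := h
  obtain ⟨v, hv⟩ := D.exists_pt ((edge_base D).2 (mem_orbit_self b))
  rw [D.nb_smul, D.nb_smul, ← Finset.image_inter _ _ (MulAction.injective g),
    Finset.card_image_of_injective _ (MulAction.injective g), Finset.inter_comm]
  have h30 := D.common_near v
  rwa [hv] at h30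

/-- Two nonadjacent neighbours of a point share ten of its neighbours. -/
lemma common_ten {x y z : Ω} (hy : Edge G a b x y) (hz : Edge G a b x z) (hne : y ≠ z)
    (hna : ¬ Edge G a b y z) : (D.nb x ∩ D.nb y ∩ D.nb z).card = 10 := by
  classical
  obtain ⟨g, rfl⟩ := D.trans a x
  obtain ⟨y, rfl⟩ : ∃ y', g • y' = y := ⟨g⁻¹ • y, smul_inv_smul g y⟩
  obtain ⟨z, rfl⟩ : ∃ z', g • z' = z := ⟨g⁻¹ • z, smul_inv_smul g z⟩
  obtain ⟨v, rfl⟩ := D.exists_pt (edge_smul.1 hy)
  obtain ⟨w, rfl⟩ := D.exists_pt (edge_smul.1 hz)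
  rw [edge_smul, D.edge_iff_adj] at hna
  have hvw : v ≠ w := fun e => hne (by rw [e])
  rw [D.nb_smul, D.nb_smul, D.nb_smul, ← Finset.image_inter _ _ (MulAction.injective g),
    ← Finset.image_inter _ _ (MulAction.injective g),
    Finset.card_image_of_injective _ (MulAction.injective g)]
  have h10 := card_common hvw
  rw [if_neg hna] at h10
  rw [← h10, ← Finset.card_map (f := ⟨D.pt, D.pt_injective⟩)]
  congr 1
  ext u
  simp only [Finset.mem_inter, mem_nb, Finset.mem_map, Finset.mem_filter, Finset.mem_univ, true_and,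
    Function.Embedding.coeFn_mk]
  constructor
  · rintro ⟨⟨h1, h2⟩, h3⟩
    obtain ⟨k, rfl⟩ := D.exists_pt h1
    exact ⟨k, ⟨(D.edge_iff_adj v k).1 h2, (D.edge_iff_adj w k).1 h3⟩, rfl⟩
  · rintro ⟨k, ⟨h2, h3⟩, rfl⟩
    exact ⟨⟨D.edge_pt k, (D.edge_iff_adj v k).2 h2⟩, (D.edge_iff_adj w k).2 h3⟩

lemma seen_ten {x : Ω} (hx : x ∈ D.far) (v : Fin 112) (hv : v ∈ D.seen x) :
    ((D.seen x).filter fun w => Adj v w).card = 10 := by
  classical
  obtain ⟨hna, hne⟩ := D.far_not hx
  have h := D.common_ten (x := D.pt v) (y := a) (z := x) (D.edge_symm (D.edge_pt v))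
    (D.edge_symm (D.mem_seen.1 hv)) hne.symm hna
  rw [← h, ← Finset.card_map (f := ⟨D.pt, D.pt_injective⟩)]
  congr 1
  ext u
  simp only [Finset.mem_inter, mem_nb, Finset.mem_map, Finset.mem_filter,
    Function.Embedding.coeFn_mk, mem_seen]
  constructor
  · rintro ⟨k, ⟨h2, h3⟩, rfl⟩
    exact ⟨⟨(D.edge_iff_adj v k).2 h3, D.edge_pt k⟩, h2⟩
  · rintro ⟨⟨h1, h2⟩, h3⟩
    obtain ⟨k, rfl⟩ := D.exists_pt h2
    exact ⟨k, ⟨h3, (D.edge_iff_adj v k).1 h1⟩, rfl⟩

lemma seen_mem_far {x : Ω} (hx : x ∈ D.far) : (D.seen x).card = 56 := by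
  obtain ⟨g, rfl⟩ := D.mem_far.1 hx
  show (D.seen ((g : G) • c)).card = _
  rw [D.card_seen_smul, D.seen_far_card]

/-- The far points, matched with the far half sets. -/
theorem exists_far_map : ∃ (π : Equiv.Perm (Fin 112)) (q : Fin 162 → Ω),
    (∀ v w, Adj (π v) (π w) ↔ Adj v w) ∧ Function.Injective q ∧ (∀ j, q j ∈ D.far) ∧
    (∀ j v, v ∈ D.seen (q j) ↔ π v ∈ farSet j) ∧
    ∀ j k, j ≠ k → (Edge G a b (q j) (q k) ↔ (farSet j ∩ farSet k).card = 20) := by
  classical
  obtain ⟨π, hπ, hall⟩ := exists_symmetry (D.seen c) D.seen_far_card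
    (fun v hv => D.seen_ten (D.mem_far.2 (mem_orbit_self c)) v hv)
  choose x hx hxs using hall
  set q : Fin 162 → Ω := fun j => D.e.symm ⟨x j, hx j⟩ • c with hq
  have hqfar : ∀ j, q j ∈ D.far := fun j => D.mem_far.2 ⟨_, rfl⟩
  have hseen : ∀ j v, v ∈ D.seen (q j) ↔ π v ∈ farSet j := by
    intro j v
    have h := D.seen_smul (D.e.symm ⟨x j, hx j⟩) c ((⟨x j, hx j⟩ : K)⁻¹ • v)
    rw [MulEquiv.apply_symm_apply, smul_inv_smul] at h
    refine h.trans ((hxs j _).symm.trans ?_)
    rw [show x j (((⟨x j, hx j⟩ : K)⁻¹ • v : Fin 112)) = v from perm_apply_inv (x j) v]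
  have hinter : ∀ j k, (D.seen (q j) ∩ D.seen (q k)).card = (farSet j ∩ farSet k).card := by
    intro j k
    rw [← Finset.card_map (f := π.toEmbedding)]
    congr 1
    ext u
    simp only [Finset.mem_map, Finset.mem_inter, hseen, Equiv.coe_toEmbedding]
    constructor
    · rintro ⟨v, hv, rfl⟩; exact hv
    · intro hu; exact ⟨π.symm u, by simpa using hu, by simp⟩
  have hqinj : Function.Injective q := by
    intro j k e
    by_contra hjk
    have h := farSet_inter hjk
    rw [← hinter, e, Finset.inter_self, D.seen_mem_far (hqfar k)] at h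
    omega
  have hqsurj : ∀ y ∈ D.far, ∃ k, q k = y := by
    intro y hy
    have e : Finset.univ.image q = D.far := by
      refine Finset.eq_of_subset_of_card_le (fun z hz => ?_) ?_
      · obtain ⟨k, -, rfl⟩ := Finset.mem_image.1 hz; exact hqfar k
      · rw [Finset.card_image_of_injective _ hqinj, Finset.card_univ, Fintype.card_fin, D.card_far]
    rw [← e, Finset.mem_image] at hy
    obtain ⟨k, -, hk⟩ := hy
    exact ⟨k, hk⟩
  refine ⟨π, q, hπ, hqinj, hqfar, hseen, ?_⟩
  intro j
  set A := Finset.univ.filter fun k => Edge G a b (q j) (q k) with hA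
  set B := (Finset.univ.erase j).filter fun k => (farSet j ∩ farSet k).card = 20 with hB
  have hAfar : A.map ⟨q, hqinj⟩ = D.nb (q j) ∩ D.far := by
    ext y
    simp only [hA, Finset.mem_map, Finset.mem_filter, Finset.mem_univ, true_and,
      Finset.mem_inter, mem_nb, Function.Embedding.coeFn_mk]
    constructor
    · rintro ⟨k, hk, rfl⟩; exact ⟨hk, hqfar k⟩
    · rintro ⟨h1, h2⟩
      obtain ⟨k, rfl⟩ := hqsurj y h2
      exact ⟨k, h1, rfl⟩
  have hAcard : A.card = 56 := by
    have hs := D.card_split (D.nb (q j))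
    rw [D.card_nb, D.nb_inter_base, D.seen_mem_far (hqfar j), Finset.inter_singleton_of_notMem
      (fun h => (D.far_not (hqfar j)).1 (D.edge_symm (D.mem_nb.1 h))), Finset.card_empty,
      ← hAfar, Finset.card_map] at hs
    omega
  -- a line seen by a far point sees twenty of its far neighbours
  have hper : ∀ v ∈ D.seen (q j), (A.filter fun k => v ∈ D.seen (q k)).card = 20 := by
    intro v hv
    have h30 := D.common_edge (D.mem_seen.1 hv)
    have hs := D.card_split (D.nb (q j) ∩ D.nb (D.pt v))
    have hnear : ((D.nb (q j) ∩ D.nb (D.pt v)) ∩ D.nb a).card = 10 := by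
      rw [← D.seen_ten (hqfar j) v hv, ← Finset.card_map (f := ⟨D.pt, D.pt_injective⟩)]
      congr 1
      ext u
      simp only [Finset.mem_inter, mem_nb, Finset.mem_map, Finset.mem_filter,
        Function.Embedding.coeFn_mk, mem_seen]
      constructor
      · rintro ⟨⟨h1, h2⟩, h3⟩
        obtain ⟨k, rfl⟩ := D.exists_pt h3
        exact ⟨k, ⟨h1, (D.edge_iff_adj v k).1 h2⟩, rfl⟩
      · rintro ⟨k, ⟨h1, h2⟩, rfl⟩
        exact ⟨⟨h1, (D.edge_iff_adj v k).2 h2⟩, D.edge_pt k⟩
    have hfar : ((D.nb (q j) ∩ D.nb (D.pt v)) ∩ D.far)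
        = (A.filter fun k => v ∈ D.seen (q k)).map ⟨q, hqinj⟩ := by
      ext y
      simp only [Finset.mem_inter, mem_nb, Finset.mem_map, Finset.mem_filter, hA,
        Finset.mem_univ, true_and, Function.Embedding.coeFn_mk, mem_seen]
      constructor
      · rintro ⟨⟨h1, h2⟩, h3⟩
        obtain ⟨k, rfl⟩ := hqsurj y h3
        exact ⟨k, ⟨h1, D.edge_symm h2⟩, rfl⟩
      · rintro ⟨k, ⟨h1, h2⟩, rfl⟩
        exact ⟨⟨h1, D.edge_symm h2⟩, hqfar k⟩
    rw [h30, hnear, hfar, Finset.card_map, Finset.inter_singleton_of_notMem (fun h =>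
      (D.far_not (hqfar j)).1 (D.edge_symm (D.mem_nb.1 (Finset.mem_inter.1 h).1))),
      Finset.card_empty] at hs
    omega
  -- a line is seen by eighty-one far points
  have hall81 : ∀ v, (Finset.univ.filter fun k => v ∈ D.seen (q k)).card = 81 := by
    intro v
    have hs := D.card_split (D.nb (D.pt v))
    have e : D.nb (D.pt v) ∩ D.far
        = (Finset.univ.filter fun k => v ∈ D.seen (q k)).map ⟨q, hqinj⟩ := by
      ext y
      simp only [Finset.mem_inter, mem_nb, Finset.mem_map, Finset.mem_filter,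
        Finset.mem_univ, true_and, Function.Embedding.coeFn_mk, mem_seen]
      constructor
      · rintro ⟨h1, h2⟩
        obtain ⟨k, rfl⟩ := hqsurj y h2
        exact ⟨k, D.edge_symm h1, rfl⟩
      · rintro ⟨k, h1, rfl⟩
        exact ⟨D.edge_symm h1, hqfar k⟩
    rw [D.card_nb, D.common_near, e, Finset.card_map, Finset.inter_singleton_of_mem
      (D.mem_nb.2 (D.edge_symm (D.edge_pt v))), Finset.card_singleton] at hs
    omega
  have hswap : ∀ T : Finset (Fin 162), ∑ k ∈ T, (farSet j ∩ farSet k).card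
      = ∑ v ∈ D.seen (q j), (T.filter fun k => v ∈ D.seen (q k)).card := by
    intro T
    have hd := Finset.sum_card_bipartiteAbove_eq_sum_card_bipartiteBelow
      (r := fun k v => v ∈ D.seen (q k)) (s := T) (t := D.seen (q j))
    refine Eq.trans (Finset.sum_congr rfl fun k _ => ?_) (hd.trans rfl)
    rw [← hinter, Finset.bipartiteAbove, ← Finset.filter_mem_eq_inter]
  have hAsub : A ⊆ Finset.univ.erase j := fun k hk => Finset.mem_erase.2
    ⟨fun e => D.edge_irrefl (q j) (by
      have := (Finset.mem_filter.1 hk).2; rwa [e] at this), Finset.mem_univ _⟩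
  have hAB : A ⊆ B := by
    intro k hk
    refine Finset.mem_filter.2 ⟨hAsub hk, ?_⟩
    have h20 : ∀ k ∈ A, 20 ≤ (farSet j ∩ farSet k).card := fun k hk => by
      rcases farSet_inter (Finset.ne_of_mem_erase (hAsub hk)).symm with h | h <;> omega
    have hsum : ∑ k ∈ A, (farSet j ∩ farSet k).card = ∑ _k ∈ A, 20 := by
      rw [hswap, Finset.sum_congr rfl hper, Finset.sum_const, Finset.sum_const,
        D.seen_mem_far (hqfar j), hAcard]
    exact ((Finset.sum_eq_sum_iff_of_le h20).1 hsum.symm k hk).symm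
  have hBcard : B.card = 56 := by
    have htot : ∑ k ∈ (Finset.univ : Finset (Fin 162)), (farSet j ∩ farSet k).card = 4536 := by
      rw [hswap, Finset.sum_congr rfl (fun v _ => hall81 v), Finset.sum_const,
        D.seen_mem_far (hqfar j)]
      rfl
    rw [← Finset.add_sum_erase _ _ (Finset.mem_univ j), Finset.inter_self, card_farSet,
      ← Finset.sum_filter_add_sum_filter_not (Finset.univ.erase j)
        (fun k => (farSet j ∩ farSet k).card = 20),
      Finset.sum_congr rfl (fun k hk => (Finset.mem_filter.1 hk).2),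
      Finset.sum_congr rfl (fun k hk => (farSet_inter (Finset.ne_of_mem_erase
        (Finset.mem_filter.1 hk).1).symm).resolve_left (Finset.mem_filter.1 hk).2),
      Finset.sum_const, Finset.sum_const, ← hB, smul_eq_mul, smul_eq_mul] at htot
    have htot2 := Finset.card_filter_add_card_filter_not (s := Finset.univ.erase j)
      (fun k => (farSet j ∩ farSet k).card = 20)
    rw [← hB, Finset.card_erase_of_mem (Finset.mem_univ j), Finset.card_univ,
      Fintype.card_fin] at htot2
    omega
  have hABeq : A = B := Finset.eq_of_subset_of_card_le hAB (by omega)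
  intro k hjk
  have := Finset.ext_iff.1 hABeq k
  simp only [hA, hB, Finset.mem_filter, Finset.mem_univ, true_and, Finset.mem_erase, and_true] at this
  rw [this]
  exact ⟨fun h => h.2, fun h => ⟨Ne.symm hjk, h⟩⟩

end Setup

end

/-! ### The lattice model -/

open Cfsg Cfsg.Agent.H92.LeechOrbit Cfsg.Agent.H32.OutMcL

attribute [local irreducible] H32.OutMcL.vec Cert.code dec dotInt mclCert

/-- The code of a model vertex. -/
noncomputable def modelCode : Option (Fin 112 ⊕ Fin 162) → ℕ
  | none => mclCert.code mclCert.root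
  | some (Sum.inl i) => mclNearCert.code i
  | some (Sum.inr j) => mclFarCert.code j

lemma exists_sub {C : Cert} {d : ℤ} (hok : certOK C = true)
    (hrefs : C.refs = mclCert.refs ++ [(mclCert.code mclCert.root, d)]) {i : ℕ} (hi : i < C.N) :
    ∃ z : Fin 275, (H32.OutMcL.vec z).1 = dec (C.code i) ∧
      dotInt (dec (mclCert.code mclCert.root)) (H32.OutMcL.vec z).1 = d := by
  obtain ⟨v, hv, ht, -⟩ := (cert_spec hok).1 i hi
  obtain ⟨z, hz⟩ := mem_target_iff.1 (show v ∈ target mclCert from
    ⟨ht.1, fun r hr => ht.2 r (by rw [hrefs]; exact List.mem_append_left _ hr)⟩)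
  refine ⟨z, by rw [hz, hv], ?_⟩
  rw [hz]
  exact ht.2 _ (by rw [hrefs]; exact List.mem_append_right _ (List.mem_singleton.2 rfl))

lemma exists_model (u : Option (Fin 112 ⊕ Fin 162)) :
    ∃ z : Fin 275, (H32.OutMcL.vec z).1 = dec (modelCode u) ∧
      (∀ i, u = some (Sum.inl i) → dotInt (dec (mclCert.code mclCert.root)) (H32.OutMcL.vec z).1 = 8) ∧
      (∀ j, u = some (Sum.inr j) → dotInt (dec (mclCert.code mclCert.root)) (H32.OutMcL.vec z).1 = 16) := by
  rcases u with _ | i | j
  · exact ⟨⟨mclCert.root, root_lt⟩, H32.OutMcL.vec_dec _, by simp, by simp⟩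
  · obtain ⟨z, h1, h2⟩ := exists_sub mclNearCert_ok near_refs (i := i.1) i.2
    exact ⟨z, h1, fun _ _ => h2, by simp⟩
  · obtain ⟨z, h1, h2⟩ := exists_sub mclFarCert_ok far_refs (i := j.1) j.2
    exact ⟨z, h1, by simp, fun _ _ => h2⟩

/-- The lattice point of a model vertex. -/
noncomputable def modelPt (u : Option (Fin 112 ⊕ Fin 162)) : Fin 275 := (exists_model u).choose

lemma modelPt_spec (u : Option (Fin 112 ⊕ Fin 162)) :
    (H32.OutMcL.vec (modelPt u)).1 = dec (modelCode u) := (exists_model u).choose_spec.1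

/-- Adjacency in the line model. -/
def ModelAdj : Option (Fin 112 ⊕ Fin 162) → Option (Fin 112 ⊕ Fin 162) → Prop
  | none, some (Sum.inl _) => True
  | some (Sum.inl _), none => True
  | some (Sum.inl i), some (Sum.inl j) => McLLines.Adj i j
  | some (Sum.inl i), some (Sum.inr j) => i ∈ farSet j
  | some (Sum.inr j), some (Sum.inl i) => i ∈ farSet j
  | some (Sum.inr j), some (Sum.inr k) => j ≠ k ∧ (farSet j ∩ farSet k).card = 20
  | _, _ => False

lemma dot_code (u : Option (Fin 112 ⊕ Fin 162)) :
    (∀ i, u = some (Sum.inl i) → dotInt (dec (modelCode none)) (dec (modelCode u)) = 8) ∧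
      (∀ j, u = some (Sum.inr j) → dotInt (dec (modelCode none)) (dec (modelCode u)) = 16) := by
  obtain ⟨h1, h2, h3⟩ := (exists_model u).choose_spec
  exact ⟨fun i hi => by rw [← h1]; exact h2 i hi, fun j hj => by rw [← h1]; exact h3 j hj⟩

lemma dot_near {i j : Fin 112} (h : i ≠ j) :
    dotInt (dec (mclNearCert.code i)) (dec (mclNearCert.code j)) = bif McLLines.adjB i j then 8 else 16 := by
  have key : ∀ i j : Fin 112, i < j →
      dotInt (dec (mclNearCert.code i)) (dec (mclNearCert.code j)) = bif McLLines.adjB i j then 8 else 16 := by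
    intro i j hij
    have hok := near_dot_ok
    simp only [nearDotOK, Compute.allN_iff, Bool.or_eq_true, Nat.ble_eq, dotTest_eq,
      decide_eq_true_eq] at hok
    exact (hok i i.2 j j.2).resolve_left (by omega)
  rcases lt_or_gt_of_ne h with h | h
  · exact key i j h
  · rw [dotInt_comm', key j i h]
    have : (Adj j i : Prop) ↔ Adj i j := ⟨adj_symm, adj_symm⟩
    unfold McLLines.Adj at this
    rw [Bool.eq_iff_iff.2 this]

lemma dot_cross (i : Fin 112) (j : Fin 162) :
    dotInt (dec (mclNearCert.code i)) (dec (mclFarCert.code j))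
      = bif (farRow j).testBit i then 8 else 16 := by
  have hok := cross_dot_ok
  simp only [crossDotOK, Compute.allN_iff, dotTest_eq, decide_eq_true_eq] at hok
  exact hok i i.2 j j.2

lemma mem_farSet {i : Fin 112} {j : Fin 162} : i ∈ farSet j ↔ (farRow j).testBit i = true := by
  simp [farSet]

lemma dot_far {j k : Fin 162} (h : j ≠ k) :
    (dotInt (dec (mclFarCert.code j)) (dec (mclFarCert.code k)) = 8 ∧
        (farSet j ∩ farSet k).card = 20) ∨
      (dotInt (dec (mclFarCert.code j)) (dec (mclFarCert.code k)) = 16 ∧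
        (farSet j ∩ farSet k).card = 32) := by
  have key : ∀ j k : Fin 162, j < k →
      (dotInt (dec (mclFarCert.code j)) (dec (mclFarCert.code k)) = 8 ∧
          (farSet j ∩ farSet k).card = 20) ∨
        (dotInt (dec (mclFarCert.code j)) (dec (mclFarCert.code k)) = 16 ∧
          (farSet j ∩ farSet k).card = 32) := by
    intro j k hjk
    have hd := far_dot_ok
    simp only [farDotOK, Compute.allN_iff, Bool.or_eq_true, Nat.ble_eq, dotTest_eq,
      decide_eq_true_eq] at hd
    have hd' := (hd j j.2 k k.2).resolve_left (by omega)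
    have hok := far_ok
    simp only [farOK, Compute.allN_iff, Bool.and_eq_true, Bool.or_eq_true, Nat.ble_eq] at hok
    obtain ⟨⟨-, hlt⟩, hab⟩ := hok j j.2
    have e : farSet j ∩ farSet k
        = Finset.univ.filter fun w : Fin 112 => (Nat.land (farRow j) (farRow k)).testBit w := by
      ext w
      simp only [Finset.mem_inter, mem_farSet, Finset.mem_filter, Finset.mem_univ, true_and]
      show _ ↔ (farRow j &&& farRow k).testBit w = true
      rw [Nat.testBit_and, Bool.and_eq_true]
    rcases hab k k.2 with (h' | h') | h'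
    · omega
    · rw [h'] at hd'
      exact Or.inl ⟨hd', by rw [e]; exact popIs_card _ _ h' (lt_of_le_of_lt Nat.and_le_left hlt)⟩
    · have hc := popIs_card _ _ h' (lt_of_le_of_lt Nat.and_le_left hlt)
      cases hb : popIs 20 (Nat.land (farRow j) (farRow k))
      · rw [hb] at hd'; exact Or.inr ⟨hd', by rw [e]; exact hc⟩
      · have := popIs_card _ _ hb (lt_of_le_of_lt Nat.and_le_left hlt)
        omega
  rcases lt_or_gt_of_ne h with h | h
  · exact key j k h
  · rw [dotInt_comm', Finset.inter_comm]; exact key k j h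

lemma model_dot {u v : Option (Fin 112 ⊕ Fin 162)} (huv : u ≠ v) :
    (dotInt (dec (modelCode u)) (dec (modelCode v)) = 8 ∧ ModelAdj u v) ∨
      (dotInt (dec (modelCode u)) (dec (modelCode v)) = 16 ∧ ¬ ModelAdj u v) := by
  rcases u with _ | i | j <;> rcases v with _ | i' | j'
  · exact absurd rfl huv
  · exact Or.inl ⟨(dot_code _).1 i' rfl, trivial⟩
  · exact Or.inr ⟨(dot_code _).2 j' rfl, fun h => h⟩
  · exact Or.inl ⟨by rw [dotInt_comm']; exact (dot_code _).1 i rfl, trivial⟩
  · have h : i ≠ i' := fun e => huv (by rw [e])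
    show (dotInt (dec (mclNearCert.code i)) (dec (mclNearCert.code i')) = 8 ∧ McLLines.Adj i i') ∨
      (dotInt (dec (mclNearCert.code i)) (dec (mclNearCert.code i')) = 16 ∧ ¬ McLLines.Adj i i')
    rw [dot_near h, McLLines.Adj]
    cases McLLines.adjB i i' <;> simp
  · show (dotInt (dec (mclNearCert.code i)) (dec (mclFarCert.code j')) = 8 ∧ i ∈ farSet j') ∨
      (dotInt (dec (mclNearCert.code i)) (dec (mclFarCert.code j')) = 16 ∧ ¬ i ∈ farSet j')
    rw [dot_cross, mem_farSet]
    cases (farRow j').testBit i <;> simp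
  · exact Or.inr ⟨by rw [dotInt_comm']; exact (dot_code _).2 j rfl, fun h => h⟩
  · show (dotInt (dec (mclFarCert.code j)) (dec (mclNearCert.code i')) = 8 ∧ i' ∈ farSet j) ∨
      (dotInt (dec (mclFarCert.code j)) (dec (mclNearCert.code i')) = 16 ∧ ¬ i' ∈ farSet j)
    rw [dotInt_comm', dot_cross, mem_farSet]
    cases (farRow j).testBit i' <;> simp
  · have h : j ≠ j' := fun e => huv (by rw [e])
    rcases dot_far h with ⟨h1, h2⟩ | ⟨h1, h2⟩
    · exact Or.inl ⟨h1, h, h2⟩
    · exact Or.inr ⟨h1, fun h' => by have := h'.2; omega⟩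

lemma modelPt_injective : Function.Injective modelPt := by
  intro u v e
  by_contra huv
  have hn : dotInt (H32.OutMcL.vec (modelPt u)).1 (H32.OutMcL.vec (modelPt u)).1 = 32 := by
    obtain ⟨hn, -⟩ : H32.OutMcL.vec (modelPt u) ∈ target mclCert := mem_target_iff.2 ⟨_, rfl⟩
    rw [dotInt_self]; exact hn
  have h1 := modelPt_spec v
  rw [← e, modelPt_spec u] at h1
  rcases model_dot huv with h | h <;>
  · rw [← h1, ← modelPt_spec u, hn] at h
    omega

lemma modelPt_adj (u v : Option (Fin 112 ⊕ Fin 162)) :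
    H32.OutMcL.Adj (modelPt u) (modelPt v) ↔ ModelAdj u v := by
  unfold H32.OutMcL.Adj
  rw [modelPt_spec, modelPt_spec]
  by_cases huv : u = v
  · subst huv
    have hn : dotInt (dec (modelCode u)) (dec (modelCode u)) = 32 := by
      obtain ⟨hn, -⟩ : H32.OutMcL.vec (modelPt u) ∈ target mclCert := mem_target_iff.2 ⟨_, rfl⟩
      rw [← modelPt_spec, dotInt_self]; exact hn
    rw [hn]
    refine iff_of_false (by norm_num) ?_
    rcases u with _ | i | j
    · exact id
    · exact adj_irrefl i
    · exact fun h => h.1 rfl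
  · rcases model_dot huv with ⟨h1, h2⟩ | ⟨h1, h2⟩
    · exact iff_of_true h1 h2
    · exact iff_of_false (by rw [h1]; norm_num) h2

/-! ### The group -/

/-- The standard copy. -/
theorem nonempty_mcG_iso : Nonempty (H32.OutMcL.McG ≃* Spor.McL) := by
  obtain ⟨k, k1, k2⟩ := exists_move_edge Spor.leechV (-Spor.leechU) leech_edge.1
    ⟨leech_edge.2.1, leech_edge.2.2⟩
  have hp : k • (Spor.leechV, -Spor.leechU) = ((refU, refV) : leechLattice × leechLattice) :=
    Prod.ext k1 k2
  exact ⟨(((MulEquiv.subgroupCongr (mclG_eq.trans (stabilizer_inf_eq_prod refU refV))).trans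
      (MulAction.stabilizerEquivStabilizer hp.symm).symm).trans
      (MulEquiv.subgroupCongr (stabilizer_inf_eq_prod _ _)).symm).trans
      ((mclStab.equivMapOfInjective _ Co0.subtype_injective).trans
        (MulEquiv.subgroupCongr map_mclStab))⟩

variable {Ω : Type*} [Fintype Ω] [DecidableEq Ω] {G : Subgroup (Equiv.Perm Ω)} {a b c : Ω}

/-- The graph of the hypothesis is the graph of the lattice. -/
theorem Setup.exists_equiv (D : Setup G a b c) :
    ∃ Φ : Ω ≃ Fin 275, ∀ x y, H32.OutMcL.Adj (Φ x) (Φ y) ↔ Edge G a b x y := by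
  classical
  obtain ⟨π, q, hπ, hqinj, hqfar, hseen, hqq⟩ := D.exists_far_map
  let θ : Option (Fin 112 ⊕ Fin 162) → Ω
    | none => a
    | some (Sum.inl i) => D.pt (π.symm i)
    | some (Sum.inr j) => q j
  have hθ : Function.Injective θ := by
    intro u v e
    rcases u with _ | i | j <;> rcases v with _ | i' | j'
    · rfl
    · exact absurd e fun e : a = D.pt _ => D.edge_irrefl a (by
        have := D.edge_pt (π.symm i'); rwa [← e] at this)
    · exact absurd e fun e : a = q j' => (D.far_not (hqfar j')).2 e.symm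
    · exact absurd e fun e : D.pt _ = a => D.edge_irrefl a (by
        have := D.edge_pt (π.symm i); rwa [e] at this)
    · rw [π.symm.injective (D.pt_injective e)]
    · exact absurd e fun e : D.pt _ = q j' => (D.far_not (hqfar j')).1 (e ▸ D.edge_pt _)
    · exact absurd e fun e : q j = a => (D.far_not (hqfar j)).2 e
    · exact absurd e fun e : q j = D.pt _ => (D.far_not (hqfar j)).1 (e.symm ▸ D.edge_pt _)
    · rw [hqinj e]
  have hθe : ∀ u v, Edge G a b (θ u) (θ v) ↔ ModelAdj u v := by
    intro u v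
    rcases u with _ | i | j <;> rcases v with _ | i' | j'
    · exact iff_of_false (D.edge_irrefl a) id
    · exact iff_of_true (D.edge_pt _) trivial
    · exact iff_of_false (D.far_not (hqfar j')).1 id
    · exact iff_of_true (D.edge_symm (D.edge_pt _)) trivial
    · show Edge G a b (D.pt _) (D.pt _) ↔ McLLines.Adj i i'
      rw [D.edge_iff_adj, ← hπ, Equiv.apply_symm_apply, Equiv.apply_symm_apply]
    · show Edge G a b (D.pt _) (q j') ↔ i ∈ farSet j'
      have h := hseen j' (π.symm i)
      rw [Equiv.apply_symm_apply, D.mem_seen] at h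
      exact ⟨fun e => h.1 (D.edge_symm e), fun e => D.edge_symm (h.2 e)⟩
    · exact iff_of_false (fun e => (D.far_not (hqfar j)).1 (D.edge_symm e)) id
    · show Edge G a b (q j) (D.pt _) ↔ i' ∈ farSet j
      have h := hseen j (π.symm i')
      rw [Equiv.apply_symm_apply, D.mem_seen] at h
      exact h
    · show Edge G a b (q j) (q j') ↔ j ≠ j' ∧ (farSet j ∩ farSet j').card = 20
      by_cases h : j = j'
      · subst h; exact iff_of_false (D.edge_irrefl _) fun h => h.1 rfl
      · rw [hqq j j' h]; exact ⟨fun e => ⟨h, e⟩, fun e => e.2⟩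
  let e1 : Option (Fin 112 ⊕ Fin 162) ≃ Ω := Equiv.ofBijective θ
    ((Fintype.bijective_iff_injective_and_card θ).2 ⟨hθ, by simp [D.card_pts]⟩)
  let e2 : Option (Fin 112 ⊕ Fin 162) ≃ Fin 275 := Equiv.ofBijective modelPt
    ((Fintype.bijective_iff_injective_and_card modelPt).2 ⟨modelPt_injective, by simp⟩)
  refine ⟨e1.symm.trans e2, fun x y => ?_⟩
  obtain ⟨u, rfl⟩ := e1.surjective x
  obtain ⟨v, rfl⟩ := e1.surjective y
  show H32.OutMcL.Adj (e2 (e1.symm (e1 u))) (e2 (e1.symm (e1 v))) ↔ Edge G a b (θ u) (θ v)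
  rw [Equiv.symm_apply_apply, Equiv.symm_apply_apply, hθe]
  exact modelPt_adj u v

/-- Uniqueness. -/
theorem Setup.isoMcL (D : Setup G a b c) : Spor.IsoMcL G := by
  classical
  obtain ⟨Φ, hΦ⟩ := D.exists_equiv
  have hcardG : Nat.card G = 898128000 := by
    have h := Nat.card_congr (orbitProdStabilizerEquivGroup G a)
    rw [Nat.card_prod, Nat.card_congr D.e.toEquiv, card_K,
      show orbit G a = Set.univ from Set.eq_univ_iff_forall.2 fun x => D.trans a x,
      Nat.card_coe_set_eq, Set.ncard_univ, Nat.card_eq_fintype_card, D.card_pts] at h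
    omega
  let ι : G →* Equiv.Perm (Fin 275) := Φ.permCongrHom.toMonoidHom.comp G.subtype
  have hι : Function.Injective ι := fun g h e => Subtype.ext (Φ.permCongrHom.injective e)
  let M : Subgroup (Equiv.Perm (Fin 275)) := (MulAction.toPermHom McG (Fin 275)).range
  haveI hMsimple : IsSimpleGroup ↥(McG : Subgroup Co0) := isMcL_mclG.1
  have hMinj : Function.Injective (MulAction.toPermHom McG (Fin 275)) := MulAction.toPerm_injective
  let eM : McG ≃* M := MonoidHom.ofInjective hMinj
  have hcardM : Nat.card M = 898128000 := by rw [← Nat.card_congr eM.toEquiv, card_mclG]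
  have hMA : M ≤ autFix [] := by
    rintro _ ⟨m, rfl⟩
    exact ⟨fun i j => adj_smul m i j, fun p hp => absurd hp (List.not_mem_nil)⟩
  have hGA : ι.range ≤ autFix [] := by
    rintro _ ⟨g, rfl⟩
    refine ⟨fun i j => ?_, fun p hp => absurd hp (List.not_mem_nil)⟩
    obtain ⟨x, rfl⟩ := Φ.surjective i
    obtain ⟨y, rfl⟩ := Φ.surjective j
    have e : ∀ x, ι g (Φ x) = Φ (g • x) := fun x => by
      show Φ ((g : Equiv.Perm Ω) (Φ.symm (Φ x))) = Φ (g • x)
      rw [Equiv.symm_apply_apply]; rfl
    rw [e, e, hΦ, hΦ, edge_smul]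
  have hcardR : Nat.card ι.range = 898128000 := by
    rw [← Nat.card_congr (MonoidHom.ofInjective hι).toEquiv, hcardG]
  -- the index of the intersection
  set I := (ι.range ⊓ M).subgroupOf M with hI
  have hI2 : I.index ≤ 2 := by
    have h1 : (ι.range ⊓ M).relIndex M = ι.range.relIndex M := by rw [Subgroup.inf_relIndex_right]
    have h2 : ι.range.relIndex M ≤ ι.range.relIndex (autFix []) := by
      refine Subgroup.relIndex_le_of_le_right hMA ?_
      rw [Subgroup.relIndex]
      exact Subgroup.index_ne_zero_of_finite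
    have h3 : ι.range.relIndex (autFix []) * 898128000 ≤ 1796256000 := by
      refine le_trans (le_of_eq ?_) card_autFix_nil
      rw [← hcardR, ← Nat.card_congr (Subgroup.subgroupOfEquivOfLe hGA).toEquiv, Subgroup.relIndex,
        Subgroup.index_mul_card]
    show (ι.range ⊓ M).relIndex M ≤ 2
    omega
  haveI : Nontrivial M := eM.injective.nontrivial
  haveI : IsSimpleGroup M := IsSimpleGroup.isSimpleGroup_of_surjective eM.toMonoidHom eM.surjective
  have hIcard := I.card_mul_index
  rw [hcardM] at hIcard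
  have htop : I = ⊤ := by
    have hne : I.index ≠ 0 := Subgroup.index_ne_zero_of_finite
    rcases (show I.index = 1 ∨ I.index = 2 by omega) with h | h
    · exact Subgroup.index_eq_one.1 h
    · rcases (Subgroup.normal_of_index_eq_two h).eq_bot_or_eq_top with e | e
      · rw [e, Subgroup.card_bot, Subgroup.index_bot, hcardM] at hIcard
        rw [e, Subgroup.index_bot, hcardM] at h
        omega
      · exact e
  have hle : M ≤ ι.range := fun x hx => by
    have : (⟨x, hx⟩ : M) ∈ I := htop ▸ Subgroup.mem_top _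
    exact (Subgroup.mem_subgroupOf.1 this).1
  have heq : M = ι.range := Subgroup.eq_of_le_of_card_ge hle (le_of_eq (hcardR.trans hcardM.symm))
  obtain ⟨E⟩ := nonempty_mcG_iso
  exact ⟨((MonoidHom.ofInjective hι).trans (MulEquiv.subgroupCongr heq.symm)).trans
    (eM.symm.trans E)⟩

end Cfsg.Agent.Golay.McLRankThree
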