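import Cfsg.Agent.Golay.McLLines

/-!
The kernel search over half sets of the 112 lines.
-/

set_option autoImplicit false
set_option Elab.async false

namespace Cfsg.Agent.Golay.McLLines

open Cfsg.Agent.Compute

theorem steps_ok :
    (stepsOK stepsHead 0 && stepsOK stepsTail (doneAfter stepsHead 0) &&
      Nat.beq (doneAfter stepsTail (doneAfter stepsHead 0)) (2 ^ 112 - 1)) = true := by
  decide +kernel

theorem head_ok : search isFrontier stepsHead 0 = true := by decide +kernel

theorem tail_ok_0 : lall frontier0 (search isFam stepsTail) = true := by decide +kernel
theorem tail_ok_1 : lall frontier1 (search isFam stepsTail) = true := by decide +kernel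
theorem tail_ok_2 : lall frontier2 (search isFam stepsTail) = true := by decide +kernel
theorem tail_ok_3 : lall frontier3 (search isFam stepsTail) = true := by decide +kernel

end Cfsg.Agent.Golay.McLLines
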