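import Cfsg.Agent.Golay.Mathieu

/-!
Transitivity of the group of the code and transport of stabilisers to arbitrary base points.
-/

set_option autoImplicit false

namespace Cfsg.Agent.Golay

open Cfsg
open scoped Pointwise

lemma map_stabilizer_subtype {β : Type*} [MulAction (Equiv.Perm GolayPt) β]
    (G : Subgroup (Equiv.Perm GolayPt)) (x : β) :
    (MulAction.stabilizer G x).map G.subtype = G ⊓ MulAction.stabilizer (Equiv.Perm GolayPt) x := by
  ext σ
  constructor
  · rintro ⟨g, hg, rfl⟩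
    exact ⟨g.2, hg⟩
  · rintro ⟨h1, h2⟩
    exact ⟨⟨σ, h1⟩, h2, rfl⟩

lemma map_inf_subtype {G : Subgroup (Equiv.Perm GolayPt)} (A B : Subgroup G) :
    (A ⊓ B).map G.subtype = A.map G.subtype ⊓ B.map G.subtype :=
  Subgroup.map_inf A B _ G.subtype_injective

/-- A subgroup of a subgroup is isomorphic to its image. -/
noncomputable def subtypeEquiv {G : Subgroup (Equiv.Perm GolayPt)} (A : Subgroup G) :
    A ≃* A.map G.subtype :=
  A.equivMapOfInjective _ G.subtype_injective

lemma smul_eq_of_image {σ : Equiv.Perm GolayPt} {s t : Finset GolayPt}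
    (h : ∀ p ∈ s, σ p ∈ t) (hc : t.card ≤ s.card) : σ • s = t := by
  refine Finset.eq_of_subset_of_card_le (fun q hq => ?_) (by rwa [Finset.card_smul_finset])
  rw [mem_smul_finset_iff] at hq
  simpa using h _ hq

lemma exists_smul_of_mem_orbit {G β : Type*} [Group G] [MulAction G β] {a x y : β}
    (hx : x ∈ MulAction.orbit G a) (hy : y ∈ MulAction.orbit G a) : ∃ g : G, g • x = y := by
  obtain ⟨g, rfl⟩ := hx
  obtain ⟨k, rfl⟩ := hy
  exact ⟨k * g⁻¹, by simp only [mul_smul, inv_smul_smul]⟩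

/-! ### Five-fold transitivity -/

/-- The first five base points. -/
def base5 : Fin 5 ↪ GolayPt :=
  ⟨fun i => pt ((m24Chain.map fun l => l.1).getD i.1 0), by decide +kernel⟩

lemma base5_facts :
    checkChain [] (0 ||| 2 ^ 23 ||| 2 ^ 0 ||| 2 ^ 1 ||| 2 ^ 2 ||| 2 ^ 3) (m24Chain.drop 5) = true ∧
    chainCard (m24Chain.drop 5) = 48 ∧
    List.ofFn base5 = [pt 23, pt 0, pt 1, pt 2, pt 3] := by
  decide +kernel

lemma stabilizer_base5 :
    (MulAction.stabilizer M24 base5).map M24.subtype
      = stabGrp [] (0 ||| 2 ^ 23 ||| 2 ^ 0 ||| 2 ^ 1 ||| 2 ^ 2 ||| 2 ^ 3) := by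
  rw [stabGrp_or [] _ (by norm_num : (3 : ℕ) < 24), stabGrp_or [] _ (by norm_num : (2 : ℕ) < 24),
    stabGrp_or [] _ (by norm_num : (1 : ℕ) < 24), stabGrp_or [] _ (by norm_num : (0 : ℕ) < 24),
    stabGrp_or [] _ (by norm_num : (23 : ℕ) < 24), stabGrp_nil_zero]
  ext σ
  constructor
  · rintro ⟨g, hg, rfl⟩
    have h : ∀ p ∈ List.ofFn base5, (g : Equiv.Perm GolayPt) p = p := by
      intro p hp
      obtain ⟨i, rfl⟩ := List.mem_ofFn.1 hp
      exact DFunLike.congr_fun (hg : g • base5 = base5) i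
    rw [base5_facts.2.2] at h
    exact ⟨⟨⟨⟨⟨g.2, h _ (by simp)⟩, h _ (by simp)⟩, h _ (by simp)⟩, h _ (by simp)⟩, h _ (by simp)⟩
  · rintro ⟨⟨⟨⟨⟨h0, h1⟩, h2⟩, h3⟩, h4⟩, h5⟩
    refine ⟨⟨σ, h0⟩, ?_, rfl⟩
    show (⟨σ, h0⟩ : M24) • base5 = base5
    ext i : 1
    have hi : base5 i ∈ List.ofFn base5 := List.mem_ofFn.2 ⟨i, rfl⟩
    rw [base5_facts.2.2] at hi
    simp only [List.mem_cons, List.not_mem_nil, or_false] at hi
    show σ (base5 i) = base5 i
    rcases hi with h | h | h | h | h <;> rw [h]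
    exacts [h1, h2, h3, h4, h5]

theorem orbit_base5 : MulAction.orbit M24 base5 = Set.univ := by
  have h48 : Nat.card (MulAction.stabilizer M24 base5) = 48 := by
    rw [Nat.card_congr (subtypeEquiv _).toEquiv, stabilizer_base5, card_stabGrp base5_facts.1,
      base5_facts.2.1]
  have h := Subgroup.card_mul_index (MulAction.stabilizer M24 base5)
  rw [MulAction.index_stabilizer, h48, card_M24] at h
  refine Set.eq_of_subset_of_ncard_le (Set.subset_univ _) ?_ (Set.toFinite _)
  rw [Set.ncard_univ, Nat.card_eq_fintype_card, Fintype.card_embedding_eq, Fintype.card_fin,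
    show Fintype.card GolayPt = 24 from rfl, show Nat.descFactorial 24 5 = 5100480 from by decide]
  refine Nat.le_of_mul_le_mul_left (c := 48) ?_ (Nat.succ_pos 47)
  exact le_of_eq ((show 48 * 5100480 = 244823040 by norm_num).trans h.symm)

theorem M24_five_transitive : MulAction.IsMultiplyPretransitive M24 GolayPt 5 := by
  refine ⟨fun x y => ?_⟩
  have hx : x ∈ MulAction.orbit M24 base5 := orbit_base5 ▸ Set.mem_univ x
  have hy : y ∈ MulAction.orbit M24 base5 := orbit_base5 ▸ Set.mem_univ y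
  exact exists_smul_of_mem_orbit hx hy

lemma exists_M24_map_five {a b : Fin 5 → GolayPt} (ha : Function.Injective a)
    (hb : Function.Injective b) : ∃ g : M24, ∀ i, (g : Equiv.Perm GolayPt) (a i) = b i := by
  obtain ⟨g, hg⟩ := M24_five_transitive.exists_smul_eq ⟨a, ha⟩ ⟨b, hb⟩
  exact ⟨g, fun i => DFunLike.congr_fun hg i⟩

lemma exists_five_of_card {s : Finset GolayPt} (hs : 5 ≤ s.card) :
    ∃ a : Fin 5 → GolayPt, Function.Injective a ∧ ∀ i, a i ∈ s := by
  obtain ⟨t, hts, htc⟩ := Finset.exists_subset_card_eq hs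
  refine ⟨fun i => ((t.equivFinOfCardEq htc).symm i).1, ?_, fun i => hts (Subtype.prop _)⟩
  exact Subtype.val_injective.comp (Equiv.injective _)

theorem exists_M24_map_octad {o o' : Finset GolayPt} (ho : o ∈ octads) (ho' : o' ∈ octads) :
    ∃ g : M24, g • o = o' := by
  obtain ⟨a, ha, hao⟩ := exists_five_of_card (ho.2.ge.trans' (by norm_num : 5 ≤ 8))
  obtain ⟨b, hb, hbo⟩ := exists_five_of_card (ho'.2.ge.trans' (by norm_num : 5 ≤ 8))
  obtain ⟨g, hg⟩ := exists_M24_map_five ha hb
  refine ⟨g, octad_eq_of_five (smul_mem_octads g.2 ho) ho' ?_⟩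
  calc 5 = (Finset.univ.image b).card := by
        rw [Finset.card_image_of_injective _ hb, Finset.card_univ, Fintype.card_fin]
    _ ≤ _ := by
        refine Finset.card_le_card fun q hq => ?_
        obtain ⟨i, -, rfl⟩ := Finset.mem_image.1 hq
        refine Finset.mem_inter.2 ⟨?_, hbo i⟩
        rw [← hg i]
        exact Finset.smul_mem_smul_finset (hao i)

/-- Any `k ≤ 5` points can be moved to any others. -/
lemma exists_M24_map_points {k : ℕ} (hk : k ≤ 5) {a b : Fin k → GolayPt}
    (ha : Function.Injective a) (hb : Function.Injective b) :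
    ∃ g : M24, ∀ i, (g : Equiv.Perm GolayPt) (a i) = b i := by
  haveI := M24_five_transitive
  haveI := MulAction.isMultiplyPretransitive_of_le (G := M24) (α := GolayPt) (n := 5) (m := k) hk
    (by simp [GolayPt])
  obtain ⟨g, hg⟩ := MulAction.exists_smul_eq M24 (⟨a, ha⟩ : Fin k ↪ GolayPt) ⟨b, hb⟩
  exact ⟨g, fun i => DFunLike.congr_fun hg i⟩

/-! ### Point stabilisers -/

lemma stabilizer_M24_none :
    (MulAction.stabilizer M24 (none : GolayPt)).map M24.subtype = Spor.M23 :=
  map_stabilizer_subtype M24 _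

lemma stabilizer_M24_none_zero :
    (MulAction.stabilizer M24 (none : GolayPt) ⊓ MulAction.stabilizer M24 (some 0 : GolayPt)).map
      M24.subtype = Spor.M22 := by
  rw [map_inf_subtype, map_stabilizer_subtype, map_stabilizer_subtype]
  exact le_antisymm (fun σ h => ⟨h.1, h.2.2⟩) (fun σ h => ⟨h.1, h.1.1, h.2⟩)

theorem exists_point_stab_iso (p : GolayPt) :
    Nonempty (MulAction.stabilizer M24 p ≃* Spor.M23) := by
  obtain ⟨g, hg⟩ := exists_M24_map_points (k := 1) (by norm_num)
    (a := ![p]) (b := ![none]) (Function.injective_of_subsingleton _)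
    (Function.injective_of_subsingleton _)
  have hp : g • p = (none : GolayPt) := hg 0
  exact ⟨(MulAction.stabilizerEquivStabilizer hp.symm).trans
    ((subtypeEquiv _).trans (MulEquiv.subgroupCongr stabilizer_M24_none))⟩

lemma stabilizer_inf_eq_prod {G β γ : Type*} [Group G] [MulAction G β] [MulAction G γ]
    (x : β) (y : γ) :
    MulAction.stabilizer G x ⊓ MulAction.stabilizer G y = MulAction.stabilizer G (x, y) := by
  ext g
  simp [MulAction.mem_stabilizer_iff, Prod.ext_iff]

theorem exists_two_point_stab_iso {p q : GolayPt} (hpq : p ≠ q) :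
    Nonempty (↥(MulAction.stabilizer M24 p ⊓ MulAction.stabilizer M24 q) ≃* Spor.M22) := by
  obtain ⟨g, hg⟩ := exists_M24_map_points (k := 2) (by norm_num)
    (a := ![p, q]) (b := ![none, some 0])
    (by intro i j; fin_cases i <;> fin_cases j <;> simp [hpq, hpq.symm])
    (by intro i j; fin_cases i <;> fin_cases j <;> simp)
  have hp : g • (p, q) = ((none, some 0) : GolayPt × GolayPt) := Prod.ext (hg 0) (hg 1)
  exact ⟨((MulEquiv.subgroupCongr (stabilizer_inf_eq_prod p q)).trans
    (MulAction.stabilizerEquivStabilizer hp.symm)).trans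
    ((MulEquiv.subgroupCongr (stabilizer_inf_eq_prod _ _).symm).trans
      ((subtypeEquiv _).trans (MulEquiv.subgroupCongr stabilizer_M24_none_zero)))⟩

/-! ### Dodecads -/

lemma squareDodecad_mem : Spor.squareDodecad ∈ dodecads := by
  refine ⟨Set.mem_image_of_mem support₂ (Submodule.subset_span (Or.inl ⟨0, rfl⟩)), ?_⟩
  decide +kernel

lemma stabilizer_M24_squareDodecad :
    (MulAction.stabilizer M24 Spor.squareDodecad).map M24.subtype = Spor.M12 :=
  map_stabilizer_subtype M24 _

theorem orbit_squareDodecad :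
    MulAction.orbit M24 Spor.squareDodecad = dodecads := by
  have h12 : Nat.card (MulAction.stabilizer M24 Spor.squareDodecad) = 95040 := by
    rw [Nat.card_congr (subtypeEquiv _).toEquiv, stabilizer_M24_squareDodecad, card_spor_M12]
  have h := Subgroup.card_mul_index (MulAction.stabilizer M24 Spor.squareDodecad)
  rw [MulAction.index_stabilizer, h12, card_M24] at h
  refine Set.eq_of_subset_of_ncard_le ?_ ?_ (Set.toFinite _)
  · rintro d ⟨g, rfl⟩; exact smul_mem_dodecads g.2 squareDodecad_mem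
  · rw [ncard_dodecads]; omega

theorem exists_M24_map_dodecad {d d' : Finset GolayPt} (hd : d ∈ dodecads) (hd' : d' ∈ dodecads) :
    ∃ g : M24, g • d = d' := by
  rw [← orbit_squareDodecad] at hd hd'
  obtain ⟨g, rfl⟩ := hd
  obtain ⟨k, rfl⟩ := hd'
  refine ⟨k * g⁻¹, ?_⟩
  show (k * g⁻¹) • g • _ = k • _
  rw [← mul_smul, inv_mul_cancel_right]

theorem exists_dodecad_stab_iso {d : Finset GolayPt} (hd : d ∈ dodecads) :
    Nonempty (MulAction.stabilizer M24 d ≃* Spor.M12) := by
  obtain ⟨g, hg⟩ := exists_M24_map_dodecad hd squareDodecad_mem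
  exact ⟨(MulAction.stabilizerEquivStabilizer hg.symm).trans
    ((subtypeEquiv _).trans (MulEquiv.subgroupCongr stabilizer_M24_squareDodecad))⟩

end Cfsg.Agent.Golay
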