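import Cfsg.Agent.Golay.Zeta
import Cfsg.Agent.Golay.Transport

/-!
Shapes of minimal vectors, transitivity on them, and the centre of the isometry group.
-/

set_option autoImplicit false

namespace Cfsg.Agent.Golay

open Cfsg
open scoped Pointwise

/-- The three shapes of a minimal vector. -/
theorem min_shape {x : GolayPt → ℤ} (hx : x ∈ leechLattice) (hn : sqNorm x = 32) :
    (∃ i j, i ≠ j ∧ (x i = 4 ∨ x i = -4) ∧ (x j = 4 ∨ x j = -4) ∧ ∀ l, l ≠ i → l ≠ j → x l = 0) ∨
    (∃ o ∈ octads, (∀ l ∈ o, x l = 2 ∨ x l = -2) ∧ ∀ l, l ∉ o → x l = 0) ∨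
    (∃ i, (x i = 3 ∨ x i = -3) ∧ ∀ l, l ≠ i → x l = 1 ∨ x l = -1) := by
  obtain ⟨m, h1, h2, h3⟩ := mem_leech_iff.1 hx
  rcases Int.emod_two_eq_zero_or_one m with hm | hm
  · by_cases hz : digitWord x = 0
    · left
      set b : GolayPt → ℤ := fun i => x i / 4
      have h4 : ∀ i, x i = 4 * b i := by
        intro i
        have hi : ((x i / 2 : ℤ) : ZMod 2) = 0 := congrFun hz i
        rw [ZMod.intCast_zmod_eq_zero_iff_dvd] at hi
        have := h1 i
        simp only [b]; omega
      have hb : ∑ i, b i ^ 2 = 2 := by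
        have h : 16 * ∑ i, b i ^ 2 = 32 := by
          rw [← hn, sqNorm, Finset.mul_sum]
          exact Finset.sum_congr rfl fun i _ => by rw [h4 i]; ring
        omega
      have hone : ∀ i, b i ^ 2 = if b i ≠ 0 then 1 else 0 := by
        intro i
        split
        · next h =>
          have h1' : b i ^ 2 ≤ ∑ j, b j ^ 2 :=
            Finset.single_le_sum (fun j _ => sq_nonneg (b j)) (Finset.mem_univ i)
          have h2' : -1 ≤ b i ∧ b i ≤ 1 := ⟨by nlinarith, by nlinarith⟩
          rcases (show b i = 1 ∨ b i = -1 by omega) with e | e <;> rw [e] <;> norm_num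
        · next h => rw [not_not] at h; rw [h]; norm_num
      have hc : (Finset.univ.filter fun i => b i ≠ 0).card = 2 := by
        rw [Finset.sum_congr rfl fun i _ => hone i, Finset.sum_boole] at hb
        exact_mod_cast hb
      obtain ⟨i, j, hij, he⟩ := Finset.card_eq_two.1 hc
      have hval : ∀ l ∈ ({i, j} : Finset GolayPt), x l = 4 ∨ x l = -4 := by
        intro l hl
        rw [← he, Finset.mem_filter] at hl
        have := hone l
        rw [if_pos hl.2, sq_eq_one_iff] at this
        have := h4 l
        omega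
      refine ⟨i, j, hij, hval i (by simp), hval j (by simp), fun l hli hlj => ?_⟩
      have : l ∉ ({i, j} : Finset GolayPt) := by simp [hli, hlj]
      rw [← he] at this
      simp only [Finset.mem_filter, Finset.mem_univ, true_and, not_not] at this
      rw [h4 l, this, mul_zero]
    · right; left
      set o := support₂ (digitWord x) with ho
      have hlo : ∀ l ∈ o, 4 ≤ x l ^ 2 := by
        intro l hl
        rw [ho, mem_support₂, digitWord, zmod2_eq_iff] at hl
        have := h1 l
        have hne : x l / 2 ≠ 0 := by omega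
        have := sq_pos_of_ne_zero hne
        have h2' : x l = 2 * (x l / 2) := by omega
        rw [h2']; nlinarith
      have hsum : (o.card : ℤ) * 4 ≤ ∑ l ∈ o, x l ^ 2 := by
        rw [← nsmul_eq_mul]; exact Finset.card_nsmul_le_sum _ _ _ hlo
      have hle : ∑ l ∈ o, x l ^ 2 + ∑ l ∈ oᶜ, x l ^ 2 = 32 := by
        rw [Finset.sum_add_sum_compl]; exact hn
      have hnn : 0 ≤ ∑ l ∈ oᶜ, x l ^ 2 := Finset.sum_nonneg fun l _ => sq_nonneg _
      have h8 : o.card = 8 := by
        have hs : o.card = 0 ∨ o.card = 8 ∨ o.card = 12 ∨ o.card = 16 ∨ o.card = 24 := card_support h3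
        rcases hs with h | h | h | h | h
        · exfalso
          refine hz (support₂_injective (a₂ := (0 : GolayPt → ZMod 2)) ?_)
          rw [← ho, Finset.card_eq_zero.1 h]; ext p; simp [support₂]
        · exact h
        all_goals omega
      rw [h8] at hsum
      push_cast at hsum
      have hout : ∑ l ∈ oᶜ, x l ^ 2 = 0 := by omega
      have hin : ∑ l ∈ o, x l ^ 2 = ∑ _l ∈ o, 4 := by
        rw [Finset.sum_const, h8]; simp only [nsmul_eq_mul, Nat.cast_ofNat]; omega
      refine ⟨o, ⟨support₂_mem_supports_iff.2 h3, h8⟩, fun l hl => ?_, fun l hl => ?_⟩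
      · have hsq : x l ^ 2 = 2 ^ 2 := by
          rw [((Finset.sum_eq_sum_iff_of_le hlo).1 hin.symm) l hl |>.symm]; norm_num
        exact sq_eq_sq_iff_eq_or_eq_neg.1 hsq
      · exact pow_eq_zero_iff (n := 2) (by norm_num) |>.1
          ((Finset.sum_eq_zero_iff_of_nonneg fun l _ => sq_nonneg _).1 hout l (Finset.mem_compl.2 hl))
  · right; right
    set e : GolayPt → ℤ := fun i => (x i ^ 2 - 1) / 8 with he
    have hsq : ∀ i, x i ^ 2 = 1 + 8 * e i ∧ 0 ≤ e i := by
      intro i
      have hodd : x i % 2 = 1 := (h1 i).trans hm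
      obtain ⟨k, hk⟩ : ∃ k, x i = 2 * k + 1 := ⟨x i / 2, by omega⟩
      obtain ⟨q, hq⟩ : ∃ q, k * (k + 1) = 2 * q := by
        obtain ⟨q, hq⟩ := Int.even_mul_succ_self k
        exact ⟨q, by omega⟩
      have : x i ^ 2 = 1 + 8 * q := by rw [hk]; nlinarith
      have hpos : 1 ≤ x i ^ 2 := by
        have := sq_pos_of_ne_zero (show x i ≠ 0 by omega)
        omega
      simp only [he]
      omega
    have hes : ∑ i, e i = 1 := by
      have : sqNorm x = 24 + 8 * ∑ i, e i := by
        rw [sqNorm, Finset.sum_congr rfl fun i _ => (hsq i).1, Finset.sum_add_distrib,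
          ← Finset.mul_sum, Finset.sum_const, Finset.card_univ,
          show Fintype.card GolayPt = 24 from rfl]
        norm_num
      omega
    obtain ⟨i, -, hi⟩ : ∃ i ∈ Finset.univ, e i ≠ 0 := by
      by_contra h
      push Not at h
      rw [Finset.sum_eq_zero h] at hes
      omega
    have hei : e i = 1 ∧ ∀ l, l ≠ i → e l = 0 := by
      have h' := Finset.add_sum_erase Finset.univ e (Finset.mem_univ i)
      have hnn : 0 ≤ ∑ l ∈ Finset.univ.erase i, e l := Finset.sum_nonneg fun l _ => (hsq l).2
      have := (hsq i).2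
      refine ⟨by omega, fun l hl => ?_⟩
      exact (Finset.sum_eq_zero_iff_of_nonneg fun q _ => (hsq q).2).1 (by omega) l
        (Finset.mem_erase.2 ⟨hl, Finset.mem_univ l⟩)
    refine ⟨i, ?_, fun l hl => ?_⟩
    · exact sq_eq_sq_iff_eq_or_eq_neg.1 (by rw [(hsq i).1, hei.1]; norm_num)
    · exact sq_eq_one_iff.1 (by rw [(hsq l).1, hei.2 l hl]; norm_num)

/-! ### Monomial moves -/

lemma monoAut_smul_apply (σ : M24)
    (c : {c : Finset GolayPt // c ∈ supports (golayCode : Set (GolayPt → ZMod 2))})
    (v : leechLattice) (i : GolayPt) :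
    (monoAut σ c • v : leechLattice).1 i
      = if i ∈ c.1 then -v.1 (σ.1.symm i) else v.1 (σ.1.symm i) := rfl

/-- The empty sign set. -/
def noSigns : {c : Finset GolayPt // c ∈ supports (golayCode : Set (GolayPt → ZMod 2))} :=
  ⟨∅, empty_mem_supports⟩

/-- A permutation as an automorphism. -/
def permAut (σ : M24) : Co0 := monoAut σ noSigns

lemma permAut_apply (σ : M24) (v : leechLattice) (i : GolayPt) :
    (permAut σ • v : leechLattice).1 (σ.1 i) = v.1 i := by
  rw [permAut, monoAut_smul_apply]
  simp [noSigns]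

/-- A sign change as an automorphism. -/
def signAut (c : {c : Finset GolayPt // c ∈ supports (golayCode : Set (GolayPt → ZMod 2))}) : Co0 :=
  monoAut 1 c

lemma signAut_apply (c : {c : Finset GolayPt // c ∈ supports (golayCode : Set (GolayPt → ZMod 2))})
    (v : leechLattice) (i : GolayPt) :
    (signAut c • v : leechLattice).1 i = if i ∈ c.1 then -v.1 i else v.1 i := rfl

/-- Preserving the standard cross. -/
def IsMono (k : Co0) : Prop :=
  ∀ v : leechLattice, (v : GolayPt → ℤ) ∈ stdCross →
    ((k • v : leechLattice) : GolayPt → ℤ) ∈ stdCross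

lemma isMono_signed (c : {c : Finset GolayPt // c ∈ supports (golayCode : Set (GolayPt → ZMod 2))})
    (g : M24) : IsMono (signAut c * permAut g) := by
  intro v hv
  rw [mul_smul]
  exact signedPerm_stdCross (σ := 1) (c := c.1) (y := (permAut g • v : leechLattice).1)
    (signedPerm_stdCross (σ := g.1) (c := ∅) hv)

/-- A representative of each shape. -/
def repFour : GolayPt → ℤ := fun p => if p = none ∨ p = some 0 then 4 else 0

/-- The octad used by the representative. -/
def repOct : ℕ := 5279

/-- An octad representative. -/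
def repTwo : GolayPt → ℤ := fun p => if repOct.testBit (idx p) then 2 else 0

lemma reps_facts :
    (inLeech repFour = true ∧ inLeech repTwo = true ∧
      inLeech (fun p => if p = none then -3 else 1) = true) ∧
    octadList.contains repOct = true := by
  decide +kernel

/-- The representative vectors in the lattice. -/
def repA : leechLattice := ⟨repFour, mem_of_inLeech reps_facts.1.1⟩

/-- The octad representative in the lattice. -/
def repB : leechLattice := ⟨repTwo, mem_of_inLeech reps_facts.1.2.1⟩

/-- The odd representative in the lattice. -/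
def repC : leechLattice := ⟨oddMin, oddMin_mem.1⟩

lemma pair_signs_exist :
    (([(false, false), (false, true), (true, false), (true, true)] : List (Bool × Bool)).all
      fun s => codeList.any fun m => m.testBit 23 == s.1 && m.testBit 0 == s.2) = true := by
  decide +kernel

lemma octad_signs_exist :
    ((spanList (((List.range 24).filter fun i => repOct.testBit i).map fun i => 2 ^ i)).all
      fun t => popCnt t % 2 == 1 || codeList.any fun m => m &&& repOct == t) = true := by
  decide +kernel

lemma mem_spanList_bits {o t : ℕ} (ho : o < 2 ^ 24) (ht : t &&& o = t) :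
    t ∈ spanList (((List.range 24).filter fun i => o.testBit i).map fun i => 2 ^ i) := by
  have key : ∀ L : List ℕ, L.Nodup → ∀ t : ℕ,
      (∀ i, t.testBit i = true → i ∈ L) → t ∈ spanList (L.map fun i => 2 ^ i) := by
    intro L
    induction L with
    | nil =>
      intro _ t h
      have : t = 0 := Nat.eq_of_testBit_eq fun i => by
        rw [Nat.zero_testBit]
        by_contra hc
        exact absurd (h i (by simpa using hc)) List.not_mem_nil
      simp [this, spanList]
    | cons a L ih =>
      intro hnd t h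
      rw [List.nodup_cons] at hnd
      simp only [List.map_cons, spanList, List.mem_append, List.mem_map]
      by_cases ha : t.testBit a = true
      · refine Or.inr ⟨2 ^ a ^^^ t, ih hnd.2 _ fun i hi => ?_, ?_⟩
        · rw [Nat.testBit_xor, Nat.testBit_two_pow] at hi
          by_cases hai : a = i
          · subst hai; simp [ha] at hi
          · simp only [hai, decide_false, Bool.false_xor] at hi
            exact (List.mem_cons.1 (h i hi)).resolve_left (Ne.symm hai)
        · rw [← Nat.xor_assoc, Nat.xor_self, Nat.zero_xor]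
      · refine Or.inl (ih hnd.2 t fun i hi => (List.mem_cons.1 (h i hi)).resolve_left ?_)
        rintro rfl; exact ha hi
  refine key _ (List.nodup_range.filter _) t fun i hi => ?_
  rw [← ht, Nat.testBit_and, Bool.and_eq_true] at hi
  refine List.mem_filter.2 ⟨List.mem_range.2 ?_, hi.2⟩
  by_contra hge
  rw [Nat.testBit_lt_two_pow (ho.trans_le (Nat.pow_le_pow_right (by norm_num) (by omega)))] at hi
  exact Bool.noConfusion hi.2

lemma mono_of_pair {v : leechLattice} {i j : GolayPt} (hij : i ≠ j)
    (hi : v.1 i = 4 ∨ v.1 i = -4) (hj : v.1 j = 4 ∨ v.1 j = -4)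
    (h0 : ∀ l, l ≠ i → l ≠ j → v.1 l = 0) : ∃ k : Co0, IsMono k ∧ k • v = repA := by
  obtain ⟨g, hg⟩ := exists_M24_map_points (k := 2) (by norm_num)
    (a := ![i, j]) (b := ![none, some 0])
    (by intro a b; fin_cases a <;> fin_cases b <;> simp [hij, hij.symm])
    (by intro a b; fin_cases a <;> fin_cases b <;> simp)
  set w := permAut g • v with hw
  have hwn : w.1 none = v.1 i := by
    rw [hw, show (none : GolayPt) = g.1 i from (hg 0).symm, permAut_apply]
  have hw0 : w.1 (some 0) = v.1 j := by
    rw [hw, show (some 0 : GolayPt) = g.1 j from (hg 1).symm, permAut_apply]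
  have hwz : ∀ l, l ≠ none → l ≠ some 0 → w.1 l = 0 := by
    intro l h1 h2
    obtain ⟨q, rfl⟩ : ∃ q, g.1 q = l := ⟨g.1.symm l, g.1.apply_symm_apply l⟩
    rw [hw, permAut_apply]
    refine h0 q ?_ ?_
    · rintro rfl; exact h1 (hg 0)
    · rintro rfl; exact h2 (hg 1)
  obtain ⟨m, hm, hmb⟩ := List.any_eq_true.1 (List.all_eq_true.1 pair_signs_exist
    (decide (v.1 i = -4), decide (v.1 j = -4))
    (by cases decide (v.1 i = -4) <;> cases decide (v.1 j = -4) <;> simp))
  simp only [Bool.and_eq_true, beq_iff_eq] at hmb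
  set c : {c : Finset GolayPt // c ∈ supports (golayCode : Set (GolayPt → ZMod 2))} :=
    ⟨ptSet m, (ptSet_mem_supports_iff (codeList_lt hm)).2 hm⟩
  refine ⟨signAut c * permAut g, isMono_signed c g, ?_⟩
  rw [mul_smul]
  symm
  refine Subtype.ext (funext fun l => ?_)
  rw [signAut_apply]
  show repFour l = _
  have hm23 : (none ∈ ptSet m) ↔ v.1 i = -4 := by
    rw [mem_ptSet, show idx none = 23 from rfl, hmb.1, decide_eq_true_eq]
  have hm0 : (some 0 ∈ ptSet m) ↔ v.1 j = -4 := by
    rw [mem_ptSet, show idx (some 0) = 0 from rfl, hmb.2, decide_eq_true_eq]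
  rcases eq_or_ne l none with rfl | h1
  · show 4 = if none ∈ ptSet m then -w.1 none else w.1 none
    rw [hwn]
    rcases hi with e | e <;> simp [hm23, e]
  · rcases eq_or_ne l (some 0) with rfl | h2
    · show 4 = if some 0 ∈ ptSet m then -w.1 (some 0) else w.1 (some 0)
      rw [hw0]
      rcases hj with e | e <;> simp [hm0, e]
    · simp [repFour, h1, h2, ← hw, hwz l h1 h2]

lemma orbit_of_pair {v : leechLattice} {i j : GolayPt} (hij : i ≠ j)
    (hi : v.1 i = 4 ∨ v.1 i = -4) (hj : v.1 j = 4 ∨ v.1 j = -4)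
    (h0 : ∀ l, l ≠ i → l ≠ j → v.1 l = 0) : v ∈ MulAction.orbit Co0 repA := by
  obtain ⟨k, -, hk⟩ := mono_of_pair hij hi hj h0
  exact ⟨k⁻¹, by show k⁻¹ • repA = v; rw [← hk, inv_smul_smul]⟩

lemma mono_of_octad {v : leechLattice} {o : Finset GolayPt} (ho : o ∈ octads)
    (hin : ∀ l ∈ o, v.1 l = 2 ∨ v.1 l = -2) (hout : ∀ l, l ∉ o → v.1 l = 0) :
    ∃ k : Co0, IsMono k ∧ k • v = repB := by
  have hR : repOct ∈ octadList := List.contains_iff_mem.1 reps_facts.2
  obtain ⟨g, hg⟩ := exists_M24_map_octad ho (ptSet_mem_octads hR)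
  set w := permAut g • v with hw
  have hwv : ∀ q, w.1 (g.1 q) = v.1 q := fun q => permAut_apply g v q
  have hmem : ∀ q, g.1 q ∈ ptSet repOct ↔ q ∈ o := by
    intro q
    rw [← hg]
    exact Finset.smul_mem_smul_finset_iff g
  have hwin : ∀ l ∈ ptSet repOct, w.1 l = 2 ∨ w.1 l = -2 := by
    intro l hl
    obtain ⟨q, rfl⟩ : ∃ q, g.1 q = l := ⟨g.1.symm l, g.1.apply_symm_apply l⟩
    rw [hwv]; exact hin q ((hmem q).1 hl)
  have hwout : ∀ l, l ∉ ptSet repOct → w.1 l = 0 := by
    intro l hl
    obtain ⟨q, rfl⟩ : ∃ q, g.1 q = l := ⟨g.1.symm l, g.1.apply_symm_apply l⟩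
    rw [hwv]; exact hout q fun h => hl ((hmem q).2 h)
  set s : Finset GolayPt := (ptSet repOct).filter fun l => w.1 l = -2 with hs
  have heven : s.card % 2 = 0 := by
    obtain ⟨m, h1, h2, -⟩ := mem_leech_iff.1 w.2
    have hsum : ∑ l, w.1 l = 2 * (8 : ℤ) - 4 * s.card := by
      rw [← Finset.sum_subset (Finset.subset_univ (ptSet repOct)) (fun l _ hl => hwout l hl)]
      rw [Finset.sum_congr rfl (g := fun l => 2 - 4 * (if w.1 l = -2 then (1 : ℤ) else 0))
        (fun l hl => by rcases hwin l hl with e | e <;> rw [e] <;> norm_num),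
        Finset.sum_sub_distrib, ← Finset.mul_sum, Finset.sum_boole, Finset.sum_const,
        (ptSet_mem_octads hR).2]
      norm_num
      rfl
    have hm : m % 2 = 0 := by
      obtain ⟨p, hp⟩ : ∃ p, p ∈ ptSet repOct := ⟨pt 0, by decide +kernel⟩
      have := h1 p
      rcases hwin p hp with e | e <;> rw [e] at this <;> omega
    omega
  have hsub : maskOf s &&& repOct = maskOf s := by
    refine ptSet_injOn (and_lt_full (maskOf_lt s)) (maskOf_lt s) ?_
    rw [ptSet_and, ptSet_maskOf, Finset.inter_eq_left]
    exact Finset.filter_subset _ _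
  have h := List.all_eq_true.1 octad_signs_exist _ (mem_spanList_bits (octadList_lt hR) hsub)
  rw [popCnt_maskOf, Bool.or_eq_true, beq_iff_eq] at h
  obtain ⟨m, hm, hmb⟩ := List.any_eq_true.1 (h.resolve_left (by omega))
  set c : {c : Finset GolayPt // c ∈ supports (golayCode : Set (GolayPt → ZMod 2))} :=
    ⟨ptSet m, (ptSet_mem_supports_iff (codeList_lt hm)).2 hm⟩
  have hcs : ptSet m ∩ ptSet repOct = s := by
    rw [← ptSet_and, eq_of_beq hmb, ptSet_maskOf]
  refine ⟨signAut c * permAut g, isMono_signed c g, ?_⟩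
  rw [mul_smul]
  symm
  refine Subtype.ext (funext fun l => ?_)
  rw [signAut_apply]
  show repTwo l = if l ∈ ptSet m then -w.1 l else w.1 l
  by_cases hl : l ∈ ptSet repOct
  · have hls : l ∈ ptSet m ↔ w.1 l = -2 := by
      have : l ∈ ptSet m ∩ ptSet repOct ↔ l ∈ s := by rw [hcs]
      simpa [hs, hl] using this
    rw [repTwo, if_pos (mem_ptSet.1 hl)]
    rcases hwin l hl with e | e <;> simp [hls, e]
  · rw [repTwo, if_neg (fun h => hl (mem_ptSet.2 h)), hwout l hl]
    simp

lemma orbit_of_octad {v : leechLattice} {o : Finset GolayPt} (ho : o ∈ octads)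
    (hin : ∀ l ∈ o, v.1 l = 2 ∨ v.1 l = -2) (hout : ∀ l, l ∉ o → v.1 l = 0) :
    v ∈ MulAction.orbit Co0 repB := by
  obtain ⟨k, -, hk⟩ := mono_of_octad ho hin hout
  exact ⟨k⁻¹, by show k⁻¹ • repB = v; rw [← hk, inv_smul_smul]⟩

lemma mono_of_odd {v : leechLattice} {i : GolayPt} (hi : v.1 i = 3 ∨ v.1 i = -3)
    (h1 : ∀ l, l ≠ i → v.1 l = 1 ∨ v.1 l = -1) : ∃ k : Co0, IsMono k ∧ k • v = repC := by
  obtain ⟨g, hg⟩ := exists_M24_map_points (k := 1) (by norm_num)
    (a := ![i]) (b := ![none]) (Function.injective_of_subsingleton _)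
    (Function.injective_of_subsingleton _)
  set w := permAut g • v with hw
  have hgi : g.1 i = none := hg 0
  have hwn : w.1 none = 3 ∨ w.1 none = -3 := by rw [hw, ← hgi, permAut_apply]; exact hi
  have hwl : ∀ l, l ≠ none → w.1 l = 1 ∨ w.1 l = -1 := by
    intro l hl
    obtain ⟨q, rfl⟩ : ∃ q, g.1 q = l := ⟨g.1.symm l, g.1.apply_symm_apply l⟩
    rw [hw, permAut_apply]
    exact h1 q fun e => hl (e ▸ hgi)
  obtain ⟨m, hm1, -, hm3⟩ := mem_leech_iff.1 w.2
  obtain ⟨-, -, -, ho3⟩ := mem_leech_iff.1 oddMin_mem.1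
  set c : {c : Finset GolayPt // c ∈ supports (golayCode : Set (GolayPt → ZMod 2))} :=
    ⟨symmDiff (support₂ (digitWord w.1)) (support₂ (digitWord oddMin)),
      symmDiff_mem_supports (support₂_mem_supports_iff.2 hm3) (support₂_mem_supports_iff.2 ho3)⟩
  refine ⟨signAut c * permAut g, isMono_signed c g, ?_⟩
  rw [mul_smul]
  symm
  refine Subtype.ext (funext fun l => ?_)
  rw [signAut_apply]
  show oddMin l = if l ∈ symmDiff (support₂ (digitWord w.1)) (support₂ (digitWord oddMin))
    then -w.1 l else w.1 l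
  rcases eq_or_ne l none with rfl | hl
  · rcases hwn with e | e <;>
      simp [Finset.mem_symmDiff, mem_support₂, digitWord, zmod2_eq_iff, e, oddMin] <;> decide
  · rcases hwl l hl with e | e <;>
      simp [Finset.mem_symmDiff, mem_support₂, digitWord, zmod2_eq_iff, e, oddMin, hl] <;> decide

lemma orbit_of_odd {v : leechLattice} {i : GolayPt} (hi : v.1 i = 3 ∨ v.1 i = -3)
    (h1 : ∀ l, l ≠ i → v.1 l = 1 ∨ v.1 l = -1) : v ∈ MulAction.orbit Co0 repC := by
  obtain ⟨k, -, hk⟩ := mono_of_odd hi h1
  exact ⟨k⁻¹, by show k⁻¹ • repC = v; rw [← hk, inv_smul_smul]⟩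

/-- The sextet automorphism links the three shapes. -/
lemma zeta_links :
    (∃ o ∈ octadList, inLeech (fun p => if o.testBit (idx p) then (2 : ℤ) else 0) = true ∧
      ((List.range 24).any fun i =>
        let y := zetaFun (fun p => if o.testBit (idx p) then (2 : ℤ) else 0) (pt i)
        y == 3 || y == -3) = true) ∧
    (∃ i j : GolayPt, i ≠ j ∧ inLeech (fun p => if p = i ∨ p = j then (4 : ℤ) else 0) = true ∧
      ∀ l, zetaFun (fun p => if p = i ∨ p = j then (4 : ℤ) else 0) l = 2 ∨
        zetaFun (fun p => if p = i ∨ p = j then (4 : ℤ) else 0) l = -2 ∨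
        zetaFun (fun p => if p = i ∨ p = j then (4 : ℤ) else 0) l = 0) :=
  ⟨⟨5279, by decide +kernel, by decide +kernel, by decide +kernel⟩,
    ⟨some 0, some 3, by decide, by decide +kernel, by decide +kernel⟩⟩

theorem min_orbit {v : leechLattice} (hv : sqNorm (v : GolayPt → ℤ) = 32) :
    v ∈ MulAction.orbit Co0 repA := by
  obtain ⟨⟨o, ho, hoL, hodd⟩, i, j, hij, hijL, hz⟩ := zeta_links
  -- octad shapes reach the pair shape
  set u : leechLattice := ⟨_, mem_of_inLeech hijL⟩
  have hu : u ∈ MulAction.orbit Co0 repA :=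
    orbit_of_pair hij (Or.inl (if_pos (Or.inl rfl))) (Or.inl (if_pos (Or.inr rfl)))
      fun l h1 h2 => if_neg (by simp [h1, h2])
  have hun : sqNorm u.1 = 32 := by
    obtain ⟨g, hg⟩ := hu
    rw [← hg, show sqNorm ((g • repA : leechLattice) : GolayPt → ℤ) = _ from co0_sqNorm g repA]
    decide +kernel
  have hB : MulAction.orbit Co0 repB = MulAction.orbit Co0 repA := by
    have hzn : sqNorm (zeta • u : leechLattice).1 = 32 := (co0_sqNorm zeta u).trans hun
    rcases min_shape (zeta • u).2 hzn with ⟨a, b, -, ha, -, -⟩ | ⟨o', ho', h1, h2⟩ | ⟨a, ha, -⟩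
    · have := hz a
      rw [zeta_apply] at ha
      change zetaFun _ a = 4 ∨ zetaFun _ a = -4 at ha
      rcases ha with e | e <;> rw [e] at this <;> omega
    · have h := orbit_of_octad ho' h1 h2
      rw [← MulAction.orbit_eq_iff.2 h, MulAction.orbit_smul, MulAction.orbit_eq_iff.2 hu]
    · have := hz a
      rw [zeta_apply] at ha
      change zetaFun _ a = 3 ∨ zetaFun _ a = -3 at ha
      rcases ha with e | e <;> rw [e] at this <;> omega
  set b : leechLattice := ⟨_, mem_of_inLeech hoL⟩
  have hb : b ∈ MulAction.orbit Co0 repB :=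
    orbit_of_octad (ptSet_mem_octads ho) (fun l hl => Or.inl (if_pos (mem_ptSet.1 hl)))
      fun l hl => if_neg (fun h => hl (mem_ptSet.2 h))
  have hbn : sqNorm b.1 = 32 := by
    obtain ⟨g, hg⟩ := hb
    rw [← hg, show sqNorm ((g • repB : leechLattice) : GolayPt → ℤ) = _ from co0_sqNorm g repB]
    decide +kernel
  have hC : MulAction.orbit Co0 repC = MulAction.orbit Co0 repA := by
    obtain ⟨k, hk, hk3⟩ := List.any_eq_true.1 hodd
    simp only [Bool.or_eq_true, beq_iff_eq] at hk3
    have hzn : sqNorm (zeta • b : leechLattice).1 = 32 := (co0_sqNorm zeta b).trans hbn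
    rcases min_shape (zeta • b).2 hzn with ⟨x, y, -, hx, hy, hl⟩ | ⟨o', ho', h1, h2⟩ | ⟨x, hx, hx1⟩
    · exfalso
      rw [zeta_apply] at hx hy hl
      rcases eq_or_ne (pt k) x with h | h
      · subst h; rcases hk3 with e | e <;> rcases hx with e' | e' <;> rw [e] at e' <;> omega
      · rcases eq_or_ne (pt k) y with h' | h'
        · subst h'; rcases hk3 with e | e <;> rcases hy with e' | e' <;> rw [e] at e' <;> omega
        · have := hl _ h h'
          rcases hk3 with e | e <;> rw [e] at this <;> omega
    · exfalso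
      rw [zeta_apply] at h1 h2
      by_cases h : pt k ∈ o'
      · have := h1 _ h; rcases hk3 with e | e <;> rw [e] at this <;> omega
      · have := h2 _ h; rcases hk3 with e | e <;> rw [e] at this <;> omega
    · have h := orbit_of_odd hx hx1
      rw [← MulAction.orbit_eq_iff.2 h, MulAction.orbit_smul, MulAction.orbit_eq_iff.2 hb, hB]
  rcases min_shape v.2 hv with ⟨a, b, hab, ha, hb, h0⟩ | ⟨o', ho', h1, h2⟩ | ⟨a, ha, ha1⟩
  · exact orbit_of_pair hab ha hb h0
  · exact hB ▸ orbit_of_octad ho' h1 h2
  · exact hC ▸ orbit_of_odd ha ha1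

theorem co0_transitive_min (v w : leechLattice) (hv : sqNorm (v : GolayPt → ℤ) = 32)
    (hw : sqNorm (w : GolayPt → ℤ) = 32) : ∃ g : Co0, g • v = w := by
  obtain ⟨g, rfl⟩ := min_orbit hv
  obtain ⟨k, rfl⟩ := min_orbit hw
  exact ⟨k * g⁻¹, by simp [mul_smul]⟩

/-! ### The centre -/

lemma code_separates : ∀ i : GolayPt, ∀ j : GolayPt, i ≠ j →
    codeList.any (fun m => !m.testBit (idx i) && m.testBit (idx j)) = true := by
  decide +kernel

theorem card_center_co0 : Nat.card (Subgroup.center Co0) = 2 := by
  set N : Co0 := monoAut 1 ⟨Finset.univ, univ_mem_supports⟩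
  have hN : ∀ v : leechLattice, N • v = -v := fun v => Subtype.ext (funext fun l => by
    show signedPerm 1 Finset.univ v.1 l = -v.1 l
    rw [signedPerm_apply, if_pos (Finset.mem_univ l)]; rfl)
  have hNc : N ∈ Subgroup.center Co0 := by
    rw [Subgroup.mem_center_iff]
    intro g
    apply Subtype.ext
    refine Equiv.ext fun v => ?_
    show g • (N • v) = N • (g • v)
    rw [hN, hN, co0_smul_neg]
  have hN1 : N ≠ 1 := by
    intro h
    have h2 := congrArg (fun g : Co0 => ((g • axisVec none : leechLattice) : GolayPt → ℤ) none) h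
    simp only [hN, one_smul] at h2
    rw [AddSubgroup.coe_neg, Pi.neg_apply] at h2
    change -((Pi.single none 8 : GolayPt → ℤ) none) = (Pi.single none 8 : GolayPt → ℤ) none at h2
    rw [Pi.single_eq_same] at h2
    omega
  have hset : (Subgroup.center Co0 : Set Co0) = {1, N} := by
    ext g
    refine ⟨fun hg => ?_, ?_⟩
    swap
    · rintro (rfl | rfl)
      exacts [one_mem _, hNc]
    rw [SetLike.mem_coe, Subgroup.mem_center_iff] at hg
    -- `g` maps every axis vector to a signed axis vector
    have hax : ∀ i l, l ≠ i → (g • axisVec i : leechLattice).1 l = 0 := by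
      intro i l hl
      obtain ⟨m, hm, hmb⟩ := List.any_eq_true.1 (code_separates i l (Ne.symm hl))
      simp only [Bool.and_eq_true, Bool.not_eq_true'] at hmb
      set c : {c : Finset GolayPt // c ∈ supports (golayCode : Set (GolayPt → ZMod 2))} :=
        ⟨ptSet m, (ptSet_mem_supports_iff (codeList_lt hm)).2 hm⟩
      have hfix : signAut c • axisVec i = axisVec i := Subtype.ext (funext fun q => by
        rw [signAut_apply]
        show (if q ∈ ptSet m then -(Pi.single i (8 : ℤ) : GolayPt → ℤ) q
          else (Pi.single i (8 : ℤ) : GolayPt → ℤ) q) = (Pi.single i (8 : ℤ) : GolayPt → ℤ) q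
        rcases eq_or_ne q i with rfl | hq
        · rw [if_neg]; rw [mem_ptSet, hmb.1]; exact Bool.false_ne_true
        · simp [hq])
      have h := congrArg (fun k : Co0 => (k • axisVec i).1 l) (hg (signAut c))
      simp only [mul_smul, hfix, signAut_apply] at h
      rw [if_pos (mem_ptSet.2 hmb.2)] at h
      omega
    have hcross : ∀ v : leechLattice, (v : GolayPt → ℤ) ∈ stdCross →
        ((g • v : leechLattice) : GolayPt → ℤ) ∈ stdCross := by
      rintro v ⟨i, s, hs, he⟩
      have hsum : sqNorm (g • axisVec i : leechLattice).1 = 64 := by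
        rw [co0_sqNorm]
        show sqNorm (Pi.single i (8 : ℤ)) = 64
        rw [sqNorm, Finset.sum_eq_single i (fun j _ hj => by simp [hj]) (by simp)]; simp
      rw [sqNorm, Finset.sum_eq_single i (fun j _ hj => by rw [hax i j hj]; ring) (by simp)] at hsum
      have hval : (g • axisVec i : leechLattice).1 i = 8 ∨ (g • axisVec i : leechLattice).1 i = -8 :=
        sq_eq_sq_iff_eq_or_eq_neg.1 (hsum.trans (by norm_num))
      have hgi : (g • axisVec i : leechLattice).1
          = Pi.single i ((g • axisVec i : leechLattice).1 i) := by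
        funext q
        rcases eq_or_ne q i with rfl | hq
        · simp
        · rw [Pi.single_eq_of_ne hq]; exact hax i q hq
      rcases hs with rfl | rfl
      · rw [show v = axisVec i from Subtype.ext he]
        exact ⟨i, _, hval, hgi⟩
      · rw [show v = -axisVec i from Subtype.ext (by
          rw [he, AddSubgroup.coe_neg]
          show (Pi.single i (-8) : GolayPt → ℤ) = -(Pi.single i 8)
          rw [← Pi.single_neg]), co0_smul_neg]
        refine ⟨i, -(g • axisVec i : leechLattice).1 i, by omega, ?_⟩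
        rw [AddSubgroup.coe_neg, Pi.single_neg, ← hgi]
    obtain ⟨σ, c, rfl⟩ := stdCross_stabiliser_eq_monomial g hcross
    have hσ : σ = 1 := by
      refine Subtype.ext (Equiv.ext fun i => ?_)
      by_contra hne
      have h := hax i (σ.1 i) hne
      rw [monoAut_smul_apply, Equiv.symm_apply_apply] at h
      change (if σ.1 i ∈ c.1 then -(Pi.single i (8 : ℤ) : GolayPt → ℤ) i
        else (Pi.single i (8 : ℤ) : GolayPt → ℤ) i) = 0 at h
      rw [Pi.single_eq_same] at h
      split at h <;> omega
    subst hσ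
    have hconst : ∀ i j, i ∈ c.1 → j ∈ c.1 := by
      intro i j hi
      obtain ⟨k, hk⟩ := exists_M24_map_points (k := 1) (by norm_num) (a := ![i]) (b := ![j])
        (Function.injective_of_subsingleton _) (Function.injective_of_subsingleton _)
      have hkij : k.1 i = j := hk 0
      have h := congrArg (fun q : Co0 => (q • axisVec i).1 j) (hg (permAut k))
      simp only [mul_smul] at h
      have h1 : (monoAut 1 c • permAut k • axisVec i : leechLattice).1 j
          = if j ∈ c.1 then -(8 : ℤ) else 8 := by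
        rw [monoAut_smul_apply]
        have : (permAut k • axisVec i : leechLattice).1 j = 8 := by
          rw [← hkij, permAut_apply]; exact Pi.single_eq_same i 8
        show (if j ∈ c.1 then -(permAut k • axisVec i : leechLattice).1 j
          else (permAut k • axisVec i : leechLattice).1 j) = _
        rw [this]
      have h2 : (permAut k • monoAut 1 c • axisVec i : leechLattice).1 j = -(8 : ℤ) := by
        rw [← hkij, permAut_apply, monoAut_smul_apply]
        show (if i ∈ c.1 then -(Pi.single i (8 : ℤ) : GolayPt → ℤ) i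
          else (Pi.single i (8 : ℤ) : GolayPt → ℤ) i) = -8
        rw [if_pos hi, Pi.single_eq_same]
      rw [h1, h2] at h
      by_contra hj
      rw [if_neg hj] at h
      omega
    rcases Finset.eq_empty_or_nonempty c.1 with he | ⟨i, hi⟩
    · left
      refine Subtype.ext (Equiv.ext fun v => Subtype.ext (funext fun l => ?_))
      show (monoAut 1 c • v).1 l = v.1 l
      rw [monoAut_smul_apply, he, if_neg (by simp)]; rfl
    · right
      rw [Set.mem_singleton_iff, show c = ⟨Finset.univ, univ_mem_supports⟩ from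
        Subtype.ext (Finset.eq_univ_iff_forall.2 fun j => hconst i j hi)]
  rw [← SetLike.coe_sort_coe, Nat.card_coe_set_eq, hset, Set.ncard_pair hN1.symm]

end Cfsg.Agent.Golay
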