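import Cfsg.Agent.Golay.LeechStructure
import Cfsg.Agent.Golay.M24
import Cfsg.Prelude.Def_SporadicCombinatorics

/-!
Monomial automorphisms of the lattice and the stabiliser of the standard cross.
-/

set_option autoImplicit false

namespace Cfsg.Agent.Golay

open Cfsg
open scoped Pointwise

/-! ### The isometry group -/

lemma co0_smul_add (g : Co0) (v w : leechLattice) : g • (v + w) = g • v + g • w := g.2.1 v w

lemma co0_sqNorm (g : Co0) (v : leechLattice) :
    sqNorm ((g • v : leechLattice) : GolayPt → ℤ) = sqNorm (v : GolayPt → ℤ) := g.2.2 v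

lemma co0_smul_zero (g : Co0) : g • (0 : leechLattice) = 0 := by
  have h := co0_smul_add g 0 0
  rw [add_zero] at h
  exact left_eq_add.1 h

lemma co0_smul_neg (g : Co0) (v : leechLattice) : g • (-v) = -(g • v) := by
  apply eq_neg_of_add_eq_zero_left
  rw [← co0_smul_add, neg_add_cancel, co0_smul_zero]

lemma co0_smul_sub (g : Co0) (v w : leechLattice) : g • (v - w) = g • v - g • w := by
  rw [sub_eq_add_neg, co0_smul_add, co0_smul_neg, sub_eq_add_neg]

lemma co0_smul_nsmul (g : Co0) (n : ℕ) (v : leechLattice) : g • (n • v) = n • (g • v) := by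
  induction n with
  | zero => rw [zero_smul, zero_smul, co0_smul_zero]
  | succ n ih => rw [succ_nsmul, succ_nsmul, co0_smul_add, ih]

lemma co0_dot (g : Co0) (v w : leechLattice) :
    dotInt ((g • v : leechLattice) : GolayPt → ℤ) ((g • w : leechLattice) : GolayPt → ℤ)
      = dotInt (v : GolayPt → ℤ) (w : GolayPt → ℤ) := by
  have h := co0_sqNorm g (v + w)
  rw [co0_smul_add, AddSubgroup.coe_add, AddSubgroup.coe_add] at h
  have e1 := co0_sqNorm g v
  have e2 := co0_sqNorm g w
  have key : ∀ x y : GolayPt → ℤ, sqNorm (x + y) = sqNorm x + sqNorm y + 2 * dotInt x y := by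
    intro x y
    simp only [sqNorm, dotInt, Pi.add_apply, Finset.mul_sum]
    rw [← Finset.sum_add_distrib, ← Finset.sum_add_distrib]
    exact Finset.sum_congr rfl fun i _ => by ring
  rw [key, key] at h
  omega

/-! ### Signed permutations -/

lemma signedPerm_apply (σ : Equiv.Perm GolayPt) (c : Finset GolayPt) (x : GolayPt → ℤ) (i : GolayPt) :
    signedPerm σ c x i = if i ∈ c then -x (σ.symm i) else x (σ.symm i) := rfl

lemma signedPerm_mem {σ : Equiv.Perm GolayPt} (hσ : σ ∈ M24) {c : Finset GolayPt}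
    (hc : c ∈ supports (golayCode : Set (GolayPt → ZMod 2))) {x : GolayPt → ℤ}
    (hx : x ∈ leechLattice) : signedPerm σ c x ∈ leechLattice :=
  leech_signs hc (leech_perm (M24.inv_mem hσ) hx)

lemma signedPerm_left_inv (σ : Equiv.Perm GolayPt) (c : Finset GolayPt) (x : GolayPt → ℤ) :
    signedPerm σ⁻¹ (σ⁻¹ • c) (signedPerm σ c x) = x := by
  funext i
  have hm : i ∈ σ⁻¹ • c ↔ σ i ∈ c := mem_smul_finset_iff _ _ _
  have hs : σ⁻¹.symm i = σ i := rfl
  simp only [signedPerm_apply, hm, hs, Equiv.symm_apply_apply]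
  split <;> simp

lemma signedPerm_right_inv (σ : Equiv.Perm GolayPt) (c : Finset GolayPt) (x : GolayPt → ℤ) :
    signedPerm σ c (signedPerm σ⁻¹ (σ⁻¹ • c) x) = x := by
  funext i
  have hm : σ.symm i ∈ σ⁻¹ • c ↔ i ∈ c := by
    rw [mem_smul_finset_iff]
    show σ (σ.symm i) ∈ c ↔ _
    rw [Equiv.apply_symm_apply]
  have hs : σ⁻¹.symm (σ.symm i) = i := σ.apply_symm_apply i
  simp only [signedPerm_apply, hm, hs]
  split <;> simp

lemma sqNorm_signedPerm (σ : Equiv.Perm GolayPt) (c : Finset GolayPt) (x : GolayPt → ℤ) :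
    sqNorm (signedPerm σ c x) = sqNorm x := by
  rw [sqNorm, sqNorm, ← Equiv.sum_comp σ.symm (fun i => x i ^ 2)]
  refine Finset.sum_congr rfl fun i _ => ?_
  rw [signedPerm_apply]; split <;> ring

/-- A monomial map as a lattice automorphism. -/
def monoAut (σ : M24) (c : {c : Finset GolayPt // c ∈ supports (golayCode : Set (GolayPt → ZMod 2))}) :
    Co0 :=
  ⟨{ toFun := fun v => ⟨signedPerm σ.1 c.1 v.1, signedPerm_mem σ.2 c.2 v.2⟩
     invFun := fun v => ⟨signedPerm σ.1⁻¹ (σ.1⁻¹ • c.1) v.1,
        signedPerm_mem (M24.inv_mem σ.2) (smul_mem_supports (M24.inv_mem σ.2) c.2) v.2⟩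
     left_inv := fun v => Subtype.ext (signedPerm_left_inv _ _ _)
     right_inv := fun v => Subtype.ext (signedPerm_right_inv _ _ _) },
    fun v w => Subtype.ext (by
      funext i
      simp only [Equiv.coe_fn_mk, AddSubgroup.coe_add, Pi.add_apply, signedPerm_apply]
      split <;> ring),
    fun v => sqNorm_signedPerm _ _ _⟩

lemma monoAut_apply (σ : M24) (c : {c : Finset GolayPt // c ∈ supports (golayCode : Set (GolayPt → ZMod 2))})
    (v : leechLattice) :
    ((monoAut σ c • v : leechLattice) : GolayPt → ℤ) = signedPerm σ.1 c.1 v.1 := rfl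

/-! ### The standard cross -/

lemma single_eight_mem (i : GolayPt) (s : ℤ) : Pi.single i (8 * s) ∈ leechLattice := by
  have h : (Pi.single i (8 * s) : GolayPt → ℤ) = 2 • (Pi.single i (4 * s) : GolayPt → ℤ) := by
    funext j
    rw [nsmul_fun_apply]
    rcases eq_or_ne j i with rfl | h
    · simp; ring
    · simp [h]
  rw [h, mem_leech_two_smul]
  constructor
  · rw [show (fun j => (((Pi.single i (4 * s) : GolayPt → ℤ) j : ℤ) : ZMod 2)) = 0 by
      funext j
      rw [Pi.zero_apply, ZMod.intCast_zmod_eq_zero_iff_dvd]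
      rcases eq_or_ne j i with rfl | h
      · simp; omega
      · simp [h]]
    exact Submodule.zero_mem _
  · rw [Finset.sum_pi_single']; simp

/-- Eight times a unit vector, as a lattice vector. -/
def axisVec (i : GolayPt) : leechLattice := ⟨Pi.single i 8, by simpa using single_eight_mem i 1⟩

lemma dot_single (x : GolayPt → ℤ) (i : GolayPt) (s : ℤ) : dotInt x (Pi.single i s) = x i * s := by
  rw [dotInt, Finset.sum_eq_single i]
  · simp
  · intro j _ h; simp [h]
  · simp

lemma axisVec_mem_stdCross (i : GolayPt) : (axisVec i : GolayPt → ℤ) ∈ stdCross :=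
  ⟨i, 8, Or.inl rfl, rfl⟩

lemma signedPerm_stdCross {σ : Equiv.Perm GolayPt} {c : Finset GolayPt} {y : GolayPt → ℤ}
    (hy : y ∈ stdCross) : signedPerm σ c y ∈ stdCross := by
  obtain ⟨i, s, hs, rfl⟩ := hy
  refine ⟨σ i, if σ i ∈ c then -s else s, by split <;> omega, ?_⟩
  funext j
  rw [signedPerm_apply]
  rcases eq_or_ne j (σ i) with rfl | h
  · simp only [Equiv.symm_apply_apply, Pi.single_eq_same]
  · have h' : σ.symm j ≠ i := fun e => h (by rw [← e, Equiv.apply_symm_apply])
    simp [h, h']

theorem stdCross_stabiliser_eq_monomial (g : Co0)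
    (hg : ∀ v : leechLattice, (v : GolayPt → ℤ) ∈ stdCross →
      ((g • v : leechLattice) : GolayPt → ℤ) ∈ stdCross) :
    ∃ σ : M24, ∃ c, g = monoAut σ c := by
  have h := fun i => hg (axisVec i) (axisVec_mem_stdCross i)
  choose π s hs hgv using h
  have hval : ∀ (v : leechLattice) i, (g • v : leechLattice).1 (π i) * s i = v.1 i * 8 := by
    intro v i
    have h := co0_dot g v (axisVec i)
    rw [hgv i, dot_single] at h
    rw [h]
    exact dot_single _ i 8
  have hπ : Function.Injective π := by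
    intro i j hij
    by_contra hne
    have h1 := hval (axisVec i) j
    have h2 : ((axisVec i : leechLattice) : GolayPt → ℤ) j = 0 := by
      show (Pi.single i (8 : ℤ) : GolayPt → ℤ) j = 0
      simp [Ne.symm hne]
    have h3 := hgv i
    rw [h2, zero_mul] at h1
    rw [h3, ← hij, Pi.single_eq_same] at h1
    rcases hs i with e | e <;> rcases hs j with e' | e' <;> rw [e, e'] at h1 <;> norm_num at h1
  set σ : Equiv.Perm GolayPt := Equiv.ofBijective π ⟨hπ, Finite.injective_iff_surjective.1 hπ⟩
  set c : Finset GolayPt := Finset.univ.filter fun j => s (σ.symm j) = -8 with hc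
  have hform : ∀ v : leechLattice, (g • v : leechLattice).1 = signedPerm σ c v.1 := by
    intro v
    funext j
    have h := hval v (σ.symm j)
    rw [show π (σ.symm j) = j from σ.apply_symm_apply j] at h
    rw [signedPerm_apply]
    simp only [hc, Finset.mem_filter, Finset.mem_univ, true_and]
    rcases hs (σ.symm j) with e | e <;> rw [e] at h ⊢
    · rw [if_neg (by norm_num)]; omega
    · rw [if_pos rfl]; omega
  -- the permutation preserves the code
  have hσ : σ ∈ M24 := by
    rw [← mkPerm_tblOf σ, ← inM24_iff (validT_tblOf σ), inM24, validT_tblOf, Bool.true_and,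
      List.all_eq_true]
    intro b hb
    rw [inCode_iff, ← ptSet_mem_supports_iff (tblImg_lt (validT_tblOf σ) b), ptSet_tblImg_tblOf]
    have hw := basis_octad_mem hb
    have him : signedPerm σ c (fun i => if b.testBit (idx i) then (2 : ℤ) else 0) ∈ leechLattice :=
      hform ⟨_, hw.1⟩ ▸ SetLike.coe_mem _
    obtain ⟨m, h1, -, h3⟩ := mem_leech_iff.1 him
    rw [show σ • ptSet b = support₂ (digitWord (signedPerm σ c fun i =>
      if b.testBit (idx i) then (2 : ℤ) else 0)) from ?_]
    · exact support₂_mem_supports_iff.2 h3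
    · ext j
      rw [mem_smul_finset_iff, mem_ptSet, mem_support₂, digitWord, zmod2_eq_iff, signedPerm_apply]
      cases hbit : b.testBit (idx (σ.symm j)) <;> by_cases hj : j ∈ c <;> simp [hj, hbit]
  have hcmem : c ∈ supports (golayCode : Set (GolayPt → ZMod 2)) := by
    have him : signedPerm σ c oddMin ∈ leechLattice :=
      hform ⟨_, oddMin_mem.1⟩ ▸ SetLike.coe_mem _
    set y : GolayPt → ℤ := fun i => oddMin (σ.symm i) with hy
    have hyL : y ∈ leechLattice := leech_perm (M24.inv_mem hσ) oddMin_mem.1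
    obtain ⟨m, h1, -, h3⟩ := mem_leech_iff.1 hyL
    obtain ⟨m', -, -, h3'⟩ := mem_leech_iff.1 him
    have hodd : m % 2 = 1 := by
      rw [← h1 none, hy]
      exact (by decide : ∀ p, oddMin p % 2 = 1) _
    have hd := support₂_signed y c m h1
    rw [if_pos hodd] at hd
    have := symmDiff_mem_supports (support₂_mem_supports_iff.2 h3) (support₂_mem_supports_iff.2 h3')
    rw [show signedPerm σ c oddMin = fun i => if i ∈ c then -y i else y i from rfl, hd,
      symmDiff_symmDiff_cancel_left] at this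
    exact this
  exact ⟨⟨σ, hσ⟩, ⟨c, hcmem⟩, Subtype.ext (Equiv.ext fun v => Subtype.ext (hform v))⟩

lemma monoAut_injective :
    Function.Injective fun p : M24 × {c : Finset GolayPt //
      c ∈ supports (golayCode : Set (GolayPt → ZMod 2))} => monoAut p.1 p.2 := by
  rintro ⟨σ, c⟩ ⟨τ, d⟩ h
  have key : ∀ i, signedPerm σ.1 c.1 (Pi.single i 8) = signedPerm τ.1 d.1 (Pi.single i 8) :=
    fun i => congrArg (fun g : Co0 => ((g • axisVec i : leechLattice) : GolayPt → ℤ)) h
  have hpt : ∀ i, σ.1 i = τ.1 i ∧ (σ.1 i ∈ c.1 ↔ σ.1 i ∈ d.1) := by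
    intro i
    have h2 := congrFun (key i) (σ.1 i)
    rw [signedPerm_apply, signedPerm_apply, Equiv.symm_apply_apply, Pi.single_eq_same] at h2
    have heq : τ.1.symm (σ.1 i) = i := by
      by_contra hne
      rw [Pi.single_eq_of_ne hne] at h2
      split at h2 <;> simp at h2
    rw [heq, Pi.single_eq_same] at h2
    refine ⟨(Equiv.symm_apply_eq τ.1).1 heq, ?_⟩
    by_cases h3 : σ.1 i ∈ c.1 <;> by_cases h4 : σ.1 i ∈ d.1 <;> simp [h3, h4] at h2 ⊢
  have hσ : σ.1 = τ.1 := Equiv.ext fun i => (hpt i).1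
  refine Prod.ext (Subtype.ext hσ) (Subtype.ext (Finset.ext fun j => ?_))
  have := (hpt (σ.1.symm j)).2
  rwa [Equiv.apply_symm_apply] at this

theorem card_stdCross_stabiliser :
    Nat.card {g : Co0 // ∀ v : leechLattice, (v : GolayPt → ℤ) ∈ stdCross →
      ((g • v : leechLattice) : GolayPt → ℤ) ∈ stdCross} = 4096 * 244823040 := by
  let f : M24 × {c : Finset GolayPt // c ∈ supports (golayCode : Set (GolayPt → ZMod 2))} →
      {g : Co0 // ∀ v : leechLattice, (v : GolayPt → ℤ) ∈ stdCross →
        ((g • v : leechLattice) : GolayPt → ℤ) ∈ stdCross} :=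
    fun p => ⟨monoAut p.1 p.2, fun v hv => signedPerm_stdCross hv⟩
  have hf : Function.Bijective f := by
    refine ⟨fun p q h => monoAut_injective (congrArg Subtype.val h), fun g => ?_⟩
    obtain ⟨σ, c, h⟩ := stdCross_stabiliser_eq_monomial g.1 g.2
    exact ⟨(σ, c), Subtype.ext h.symm⟩
  rw [← Nat.card_congr (Equiv.ofBijective f hf), Nat.card_prod, card_M24, mul_comm]
  congr 1
  show Nat.card ↑(supports (golayCode : Set (GolayPt → ZMod 2))) = 4096
  rw [Nat.card_coe_set_eq, supports_eq_image, ncard_ptSet_image codeList_nodup (fun m => codeList_lt),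
    codeList_length]

theorem stdCross_stabiliser_census :
    (∀ g : Co0, (∀ v : leechLattice, (v : GolayPt → ℤ) ∈ stdCross →
        ((g • v : leechLattice) : GolayPt → ℤ) ∈ stdCross) →
      ∃ f ∈ golayMonomialMaps, ∀ v : leechLattice,
        ((g • v : leechLattice) : GolayPt → ℤ) = f (v : GolayPt → ℤ)) ∧
    Nat.card {g : Co0 // ∀ v : leechLattice, (v : GolayPt → ℤ) ∈ stdCross →
      ((g • v : leechLattice) : GolayPt → ℤ) ∈ stdCross} = 4096 * 244823040 := by
  refine ⟨fun g hg => ?_, card_stdCross_stabiliser⟩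
  obtain ⟨σ, c, rfl⟩ := stdCross_stabiliser_eq_monomial g hg
  exact ⟨signedPerm σ.1 c.1, ⟨σ.1, σ.2, c.1, c.2, rfl⟩, fun v => rfl⟩

end Cfsg.Agent.Golay
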