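import Cfsg.Agent.Golay.Trans
import Cfsg.Agent.Golay.Transport

/-!
Moving an octad together with two further points.
-/

set_option autoImplicit false

namespace Cfsg.Agent.Golay

open Cfsg
open scoped Pointwise

/-- An octad missing both reference points. -/
def octOut : ℕ := 416040

/-- An octad through exactly the first reference point. -/
def octMixed : ℕ := 8394986

/-- Moves of the stabiliser of `octOut` on outside pairs. -/
def octOutChain : List (ℕ × List ℕ) :=
  [(23, [20284083789641596895444092713292883, 53467384690257981118758162401811600, 90934455515272718187682859705644531, 178620107984697864590079325406386421, 276495403334192382086818461728165513, 303915042884215909502313833521388211, 376005068126990356807703054317564947, 440683048159630062830384271805548833, 548733072010390884259839661465534977, 640626260867928875328414147089125619, 678423114354732482985886225360519895, 809066760718501971333746997160434420, 852088126895195906138663881376120021, 880115486430613012758999952703135028, 943862864945415627409766559739127215, 984818244535754528103549039458486304]),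
   (0, [984818244535754528103549039458486304, 976419888343166379889312305273985441, 960883337302878313460491275428315554, 982253861673920876497965749157240132, 955678402468628020975868586011086982, 968624007754930999774915732540281927, 956155932718905704918242334620598953, 976975368056273383640212721634987434, 984128641005201598683946355462184237, 977060816535260636742225564557038735, 961114445944175881316653812095916368, 972512677393733538083964817990931507, 963711743068615702421561711465636948, 956692717070638395038753045908567701, 975037047193012895234827086319917366])]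

/-- Moves of the stabiliser of `octMixed` and an inside point on outside points. -/
def octMixedChain : List (ℕ × List ℕ) :=
  [(0, [984818244535754528103549039458486304, 978320779802357719223598752246123746, 974312783966464105483132438015322468, 974208128939283188448656876032262248, 958611899603523692511476498177411465, 975201745413698207241881520315679114, 983070097340208240049516322460371181, 969118506656389723511099358674334830, 978126346421370254580994324891415599, 979449048359081684396438824000076848, 974383851538652118288516161457211505, 974085724008725372566151988685865074, 955809910216953902230163163271319955, 976498252281997553276068573113123060, 965780775368744602767714387115556245, 973905002805932228512097531538417046])]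

lemma octPair_checks :
    checkTrans [octOut] 0 (fullMask ^^^ octOut) octOutChain = true ∧
    checkTrans [octMixed] (2 ^ 23) (fullMask ^^^ octMixed) octMixedChain = true ∧
    octOutChain.map (fun l => l.1) = [23, 0] ∧ octMixedChain.map (fun l => l.1) = [0] ∧
    octadList.contains octOut = true ∧ octadList.contains octMixed = true ∧
    (∀ p : GolayPt, p ∈ ptSet (fullMask ^^^ octOut) ↔ p ∉ ptSet octOut) ∧
    (∀ p : GolayPt, p ∈ ptSet (fullMask ^^^ octMixed) ↔ p ∉ ptSet octMixed) ∧
    (pt 23 = none ∧ pt 0 = some 0 ∧ (none : GolayPt) ∈ ptSet octMixed) := by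
  decide +kernel

lemma stabGrp_complement {o F : ℕ} {S : ℕ} (hS : ∀ p : GolayPt, p ∈ ptSet S ↔ p ∉ ptSet o)
    {σ : Equiv.Perm GolayPt} (hσ : σ ∈ stabGrp [o] F) {p : GolayPt} (hp : p ∈ ptSet S) :
    σ p ∈ ptSet S := by
  rw [hS] at hp ⊢
  rw [← hσ.2.1 o (List.mem_singleton_self _)]
  exact fun h => hp ((Finset.smul_mem_smul_finset_iff σ).1 h)

/-- Octads with two outside points are all alike. -/
theorem exists_map_octad_out_out {o o' : Finset GolayPt} (ho : o ∈ octads) (ho' : o' ∈ octads)
    {p q p' q' : GolayPt} (hp : p ∉ o) (hq : q ∉ o) (hpq : p ≠ q)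
    (hp' : p' ∉ o') (hq' : q' ∉ o') (hpq' : p' ≠ q') :
    ∃ g : M24, g • o = o' ∧ g.1 p = p' ∧ g.1 q = q' := by
  obtain ⟨hc, -, hb, -, hO, -, hS, -, h23, h0, -⟩ := octPair_checks
  have base : ∀ {o : Finset GolayPt}, o ∈ octads → ∀ {p q : GolayPt}, p ∉ o → q ∉ o → p ≠ q →
      ∃ g : M24, g • o = ptSet octOut ∧ g.1 p = none ∧ g.1 q = some 0 := by
    intro o ho p q hp hq hpq
    obtain ⟨k, hk⟩ := exists_M24_map_octad ho (ptSet_mem_octads (List.contains_iff_mem.1 hO))
    have hout : ∀ z, z ∉ o → k.1 z ∈ ptSet (fullMask ^^^ octOut) := fun z hz => by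
      rw [hS, ← hk]; exact fun h => hz ((Finset.smul_mem_smul_finset_iff k).1 h)
    obtain ⟨σ, hσ, hmap⟩ := exists_map_of_checkTrans _ _ _ _ hc
      (fun σ hσ z hz => stabGrp_complement hS hσ hz) [k.1 p, k.1 q]
      (by rw [← List.length_map (as := octOutChain) (fun l => l.1), hb]; rfl)
      (by simpa using hpq) (List.forall_mem_cons.2 ⟨hout p hp, List.forall_mem_singleton.2 (hout q hq)⟩)
    have hb' := congrArg (List.map fun b => σ (pt b)) hb
    rw [List.map_map] at hb'
    have heq := hb'.symm.trans hmap
    simp only [List.map_cons, List.map_nil, h23, h0, List.cons.injEq, and_true] at heq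
    refine ⟨(⟨σ, hσ.1⟩ : M24)⁻¹ * k, ?_, ?_, ?_⟩
    · rw [mul_smul, hk, inv_smul_eq_iff]
      exact (hσ.2.1 octOut (List.mem_singleton_self _)).symm
    · show σ⁻¹ (k.1 p) = none
      rw [← heq.1, Equiv.Perm.coe_inv, Equiv.symm_apply_apply]
    · show σ⁻¹ (k.1 q) = some 0
      rw [← heq.2, Equiv.Perm.coe_inv, Equiv.symm_apply_apply]
  obtain ⟨g, g1, g2, g3⟩ := base ho hp hq hpq
  obtain ⟨f, f1, f2, f3⟩ := base ho' hp' hq' hpq'
  refine ⟨f⁻¹ * g, by rw [mul_smul, g1, inv_smul_eq_iff, f1], ?_, ?_⟩
  · show f.1⁻¹ (g.1 p) = p'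
    rw [g2, ← f2, Equiv.Perm.coe_inv, Equiv.symm_apply_apply]
  · show f.1⁻¹ (g.1 q) = q'
    rw [g3, ← f3, Equiv.Perm.coe_inv, Equiv.symm_apply_apply]

/-- Octads with one inside and one outside point are all alike. -/
theorem exists_map_octad_in_out {o o' : Finset GolayPt} (ho : o ∈ octads) (ho' : o' ∈ octads)
    {p q p' q' : GolayPt} (hp : p ∈ o) (hq : q ∉ o) (hp' : p' ∈ o') (hq' : q' ∉ o') :
    ∃ g : M24, g • o = o' ∧ g.1 p = p' ∧ g.1 q = q' := by
  obtain ⟨-, hc, -, hb, -, hM, -, hS, h23, h0, hnone⟩ := octPair_checks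
  have hMo := ptSet_mem_octads (List.contains_iff_mem.1 hM)
  have five : ∀ {o : Finset GolayPt}, o ∈ octads → ∀ {p : GolayPt}, p ∈ o →
      ∃ a : Fin 5 → GolayPt, Function.Injective a ∧ a 0 = p ∧ ∀ i, a i ∈ o := by
    intro o ho p hp
    obtain ⟨a, ha, hao⟩ := exists_five_of_card (ho.2.ge.trans' (by norm_num : 5 ≤ 8))
    by_cases h : ∃ i, a i = p
    · obtain ⟨i, rfl⟩ := h
      exact ⟨a ∘ Equiv.swap 0 i, ha.comp (Equiv.injective _), by simp, fun j => hao _⟩
    · push Not at h
      refine ⟨Function.update a 0 p, ?_, by simp, fun j => ?_⟩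
      · intro x y hxy
        rcases eq_or_ne x 0 with rfl | hx <;> rcases eq_or_ne y 0 with rfl | hy
        · rfl
        · rw [Function.update_self, Function.update_of_ne hy] at hxy; exact absurd hxy.symm (h y)
        · rw [Function.update_self, Function.update_of_ne hx] at hxy; exact absurd hxy (h x)
        · rw [Function.update_of_ne hx, Function.update_of_ne hy] at hxy; exact ha hxy
      · rcases eq_or_ne j 0 with rfl | hj
        · rw [Function.update_self]; exact hp
        · rw [Function.update_of_ne hj]; exact hao j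
  have base : ∀ {o : Finset GolayPt}, o ∈ octads → ∀ {p q : GolayPt}, p ∈ o → q ∉ o →
      ∃ g : M24, g • o = ptSet octMixed ∧ g.1 p = none ∧ g.1 q = some 0 := by
    intro o ho p q hp hq
    obtain ⟨a, ha, hap, hao⟩ := five ho hp
    obtain ⟨b, hb5, hbp, hbo⟩ := five hMo hnone
    obtain ⟨k, hk⟩ := exists_M24_map_five ha hb5
    have hko : k • o = ptSet octMixed := by
      refine octad_eq_of_five (smul_mem_octads k.2 ho) hMo ?_
      calc 5 = (Finset.univ.image b).card := by
            rw [Finset.card_image_of_injective _ hb5, Finset.card_univ, Fintype.card_fin]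
        _ ≤ _ := Finset.card_le_card fun z hz => by
            obtain ⟨i, -, rfl⟩ := Finset.mem_image.1 hz
            exact Finset.mem_inter.2 ⟨hk i ▸ Finset.smul_mem_smul_finset (hao i), hbo i⟩
    have hkp : k.1 p = none := by rw [← hap, hk, hbp]
    have hout : k.1 q ∈ ptSet (fullMask ^^^ octMixed) := by
      rw [hS, ← hko]; exact fun h => hq ((Finset.smul_mem_smul_finset_iff k).1 h)
    obtain ⟨σ, hσ, hmap⟩ := exists_map_of_checkTrans _ _ _ _ hc
      (fun σ hσ z hz => stabGrp_complement hS hσ hz) [k.1 q]
      (by rw [← List.length_map (as := octMixedChain) (fun l => l.1), hb]; rfl)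
      (List.nodup_singleton _) (List.forall_mem_singleton.2 hout)
    have hb' := congrArg (List.map fun b => σ (pt b)) hb
    rw [List.map_map] at hb'
    have heq := hb'.symm.trans hmap
    simp only [List.map_cons, List.map_nil, h0, List.cons.injEq, and_true] at heq
    have hfix : σ none = none := by
      refine hσ.2.2 none ?_
      rw [ptSet_two_pow (by norm_num), h23]; exact Finset.mem_singleton_self _
    refine ⟨(⟨σ, hσ.1⟩ : M24)⁻¹ * k, ?_, ?_, ?_⟩
    · rw [mul_smul, hko, inv_smul_eq_iff]
      exact (hσ.2.1 octMixed (List.mem_singleton_self _)).symm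
    · show σ⁻¹ (k.1 p) = none
      rw [hkp, Equiv.Perm.coe_inv, Equiv.symm_apply_eq, hfix]
    · show σ⁻¹ (k.1 q) = some 0
      rw [← heq, Equiv.Perm.coe_inv, Equiv.symm_apply_apply]
  obtain ⟨g, g1, g2, g3⟩ := base ho hp hq
  obtain ⟨f, f1, f2, f3⟩ := base ho' hp' hq'
  refine ⟨f⁻¹ * g, by rw [mul_smul, g1, inv_smul_eq_iff, f1], ?_, ?_⟩
  · show f.1⁻¹ (g.1 p) = p'
    rw [g2, ← f2, Equiv.Perm.coe_inv, Equiv.symm_apply_apply]
  · show f.1⁻¹ (g.1 q) = q'
    rw [g3, ← f3, Equiv.Perm.coe_inv, Equiv.symm_apply_apply]

/-- Octads with two inside points are all alike. -/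
theorem exists_map_octad_in_in {o o' : Finset GolayPt} (ho : o ∈ octads) (ho' : o' ∈ octads)
    {p q p' q' : GolayPt} (hp : p ∈ o) (hq : q ∈ o) (hpq : p ≠ q)
    (hp' : p' ∈ o') (hq' : q' ∈ o') (hpq' : p' ≠ q') :
    ∃ g : M24, g • o = o' ∧ g.1 p = p' ∧ g.1 q = q' := by
  have five : ∀ {o : Finset GolayPt}, o ∈ octads → ∀ {p q : GolayPt}, p ∈ o → q ∈ o → p ≠ q →
      ∃ a : Fin 5 → GolayPt, Function.Injective a ∧ a 0 = p ∧ a 1 = q ∧ ∀ i, a i ∈ o := by
    intro o ho p q hp hq hpq
    have hc : 3 ≤ ((o.erase p).erase q).card := by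
      rw [Finset.card_erase_of_mem (Finset.mem_erase.2 ⟨hpq.symm, hq⟩), Finset.card_erase_of_mem hp,
        ho.2]; norm_num
    obtain ⟨t, hts, htc⟩ := Finset.exists_subset_card_eq hc
    obtain ⟨x, y, z, hxy, hxz, hyz, rfl⟩ := Finset.card_eq_three.1 htc
    have hx := hts (show x ∈ _ by simp)
    have hy := hts (show y ∈ _ by simp)
    have hz := hts (show z ∈ _ by simp)
    simp only [Finset.mem_erase] at hx hy hz
    refine ⟨![p, q, x, y, z], ?_, rfl, rfl, ?_⟩
    · intro i j h
      fin_cases i <;> fin_cases j <;>
        simp_all [eq_comm]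
    · intro i; fin_cases i <;> simp_all
  obtain ⟨a, ha, a0, a1, hao⟩ := five ho hp hq hpq
  obtain ⟨b, hb, b0, b1, hbo⟩ := five ho' hp' hq' hpq'
  obtain ⟨g, hg⟩ := exists_M24_map_five ha hb
  refine ⟨g, octad_eq_of_five (smul_mem_octads g.2 ho) ho' ?_, by rw [← a0, hg, b0],
    by rw [← a1, hg, b1]⟩
  calc 5 = (Finset.univ.image b).card := by
        rw [Finset.card_image_of_injective _ hb, Finset.card_univ, Fintype.card_fin]
    _ ≤ _ := Finset.card_le_card fun z hz => by
        obtain ⟨i, -, rfl⟩ := Finset.mem_image.1 hz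
        exact Finset.mem_inter.2 ⟨hg i ▸ Finset.smul_mem_smul_finset (hao i), hbo i⟩

end Cfsg.Agent.Golay
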