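import Cfsg.Agent.Golay.Systems
import Cfsg.Agent.Golay.SimpleCheck
import Cfsg.Agent.Golay.Stabilisers

/-!
Six points of the code's design and pairs of small sets of points.
-/

set_option autoImplicit false

namespace Cfsg.Agent.Golay

open Cfsg
open scoped Pointwise

/-- The five base points as a mask. -/
def fiveMask : ℕ := 0 ||| 2 ^ 23 ||| 2 ^ 0 ||| 2 ^ 1 ||| 2 ^ 2 ||| 2 ^ 3

lemma six_checks :
    checkChain [] fiveMask (m24Chain.drop 5) = true ∧
    checkChain [] baseOctad (m24Chain.drop 6) = true ∧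
    orbitMask (lvlTrans m24Chain 5) (lvlBase m24Chain 5) = baseOctad ^^^ fiveMask ∧
    orbitMask (lvlTrans m24Chain 6) (lvlBase m24Chain 6) = fullMask ^^^ baseOctad ∧
    fiveMask &&& baseOctad = fiveMask ∧ popCnt fiveMask = 5 ∧
    octadList.contains baseOctad = true := by
  decide +kernel

/-- Elements fixing the five base points move one sixth point to any of its kind. -/
lemma exists_fix_five {x y : GolayPt} (hx : x ∉ ptSet fiveMask) (hy : y ∉ ptSet fiveMask)
    (h : x ∈ ptSet baseOctad ↔ y ∈ ptSet baseOctad) :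
    ∃ σ ∈ stabGrp [] fiveMask, σ x = y := by
  obtain ⟨c5, c6, o5, o6, hsub, -, -⟩ := six_checks
  rw [show m24Chain.drop 5 = (lvlBase m24Chain 5, lvlTrans m24Chain 5) :: m24Chain.drop 6 from rfl]
    at c5
  rw [drop_six] at c6
  have hle : stabGrp [] baseOctad ≤ stabGrp [] fiveMask := fun σ hσ => by
    refine ⟨hσ.1, by simp, fun p hp => hσ.2.2 p ?_⟩
    rw [← hsub, ptSet_and, Finset.mem_inter] at hp
    exact hp.2
  by_cases hxb : x ∈ ptSet baseOctad
  · obtain ⟨-, horb, -, -⟩ := orbit_of_checkChain c5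
    have mem : ∀ z, z ∈ ptSet baseOctad → z ∉ ptSet fiveMask →
        z ∈ MulAction.orbit ↥(stabGrp [] fiveMask) (pt (lvlBase m24Chain 5)) := by
      intro z h1 h2
      rw [horb, Finset.mem_coe, o5, ptSet_xor, Finset.mem_symmDiff]
      exact Or.inl ⟨h1, h2⟩
    obtain ⟨⟨σ, hσ⟩, hσx⟩ := exists_smul_of_mem_orbit (mem x hxb hx) (mem y (h.1 hxb) hy)
    exact ⟨σ, hσ, hσx⟩
  · obtain ⟨-, horb, -, -⟩ := orbit_of_checkChain c6
    have mem : ∀ z, z ∉ ptSet baseOctad →
        z ∈ MulAction.orbit ↥(stabGrp [] baseOctad) (pt (lvlBase m24Chain 6)) := by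
      intro z h1
      rw [horb, Finset.mem_coe, o6, ptSet_xor, ptSet_fullMask, Finset.mem_symmDiff]
      exact Or.inl ⟨Finset.mem_univ z, h1⟩
    obtain ⟨⟨σ, hσ⟩, hσx⟩ := exists_smul_of_mem_orbit (mem x hxb) (mem y (mt h.2 hxb))
    exact ⟨σ, hle hσ, hσx⟩

/-- Six points of an octad, or six points in no octad, can be mapped in any order. -/
theorem exists_map_six {a b : Fin 6 → GolayPt} (ha : Function.Injective a)
    (hb : Function.Injective b)
    (h : (∃ o ∈ octads, ∀ i, a i ∈ o) ↔ (∃ o ∈ octads, ∀ i, b i ∈ o)) :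
    ∃ g : M24, ∀ i, (g : Equiv.Perm GolayPt) (a i) = b i := by
  obtain ⟨-, -, -, -, hsub, -, hoct⟩ := six_checks
  have hO : ptSet baseOctad ∈ octads := ptSet_mem_octads (List.contains_iff_mem.1 hoct)
  have h5O : ptSet fiveMask ⊆ ptSet baseOctad := by
    rw [← hsub, ptSet_and]; exact Finset.inter_subset_right
  have hbase : ∀ i, base5 i ∈ ptSet fiveMask := by decide +kernel
  have prep : ∀ {a : Fin 6 → GolayPt}, Function.Injective a → ∃ g : M24,
      (∀ i : Fin 5, g.1 (a i.castSucc) = base5 i) ∧ g.1 (a (Fin.last 5)) ∉ ptSet fiveMask ∧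
      ((∃ o ∈ octads, ∀ i, a i ∈ o) ↔ g.1 (a (Fin.last 5)) ∈ ptSet baseOctad) := by
    intro a ha
    obtain ⟨g, hg⟩ := exists_M24_map_five (a := fun i : Fin 5 => a i.castSucc) (b := base5)
      (fun i j e => Fin.castSucc_injective _ (ha e)) base5.injective
    have hset : ptSet fiveMask = Finset.univ.image base5 := by
      symm
      refine Finset.eq_of_subset_of_card_le ?_ ?_
      · intro p hp
        obtain ⟨i, -, rfl⟩ := Finset.mem_image.1 hp
        exact hbase i
      · rw [Finset.card_image_of_injective _ base5.injective, card_ptSet, six_checks.2.2.2.2.2.1]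
        simp
    refine ⟨g, hg, ?_, ?_, ?_⟩
    · rw [hset, Finset.mem_image]
      rintro ⟨i, -, hi⟩
      rw [← hg i] at hi
      exact (Fin.castSucc_lt_last i).ne (ha (g.1.injective hi))
    · rintro ⟨o, ho, hao⟩
      have e : g • o = ptSet baseOctad := by
        refine octad_eq_of_five (smul_mem_octads g.2 ho) hO ?_
        calc 5 = (ptSet fiveMask).card := by rw [card_ptSet, six_checks.2.2.2.2.2.1]
          _ ≤ _ := Finset.card_le_card fun p hp => by
            refine Finset.mem_inter.2 ⟨?_, h5O hp⟩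
            rw [hset, Finset.mem_image] at hp
            obtain ⟨i, -, rfl⟩ := hp
            rw [← hg i]
            exact Finset.smul_mem_smul_finset (hao _)
      rw [← e]
      exact Finset.smul_mem_smul_finset (hao _)
    · intro hl
      refine ⟨g⁻¹ • ptSet baseOctad, smul_mem_octads (g⁻¹).2 hO, fun i => ?_⟩
      rw [Finset.mem_inv_smul_finset_iff]
      show g.1 (a i) ∈ _
      refine Fin.lastCases hl (fun j => ?_) i
      rw [hg j]; exact h5O (hbase j)
  obtain ⟨g, hg, hgn, hgo⟩ := prep ha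
  obtain ⟨k, hk, hkn, hko⟩ := prep hb
  obtain ⟨σ, hσ, hσx⟩ := exists_fix_five hgn hkn ((hgo.symm.trans h).trans hko)
  refine ⟨k⁻¹ * ⟨σ, hσ.1⟩ * g, fun i => ?_⟩
  show k.1⁻¹ (σ (g.1 (a i))) = b i
  rw [Equiv.Perm.inv_def, Equiv.symm_apply_eq]
  refine Fin.lastCases ?_ (fun j => ?_) i
  · exact hσx
  · rw [hg j, hk j]; exact hσ.2.2 _ (hbase j)

theorem exists_map_upto_six {ι : Type*} [Fintype ι] (hc : Fintype.card ι ≤ 6)
    {a b : ι → GolayPt} (ha : Function.Injective a) (hb : Function.Injective b)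
    (h : Fintype.card ι = 6 → ((∃ o ∈ octads, ∀ i, a i ∈ o) ↔ (∃ o ∈ octads, ∀ i, b i ∈ o))) :
    ∃ g : M24, ∀ i, (g : Equiv.Perm GolayPt) (a i) = b i := by
  set e := Fintype.equivFin ι
  rcases eq_or_lt_of_le hc with h6 | h6
  · set e' : Fin 6 ≃ ι := (finCongr h6.symm).trans e.symm
    obtain ⟨g, hg⟩ := exists_map_six (a := a ∘ e') (b := b ∘ e') (ha.comp e'.injective)
      (hb.comp e'.injective) (by
        have := h h6
        have hiff : ∀ (c : ι → GolayPt) (o : Finset GolayPt),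
            (∀ i, (c ∘ e') i ∈ o) ↔ ∀ i, c i ∈ o := fun c o =>
          ⟨fun hh i => by simpa using hh (e'.symm i), fun hh i => hh _⟩
        simpa only [hiff] using this)
    exact ⟨g, fun i => by simpa using hg (e'.symm i)⟩
  · obtain ⟨g, hg⟩ := exists_M24_map_points (k := Fintype.card ι) (by omega)
      (ha.comp e.symm.injective) (hb.comp e.symm.injective)
    exact ⟨g, fun i => by simpa using hg (e i)⟩

/-- Two sets of equal size `k ≤ 3` in every position. -/
theorem exists_map_pair_sets {T U T' U' : Finset GolayPt} (hT : T.card = T'.card)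
    (hU : U.card = U'.card) (hTU : (T ∩ U).card = (T' ∩ U').card) (h6 : (T ∪ U).card ≤ 6)
    (h : (T ∪ U).card = 6 → ((∃ o ∈ octads, T ∪ U ⊆ o) ↔ (∃ o ∈ octads, T' ∪ U' ⊆ o))) :
    ∃ g : M24, g • T = T' ∧ g • U = U' := by
  classical
  have c1 : (T \ U).card = (T' \ U').card := by
    have := Finset.card_sdiff_add_card_inter T U
    have := Finset.card_sdiff_add_card_inter T' U'
    omega
  have c2 : (U \ T).card = (U' \ T').card := by
    have := Finset.card_sdiff_add_card_inter U T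
    have := Finset.card_sdiff_add_card_inter U' T'
    rw [Finset.inter_comm U, Finset.inter_comm U'] at *
    omega
  let eA := Finset.equivOfCardEq hTU
  let eB := Finset.equivOfCardEq c1
  let eC := Finset.equivOfCardEq c2
  let a : ↥(T ∩ U) ⊕ ↥(T \ U) ⊕ ↥(U \ T) → GolayPt :=
    Sum.elim (fun z => z.1) (Sum.elim (fun z => z.1) fun z => z.1)
  let b : ↥(T ∩ U) ⊕ ↥(T \ U) ⊕ ↥(U \ T) → GolayPt :=
    Sum.elim (fun z => (eA z).1) (Sum.elim (fun z => (eB z).1) fun z => (eC z).1)
  have disj : ∀ (S V : Finset GolayPt) (x : GolayPt),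
      (x ∈ S ∩ V → x ∉ S \ V ∧ x ∉ V \ S) ∧ (x ∈ S \ V → x ∉ V \ S) := by
    intro S V x; simp only [Finset.mem_inter, Finset.mem_sdiff]; tauto
  have hinj : ∀ (S V : Finset GolayPt) {α β γ : Type} (fA : α → ↥(S ∩ V)) (fB : β → ↥(S \ V))
      (fC : γ → ↥(V \ S)), Function.Injective fA → Function.Injective fB → Function.Injective fC →
      Function.Injective (Sum.elim (fun z => (fA z).1)
        (Sum.elim (fun z => (fB z).1) fun z => (fC z).1)) := by
    intro S V α β γ fA fB fC iA iB iC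
    rintro (x | x | x) (y | y | y) hxy <;> simp only [Sum.elim_inl, Sum.elim_inr] at hxy
    · rw [iA (Subtype.ext hxy)]
    · exact absurd (fB y).2 (hxy ▸ ((disj S V _).1 (fA x).2).1)
    · exact absurd (fC y).2 (hxy ▸ ((disj S V _).1 (fA x).2).2)
    · exact absurd (fB x).2 (hxy.symm ▸ ((disj S V _).1 (fA y).2).1)
    · rw [iB (Subtype.ext hxy)]
    · exact absurd (fC y).2 (hxy ▸ (disj S V _).2 (fB x).2)
    · exact absurd (fC x).2 (hxy.symm ▸ ((disj S V _).1 (fA y).2).2)
    · exact absurd (fC x).2 (hxy.symm ▸ (disj S V _).2 (fB y).2)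
    · rw [iC (Subtype.ext hxy)]
  have ha : Function.Injective a :=
    hinj T U id id id Function.injective_id Function.injective_id Function.injective_id
  have hb : Function.Injective b := hinj T' U' eA eB eC eA.injective eB.injective eC.injective
  have hcard : Fintype.card (↥(T ∩ U) ⊕ ↥(T \ U) ⊕ ↥(U \ T)) = (T ∪ U).card := by
    simp only [Fintype.card_sum, Fintype.card_coe]
    have := Finset.card_sdiff_add_card_inter T U
    have := Finset.card_sdiff_add_card_inter U T
    have := Finset.card_union_add_card_inter T U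
    rw [Finset.inter_comm U T] at *
    omega
  have sub : ∀ (o : Finset GolayPt), ((∀ i, a i ∈ o) ↔ T ∪ U ⊆ o) ∧
      ((∀ i, b i ∈ o) ↔ T' ∪ U' ⊆ o) := by
    intro o
    constructor
    · constructor
      · intro hh p hp
        by_cases h1 : p ∈ T <;> by_cases h2 : p ∈ U
        · exact hh (Sum.inl ⟨p, Finset.mem_inter.2 ⟨h1, h2⟩⟩)
        · exact hh (Sum.inr (Sum.inl ⟨p, Finset.mem_sdiff.2 ⟨h1, h2⟩⟩))
        · exact hh (Sum.inr (Sum.inr ⟨p, Finset.mem_sdiff.2 ⟨h2, h1⟩⟩))
        · simp [h1, h2] at hp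
      · rintro hh (x | x | x) <;> refine hh (Finset.mem_union.2 ?_)
        · exact Or.inl (Finset.mem_inter.1 x.2).1
        · exact Or.inl (Finset.mem_sdiff.1 x.2).1
        · exact Or.inr (Finset.mem_sdiff.1 x.2).1
    · constructor
      · intro hh p hp
        by_cases h1 : p ∈ T' <;> by_cases h2 : p ∈ U'
        · simpa [b] using hh (Sum.inl (eA.symm ⟨p, Finset.mem_inter.2 ⟨h1, h2⟩⟩))
        · simpa [b] using hh (Sum.inr (Sum.inl (eB.symm ⟨p, Finset.mem_sdiff.2 ⟨h1, h2⟩⟩)))
        · simpa [b] using hh (Sum.inr (Sum.inr (eC.symm ⟨p, Finset.mem_sdiff.2 ⟨h2, h1⟩⟩)))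
        · simp [h1, h2] at hp
      · rintro hh (x | x | x) <;> refine hh (Finset.mem_union.2 ?_)
        · exact Or.inl (Finset.mem_inter.1 (eA x).2).1
        · exact Or.inl (Finset.mem_sdiff.1 (eB x).2).1
        · exact Or.inr (Finset.mem_sdiff.1 (eC x).2).1
  obtain ⟨g, hg⟩ := exists_map_upto_six (hcard.trans_le h6) ha hb (fun e => by
    simp only [(sub _).1, (sub _).2]
    exact h (hcard ▸ e))
  have hgi : ∀ i, g.1 (a i) = b i := hg
  refine ⟨g, Finset.eq_of_subset_of_card_le ?_ ?_, Finset.eq_of_subset_of_card_le ?_ ?_⟩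
  · intro p hp
    obtain ⟨q, hq, rfl⟩ := Finset.mem_smul_finset.1 hp
    show g.1 q ∈ T'
    by_cases h2 : q ∈ U
    · rw [show g.1 q = _ from hgi (Sum.inl ⟨q, Finset.mem_inter.2 ⟨hq, h2⟩⟩)]
      exact (Finset.mem_inter.1 (eA _).2).1
    · rw [show g.1 q = _ from hgi (Sum.inr (Sum.inl ⟨q, Finset.mem_sdiff.2 ⟨hq, h2⟩⟩))]
      exact (Finset.mem_sdiff.1 (eB _).2).1
  · rw [Finset.card_smul_finset, hT]
  · intro p hp
    obtain ⟨q, hq, rfl⟩ := Finset.mem_smul_finset.1 hp
    show g.1 q ∈ U'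
    by_cases h2 : q ∈ T
    · rw [show g.1 q = _ from hgi (Sum.inl ⟨q, Finset.mem_inter.2 ⟨h2, hq⟩⟩)]
      exact (Finset.mem_inter.1 (eA _).2).2
    · rw [show g.1 q = _ from hgi (Sum.inr (Sum.inr ⟨q, Finset.mem_sdiff.2 ⟨hq, h2⟩⟩))]
      exact (Finset.mem_sdiff.1 (eC _).2).1
  · rw [Finset.card_smul_finset, hU]

/-! ### Lists of small sets -/

/-- Masks with `k` bits below position `n`. -/
def kMasks : ℕ → ℕ → List ℕ
  | 0, 0 => [0]
  | 0, _ + 1 => []
  | n + 1, 0 => kMasks n 0
  | n + 1, k + 1 => kMasks n (k + 1) ++ (kMasks n k).map fun m => m ||| 2 ^ n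

lemma kMasks_checks :
    ((kMasks 24 2).length = 276 ∧ H95.distinctB (kMasks 24 2) = true ∧
      ((kMasks 24 2).all fun m => decide (m < 2 ^ 24) && H95.pc24 m == 2) = true) ∧
    ((kMasks 24 3).length = 2024 ∧ H95.distinctB (kMasks 24 3) = true ∧
      ((kMasks 24 3).all fun m => decide (m < 2 ^ 24) && H95.pc24 m == 3) = true) := by
  decide +kernel

lemma kMasks_spec {k : ℕ} (hlen : (kMasks 24 k).length = Nat.choose 24 k)
    (hd : H95.distinctB (kMasks 24 k) = true)
    (hall : ((kMasks 24 k).all fun m => decide (m < 2 ^ 24) && H95.pc24 m == k) = true) :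
    (kMasks 24 k).Nodup ∧ (∀ m ∈ kMasks 24 k, m < 2 ^ 24) ∧
      ∀ s : Finset GolayPt, s.card = k ↔ maskOf s ∈ kMasks 24 k := by
  have hnd := H95.nodup_of_distinctB hd
  have hm : ∀ m ∈ kMasks 24 k, m < 2 ^ 24 ∧ popCnt m = k := fun m hm => by
    have := List.all_eq_true.1 hall m hm
    rw [Bool.and_eq_true, decide_eq_true_eq, beq_iff_eq, H95.pc24_eq] at this
    exact this
  refine ⟨hnd, fun m h => (hm m h).1, fun s => ⟨fun hs => ?_, fun hs => ?_⟩⟩
  · have key : ((kMasks 24 k).map ptSet).toFinset = Finset.univ.powersetCard k := by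
      refine Finset.eq_of_subset_of_card_le ?_ ?_
      · intro t ht
        obtain ⟨m, hm', rfl⟩ := List.mem_map.1 (List.mem_toFinset.1 ht)
        rw [Finset.mem_powersetCard, card_ptSet]
        exact ⟨Finset.subset_univ _, (hm m hm').2⟩
      · rw [Finset.card_powersetCard, Finset.card_univ, List.toFinset_card_of_nodup
          (hnd.map_on fun a ha b hb h => ptSet_injOn (hm a ha).1 (hm b hb).1 h), List.length_map,
          hlen, show Fintype.card GolayPt = 24 from rfl]
    have : s ∈ ((kMasks 24 k).map ptSet).toFinset := by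
      rw [key, Finset.mem_powersetCard]; exact ⟨Finset.subset_univ _, hs⟩
    obtain ⟨m, hm', rfl⟩ := List.mem_map.1 (List.mem_toFinset.1 this)
    rwa [maskOf_ptSet (hm m hm').1]
  · rw [← popCnt_maskOf, (hm _ hs).2]

lemma ncard_kSets_filter {k : ℕ} (hlen : (kMasks 24 k).length = Nat.choose 24 k)
    (hd : H95.distinctB (kMasks 24 k) = true)
    (hall : ((kMasks 24 k).all fun m => decide (m < 2 ^ 24) && H95.pc24 m == k) = true)
    {P : Finset GolayPt → Prop} (p : ℕ → Bool) (h : ∀ s, P s ↔ p (maskOf s) = true) :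
    {s | s.card = k ∧ P s}.ncard = ((kMasks 24 k).filter p).length := by
  obtain ⟨hnd, hlt, hmem⟩ := kMasks_spec hlen hd hall
  rw [← H44.ncard_maskOf_mem (hnd.filter p) fun m hm => hlt m (List.mem_filter.1 hm).1]
  congr 1
  ext s
  simp [List.mem_filter, ← hmem, h]

end Cfsg.Agent.Golay
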