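import Cfsg.Agent.H95.GolayJoint
import Cfsg.Agent.Golay.SmallSets

/-!
The stabiliser of an octad: the action on its points and a complement to the fixing subgroup.
-/

set_option autoImplicit false

namespace Cfsg.Agent.Golay

open Cfsg
open scoped Pointwise

variable (o : Finset GolayPt)

/-- Stabiliser of a set inside the group of the code. -/
def setStab : Subgroup (Equiv.Perm GolayPt) :=
  M24 ⊓ MulAction.stabilizer (Equiv.Perm GolayPt) o

/-- Elements fixing every point of the set. -/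
def setFix : Subgroup (Equiv.Perm GolayPt) :=
  M24 ⊓ fixingSubgroup (Equiv.Perm GolayPt) (o : Set GolayPt)

lemma apply_mem_iff_of_mem_setStab {g : Equiv.Perm GolayPt} (hg : g ∈ setStab o) (x : GolayPt) :
    g x ∈ o ↔ x ∈ o := by
  conv_lhs => rw [← (MulAction.mem_stabilizer_iff.1 hg.2)]
  exact Finset.smul_mem_smul_finset_iff g

/-- Restriction to the set. -/
def restrictHom : setStab o →* Equiv.Perm ↥o where
  toFun g := g.1.subtypePerm (apply_mem_iff_of_mem_setStab o g.2)
  map_one' := by ext x; simp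
  map_mul' a b := Equiv.ext fun x => Subtype.ext rfl

lemma restrictHom_apply (g : setStab o) (x : ↥o) : ((restrictHom o g) x : GolayPt) = g.1 x.1 := rfl

lemma setFix_le : setFix o ≤ setStab o := by
  rintro g ⟨h1, h2⟩
  refine ⟨h1, MulAction.mem_stabilizer_iff.2 (Finset.eq_of_subset_of_card_le ?_ ?_)⟩
  · intro p hp
    obtain ⟨q, hq, rfl⟩ := Finset.mem_smul_finset.1 hp
    rw [(mem_fixingSubgroup_iff _).1 h2 q (Finset.mem_coe.2 hq)]
    exact hq
  · rw [Finset.card_smul_finset]

lemma ker_restrictHom : (restrictHom o).ker = (setFix o).subgroupOf (setStab o) := by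
  ext g
  rw [MonoidHom.mem_ker, Subgroup.mem_subgroupOf]
  constructor
  · intro h
    refine ⟨g.2.1, (mem_fixingSubgroup_iff _).2 fun y hy => ?_⟩
    have := restrictHom_apply o g ⟨y, hy⟩
    rw [h] at this
    exact this.symm
  · rintro ⟨-, h⟩
    ext x : 2
    rw [restrictHom_apply]
    exact (mem_fixingSubgroup_iff _).1 h x.1 (Finset.mem_coe.2 x.2)

variable {o}

lemma card_setStab (ho : o ∈ octads) : Nat.card (setStab o) = 322560 := by
  have e : setStab o = (MulAction.stabilizer M24 o).map M24.subtype := by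
    ext g
    constructor
    · rintro ⟨h1, h2⟩; exact ⟨⟨g, h1⟩, h2, rfl⟩
    · rintro ⟨g, hg, rfl⟩; exact ⟨g.2, hg⟩
  rw [e, Subgroup.card_map_of_injective M24.subtype_injective, H95.card_octad_stab ho]

theorem range_restrictHom (ho : o ∈ octads) : (restrictHom o).range = alternatingGroup ↥o := by
  have hfix : Nat.card (setFix o) = 16 := (octad_fixing ho).1
  have h1 := Subgroup.card_mul_index (restrictHom o).ker
  rw [Subgroup.index_ker, ker_restrictHom, Nat.card_congr
    (Subgroup.subgroupOfEquivOfLe (setFix_le o)).toEquiv, hfix, card_setStab ho] at h1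
  refine Equiv.Perm.eq_alternatingGroup_of_index_eq_two ?_
  have h2 := Subgroup.card_mul_index (restrictHom o).range
  rw [Nat.card_eq_fintype_card (α := Equiv.Perm ↥o), Fintype.card_perm, Fintype.card_coe, ho.2,
    show Nat.factorial 8 = 40320 from by decide] at h2
  have : Nat.card (restrictHom o).range = 20160 := by omega
  rw [this] at h2
  omega

theorem octad_action_eq (ho : o ∈ octads) :
    {e : Equiv.Perm ↥o | ∃ g : Equiv.Perm GolayPt, g ∈ M24 ∧
      ∃ h : (∀ x, g x ∈ o ↔ x ∈ o), g.subtypePerm h = e} = (alternatingGroup ↥o : Set _) := by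
  rw [← range_restrictHom ho]
  ext e
  constructor
  · rintro ⟨g, hg, h, rfl⟩
    refine ⟨⟨g, hg, MulAction.mem_stabilizer_iff.2 ?_⟩, rfl⟩
    refine Finset.eq_of_subset_of_card_le (fun p hp => ?_) (by rw [Finset.card_smul_finset])
    obtain ⟨q, hq, rfl⟩ := Finset.mem_smul_finset.1 hp
    exact (h q).2 hq
  · rintro ⟨⟨g, hg⟩, rfl⟩
    exact ⟨g, hg.1, apply_mem_iff_of_mem_setStab o hg, rfl⟩

/-! ### A complement -/

lemma setFix_regular (ho : o ∈ octads) {p : GolayPt} (hp : p ∉ o) :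
    (∀ q, q ∉ o → ∃ k ∈ setFix o, k p = q) ∧
      setFix o ⊓ MulAction.stabilizer (Equiv.Perm GolayPt) p = ⊥ := by
  obtain ⟨-, c6, -, o6, -, -, hoct⟩ := six_checks
  have hO : ptSet baseOctad ∈ octads := ptSet_mem_octads (List.contains_iff_mem.1 hoct)
  obtain ⟨g, hg⟩ := exists_M24_map_octad ho hO
  have hg' : (g : Equiv.Perm GolayPt) • o = ptSet baseOctad := hg
  rw [drop_six] at c6
  obtain ⟨-, horb, -, -⟩ := orbit_of_checkChain c6
  have hmem : ∀ q, q ∉ o → g.1 q ∈ MulAction.orbit ↥(stabGrp [] baseOctad)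
      (pt (lvlBase m24Chain 6)) := by
    intro q hq
    rw [horb, Finset.mem_coe, o6, ptSet_xor, ptSet_fullMask, Finset.mem_symmDiff]
    refine Or.inl ⟨Finset.mem_univ _, ?_⟩
    rw [← hg']
    exact fun h => hq ((Finset.smul_mem_smul_finset_iff g.1).1 h)
  have htrans : ∀ q, q ∉ o → ∃ k ∈ setFix o, k p = q := by
    intro q hq
    obtain ⟨⟨σ, hσ⟩, hσp⟩ := exists_smul_of_mem_orbit (hmem p hp) (hmem q hq)
    have hσp' : σ (g.1 p) = g.1 q := hσp
    refine ⟨g.1⁻¹ * σ * g.1, ⟨M24.mul_mem (M24.mul_mem (M24.inv_mem g.2) hσ.1) g.2,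
      (mem_fixingSubgroup_iff _).2 fun y hy => ?_⟩, ?_⟩
    · have : g.1 y ∈ ptSet baseOctad := hg' ▸ Finset.smul_mem_smul_finset (Finset.mem_coe.1 hy)
      show (g.1⁻¹ * σ * g.1) y = y
      rw [Equiv.Perm.mul_apply, Equiv.Perm.mul_apply, hσ.2.2 _ this, Equiv.Perm.inv_def,
        Equiv.symm_apply_apply]
    · rw [Equiv.Perm.mul_apply, Equiv.Perm.mul_apply, hσp', Equiv.Perm.inv_def,
        Equiv.symm_apply_apply]
  refine ⟨htrans, ?_⟩
  have h := card_eq_orbit_mul_stab (setFix o) p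
  have horb2 : MulAction.orbit (setFix o) p = ((oᶜ : Finset GolayPt) : Set GolayPt) := by
    ext q
    rw [Finset.mem_coe, Finset.mem_compl]
    constructor
    · rintro ⟨⟨k, hk⟩, rfl⟩ hq
      exact hp ((apply_mem_iff_of_mem_setStab o (setFix_le o hk) p).1 hq)
    · intro hq
      obtain ⟨k, hk, hkp⟩ := htrans q hq
      exact ⟨⟨k, hk⟩, hkp⟩
  rw [horb2, Set.ncard_coe_finset, Finset.card_compl, ho.2,
    show Fintype.card GolayPt = 24 from rfl, show Nat.card (setFix o) = 16 from (octad_fixing ho).1]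
    at h
  exact Subgroup.card_eq_one.1 (by omega)

theorem octad_complement (ho : o ∈ octads) {p : GolayPt} (hp : p ∉ o) :
    setFix o ⊓ (setStab o ⊓ MulAction.stabilizer (Equiv.Perm GolayPt) p) = ⊥ ∧
    setFix o ⊔ (setStab o ⊓ MulAction.stabilizer (Equiv.Perm GolayPt) p) = setStab o ∧
    Nonempty (↥(setStab o ⊓ MulAction.stabilizer (Equiv.Perm GolayPt) p) ≃*
      alternatingGroup (Fin 8)) := by
  obtain ⟨htrans, hbot⟩ := setFix_regular ho hp
  set H := setStab o ⊓ MulAction.stabilizer (Equiv.Perm GolayPt) p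
  have hinf : setFix o ⊓ H = ⊥ := by
    rw [eq_bot_iff, ← hbot]
    exact fun g hg => ⟨hg.1, hg.2.2⟩
  have hdec : ∀ g ∈ setStab o, ∃ k ∈ setFix o, k⁻¹ * g ∈ H := by
    intro g hg
    have hq : g p ∉ o := fun h => hp ((apply_mem_iff_of_mem_setStab o hg p).1 h)
    obtain ⟨k, hk, hkp⟩ := htrans _ hq
    refine ⟨k, hk, (setStab o).mul_mem ((setStab o).inv_mem (setFix_le o hk)) hg,
      MulAction.mem_stabilizer_iff.2 ?_⟩
    show (k⁻¹ * g) p = p
    rw [Equiv.Perm.mul_apply, ← hkp, Equiv.Perm.inv_def, Equiv.symm_apply_apply]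
  refine ⟨hinf, le_antisymm (sup_le (setFix_le o) inf_le_left) fun g hg => ?_, ?_⟩
  · obtain ⟨k, hk, hkg⟩ := hdec g hg
    rw [show g = k * (k⁻¹ * g) by group]
    exact mul_mem (Subgroup.mem_sup_left hk) (Subgroup.mem_sup_right hkg)
  · let φ : ↥H →* Equiv.Perm ↥o := (restrictHom o).comp (Subgroup.inclusion inf_le_left)
    have hinj : Function.Injective φ := by
      rw [← MonoidHom.ker_eq_bot_iff, Subgroup.eq_bot_iff_forall]
      intro g hg
      have h1 : (Subgroup.inclusion inf_le_left g : setStab o) ∈ (restrictHom o).ker := hg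
      rw [ker_restrictHom, Subgroup.mem_subgroupOf] at h1
      have h2 : (g : Equiv.Perm GolayPt) ∈ setFix o ⊓ H := ⟨h1, g.2⟩
      rw [hinf, Subgroup.mem_bot] at h2
      exact Subtype.ext h2
    have hrange : φ.range = alternatingGroup ↥o := by
      rw [← range_restrictHom ho]
      refine le_antisymm ?_ ?_
      · rintro _ ⟨g, rfl⟩; exact ⟨_, rfl⟩
      · rintro _ ⟨g, rfl⟩
        obtain ⟨k, hk, hkg⟩ := hdec g.1 g.2
        refine ⟨⟨_, hkg⟩, ?_⟩
        show restrictHom o (⟨k⁻¹ * g.1, _⟩ : setStab o) = restrictHom o g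
        rw [show (⟨k⁻¹ * g.1, hkg.1⟩ : setStab o) = (⟨k, setFix_le o hk⟩ : setStab o)⁻¹ * g from rfl,
          map_mul, map_inv]
        have : restrictHom o (⟨k, setFix_le o hk⟩ : setStab o) = 1 := by
          rw [← MonoidHom.mem_ker, ker_restrictHom, Subgroup.mem_subgroupOf]; exact hk
        rw [this, inv_one, one_mul]
    exact ⟨((MonoidHom.ofInjective hinj).trans (MulEquiv.subgroupCongr hrange)).trans
      (Equiv.altCongrHom (o.equivFinOfCardEq ho.2))⟩

end Cfsg.Agent.Golay
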