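import Cfsg.Agent.Golay.Transport

/-!
Counting octads relative to a dodecad, transported from the dodecad of squares.
-/

set_option autoImplicit false

namespace Cfsg.Agent.Golay

open Cfsg
open scoped Pointwise

lemma ncard_octads_filter (P : Finset GolayPt → Prop) (l : List ℕ)
    (h : ∀ m ∈ octadList, P (ptSet m) ↔ m ∈ l) (hl : ∀ m ∈ l, m ∈ octadList) (hnd : l.Nodup) :
    {o : Finset GolayPt | o ∈ octads ∧ P o}.ncard = l.length := by
  rw [← ncard_ptSet_image hnd fun m hm => octadList_lt (hl m hm)]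
  congr 1
  ext o
  simp only [Set.mem_setOf_eq, Set.mem_image]
  constructor
  · rintro ⟨ho, hP⟩
    have hm := mem_octads_iff.1 ho
    exact ⟨_, (h _ hm).1 (by rwa [ptSet_maskOf]), ptSet_maskOf o⟩
  · rintro ⟨m, hm, rfl⟩
    exact ⟨ptSet_mem_octads (hl m hm), (h m (hl m hm)).2 hm⟩

lemma octadList_nodup : octadList.Nodup := isIncr_nodup (by decide +kernel)

lemma ncard_octads_meeting (m k : ℕ) :
    {o : Finset GolayPt | o ∈ octads ∧ (o ∩ ptSet m).card = k}.ncard
      = (octadList.filter fun o => popCnt (o &&& m) == k).length := by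
  refine ncard_octads_filter _ _ (fun o ho => ?_) (fun o ho => (List.mem_filter.1 ho).1)
    (octadList_nodup.filter _)
  simp [List.mem_filter, ho, ← ptSet_and, card_ptSet]

/-- Transport of an octad count along an element of the group. -/
lemma ncard_octads_smul (g : M24) (s : Finset GolayPt) (k : ℕ) :
    {o : Finset GolayPt | o ∈ octads ∧ (o ∩ s).card = k}.ncard
      = {o : Finset GolayPt | o ∈ octads ∧ (o ∩ g • s).card = k}.ncard := by
  refine Set.ncard_congr (fun o _ => g • o) ?_ ?_ ?_
  · rintro o ⟨ho, hk⟩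
    refine ⟨smul_mem_octads g.2 ho, ?_⟩
    rw [← Finset.smul_finset_inter, Finset.card_smul_finset, hk]
  · intro a b _ _ h; exact MulAction.injective g h
  · rintro o ⟨ho, hk⟩
    refine ⟨g⁻¹ • o, ⟨smul_mem_octads (g⁻¹).2 ho, ?_⟩, smul_inv_smul g o⟩
    rw [← hk, ← Finset.card_smul_finset g (g⁻¹ • o ∩ s), Finset.smul_finset_inter, smul_inv_smul]

lemma squareMask_octad_counts :
    (octadList.filter fun o => popCnt (o &&& squareMask) == 6).length = 132 ∧
    (octadList.filter fun o => popCnt (o &&& squareMask) == 2).length = 132 ∧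
    (octadList.filter fun o => popCnt (o &&& squareMask) == 4).length = 495 := by
  decide +kernel

theorem ncard_octads_dodecad {d : Finset GolayPt} (hd : d ∈ dodecads) :
    {o : Finset GolayPt | o ∈ octads ∧ (o ∩ d).card = 6}.ncard = 132 ∧
    {o : Finset GolayPt | o ∈ octads ∧ (o ∩ d).card = 2}.ncard = 132 ∧
    {o : Finset GolayPt | o ∈ octads ∧ (o ∩ d).card = 4}.ncard = 495 := by
  obtain ⟨g, hg⟩ := exists_M24_map_dodecad hd squareDodecad_mem
  refine ⟨?_, ?_, ?_⟩ <;> rw [ncard_octads_smul g d, hg, ← ptSet_squareMask, ncard_octads_meeting]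
  exacts [squareMask_octad_counts.1, squareMask_octad_counts.2.1, squareMask_octad_counts.2.2]

lemma card_symmDiff_add {s t : Finset GolayPt} :
    (symmDiff s t).card + 2 * (s ∩ t).card = s.card + t.card := by
  rw [symmDiff_eq_sup_sdiff_inf, Finset.sup_eq_union, Finset.inf_eq_inter]
  have h1 := Finset.card_sdiff_add_card_eq_card
    (show s ∩ t ⊆ s ∪ t from Finset.inter_subset_left.trans Finset.subset_union_left)
  have h2 := Finset.card_union_add_card_inter s t
  omega

lemma card_octad_inter_dodecad {o d : Finset GolayPt} (ho : o ∈ octads) (hd : d ∈ dodecads) :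
    (o ∩ d).card = 2 ∨ (o ∩ d).card = 4 ∨ (o ∩ d).card = 6 := by
  have hw := card_mem_supports (symmDiff_mem_supports ho.1 hd.1)
  have hc := card_symmDiff_add (s := o) (t := d)
  have h1 : o.card = 8 := ho.2
  have h2 : d.card = 12 := hd.2
  have h3 := Finset.card_le_card (Finset.inter_subset_left (s₁ := o) (s₂ := d))
  omega

theorem dodecad_hexads_steiner {d : Finset GolayPt} (hd : d ∈ dodecads) :
    IsSteinerSystem 5 6 {h : Finset {p : GolayPt // p ∈ d} |
      ∃ o ∈ octads, (o ∩ d).card = 6 ∧ h = Finset.subtype (fun p => p ∈ d) o} := by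
  have hsub : ∀ o : Finset GolayPt, (Finset.subtype (fun p => p ∈ d) o).card = (o ∩ d).card := by
    intro o
    rw [Finset.card_subtype, Finset.filter_mem_eq_inter]
  refine ⟨?_, fun s hs => ?_⟩
  · rintro h ⟨o, -, h6, rfl⟩; rw [hsub, h6]
  set t : Finset GolayPt := s.map (Function.Embedding.subtype _) with ht
  have htd : t ⊆ d := by
    intro p hp
    obtain ⟨q, -, rfl⟩ := Finset.mem_map.1 hp
    exact q.2
  obtain ⟨o, ⟨ho, hto⟩, huniq⟩ := octads_isSteinerSystem.2 t (by rw [ht, Finset.card_map, hs])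
  have h6 : (o ∩ d).card = 6 := by
    have h1 : 5 ≤ (o ∩ d).card := by
      rw [← hs, ← Finset.card_map (Function.Embedding.subtype fun p => p ∈ d)]
      exact Finset.card_le_card (Finset.subset_inter hto htd)
    have := card_octad_inter_dodecad ho hd
    omega
  refine ⟨Finset.subtype (fun p => p ∈ d) o, ⟨⟨o, ho, h6, rfl⟩, fun q hq => ?_⟩, ?_⟩
  · rw [Finset.mem_subtype]
    exact hto (Finset.mem_map.2 ⟨q, hq, rfl⟩)
  · rintro h ⟨⟨o', ho', -, rfl⟩, hsub'⟩
    rw [huniq o' ⟨ho', fun p hp => ?_⟩]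
    obtain ⟨q, hq, rfl⟩ := Finset.mem_map.1 hp
    exact Finset.mem_subtype.1 (hsub' hq)

end Cfsg.Agent.Golay
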