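import Cfsg.Agent.H95.GolayJoint
import Cfsg.Agent.Golay.OctadCount
import Cfsg.Agent.Golay.Suborbit
import Cfsg.Agent.H44.OrbitTree

/-!
Octads meeting a given octad: counts by the intersection, transitivity of the octad stabiliser
and its maximality.
-/

set_option autoImplicit false

namespace Cfsg.Agent.Golay

open Cfsg
open scoped Pointwise

/-- Submasks of a mask below position `k`. -/
def subMasks (o : ℕ) : ℕ → List ℕ
  | 0 => [0]
  | k + 1 =>
    if o.testBit k then subMasks o k ++ (subMasks o k).map fun m => m ||| 2 ^ k else subMasks o k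

/-- The reference octad. -/
def refOctad : ℕ := 8536111

lemma refOctad_checks :
    octadList.contains refOctad = true ∧
    (subMasks refOctad 24).length = 256 ∧
    H95.distinctB (subMasks refOctad 24) = true ∧
    ((subMasks refOctad 24).all fun m => Nat.land m refOctad == m) = true ∧
    ((subMasks refOctad 24).all fun m =>
      let c := (octadList.filter fun o => Nat.beq (Nat.land refOctad o) m).length
      let w := H95.pc24 m
      (w != 2 || c == 16) && (w != 4 || c == 4)) = true := by
  decide +kernel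

lemma refOctad_mem : ptSet refOctad ∈ octads :=
  ptSet_mem_octads (List.contains_iff_mem.1 refOctad_checks.1)

lemma refOctad_lt : refOctad < 2 ^ 24 := octadList_lt (List.contains_iff_mem.1 refOctad_checks.1)

lemma subMasks_complete {s : Finset GolayPt} (hs : s ⊆ ptSet refOctad) :
    maskOf s ∈ subMasks refOctad 24 := by
  obtain ⟨-, hlen, hdist, hsub, -⟩ := refOctad_checks
  have hlt : ∀ m ∈ subMasks refOctad 24, m < 2 ^ 24 := fun m hm => by
    have := beq_iff_eq.1 (List.all_eq_true.1 hsub m hm)
    rw [← this]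
    exact Nat.lt_of_le_of_lt Nat.and_le_right refOctad_lt
  have hnd := H95.nodup_of_distinctB hdist
  have key : ((subMasks refOctad 24).map ptSet).toFinset = (ptSet refOctad).powerset := by
    refine Finset.eq_of_subset_of_card_le ?_ ?_
    · intro t ht
      obtain ⟨m, hm, rfl⟩ := List.mem_map.1 (List.mem_toFinset.1 ht)
      rw [Finset.mem_powerset, ← beq_iff_eq.1 (List.all_eq_true.1 hsub m hm)]
      show ptSet (m &&& refOctad) ⊆ ptSet refOctad
      rw [ptSet_and]; exact Finset.inter_subset_right
    · rw [Finset.card_powerset, refOctad_mem.2, List.toFinset_card_of_nodup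
        (hnd.map_on fun a ha b hb h => ptSet_injOn (hlt a ha) (hlt b hb) h), List.length_map, hlen]
      norm_num
  have : s ∈ ((subMasks refOctad 24).map ptSet).toFinset := by
    rw [key, Finset.mem_powerset]; exact hs
  obtain ⟨m, hm, rfl⟩ := List.mem_map.1 (List.mem_toFinset.1 this)
  rwa [maskOf_ptSet (hlt m hm)]

/-- The counts in the bottom row of the triangle of octad intersections. -/
theorem ncard_octads_inter_eq {o s : Finset GolayPt} (ho : o ∈ octads) (hs : s ⊆ o) :
    (s.card = 2 → {o' : Finset GolayPt | o' ∈ octads ∧ o ∩ o' = s}.ncard = 16) ∧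
    (s.card = 4 → {o' : Finset GolayPt | o' ∈ octads ∧ o ∩ o' = s}.ncard = 4) := by
  obtain ⟨g, hg⟩ := exists_M24_map_octad ho refOctad_mem
  have hg' : (g : Equiv.Perm GolayPt) • o = ptSet refOctad := hg
  have hsub : (g : Equiv.Perm GolayPt) • s ⊆ ptSet refOctad :=
    hg' ▸ Finset.smul_finset_subset_smul_finset hs
  set t := (g : Equiv.Perm GolayPt) • s
  have e : {o' : Finset GolayPt | o' ∈ octads ∧ o ∩ o' = s}.ncard
      = (octadList.filter fun x => Nat.beq (Nat.land refOctad x) (maskOf t)).length := by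
    rw [H44.ncard_eq_of_perm (g : Equiv.Perm GolayPt)
      (T := {o' : Finset GolayPt | o' ∈ octads ∧ ptSet refOctad ∩ o' = t}) ?_]
    · refine H44.ncard_octads_filter (fun x => Nat.beq (Nat.land refOctad x) (maskOf t)) fun x => ?_
      rw [Nat.beq_eq]
      constructor
      · intro h
        refine ptSet_injOn (and_lt_full refOctad_lt) (maskOf_lt _) ?_
        show ptSet (refOctad &&& maskOf x) = _
        rw [ptSet_and, ptSet_maskOf, ptSet_maskOf, h]
      · intro h
        rw [← ptSet_maskOf t, ← h]
        show _ = ptSet (refOctad &&& maskOf x)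
        rw [ptSet_and, ptSet_maskOf]
    · intro x
      simp only [Set.mem_setOf_eq]
      rw [H44.smul_mem_octads_iff g.2, ← hg', ← Finset.smul_finset_inter,
        smul_left_cancel_iff]
  have hm := List.all_eq_true.1 refOctad_checks.2.2.2.2 _ (subMasks_complete hsub)
  simp only [Bool.and_eq_true, Bool.or_eq_true, bne_iff_ne, beq_iff_eq] at hm
  have hw : H95.pc24 (maskOf t) = s.card := by
    rw [H95.pc24_eq, popCnt_maskOf, Finset.card_smul_finset]
  constructor <;> intro hc <;> rw [e]
  · exact hm.1.resolve_left fun h => h (by rw [hw, hc])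
  · exact hm.2.resolve_left fun h => h (by rw [hw, hc])

/-! ### Transitivity on octads meeting a given one in a given number of points -/

lemma octad_meet_check :
    (octadList.filter fun x => Nat.beq (H95.pc24 (Nat.land refOctad x)) 8).length = 1 ∧
    (octadList.filter fun x => Nat.beq (H95.pc24 (Nat.land refOctad x)) 0).length = 30 ∧
    (octadList.filter fun x => Nat.beq (H95.pc24 (Nat.land refOctad x)) 4).length = 280 ∧
    (octadList.filter fun x => Nat.beq (H95.pc24 (Nat.land refOctad x)) 2).length = 448 := by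
  decide +kernel

lemma ncard_octads_meet {o : Finset GolayPt} (ho : o ∈ octads) :
    {x | x ∈ octads ∧ (o ∩ x).card = 8}.ncard = 1 ∧
    {x | x ∈ octads ∧ (o ∩ x).card = 0}.ncard = 30 ∧
    {x | x ∈ octads ∧ (o ∩ x).card = 4}.ncard = 280 ∧
    {x | x ∈ octads ∧ (o ∩ x).card = 2}.ncard = 448 := by
  obtain ⟨g, hg⟩ := exists_M24_map_octad ho refOctad_mem
  have hg' : (g : Equiv.Perm GolayPt) • o = ptSet refOctad := hg
  have key : ∀ k, {x | x ∈ octads ∧ (o ∩ x).card = k}.ncard
      = (octadList.filter fun x => Nat.beq (H95.pc24 (Nat.land refOctad x)) k).length := by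
    intro k
    rw [H44.ncard_eq_of_perm (g : Equiv.Perm GolayPt)
      (T := {x : Finset GolayPt | x ∈ octads ∧ (ptSet refOctad ∩ x).card = k}) ?_]
    · refine H44.ncard_octads_filter (fun x => Nat.beq (H95.pc24 (Nat.land refOctad x)) k)
        fun x => ?_
      rw [Nat.beq_eq, H95.pc24_eq, H44.card_inter_ptSet, Nat.and_comm]
      rfl
    · intro x
      simp only [Set.mem_setOf_eq]
      rw [H44.smul_mem_octads_iff g.2, ← hg', H44.card_inter_smul]
  simp only [key]
  exact octad_meet_check

theorem exists_smul_octad_pair {o o' o'' : Finset GolayPt} (ho : o ∈ octads) (ho' : o' ∈ octads)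
    (ho'' : o'' ∈ octads) (h : (o ∩ o').card = (o ∩ o'').card) :
    ∃ g ∈ MulAction.stabilizer M24 o, g • o' = o'' := by
  by_cases e : o' = o
  · subst e
    rw [Finset.inter_self, ho'.2] at h
    refine ⟨1, one_mem _, ?_⟩
    rw [one_smul]
    refine octad_eq_of_five ho' ho'' ?_
    omega
  have hk := (H95.octad_pair_pattern ho ho').1 (Ne.symm e)
  obtain ⟨-, c0, c4, c2⟩ := ncard_octads_meet ho
  obtain ⟨r0, r4, r2⟩ := H95.ncard_octad_orbit ho ho'
  have hsub : MulAction.orbit (MulAction.stabilizer M24 o) o'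
      ⊆ {x | x ∈ octads ∧ (o ∩ x).card = (o ∩ o').card} := by
    rintro _ ⟨⟨g, hg⟩, rfl⟩
    refine ⟨smul_mem_octads g.2 ho', ?_⟩
    show (o ∩ g • o').card = _
    conv_lhs => rw [← (MulAction.mem_stabilizer_iff.1 hg)]
    exact H44.card_inter_smul _ _ _
  have heq : MulAction.orbit (MulAction.stabilizer M24 o) o'
      = {x | x ∈ octads ∧ (o ∩ x).card = (o ∩ o').card} := by
    refine Set.eq_of_subset_of_ncard_le hsub ?_ (Set.toFinite _)
    rcases hk with k | k | k
    · rw [k, c0, r0 k]
    · rw [k, c2, r2 k]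
    · rw [k, c4, r4 k]
  have : o'' ∈ MulAction.orbit (MulAction.stabilizer M24 o) o' := by
    rw [heq]; exact ⟨ho'', h.symm⟩
  obtain ⟨⟨g, hg⟩, he⟩ := this
  exact ⟨g, hg, he⟩

/-! ### Maximality -/

theorem isCoatom_octad_stabilizer {o : Finset GolayPt} (ho : o ∈ octads) :
    IsCoatom (MulAction.stabilizer M24 o) := by
  have horb : MulAction.orbit M24 o = octads := by
    ext x
    constructor
    · rintro ⟨g, rfl⟩; exact smul_mem_octads g.2 ho
    · intro hx
      obtain ⟨g, hg⟩ := exists_M24_map_octad ho hx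
      exact ⟨g, hg⟩
  let label : Finset GolayPt → Fin 4 := fun x =>
    if (o ∩ x).card = 8 then 0 else if (o ∩ x).card = 0 then 1
      else if (o ∩ x).card = 4 then 2 else 3
  have hlab : ∀ x ∈ octads,
      (o ∩ x).card = 8 ∧ label x = 0 ∨ (o ∩ x).card = 0 ∧ label x = 1 ∨
      (o ∩ x).card = 4 ∧ label x = 2 ∨ (o ∩ x).card = 2 ∧ label x = 3 := by
    intro x hx
    rcases eq_or_ne o x with rfl | hne
    · left; simp [label, ho.2]
    · rcases (H95.octad_pair_pattern ho hx).1 hne with k | k | k <;> simp [label, k, -Finset.card_eq_zero]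
  obtain ⟨c8, c0, c4, c2⟩ := ncard_octads_meet ho
  refine isCoatom_stabilizer_of_labels label ![1, 30, 280, 448] (by simp [label, ho.2]) rfl
    ?_ ?_ (by decide) (by decide +kernel)
  · intro i
    have e : {y | y ∈ MulAction.orbit M24 o ∧ label y = i}
        = {y | y ∈ octads ∧ (o ∩ y).card = ![8, 0, 4, 2] i} := by
      rw [horb]; ext y
      simp only [Set.mem_setOf_eq, and_congr_right_iff]
      intro hy
      rcases hlab y hy with ⟨k, l⟩ | ⟨k, l⟩ | ⟨k, l⟩ | ⟨k, l⟩ <;> rw [k, l] <;>
        fin_cases i <;> simp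
    rw [e]
    fin_cases i <;> assumption
  · intro y hy z hz h
    rw [horb] at hy hz
    refine exists_smul_octad_pair ho hy hz ?_
    rcases hlab y hy with ⟨k, l⟩ | ⟨k, l⟩ | ⟨k, l⟩ | ⟨k, l⟩ <;>
    rcases hlab z hz with ⟨k', l'⟩ | ⟨k', l'⟩ | ⟨k', l'⟩ | ⟨k', l'⟩ <;>
    rw [l, l'] at h <;> first | exact k.trans k'.symm | exact absurd h (by decide)

end Cfsg.Agent.Golay
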