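import Cfsg.Agent.Golay.McLSmallIndex
import Cfsg.Agent.Golay.CoThreeLift
import Cfsg.Agent.S1581
import Cfsg.Prelude.Def_KGroupFacts

/-!
Every automorphism of the stabiliser of a vector of squared norm 48 is inner.
-/

set_option autoImplicit false

namespace Cfsg.Agent.Golay

open Cfsg H92.LeechOrbit MulAction
open scoped Pointwise

/-- The stabiliser of the reference vector. -/
abbrev co3Stab : Subgroup Co0 := stabilizer Co0 Spor.leechV

/-- The sum of the two reference minimal vectors. -/
def co3Sum : leechLattice := repA + mclW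

lemma co3Sum_facts : sqNorm co3Sum.1 = 48 ∧ sqNorm repA.1 = 32 ∧ dotInt repA.1 mclW.1 = -8 := by
  decide +kernel

lemma co3Sum_eq : co3Sum = -Spor.leechV := by
  rw [co3Sum, mclW]; abel

lemma mem_co3Stab {g : Co0} : g ∈ co3Stab ↔ g • co3Sum = co3Sum := by
  rw [co3Sum_eq, co0_smul_neg, neg_inj, mem_stabilizer_iff]

/-- The 552 minimal vectors at product 24 with the sum. -/
def ends : Set leechLattice := {x | sqNorm x.1 = 32 ∧ dotInt co3Sum.1 x.1 = 24}

/-- The 275 points seen from the first end. -/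
def sidePts : Set leechLattice := atSet [(co3Sum, 24), (repA, 16)]

lemma mem_sidePts {x : leechLattice} :
    x ∈ sidePts ↔ x ∈ ends ∧ dotInt repA.1 x.1 = 16 := by
  simp [sidePts, atSet, ends, and_assoc]

lemma dot_sum_left (t : GolayPt → ℤ) :
    dotInt co3Sum.1 t = dotInt repA.1 t + dotInt mclW.1 t := by
  simp [co3Sum, dotInt, add_mul, Finset.sum_add_distrib]

lemma norm_of_dot {u x : leechLattice} (hu : sqNorm u.1 = 48) (hx : sqNorm x.1 = 32) :
    sqNorm (u.1 - x.1) = 32 ↔ dotInt u.1 x.1 = 24 := by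
  rw [sqNorm_diff, hu, hx]; omega

lemma first_mem : repA ∈ ends ∧ mclW ∈ ends := by
  obtain ⟨hu, ha, hab⟩ := co3Sum_facts
  obtain ⟨hb, -⟩ := mclW_facts
  refine ⟨⟨ha, ?_⟩, ⟨hb, ?_⟩⟩
  · rw [dot_sum_left, dotInt_self, ha, dotInt_comm', hab]; norm_num
  · rw [dot_sum_left, dotInt_self, hb, hab]; norm_num

lemma sub_mem_ends {x : leechLattice} (hx : x ∈ ends) : co3Sum - x ∈ ends := by
  refine ⟨?_, ?_⟩
  · rw [AddSubgroup.coe_sub, norm_of_dot co3Sum_facts.1 hx.1]; exact hx.2
  · have e : dotInt co3Sum.1 (co3Sum - x : leechLattice).1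
        = dotInt co3Sum.1 co3Sum.1 - dotInt co3Sum.1 x.1 := by
      simp [dotInt, mul_sub, Finset.sum_sub_distrib]
    rw [e, dotInt_self, co3Sum_facts.1, hx.2]; norm_num

lemma smul_mem_ends {g : Co0} (hg : g ∈ co3Stab) {x : leechLattice} (hx : x ∈ ends) :
    g • x ∈ ends := by
  refine ⟨by rw [co0_sqNorm]; exact hx.1, ?_⟩
  have := co0_dot g co3Sum x
  rw [mem_co3Stab.1 hg] at this
  rw [this]; exact hx.2

lemma smul_co3 (g : co3Stab) : g • co3Sum = co3Sum := mem_co3Stab.1 g.2

lemma smul_sub_co3 (g : co3Stab) (x : leechLattice) : g • (co3Sum - x) = co3Sum - g • x := by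
  show (g : Co0) • (co3Sum - x) = co3Sum - (g : Co0) • x
  rw [co0_smul_sub, mem_co3Stab.1 g.2]

lemma ends_trans {x : leechLattice} (hx : x ∈ ends) : ∃ g : co3Stab, g • repA = x := by
  obtain ⟨g, h1, h2⟩ := move_decomposition co3Sum_facts.1 co3Sum_facts.1
    ⟨first_mem.1.1, (norm_of_dot co3Sum_facts.1 first_mem.1.1).2 first_mem.1.2⟩
    ⟨hx.1, (norm_of_dot co3Sum_facts.1 hx.1).2 hx.2⟩
  exact ⟨⟨g, mem_co3Stab.2 h1⟩, h2⟩

lemma sideFrame : ∃ k : Co0, k • co3Sum = refU ∧ k • repA = refV ∧
    Frame mclCert [(co3Sum, 24), (repA, 16)] k := by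
  obtain ⟨k, h1, h2⟩ := exists_move_edge co3Sum repA co3Sum_facts.1
    ⟨first_mem.1.1, (norm_of_dot co3Sum_facts.1 first_mem.1.1).2 first_mem.1.2⟩
  refine ⟨k, h1, h2, ?_⟩
  show [((k • co3Sum : leechLattice).1, (24 : ℤ)), ((k • repA : leechLattice).1, (16 : ℤ))] = _
  rw [h1, h2]
  rfl

lemma ncard_sidePts : sidePts.ncard = 275 := by
  obtain ⟨k, -, -, hF⟩ := sideFrame
  exact hF.ncard mclCert_ok mclCert_cover

lemma ends_cases {x : leechLattice} (hx : x ∈ ends) :
    x = repA ∨ x = mclW ∨ x ∈ sidePts ∨ co3Sum - x ∈ sidePts := by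
  by_cases ha : x = repA
  · exact Or.inl ha
  by_cases hb : x = mclW
  · exact Or.inr (Or.inl hb)
  obtain ⟨hu, hna, -⟩ := co3Sum_facts
  have hd : ∀ a : leechLattice, sqNorm a.1 = 32 → x ≠ a → dotInt a.1 x.1 ≤ 16 := by
    intro a h1 h2
    have h3 := thirtytwo_le_sqNorm (a - x : leechLattice).2 (fun e => h2 (sub_eq_zero.1
      (Subtype.ext e : a - x = 0)).symm)
    rw [AddSubgroup.coe_sub, sqNorm_diff, h1, hx.1] at h3
    omega
  have h1 := hd repA hna ha
  have h2 := hd mclW mclW_facts.1 hb
  have h8 := dot_emod_eight repA.2 x.2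
  have hs := dot_sum_left x.1
  rw [hx.2] at hs
  by_cases h16 : dotInt repA.1 x.1 = 16
  · exact Or.inr (Or.inr (Or.inl (mem_sidePts.2 ⟨hx, h16⟩)))
  · refine Or.inr (Or.inr (Or.inr (mem_sidePts.2 ⟨sub_mem_ends hx, ?_⟩)))
    have e : dotInt repA.1 (co3Sum - x : leechLattice).1
        = dotInt co3Sum.1 repA.1 - dotInt repA.1 x.1 := by
      rw [dotInt_comm' co3Sum.1]
      simp [dotInt, mul_sub, Finset.sum_sub_distrib]
    rw [e, first_mem.1.2]
    omega

lemma ncard_ends : ends.Finite ∧ ends.ncard = 552 := by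
  have hfin : sidePts.Finite := Set.finite_of_ncard_ne_zero (by rw [ncard_sidePts]; norm_num)
  have hX : sidePts ⊆ ends := fun x hx => (mem_sidePts.1 hx).1
  have hab : mclW = co3Sum - repA := by rw [co3Sum, add_sub_cancel_left]
  have e : ends = ({repA, mclW} : Set leechLattice) ∪ sidePts ∪ (fun x => co3Sum - x) '' sidePts := by
    ext x
    constructor
    · intro hx
      rcases ends_cases hx with h | h | h | h
      · simp [h]
      · simp [h]
      · exact Or.inl (Or.inr h)
      · exact Or.inr ⟨_, h, sub_sub_cancel _ _⟩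
    · rintro (((rfl | rfl) | h) | ⟨y, hy, rfl⟩)
      exacts [first_mem.1, first_mem.2, hX h, sub_mem_ends (hX hy)]
  have h1 : ∀ y ∈ sidePts, dotInt repA.1 (co3Sum - y : leechLattice).1 = 8 := by
    intro y hy
    have e : dotInt repA.1 (co3Sum - y : leechLattice).1
        = dotInt co3Sum.1 repA.1 - dotInt repA.1 y.1 := by
      rw [dotInt_comm' co3Sum.1]
      simp [dotInt, mul_sub, Finset.sum_sub_distrib]
    rw [e, first_mem.1.2, (mem_sidePts.1 hy).2]; norm_num
  have hfin2 : (((fun x => co3Sum - x) '' sidePts)).Finite := hfin.image _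
  refine ⟨e ▸ (((Set.toFinite _).union hfin).union hfin2), ?_⟩
  rw [e, Set.ncard_union_eq ?_ ((Set.toFinite _).union hfin) hfin2,
    Set.ncard_union_eq ?_ (Set.toFinite _) hfin, Set.ncard_pair ?_,
    Set.ncard_image_of_injective _ sub_right_injective, ncard_sidePts]
  · intro h
    have := co3Sum_facts
    rw [← h, dotInt_self] at this
    omega
  · rw [Set.disjoint_left]
    rintro x (rfl | rfl) hx
    · have := (mem_sidePts.1 hx).2; rw [dotInt_self, co3Sum_facts.2.1] at this; omega
    · have := (mem_sidePts.1 hx).2; rw [co3Sum_facts.2.2] at this; omega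
  · rw [Set.disjoint_left]
    rintro x hx ⟨y, hy, rfl⟩
    have h8 := h1 y hy
    simp only at hx ⊢
    rcases hx with (e1 | e1) | e1
    · rw [e1, dotInt_self, co3Sum_facts.2.1] at h8; omega
    · rw [Set.mem_singleton_iff] at e1; rw [e1, co3Sum_facts.2.2] at h8; omega
    · rw [(mem_sidePts.1 e1).2] at h8; omega

/-- The stabiliser of the first end. -/
abbrev endStab : Subgroup co3Stab := stabilizer co3Stab repA

lemma fix_second {g : co3Stab} (hg : g ∈ endStab) : g • mclW = mclW := by
  rw [show mclW = co3Sum - repA by rw [co3Sum, add_sub_cancel_left], smul_sub_co3,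
    mem_stabilizer_iff.1 hg]

/-- The stabiliser of the first end is the stabiliser of both. -/
lemma endStab_iso : Nonempty (mclStab ≃* endStab) := by
  have hle : ∀ g ∈ mclStab, g ∈ co3Stab := fun g hg => mem_co3Stab.2 (by
    rw [co3Sum, co0_smul_add, mem_stabilizer_iff.1 hg.1, mem_stabilizer_iff.1 hg.2])
  exact ⟨{ toFun := fun g => ⟨⟨g.1, hle _ g.2⟩, g.2.1⟩
           invFun := fun g => ⟨g.1.1, g.2, fix_second g.2⟩
           left_inv := fun g => rfl
           right_inv := fun g => rfl
           map_mul' := fun g h => rfl }⟩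

/-- A copy of the stabiliser of two ends fixes an end. -/
lemma exists_fixed_end (K : Subgroup co3Stab) (e : mclStab ≃* K) :
    ∃ x ∈ ends, ∀ k ∈ K, k • x = x := by
  classical
  by_contra hcon
  push Not at hcon
  haveI : IsSimpleGroup mclStab := isSimple_stab_mcl
  haveI : IsSimpleGroup K := e.symm.isSimpleGroup
  haveI : Finite mclStab := (Nat.card_pos_iff.1 (by rw [card_mclStab]; norm_num)).2
  haveI : Finite K := Finite.of_equiv _ e.toEquiv
  obtain ⟨hfin, h552⟩ := ncard_ends
  have hidx : ∀ L : Subgroup K, L.index ≤ 276 → L = ⊤ ∨ 11 ∣ L.index := by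
    intro L hL
    have h := mcl_index_dvd_eleven (L.comap e.toMonoidHom)
      (by rwa [L.index_comap_of_surjective (f := e.toMonoidHom) e.surjective])
    rw [L.index_comap_of_surjective (f := e.toMonoidHom) e.surjective] at h
    refine h.imp_left fun h' => eq_top_iff.2 fun k _ => ?_
    have : e.symm k ∈ L.comap e.toMonoidHom := h' ▸ Subgroup.mem_top _
    simpa using this
  have hsub : ∀ x ∈ ends, orbit K x ⊆ ends := by
    rintro x hx _ ⟨k, rfl⟩; exact smul_mem_ends k.1.2 hx
  have hdvd : ∀ x ∈ ends, 11 ∣ (orbit K x).ncard := by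
    intro x hx
    obtain ⟨k, hk, hkx⟩ := hcon x hx
    have hproper : stabilizer K x ≠ ⊤ := fun h =>
      hkx (show (⟨k, hk⟩ : K) ∈ stabilizer K x from h ▸ Subgroup.mem_top _)
    rw [← index_stabilizer]
    by_cases hop : co3Sum - x ∈ orbit K x
    · -- the stabiliser of the pair
      let L : Subgroup K :=
        { carrier := {t | t • x = x ∨ t • x = co3Sum - x}
          one_mem' := Or.inl (one_smul _ _)
          mul_mem' := by
            intro s t hs ht
            have hsu : s • (co3Sum - x) = co3Sum - s • x := smul_sub_co3 s.1 x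
            show (s * t) • x = x ∨ (s * t) • x = co3Sum - x
            rw [mul_smul]
            rcases ht with ht | ht <;> rw [ht]
            · exact hs
            · rw [hsu]
              rcases hs with hs | hs <;> rw [hs]
              · exact Or.inr rfl
              · exact Or.inl (sub_sub_cancel _ _)
          inv_mem' := by
            intro s hs
            have hsu : s⁻¹ • (co3Sum - x) = co3Sum - s⁻¹ • x := smul_sub_co3 (s⁻¹).1 x
            show s⁻¹ • x = x ∨ s⁻¹ • x = co3Sum - x
            rcases hs with hs | hs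
            · exact Or.inl (by rw [inv_smul_eq_iff, hs])
            · right
              have h : x = s⁻¹ • (co3Sum - x) := by rw [← hs, inv_smul_smul]
              rw [hsu] at h
              nth_rewrite 2 [h]
              rw [sub_sub_cancel] }
      have hle : stabilizer K x ≤ L := fun t ht => Or.inl ht
      have hrel : (stabilizer K x).relIndex L = 2 := by
        rw [Subgroup.relIndex, show (stabilizer K x).subgroupOf L = stabilizer L x from rfl,
          index_stabilizer]
        obtain ⟨t, ht⟩ := hop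
        have : orbit L x = {x, co3Sum - x} := by
          ext z
          refine ⟨?_, ?_⟩
          · rintro ⟨⟨s, hs⟩, rfl⟩
            exact hs.imp id id
          · rintro (rfl | rfl)
            · exact mem_orbit_self _
            · exact ⟨⟨t, Or.inr ht⟩, ht⟩
        rw [this, Set.ncard_pair]
        intro h
        have h32 := hx.1
        have h24 := hx.2
        have e2 : co3Sum = x + x := by nth_rewrite 2 [h]; rw [add_sub_cancel]
        rw [e2] at h24
        have : dotInt (x + x : leechLattice).1 x.1 = dotInt x.1 x.1 + dotInt x.1 x.1 := by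
          simp [dotInt, add_mul, Finset.sum_add_distrib]
        rw [this, dotInt_self, h32] at h24
        omega
      have hmul := Subgroup.relIndex_mul_index hle
      rw [hrel] at hmul
      have hle552 : (stabilizer K x).index ≤ 552 := by
        rw [index_stabilizer, ← h552]; exact Set.ncard_le_ncard (hsub x hx) hfin
      rcases hidx L (by omega) with h | h
      · rw [h, Subgroup.index_top, mul_one] at hmul
        haveI := Subgroup.normal_of_index_eq_two hmul.symm
        rcases (inferInstance : (stabilizer K x).Normal).eq_bot_or_eq_top with h' | h'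
        · exfalso
          rw [h', Subgroup.index_bot, ← Nat.card_congr e.toEquiv, card_mclStab] at hmul
          omega
        · exact absurd h' hproper
      · exact hmul ▸ Dvd.dvd.mul_left h 2
    · -- the two orbits are disjoint
      refine (hidx _ ?_).resolve_left hproper
      have himg : (fun y => co3Sum - y) '' orbit K x = orbit K (co3Sum - x) := by
        ext z
        constructor
        · rintro ⟨_, ⟨s, rfl⟩, rfl⟩; exact ⟨s, smul_sub_co3 s.1 x⟩
        · rintro ⟨s, rfl⟩; exact ⟨s • x, ⟨s, rfl⟩, (smul_sub_co3 s.1 x).symm⟩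
      have hd : Disjoint (orbit K x) (orbit K (co3Sum - x)) := Set.disjoint_left.2 fun z h1 h2 =>
        hop (by rw [← orbit_eq_iff.2 h1, orbit_eq_iff.2 h2]; exact mem_orbit_self _)
      have f1 := hfin.subset (hsub x hx)
      have f2 := hfin.subset (hsub _ (sub_mem_ends hx))
      have h2 := Set.ncard_le_ncard (Set.union_subset (hsub x hx) (hsub _ (sub_mem_ends hx))) hfin
      rw [Set.ncard_union_eq hd f1 f2, ← himg,
        Set.ncard_image_of_injective _ sub_right_injective, h552] at h2
      rw [index_stabilizer]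
      omega
  -- sum over the orbits
  haveI : Finite ends := hfin.to_subtype
  letI : MulAction K ends :=
    { smul := fun k x => ⟨k • x.1, smul_mem_ends k.1.2 x.2⟩
      one_smul := fun x => Subtype.ext (one_smul K x.1)
      mul_smul := fun s t x => Subtype.ext (mul_smul s t x.1) }
  haveI : Fintype (orbitRel.Quotient K ends) := Fintype.ofFinite _
  have hsum : Nat.card ends = ∑ q : orbitRel.Quotient K ends, Nat.card (orbit K q.out) := by
    rw [Nat.card_congr (selfEquivSigmaOrbits K ends), Nat.card_sigma]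
  have : 11 ∣ ∑ q : orbitRel.Quotient K ends, Nat.card (orbit K q.out) := by
    refine Finset.dvd_sum fun q _ => ?_
    have h := hdvd _ q.out.2
    rw [Nat.card_coe_set_eq, ← Set.ncard_image_of_injective _ Subtype.val_injective,
      show Subtype.val '' orbit K q.out = orbit K q.out.1 from ?_]
    · exact h
    ext z
    constructor
    · rintro ⟨_, ⟨s, rfl⟩, rfl⟩; exact ⟨s, rfl⟩
    · rintro ⟨s, rfl⟩; exact ⟨s • q.out, ⟨s, rfl⟩, rfl⟩
  rw [← hsum, Nat.card_coe_set_eq, h552] at this
  norm_num at this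

/-- Vectors fixed by the stabiliser of the first end. -/
lemma fixed_ends {x : leechLattice} (hx : x ∈ ends) (hfix : ∀ g ∈ endStab, g • x = x) :
    x = repA ∨ x = mclW := by
  have hside : ∀ y ∈ sidePts, ¬ ∀ g ∈ endStab, g • y = y := by
    intro y hy hf
    obtain ⟨k, -, -, hF⟩ := sideFrame
    have hall : sidePts ⊆ {y} := fun z hz => by
      obtain ⟨g, hg, he⟩ := hF.transitive mclCert_ok mclCert_cover hy hz
      have hgm : g ∈ co3Stab := mem_co3Stab.2 (hg (co3Sum, 24) (by simp))
      exact he.symm.trans (hf ⟨g, hgm⟩ (hg (repA, 16) (by simp)))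
    have := Set.ncard_le_ncard hall (Set.finite_singleton y)
    rw [ncard_sidePts, Set.ncard_singleton] at this
    omega
  rcases ends_cases hx with h | h | h | h
  · exact Or.inl h
  · exact Or.inr h
  · exact absurd hfix (hside x h)
  · exact absurd (fun g hg => by rw [smul_sub_co3, hfix g hg]) (hside _ h)

/-- Two elements agreeing on all pairs of ends are equal. -/
lemma eq_of_pairs [IsSimpleGroup co3Stab] {s t : co3Stab}
    (h : ∀ x ∈ ends, s • x = t • x ∨ s • x = co3Sum - t • x) : s = t := by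
  let N : Subgroup co3Stab :=
    { carrier := {g | ∀ x ∈ ends, g • x = x ∨ g • x = co3Sum - x}
      one_mem' := fun x _ => Or.inl (one_smul _ _)
      mul_mem' := by
        intro a b ha hb x hx
        rw [mul_smul]
        rcases hb x hx with e | e <;> rw [e]
        · exact ha x hx
        · rw [smul_sub_co3]
          rcases ha x hx with e' | e' <;> rw [e']
          · exact Or.inr rfl
          · exact Or.inl (sub_sub_cancel _ _)
      inv_mem' := by
        intro a ha x hx
        rcases ha x hx with e | e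
        · exact Or.inl (by rw [inv_smul_eq_iff, e])
        · right
          rw [inv_smul_eq_iff, smul_sub_co3, e, sub_sub_cancel] }
  haveI : N.Normal := ⟨fun n hn g x hx => by
    have hm : g⁻¹ • x ∈ ends := smul_mem_ends (g⁻¹).2 hx
    rw [mul_smul, mul_smul]
    rcases hn _ hm with e | e <;> rw [e]
    · exact Or.inl (smul_inv_smul g x)
    · right; rw [smul_sub_co3, smul_inv_smul]⟩
  rcases (inferInstance : N.Normal).eq_bot_or_eq_top with hN | hN
  · have : t⁻¹ * s ∈ N := by
      intro x hx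
      rw [mul_smul]
      rcases h x hx with e | e <;> rw [e]
      · exact Or.inl (inv_smul_smul t x)
      · right; rw [smul_sub_co3, inv_smul_smul]
    rw [hN, Subgroup.mem_bot, inv_mul_eq_one] at this
    exact this.symm
  · exfalso
    have hsub : sidePts ⊆ ({repA, mclW} : Set leechLattice) := fun x hx => by
      obtain ⟨g, rfl⟩ := ends_trans (mem_sidePts.1 hx).1
      rcases (hN ▸ Subgroup.mem_top g : g ∈ N) repA first_mem.1 with e | e
      · exact Or.inl e
      · exact Or.inr (e.trans (by rw [co3Sum, add_sub_cancel_left]))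
    have := Set.ncard_le_ncard hsub (Set.toFinite _)
    rw [ncard_sidePts] at this
    have := Set.ncard_insert_le repA ({mclW} : Set leechLattice)
    rw [Set.ncard_singleton] at this
    omega

/-- Every automorphism is inner. -/
theorem conj_surjective_co3Stab : Function.Surjective (MulAut.conj : co3Stab →* MulAut co3Stab) := by
  classical
  intro φ
  haveI : IsSimpleGroup co3Stab := isSimple_stab_leechV
  haveI : Finite co3Stab := (Nat.card_pos_iff.1 (by
    rw [card_stab_fortyeight leechV_facts.1]; norm_num)).2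
  obtain ⟨e⟩ := endStab_iso
  obtain ⟨x₀, hx₀, hfix⟩ := exists_fixed_end (endStab.map φ.toMonoidHom)
    (e.trans (endStab.equivMapOfInjective φ.toMonoidHom φ.injective))
  obtain ⟨g₀, hg₀⟩ := ends_trans hx₀
  set φ' : MulAut co3Stab := (MulAut.conj g₀)⁻¹ * φ with hφ'
  have hφ'app : ∀ s, φ' s = g₀⁻¹ * φ s * g₀ := fun s => by
    simp [hφ', MulAut.mul_apply]
  have hmap : endStab.map φ'.toMonoidHom = endStab := by
    refine Subgroup.eq_of_le_of_card_ge ?_ ?_
    · rintro _ ⟨s, hs, rfl⟩
      show φ' s • repA = repA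
      rw [hφ'app, mul_smul, mul_smul, hg₀,
        show φ s • x₀ = x₀ from hfix _ (Subgroup.mem_map_of_mem _ hs), inv_smul_eq_iff, hg₀]
    · rw [Subgroup.card_map_of_injective φ'.injective]
  have hS : ∀ s, s ∈ endStab ↔ φ' s ∈ endStab := by
    intro s
    constructor
    · intro hs; rw [← hmap]; exact Subgroup.mem_map_of_mem _ hs
    · intro hs
      rw [← hmap] at hs
      obtain ⟨t, ht, hts⟩ := hs
      rwa [φ'.injective hts] at ht
  have hσ' : ∀ y : leechLattice, ∃ g : co3Stab, y ∈ ends → g • repA = y := fun y => by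
    by_cases hy : y ∈ ends
    · obtain ⟨g, hg⟩ := ends_trans hy; exact ⟨g, fun _ => hg⟩
    · exact ⟨1, fun h => absurd h hy⟩
  choose σ hσ using hσ'
  set ψ : leechLattice → leechLattice := fun y => φ' (σ y) • repA with hψdef
  have hψ : ∀ g : co3Stab, ψ (g • repA) = φ' g • repA := by
    intro g
    have hm : g • repA ∈ ends := smul_mem_ends g.2 first_mem.1
    have h : (σ (g • repA))⁻¹ * g ∈ endStab := by
      show ((σ (g • repA))⁻¹ * g) • repA = repA
      rw [mul_smul, inv_smul_eq_iff, hσ _ hm]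
    have h' : φ' ((σ (g • repA))⁻¹ * g) • repA = repA := (hS _).1 h
    rw [map_mul, map_inv, mul_smul, inv_smul_eq_iff] at h'
    exact h'.symm
  have hψm : ∀ y ∈ ends, ψ y ∈ ends := fun y _ => smul_mem_ends (φ' (σ y)).2 first_mem.1
  have hψeq : ∀ (g : co3Stab), ∀ y ∈ ends, ψ (g • y) = φ' g • ψ y := by
    intro g y hy
    conv_lhs => rw [← hσ y hy, ← mul_smul, hψ, map_mul, mul_smul]
  have hψinj : Set.InjOn ψ ends := by
    intro y hy z hz h
    rw [← hσ y hy, ← hσ z hz, hψ, hψ] at h
    rw [← hσ y hy, ← hσ z hz]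
    have : (σ z)⁻¹ * σ y ∈ endStab := by
      rw [hS, map_mul, map_inv]
      show ((φ' (σ z))⁻¹ * φ' (σ y)) • repA = repA
      rw [mul_smul, h, inv_smul_smul]
    rw [show σ y = σ z * ((σ z)⁻¹ * σ y) by group, mul_smul,
      show ((σ z)⁻¹ * σ y) • repA = repA from this]
  have hψa : ψ repA = repA := by
    have := hψ 1
    rwa [one_smul, map_one, one_smul] at this
  have hψb : ψ mclW = mclW := by
    refine (fixed_ends (hψm _ first_mem.2) fun g hg => ?_).resolve_left fun h => ?_
    · obtain ⟨t, rfl⟩ := φ'.surjective g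
      rw [← hψeq _ _ first_mem.2, fix_second ((hS t).2 hg)]
    · have := hψinj first_mem.2 first_mem.1 (h.trans hψa.symm)
      have h8 := co3Sum_facts
      rw [this, dotInt_self] at h8
      omega
  have hψsub : ∀ y ∈ ends, ψ (co3Sum - y) = co3Sum - ψ y := by
    intro y hy
    have e : co3Sum - y = σ y • mclW := by
      rw [show mclW = co3Sum - repA by rw [co3Sum, add_sub_cancel_left], smul_sub_co3, hσ y hy]
    rw [e, hψeq _ _ first_mem.2, hψb, show mclW = co3Sum - repA by rw [co3Sum, add_sub_cancel_left],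
      smul_sub_co3]
  -- a map of the side
  obtain ⟨k, hku, hkv, hF⟩ := sideFrame
  have hroot : Nat.beq (mclCert.code mclCert.root) (mclCert.code mclCert.root) = true :=
    Nat.beq_refl _
  obtain ⟨x₁, hx₁⟩ := Set.nonempty_of_ncard_ne_zero (s := sidePts) (by rw [ncard_sidePts]; norm_num)
  have htr : ∀ y ∈ sidePts, ∀ z ∈ sidePts, ∃ g ∈ endStab, g • y = z := by
    intro y hy z hz
    obtain ⟨g, hg, he⟩ := hF.transitive mclCert_ok mclCert_cover hy hz
    exact ⟨⟨g, mem_co3Stab.2 (hg (co3Sum, 24) (by simp))⟩, hg (repA, 16) (by simp), he⟩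
  have hinvX : ∀ g ∈ endStab, ∀ y ∈ sidePts, g • y ∈ sidePts := by
    intro g hg y hy
    obtain ⟨h1, h2⟩ := mem_sidePts.1 hy
    refine mem_sidePts.2 ⟨smul_mem_ends g.2 h1, ?_⟩
    have := co0_dot g.1 repA y
    rw [show g.1 • repA = repA from hg] at this
    exact this.trans h2
  obtain ⟨f, hfX, hfeq, hfψ⟩ : ∃ f : leechLattice → leechLattice,
      (∀ y ∈ sidePts, f y ∈ sidePts) ∧
      (∀ g ∈ endStab, ∀ y ∈ sidePts, f (g • y) = φ' g • f y) ∧
      ∀ y ∈ sidePts, f y = ψ y ∨ f y = co3Sum - ψ y := by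
    have hne : ∀ z ∈ ends, ψ x₁ = ψ z → x₁ = z := fun z hz h =>
      hψinj (mem_sidePts.1 hx₁).1 hz h
    rcases ends_cases (hψm _ (mem_sidePts.1 hx₁).1) with h | h | h | h
    · exfalso
      have := hne _ first_mem.1 (h.trans hψa.symm)
      have h16 := (mem_sidePts.1 hx₁).2
      rw [this, dotInt_self, co3Sum_facts.2.1] at h16
      omega
    · exfalso
      have := hne _ first_mem.2 (h.trans hψb.symm)
      have h16 := (mem_sidePts.1 hx₁).2
      rw [this, co3Sum_facts.2.2] at h16
      omega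
    · refine ⟨ψ, fun y hy => ?_, fun g _ y hy => hψeq g y (mem_sidePts.1 hy).1, fun y _ => Or.inl rfl⟩
      obtain ⟨g, hg, rfl⟩ := htr x₁ hx₁ y hy
      rw [hψeq _ _ (mem_sidePts.1 hx₁).1]
      exact hinvX _ ((hS g).1 hg) _ h
    · refine ⟨fun y => co3Sum - ψ y, fun y hy => ?_, fun g _ y hy => ?_, fun y _ => Or.inr rfl⟩
      · obtain ⟨g, hg, rfl⟩ := htr x₁ hx₁ y hy
        show co3Sum - ψ (g • x₁) ∈ sidePts
        rw [hψeq _ _ (mem_sidePts.1 hx₁).1, ← smul_sub_co3]
        exact hinvX _ ((hS g).1 hg) _ h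
      · show co3Sum - ψ (g • y) = φ' g • (co3Sum - ψ y)
        rw [hψeq g y (mem_sidePts.1 hy).1, smul_sub_co3]
  have hfinj : Set.InjOn f sidePts := by
    intro y hy z hz h
    have hy' := (mem_sidePts.1 hy).1
    have hz' := (mem_sidePts.1 hz).1
    have hyz : ψ y = ψ z ∨ ψ y = ψ (co3Sum - z) := by
      rw [hψsub z hz']
      rcases hfψ y hy with e1 | e1 <;> rcases hfψ z hz with e2 | e2 <;> rw [e1, e2] at h
      · exact Or.inl h
      · exact Or.inr h
      · right; rw [← h, sub_sub_cancel]
      · left; exact sub_right_injective h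
    rcases hyz with e | e
    · exact hψinj hy' hz' e
    · exfalso
      have e' := hψinj hy' (sub_mem_ends hz') e
      have h16 := (mem_sidePts.1 hy).2
      have e3 : dotInt repA.1 (co3Sum - z : leechLattice).1
          = dotInt co3Sum.1 repA.1 - dotInt repA.1 z.1 := by
        rw [dotInt_comm' co3Sum.1]
        simp [dotInt, mul_sub, Finset.sum_sub_distrib]
      rw [e', e3, first_mem.1.2, (mem_sidePts.1 hz).2] at h16
      omega
  -- the inner products
  have hconv : sidePts = {z : leechLattice | sqNorm z.1 = 32 ∧ sqNorm (co3Sum.1 - z.1) = 32 ∧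
      dotInt repA.1 z.1 = 16} := by
    ext z
    rw [mem_sidePts]
    show (sqNorm z.1 = 32 ∧ _) ∧ _ ↔ sqNorm z.1 = 32 ∧ _ ∧ _
    constructor
    · rintro ⟨⟨a, b⟩, c⟩; exact ⟨a, (norm_of_dot co3Sum_facts.1 a).2 b, c⟩
    · rintro ⟨a, b, c⟩; exact ⟨⟨a, (norm_of_dot co3Sum_facts.1 a).1 b⟩, c⟩
  have hgram : ∀ y ∈ sidePts, ∀ z ∈ sidePts, dotInt (f y).1 (f z).1 = dotInt y.1 z.1 := by
    intro y hy z hz
    rcases eq_or_ne z y with rfl | hne
    · rw [dotInt_self, dotInt_self, (mem_sidePts.1 (hfX _ hy)).1.1, (mem_sidePts.1 hy).1.1]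
    have horb : ∀ p ∈ sidePts, ∀ q ∈ sidePts, q ≠ p →
        (dotInt p.1 q.1 = 8 ∧ (orbit (endStab ⊓ stabilizer co3Stab p : Subgroup co3Stab) q).ncard = 112) ∨
        (dotInt p.1 q.1 = 16 ∧ (orbit (endStab ⊓ stabilizer co3Stab p : Subgroup co3Stab) q).ncard = 162) := by
      intro p hp q hq hne
      have hd : dotInt p.1 q.1 ∈ [(8 : ℤ), 16] :=
        hF.cases mclCert_ok mclCert_cover (r0 := mclCert.code mclCert.root) (Nat.beq_refl _)
          (ds := [8, 16]) (by decide +kernel) hp hq hne
      obtain ⟨n1, n2, htr2⟩ := Cfsg.Agent.S1581.result co3Sum repA p co3Sum_facts.1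
        ⟨first_mem.1.1, (norm_of_dot co3Sum_facts.1 first_mem.1.1).2 first_mem.1.2⟩ (hconv ▸ hp)
      rw [← hconv] at n1 n2 htr2
      have hO : ∀ d, dotInt p.1 q.1 = d → orbit (endStab ⊓ stabilizer co3Stab p : Subgroup co3Stab) q
          = {w | w ∈ sidePts ∧ w ≠ p ∧ dotInt p.1 w.1 = d} := by
        intro d hd
        ext w
        constructor
        · rintro ⟨⟨g, hg⟩, rfl⟩
          have hgp : g • p = p := hg.2
          refine ⟨hinvX g hg.1 q hq, fun e => hne (smul_left_cancel g (e.trans hgp.symm)), ?_⟩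
          have := co0_dot g.1 p q
          rw [show g.1 • p = p from hgp, hd] at this
          exact this
        · rintro ⟨hw, hwne, hwd⟩
          obtain ⟨g, g1, g2, g3, g4⟩ := htr2 q hq w hw hne hwne (hd.trans hwd.symm)
          exact ⟨⟨⟨g, mem_co3Stab.2 g1⟩, g2, g3⟩, g4⟩
      simp only [List.mem_cons, List.not_mem_nil, or_false] at hd
      rcases hd with h | h
      · refine Or.inl ⟨h, ?_⟩
        rw [hO 8 h, show {w | w ∈ sidePts ∧ w ≠ p ∧ dotInt p.1 w.1 = 8}
          = {w | w ∈ sidePts ∧ dotInt p.1 w.1 = 8} from Set.ext fun w =>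
            ⟨fun a => ⟨a.1, a.2.2⟩, fun a => ⟨a.1, fun e => by
              have := a.2
              rw [e, dotInt_self, (mem_sidePts.1 hp).1.1] at this
              omega, a.2⟩⟩]
        exact n1
      · exact Or.inr ⟨h, by rw [hO 16 h]; exact n2⟩
    have himg : f '' orbit (endStab ⊓ stabilizer co3Stab y : Subgroup co3Stab) z
        = orbit (endStab ⊓ stabilizer co3Stab (f y) : Subgroup co3Stab) (f z) := by
      have hmem : ∀ s ∈ endStab, (s • y = y ↔ φ' s • f y = f y) := fun s hs => by
        rw [← hfeq s hs y hy]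
        exact ⟨fun h => by rw [h], fun h => hfinj (hinvX s hs y hy) hy h⟩
      ext w
      constructor
      · rintro ⟨_, ⟨⟨s, hs⟩, rfl⟩, rfl⟩
        exact ⟨⟨φ' s, (hS s).1 hs.1, (hmem s hs.1).1 hs.2⟩, (hfeq s hs.1 z hz).symm⟩
      · rintro ⟨⟨t, ht⟩, rfl⟩
        obtain ⟨s, rfl⟩ := φ'.surjective t
        have hs := (hS s).2 ht.1
        exact ⟨s • z, ⟨⟨s, hs, (hmem s hs).2 ht.2⟩, rfl⟩, hfeq s hs z hz⟩
    have hsubO : orbit (endStab ⊓ stabilizer co3Stab y : Subgroup co3Stab) z ⊆ sidePts := by
      rintro _ ⟨⟨s, hs⟩, rfl⟩; exact hinvX s hs.1 z hz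
    have hcard := Set.InjOn.ncard_image (hfinj.mono hsubO)
    rw [himg] at hcard
    rcases horb y hy z hz hne with ⟨e1, e2⟩ | ⟨e1, e2⟩ <;>
      rcases horb _ (hfX y hy) _ (hfX z hz) (fun e => hne (hfinj hz hy e)) with ⟨f1, f2⟩ | ⟨f1, f2⟩ <;>
      omega
  -- lift through the reference edge
  have hk : ∀ y, y ∈ sidePts ↔ k • y ∈ CoThreeLift.refPoints := by
    intro y
    simp only [sidePts, CoThreeLift.refPoints, atSet, Set.mem_ofPred_eq, List.forall_mem_cons,
      List.not_mem_nil, IsEmpty.forall_iff, implies_true, and_true]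
    rw [co0_sqNorm, ← hku, ← hkv, co0_dot, co0_dot]
  obtain ⟨h, hhu, hh⟩ := CoThreeLift.lift_ref (fun t => k • f (k⁻¹ • t))
    (fun t ht => (hk _).1 (hfX _ ((hk _).2 (by rwa [smul_inv_smul]))))
    (fun t ht t' ht' => by
      show dotInt (k • f (k⁻¹ • t) : leechLattice).1 (k • f (k⁻¹ • t') : leechLattice).1 = _
      rw [co0_dot, hgram _ ((hk _).2 (by rwa [smul_inv_smul])) _ ((hk _).2 (by rwa [smul_inv_smul])),
        co0_dot])
  let g : co3Stab := ⟨k⁻¹ * h * k, mem_co3Stab.2 (by
    rw [mul_smul, mul_smul, hku, hhu, ← hku, inv_smul_smul])⟩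
  have hgv : ∀ y : leechLattice, g • y = k⁻¹ • h • k • y := fun y => by
    exact ((mul_smul (k⁻¹ * h) k y).trans (mul_smul k⁻¹ h (k • y)))
  have hgside : ∀ y ∈ sidePts, g • y = ψ y ∨ g • y = co3Sum - ψ y := by
    intro y hy
    have hy' := (hk y).1 hy
    rcases hh with ⟨-, hh⟩ | ⟨-, hh⟩
    · rw [hgv, hh _ hy', inv_smul_smul, inv_smul_smul]
      exact hfψ y hy
    · rw [hgv, hh _ hy', co0_smul_sub, inv_smul_smul, inv_smul_smul, ← hku, inv_smul_smul]
      rcases hfψ y hy with e | e <;> rw [e]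
      · exact Or.inr rfl
      · exact Or.inl (sub_sub_cancel _ _)
  have hga : g • repA = repA ∨ g • repA = co3Sum - repA := by
    rcases hh with ⟨hh, -⟩ | ⟨hh, -⟩
    · exact Or.inl (by rw [hgv, hkv, hh, ← hkv, inv_smul_smul])
    · exact Or.inr (by rw [hgv, hkv, hh, co0_smul_sub, ← hku, ← hkv, inv_smul_smul, inv_smul_smul])
  have hgall : ∀ y ∈ ends, g • y = ψ y ∨ g • y = co3Sum - ψ y := by
    intro y hy
    have hab : mclW = co3Sum - repA := by rw [co3Sum, add_sub_cancel_left]
    rcases ends_cases hy with rfl | rfl | h' | h'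
    · rw [hψa]; exact hga
    · rw [hψb, hab, smul_sub_co3]
      rcases hga with e | e <;> rw [e]
      · exact Or.inl rfl
      · exact Or.inr rfl
    · exact hgside y h'
    · have e1 : g • y = co3Sum - g • (co3Sum - y) := by rw [smul_sub_co3, sub_sub_cancel]
      have e2 : ψ (co3Sum - y) = co3Sum - ψ y := hψsub y hy
      rcases hgside _ h' with e | e <;> rw [e1, e, e2]
      · exact Or.inl (sub_sub_cancel _ _)
      · right; rw [sub_sub_cancel]
  have hkey : φ' = MulAut.conj g := by
    refine MulEquiv.ext fun t => eq_of_pairs fun y hy => ?_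
    rw [MulAut.conj_apply, mul_smul, mul_smul]
    set z := g⁻¹ • y with hz
    have hzm : z ∈ ends := smul_mem_ends (g⁻¹).2 hy
    have hy' : y = g • z := (smul_inv_smul g y).symm
    have htz : g • (t • z) = ψ (t • z) ∨ g • (t • z) = co3Sum - ψ (t • z) :=
      hgall _ (smul_mem_ends t.2 hzm)
    rw [hψeq t z hzm] at htz
    rcases hgall z hzm with e | e
    · rw [hy', e]
      rcases htz with e' | e'
      · exact Or.inl e'.symm
      · right
        show φ' t • ψ z = co3Sum - g • (t • z)
        rw [e', sub_sub_cancel]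
    · rw [hy', e, smul_sub_co3]
      rcases htz with e' | e'
      · right
        show co3Sum - φ' t • ψ z = co3Sum - g • (t • z)
        rw [e']
      · exact Or.inl e'.symm
  exact ⟨g₀ * g, by rw [map_mul, ← hkey, hφ', mul_inv_cancel_left]⟩

lemma map_co3Stab : co3Stab.map Co0.subtype = Spor.Co3 := by
  ext σ
  constructor
  · rintro ⟨g, hg, rfl⟩
    exact ⟨g.2, hg⟩
  · rintro ⟨h0, h1⟩
    exact ⟨⟨σ, h0⟩, h1, rfl⟩

/-- The outer automorphism group of `Co3`. -/
theorem card_out_co3 : Nat.card (Cfsg.Out ↥Spor.Co3) = 1 := by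
  let E : co3Stab ≃* Spor.Co3 :=
    (co3Stab.equivMapOfInjective _ Co0.subtype_injective).trans (MulEquiv.subgroupCongr map_co3Stab)
  show (Inn ↥Spor.Co3).index = 1
  rw [Subgroup.index_eq_one, eq_top_iff]
  intro φ _
  obtain ⟨g, hg⟩ := conj_surjective_co3Stab (MulAut.congr E.symm φ)
  refine ⟨E g, MulEquiv.ext fun x => ?_⟩
  obtain ⟨x, rfl⟩ := E.surjective x
  have := DFunLike.congr_fun hg x
  rw [MulAut.conj_apply] at this ⊢
  rw [← map_inv, ← map_mul, ← map_mul, this]
  show E (E.symm (φ (E x))) = _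
  rw [E.apply_symm_apply]

end Cfsg.Agent.Golay
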