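import Cfsg.Agent.Golay.HundredGraph
import Cfsg.Agent.Golay.M22SmallIndex
import Cfsg.Prelude.Def_KGroupFacts

/-!
The automorphisms of the simple rank three group on a hundred points are those of its graph.
-/

set_option autoImplicit false

namespace Cfsg.Agent.Golay

open Cfsg MulAction

section Abstract

variable {G Ω : Type*} [Group G] [Finite G] [Fintype Ω] [MulAction G Ω] [IsPretransitive G Ω]
  [FaithfulSMul G Ω]

omit [Finite G] [IsPretransitive G Ω] [FaithfulSMul G Ω] in
/-- A copy of `M22` acting on the hundred points fixes one of them. -/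
lemma exists_fixed_of_iso (hΩ : Fintype.card Ω = 100) (K : Subgroup G) (e : K ≃* Spor.M22) :
    ∃ x : Ω, ∀ k ∈ K, k • x = x := by
  classical
  by_contra hcon
  push Not at hcon
  haveI : Finite K := Finite.of_equiv _ e.symm.toEquiv
  have hdvd : ∀ x : Ω, 11 ∣ Nat.card (orbit K x) := by
    intro x
    have hle : (stabilizer K x).index ≤ 100 := by
      rw [index_stabilizer, ← hΩ, ← Nat.card_eq_fintype_card]
      exact Finite.card_subtype_le _
    rcases index_dvd_eleven e _ hle with h | h
    · obtain ⟨k, hk, hkx⟩ := hcon x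
      have hm : (⟨k, hk⟩ : K) ∈ stabilizer K x := by rw [h]; exact Subgroup.mem_top _
      exact absurd (mem_stabilizer_iff.1 hm) hkx
    · rwa [index_stabilizer, ← Nat.card_coe_set_eq] at h
  haveI : Fintype (orbitRel.Quotient K Ω) := Fintype.ofFinite _
  have hsum : Nat.card Ω = ∑ q : orbitRel.Quotient K Ω, Nat.card (orbit K q.out) := by
    rw [Nat.card_congr (selfEquivSigmaOrbits K Ω), Nat.card_sigma]
  rw [Nat.card_eq_fintype_card, hΩ] at hsum
  have : 11 ∣ ∑ q : orbitRel.Quotient K Ω, Nat.card (orbit K q.out) :=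
    Finset.dvd_sum fun q _ => hdvd _
  rw [← hsum] at this
  norm_num at this

/-- The automorphism group of the simple rank three group. -/
theorem card_mulAut_rankThree [IsSimpleGroup G] (hΩ : Fintype.card Ω = 100) {a b c : Ω}
    (e : stabilizer G a ≃* Spor.M22)
    (hb : (orbit (stabilizer G a) b).ncard = 22) (hc : (orbit (stabilizer G a) c).ncard = 77) :
    Nat.card (MulAut G) = 88704000 ∧ Function.Injective (MulAut.conj : G →* MulAut G) := by
  classical
  set S := stabilizer G a with hS
  have hcS : Nat.card S = 443520 := (Nat.card_congr e.toEquiv).trans card_spor_M22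
  have hG : Nat.card G = 44352000 := by
    rw [← S.card_mul_index, index_stabilizer_of_transitive, hcS, Nat.card_eq_fintype_card, hΩ]
  -- orbits of the stabiliser
  have ha : orbit S a = {a} := by
    ext x
    refine ⟨?_, ?_⟩
    · rintro ⟨g, rfl⟩; exact g.2
    · rintro rfl; exact mem_orbit_self _
  have hsmall : ∀ x, (∀ s ∈ S, s • x = x) → x ∈ orbit S b ∨ x ∈ orbit S c → False := by
    intro x hx h
    have h1 : orbit S x = {x} := by
      ext y
      refine ⟨?_, ?_⟩
      · rintro ⟨g, rfl⟩; exact hx g.1 g.2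
      · rintro rfl; exact mem_orbit_self _
    rcases h with h | h
    · rw [← orbit_eq_iff.2 h, h1, Set.ncard_singleton] at hb; omega
    · rw [← orbit_eq_iff.2 h, h1, Set.ncard_singleton] at hc; omega
  have hab : a ∉ orbit S b := fun h => hsmall a (fun s hs => hs) (Or.inl h)
  have hac : a ∉ orbit S c := fun h => hsmall a (fun s hs => hs) (Or.inr h)
  have hbc : Disjoint (orbit S b) (orbit S c) := by
    rw [Set.disjoint_left]
    intro x hx hx'
    rw [orbit_eq_iff.2 hx |>.symm, orbit_eq_iff.2 hx'] at hb
    omega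
  have hcover : ∀ x, x = a ∨ x ∈ orbit S b ∨ x ∈ orbit S c := by
    have h : insert a (orbit S b ∪ orbit S c) = Set.univ := by
      refine Set.eq_of_subset_of_ncard_le (Set.subset_univ _) ?_ (Set.toFinite _)
      rw [Set.ncard_univ, Nat.card_eq_fintype_card, hΩ, Set.ncard_insert_of_notMem
        (by simp [hab, hac]) (Set.toFinite _), Set.ncard_union_eq hbc (Set.toFinite _)
        (Set.toFinite _), hb, hc]
    intro x
    have : x ∈ insert a (orbit S b ∪ orbit S c) := h ▸ Set.mem_univ x
    simpa using this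
  have honly : ∀ x, (∀ s ∈ S, s • x = x) → x = a := fun x hx =>
    (hcover x).resolve_right (hsmall x hx)
  obtain ⟨Γ, _, hΓ, hinv⟩ := exists_srg hΩ hb hc
  have hN : ∀ y, Γ.Adj a y ↔ y ∈ orbit S b := by
    have hinv' : ∀ {y z}, z ∈ orbit S y → (Γ.Adj a z ↔ Γ.Adj a y) := by
      rintro y z ⟨⟨s, hs⟩, rfl⟩
      have := hinv s a y
      rwa [show s • a = a from hs] at this
    intro y
    have hcardN : (Γ.neighborSet a).ncard = 22 := by
      rw [← SimpleGraph.coe_neighborFinset, Set.ncard_coe_finset]
      exact hΓ.regular a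
    have hb' : Γ.Adj a b := by
      by_contra hnb
      have : Γ.neighborSet a ⊆ orbit S c := by
        intro z hz
        rw [SimpleGraph.mem_neighborSet] at hz
        rcases hcover z with h | h | h
        · exact absurd hz (h ▸ Γ.irrefl)
        · exact absurd ((hinv' h).1 hz) hnb
        · exact h
      by_cases hc' : Γ.Adj a c
      · have : orbit S c ⊆ Γ.neighborSet a := fun z hz => (hinv' hz).2 hc'
        have := Set.ncard_le_ncard this (Set.toFinite _)
        omega
      · have hemp : Γ.neighborSet a = ∅ := Set.eq_empty_of_forall_notMem fun z hz =>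
          hc' ((hinv' (this hz)).1 hz)
        rw [hemp, Set.ncard_empty] at hcardN
        omega
    have hc' : ¬ Γ.Adj a c := by
      intro hc'
      have : orbit S c ⊆ Γ.neighborSet a := fun z hz => (hinv' hz).2 hc'
      have := Set.ncard_le_ncard this (Set.toFinite _)
      omega
    rcases hcover y with h | h | h
    · subst h
      exact iff_of_false (Γ.irrefl) hab
    · exact iff_of_true ((hinv' h).2 hb') h
    · exact iff_of_false (fun hy => hc' ((hinv' h).1 hy))
        (fun hy => Set.disjoint_left.1 hbc hy h)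
  -- the graph group
  obtain ⟨f, hf, hfa⟩ : ∃ f : G →* (Γ ≃g Γ), Function.Injective f ∧ ∀ g x, f g x = g • x := by
    refine ⟨{ toFun := fun g => ⟨MulAction.toPerm g, fun {x y} => hinv g x y⟩
              map_one' := RelIso.ext fun x => one_smul G x
              map_mul' := fun g k => RelIso.ext fun x => mul_smul g k x }, ?_, fun g x => rfl⟩
    intro g k h
    exact eq_of_smul_eq_smul fun x : Ω => DFunLike.congr_fun h x
  have hA := card_srg_aut hΓ
  haveI : Finite (Γ ≃g Γ) := (Nat.card_pos_iff.1 (by omega)).2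
  have hidx : f.range.index = 2 := by
    have h1 : Nat.card f.range = 44352000 := by
      rw [← hG]; exact (Nat.card_congr (MonoidHom.ofInjective hf).toEquiv).symm
    have := f.range.card_mul_index
    rw [h1, hA] at this
    omega
  haveI := Subgroup.normal_of_index_eq_two hidx
  let ι : G ≃* f.range := MonoidHom.ofInjective hf
  let θ : (Γ ≃g Γ) →* MulAut G :=
    (MulAut.congr ι.symm).toMonoidHom.comp MulAut.conjNormal
  have hθ : ∀ u g, f (θ u g) = u * f g * u⁻¹ := by
    intro u g
    show ((ι (θ u g) : f.range) : Γ ≃g Γ) = _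
    simp [θ, MulAut.congr, ι, MonoidHom.ofInjective_apply]
  have hθinj : Function.Injective θ := by
    rw [injective_iff_map_eq_one]
    intro u hu
    have hcomm : ∀ (g : G) x, u (g • x) = g • u x := by
      intro g x
      have h := hθ u g
      rw [hu] at h
      have h' : f g * u = u * f g := by
        nth_rewrite 1 [show f g = u * f g * u⁻¹ from h]
        rw [inv_mul_cancel_right]
      have := DFunLike.congr_fun h' x
      rw [RelIso.coe_mul, RelIso.coe_mul, Function.comp_apply, Function.comp_apply, hfa, hfa] at this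
      exact this.symm
    have hua : u a = a := honly _ fun s hs => by rw [← hcomm, show s • a = a from hs]
    refine RelIso.ext fun x => ?_
    obtain ⟨g, rfl⟩ := exists_smul_eq G a x
    rw [hcomm, hua, RelIso.coe_one, id_eq]
  have hθf : ∀ g, θ (f g) = MulAut.conj g := by
    intro g
    refine MulEquiv.ext fun k => hf ?_
    rw [hθ, MulAut.conj_apply, map_mul, map_mul, map_inv]
  have hθsurj : Function.Surjective θ := by
    intro φ
    let K := S.map φ.toMonoidHom
    obtain ⟨x, hx⟩ := exists_fixed_of_iso hΩ K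
      ((S.equivMapOfInjective φ.toMonoidHom φ.injective).symm.trans e)
    obtain ⟨g₀, hg₀⟩ := exists_smul_eq G a x
    set φ' : MulAut G := (MulAut.conj g₀)⁻¹ * φ with hφ'
    have hφ'app : ∀ s, φ' s = g₀⁻¹ * φ s * g₀ := fun s => by
      simp [hφ', MulAut.mul_apply, MulAut.conj_inv_apply]
    have hS' : ∀ s, s ∈ S ↔ φ' s ∈ S := by
      have hmap : S.map φ'.toMonoidHom = S := by
        refine Subgroup.eq_of_le_of_card_ge ?_ ?_
        · rintro _ ⟨s, hs, rfl⟩
          show φ' s • a = a
          rw [hφ'app, mul_smul, mul_smul, hg₀,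
            show φ s • x = x from hx _ (Subgroup.mem_map_of_mem _ hs), inv_smul_eq_iff, hg₀]
        · rw [Subgroup.card_map_of_injective φ'.injective]
      intro s
      constructor
      · intro hs; rw [← hmap]; exact Subgroup.mem_map_of_mem _ hs
      · intro hs
        rw [← hmap] at hs
        obtain ⟨t, ht, hts⟩ := hs
        rwa [φ'.injective hts] at ht
    choose σ hσ using fun y : Ω => exists_smul_eq G a y
    let ψ : Ω → Ω := fun y => φ' (σ y) • a
    have hψ : ∀ g, ψ (g • a) = φ' g • a := by
      intro g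
      have h : (σ (g • a))⁻¹ * g ∈ S := by
        show ((σ (g • a))⁻¹ * g) • a = a
        rw [mul_smul, inv_smul_eq_iff, hσ]
      have h' : φ' ((σ (g • a))⁻¹ * g) • a = a := (hS' _).1 h
      rw [map_mul, map_inv, mul_smul, inv_smul_eq_iff] at h'
      exact h'.symm
    have hψeq : ∀ g y, ψ (g • y) = φ' g • ψ y := by
      intro g y
      conv_lhs => rw [← hσ y, ← mul_smul, hψ, map_mul, mul_smul]
    have hψinj : Function.Injective ψ := by
      intro y z h
      rw [← hσ y, ← hσ z, hψ, hψ] at h
      rw [← hσ y, ← hσ z]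
      have : (σ z)⁻¹ * σ y ∈ S := by
        rw [hS', map_mul, map_inv]
        show ((φ' (σ z))⁻¹ * φ' (σ y)) • a = a
        rw [mul_smul, h, inv_smul_smul]
      rw [show σ y = σ z * ((σ z)⁻¹ * σ y) by group, mul_smul,
        show ((σ z)⁻¹ * σ y) • a = a from this]
    have hψa : ψ a = a := by
      have := hψ 1
      rwa [one_smul, map_one, one_smul] at this
    have horb : ∀ y ∈ orbit S b, ψ y ∈ orbit S b := by
      intro y hy
      have himg : ψ '' orbit S y = orbit S (ψ y) := by
        ext z
        constructor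
        · rintro ⟨_, ⟨⟨s, hs⟩, rfl⟩, rfl⟩
          exact ⟨⟨φ' s, (hS' s).1 hs⟩, (hψeq s y).symm⟩
        · rintro ⟨⟨s, hs⟩, rfl⟩
          refine ⟨φ'.symm s • y, ⟨⟨φ'.symm s, (hS' _).2 (by rw [MulEquiv.apply_symm_apply]; exact hs)⟩,
            rfl⟩, ?_⟩
          show ψ (φ'.symm s • y) = s • ψ y
          rw [hψeq, MulEquiv.apply_symm_apply]
      have h22 : (orbit S (ψ y)).ncard = 22 := by
        rw [← himg, Set.ncard_image_of_injective _ hψinj, orbit_eq_iff.2 hy, hb]
      rcases hcover (ψ y) with h | h | h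
      · rw [h, ha, Set.ncard_singleton] at h22; omega
      · exact h
      · rw [orbit_eq_iff.2 h, hc] at h22; omega
    have hadj : ∀ y z, Γ.Adj y z → Γ.Adj (ψ y) (ψ z) := by
      intro y z h
      obtain ⟨g, rfl⟩ := exists_smul_eq G a y
      rw [← smul_inv_smul g z, hinv, hN] at h
      rw [← smul_inv_smul g z, hψ, hψeq, hinv, hN]
      exact horb _ h
    let pE : Ω ≃ Ω := Equiv.ofBijective ψ (Finite.injective_iff_bijective.1 hψinj)
    have hiff : ∀ y z, Γ.Adj (pE y) (pE z) ↔ Γ.Adj y z := by
      intro y z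
      refine ⟨fun h => ?_, hadj y z⟩
      -- the edge set is finite
      let E := {p : Ω × Ω | Γ.Adj p.1 p.2}
      have hmaps : (Prod.map pE pE) '' E ⊆ E := by
        rintro _ ⟨p, hp, rfl⟩; exact hadj _ _ hp
      have hinjp : Function.Injective (Prod.map pE pE) := Function.Injective.prodMap pE.injective pE.injective
      have heq : (Prod.map pE pE) '' E = E := Set.eq_of_subset_of_ncard_le hmaps
        (Set.ncard_image_of_injective _ hinjp).ge (Set.toFinite _)
      have : (pE y, pE z) ∈ (Prod.map pE pE) '' E := heq.symm ▸ h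
      obtain ⟨p, hp, hpe⟩ := this
      obtain rfl : p = (y, z) := hinjp hpe
      exact hp
    let u : Γ ≃g Γ := ⟨pE, fun {y z} => hiff y z⟩
    have hu : θ u = φ' := by
      refine MulEquiv.ext fun g => hf ?_
      rw [hθ]
      refine RelIso.ext fun y => ?_
      have hsymm : u ((u⁻¹ : Γ ≃g Γ) y) = y := RelIso.apply_symm_apply u y
      rw [RelIso.coe_mul, RelIso.coe_mul, Function.comp_apply, Function.comp_apply, hfa, hfa]
      show ψ (g • (u⁻¹ : Γ ≃g Γ) y) = _
      rw [hψeq]
      exact congrArg _ hsymm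
    refine ⟨f g₀ * u, ?_⟩
    rw [map_mul, hθf, hu, hφ', mul_inv_cancel_left]
  refine ⟨?_, ?_⟩
  · rw [← hA]
    exact (Nat.card_congr (Equiv.ofBijective θ ⟨hθinj, hθsurj⟩)).symm
  · rw [show (MulAut.conj : G →* MulAut G) = θ.comp f from MonoidHom.ext fun g => (hθf g).symm]
    exact hθinj.comp hf

end Abstract

/-- The outer automorphism group from the automorphism group. -/
lemma card_out_of {G : Type*} [Group G] (hA : Nat.card (MulAut G) = 88704000)
    (hi : Function.Injective (MulAut.conj : G →* MulAut G)) (hG : Nat.card G = 44352000) :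
    Nat.card (Cfsg.Out G) = 2 := by
  have h1 : Nat.card (Inn G) = 44352000 := by
    rw [← hG]; exact (Nat.card_congr (MonoidHom.ofInjective hi).toEquiv).symm
  have h2 := (Inn G).card_mul_index
  rw [h1, hA] at h2
  show (Inn G).index = 2
  omega

/-- The stabiliser of the first point is `M22`. -/
lemma stab_first_iso {a : leechLattice} (ha : a ∈ hundred) (hav : a.1 = firstVec) :
    Nonempty (stabilizer hsStab a ≃* Spor.M22) := by
  have hmem : ∀ τ : twoStab, permHom τ.1 ∈ hsStab := fun τ => permAut_mem_hsStab τ.2.1 τ.2.2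
  let ψ : twoStab →* hsStab := (permHom.comp twoStab.subtype).codRestrict hsStab hmem
  have hψ : ∀ τ, ψ τ ∈ stabilizer hsStab a := fun τ => permAut_fix_first hav τ.2.1 τ.2.2
  let ψ' : twoStab →* stabilizer hsStab a := ψ.codRestrict _ hψ
  have hbij : Function.Bijective ψ' := by
    refine ⟨fun τ τ' h => Subtype.ext (permHom_injective (congrArg (fun x => x.1.1) h)), ?_⟩
    rintro ⟨g, hg⟩
    obtain ⟨τ, h1, h2, h3⟩ := stab_first hav g hg
    exact ⟨⟨τ, h1, h2⟩, Subtype.ext (Subtype.ext h3.symm)⟩
  obtain ⟨e⟩ := exists_two_point_stab_iso (show (none : GolayPt) ≠ some 0 by simp)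
  exact ⟨(MulEquiv.ofBijective ψ' hbij).symm.trans e⟩

/-- The outer automorphism group of `HS`. -/
theorem card_out_HS : Nat.card (Cfsg.Out ↥Spor.HS) = 2 := by
  classical
  obtain ⟨a', b', c', ha', hb'm, hc'm, hb22, hc77, hav⟩ := hundred_suborbits'
  set O := orbit hsStab a' with hO
  have hOe : O = hundred := orbit_hsStab ha'
  have hfin : O.Finite := by
    rw [hOe]; exact Set.finite_of_ncard_ne_zero (by rw [card_hsStab.2.1]; norm_num)
  letI : Fintype O := hfin.fintype
  have hO100 : Fintype.card O = 100 := by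
    rw [← Nat.card_eq_fintype_card, Nat.card_coe_set_eq, hOe, card_hsStab.2.1]
  haveI : IsSimpleGroup hsStab := isSimple_hsStab
  haveI : Finite hsStab := (Nat.card_pos_iff.1 (by rw [card_hsStab.1]; norm_num)).2
  haveI : FaithfulSMul hsStab O := by
    rcases (MonoidHom.normal_ker (MulAction.toPermHom hsStab O)).eq_bot_or_eq_top with h | h
    · exact ⟨fun {g k} e => (MonoidHom.ker_eq_bot_iff _).1 h (Equiv.ext e)⟩
    · exfalso
      have hsing : ∀ x : O, x = ⟨a', mem_orbit_self a'⟩ := fun x => by
        obtain ⟨g, hg⟩ := x.2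
        have hg1 : MulAction.toPermHom hsStab O g = 1 :=
          MonoidHom.mem_ker.1 (h ▸ Subgroup.mem_top g)
        have := Equiv.congr_fun hg1 ⟨a', mem_orbit_self a'⟩
        exact Subtype.ext (hg.symm.trans (congrArg Subtype.val this))
      have : Subsingleton O := ⟨fun x y => (hsing x).trans (hsing y).symm⟩
      have := Fintype.card_le_one_iff_subsingleton.2 this
      omega
  let A : O := ⟨a', mem_orbit_self a'⟩
  have hstab : stabilizer hsStab A = stabilizer hsStab a' := by
    ext g
    simp only [mem_stabilizer_iff]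
    exact ⟨fun h => congrArg Subtype.val h, fun h => Subtype.ext h⟩
  have htr : ∀ (x : O), (orbit (stabilizer hsStab A) x).ncard =
      (orbit (stabilizer hsStab a') x.1).ncard := by
    intro x
    rw [← Set.ncard_image_of_injective _ Subtype.val_injective]
    congr 1
    ext y
    constructor
    · rintro ⟨z, ⟨⟨g, hg⟩, rfl⟩, rfl⟩
      exact ⟨⟨g, hstab ▸ hg⟩, rfl⟩
    · rintro ⟨⟨g, hg⟩, rfl⟩
      exact ⟨g • x, ⟨⟨g, hstab.symm ▸ hg⟩, rfl⟩, rfl⟩
  obtain ⟨e⟩ := stab_first_iso ha' hav
  obtain ⟨hA, hi⟩ := card_mulAut_rankThree (G := hsStab) hO100 (a := A)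
    (b := ⟨b', hOe.symm ▸ hb'm⟩) (c := ⟨c', hOe.symm ▸ hc'm⟩)
    ((MulEquiv.subgroupCongr hstab).trans e) (by rw [htr]; exact hb22) (by rw [htr]; exact hc77)
  let E : hsStab ≃* Spor.HS :=
    (hsStab.equivMapOfInjective _ Co0.subtype_injective).trans (MulEquiv.subgroupCongr map_hsStab)
  refine card_out_of ?_ ?_ ((Nat.card_congr E.toEquiv).symm.trans card_hsStab.1)
  · rw [← hA]
    exact (Nat.card_congr (MulAut.congr E).toEquiv).symm
  · intro x y h
    obtain ⟨x, rfl⟩ := E.surjective x
    obtain ⟨y, rfl⟩ := E.surjective y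
    refine congrArg E (hi (MulEquiv.ext fun k => E.injective ?_))
    have := DFunLike.congr_fun h (E k)
    simpa [MulAut.conj_apply] using this

end Cfsg.Agent.Golay
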