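import Cfsg.Agent.Golay.MinOrbit
import Cfsg.Agent.Golay.OctPair

/-!
Orbits of the stabiliser of a minimal vector on minimal vectors, by inner product.
-/

set_option autoImplicit false

namespace Cfsg.Agent.Golay

open Cfsg
open scoped Pointwise

/-- The stabiliser of the reference minimal vector. -/
abbrev fixA : Subgroup Co0 := MulAction.stabilizer Co0 repA

/-- Nonzero coordinates. -/
def suppVec (x : GolayPt → ℤ) : Finset GolayPt := Finset.univ.filter fun l => x l ≠ 0

/-- The two reference values and the support size. -/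
def keyVec (x : GolayPt → ℤ) : ℤ × ℤ × ℕ := (x none, x (some 0), (suppVec x).card)

/-- Every admissible sign pattern on the support comes from a code word avoiding the base pair. -/
def signsOK (x : GolayPt → ℤ) : Bool :=
  (suppVec x).card == 24 ||
    (spanList (((List.range 24).filter fun i => (maskOf (suppVec x)).testBit i).map fun i => 2 ^ i)).all
      fun t => t.testBit 23 || t.testBit 0 || ((suppVec x).card == 8 && popCnt t % 2 == 1) ||
        codeList.any fun m => !m.testBit 23 && !m.testBit 0 && m &&& maskOf (suppVec x) == t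

lemma mono_of_code {w r : leechLattice} (g : M24) (g1 : g.1 none = none)
    (g2 : g.1 (some 0) = some 0) {c : Finset GolayPt}
    (hc : c ∈ supports (golayCode : Set (GolayPt → ZMod 2))) (c1 : none ∉ c) (c2 : some 0 ∉ c)
    (h : ∀ l, r.1 l = if l ∈ c then -(permAut g • w).1 l else (permAut g • w).1 l) :
    ∃ k ∈ fixA, IsMono k ∧ k • w = r := by
  set k : Co0 := signAut ⟨c, hc⟩ * permAut g
  have hk : k ∈ fixA := by
    show k • repA = repA
    refine Subtype.ext (funext fun l => ?_)
    rw [mul_smul, signAut_apply]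
    obtain ⟨q, rfl⟩ : ∃ q, g.1 q = l := ⟨g.1.symm l, g.1.apply_symm_apply l⟩
    rw [permAut_apply]
    show (if g.1 q ∈ c then -repFour q else repFour q) = repFour (g.1 q)
    have e1 : g.1 q = none ↔ q = none := by rw [← g.1.apply_eq_iff_eq (x := q), g1]
    have e2 : g.1 q = some 0 ↔ q = some 0 := by rw [← g.1.apply_eq_iff_eq (x := q), g2]
    simp only [repFour, e1, e2]
    split_ifs with a b <;> try simp
    rcases b with rfl | rfl
    · rw [g1] at a; exact absurd a c1
    · rw [g2] at a; exact absurd a c2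
  refine ⟨k, hk, isMono_signed _ g, ?_⟩
  refine Subtype.ext (funext fun l => ?_)
  rw [mul_smul, signAut_apply, h l]

lemma exists_pair_map {A B : Finset GolayPt} (hA : A.card = 2) (hB : B.card = 2)
    (hn : none ∈ A ↔ none ∈ B) (h0 : some 0 ∈ A ↔ some 0 ∈ B) :
    ∃ g : M24, g.1 none = none ∧ g.1 (some 0) = some 0 ∧ ∀ q, g.1 q ∈ B ↔ q ∈ A := by
  have fin : ∀ {g : M24} {i j i' j' : GolayPt}, A = {i, j} → B = {i', j'} → g.1 i = i' → g.1 j = j' →
      ∀ q, g.1 q ∈ B ↔ q ∈ A := by
    intro g i j i' j' ha hb hi hj q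
    simp [ha, hb, ← hi, ← hj]
  have two : ∀ {S : Finset GolayPt}, S.card = 2 → ∀ {p}, p ∈ S → ∃ j, j ≠ p ∧ S = {p, j} := by
    intro S hS p hp
    obtain ⟨x, y, hxy, rfl⟩ := Finset.card_eq_two.1 hS
    simp only [Finset.mem_insert, Finset.mem_singleton] at hp
    rcases hp with rfl | rfl
    · exact ⟨y, hxy.symm, rfl⟩
    · exact ⟨x, hxy, Finset.pair_comm _ _⟩
  by_cases a : none ∈ A <;> by_cases b : some 0 ∈ A
  · have e : ∀ {S : Finset GolayPt}, S.card = 2 → none ∈ S → some 0 ∈ S → S = {none, some 0} :=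
      fun hS x y => (Finset.eq_of_subset_of_card_le
        (Finset.insert_subset x (Finset.singleton_subset_iff.2 y)) (by rw [hS]; rfl)).symm
    exact ⟨1, rfl, rfl, fun q => by rw [e hA a b, e hB (hn.1 a) (h0.1 b)]; rfl⟩
  · obtain ⟨j, hj, ha⟩ := two hA a
    obtain ⟨j', hj', hb⟩ := two hB (hn.1 a)
    have hj0 : j ≠ some 0 := fun e => b (by rw [ha, e]; simp)
    have hj0' : j' ≠ some 0 := fun e => b (h0.2 (by rw [hb, e]; simp))
    obtain ⟨g, hg⟩ := exists_M24_map_points (k := 3) (by norm_num)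
      (a := ![none, some 0, j]) (b := ![none, some 0, j'])
      (by intro x y; fin_cases x <;> fin_cases y <;> simp [hj, hj0, hj.symm, hj0.symm])
      (by intro x y; fin_cases x <;> fin_cases y <;> simp [hj', hj0', hj'.symm, hj0'.symm])
    exact ⟨g, hg 0, hg 1, fin ha hb (hg 0) (hg 2)⟩
  · obtain ⟨j, hj, ha⟩ := two hA b
    obtain ⟨j', hj', hb⟩ := two hB (h0.1 b)
    have hjn : j ≠ none := fun e => a (by rw [ha, e]; simp)
    have hjn' : j' ≠ none := fun e => a (hn.2 (by rw [hb, e]; simp))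
    obtain ⟨g, hg⟩ := exists_M24_map_points (k := 3) (by norm_num)
      (a := ![none, some 0, j]) (b := ![none, some 0, j'])
      (by intro x y; fin_cases x <;> fin_cases y <;> simp [hj, hjn, hj.symm, hjn.symm])
      (by intro x y; fin_cases x <;> fin_cases y <;> simp [hj', hjn', hj'.symm, hjn'.symm])
    exact ⟨g, hg 0, hg 1, fin ha hb (hg 1) (hg 2)⟩
  · obtain ⟨i, j, hij, ha⟩ := Finset.card_eq_two.1 hA
    obtain ⟨i', j', hij', hb⟩ := Finset.card_eq_two.1 hB
    have nb : none ∉ B := fun h => a (hn.2 h)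
    have ob : some 0 ∉ B := fun h => b (h0.2 h)
    simp only [ha, hb, Finset.mem_insert, Finset.mem_singleton, not_or] at a b nb ob
    obtain ⟨g, hg⟩ := exists_M24_map_points (k := 4) (by norm_num)
      (a := ![none, some 0, i, j]) (b := ![none, some 0, i', j'])
      (by intro x y; fin_cases x <;> fin_cases y <;>
        simp [hij, hij.symm, a.1, a.2, b.1, b.2, Ne.symm a.1, Ne.symm a.2, Ne.symm b.1, Ne.symm b.2])
      (by intro x y; fin_cases x <;> fin_cases y <;>
        simp [hij', hij'.symm, nb.1, nb.2, ob.1, ob.2, Ne.symm nb.1, Ne.symm nb.2, Ne.symm ob.1,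
          Ne.symm ob.2])
    exact ⟨g, hg 0, hg 1, fin ha hb (hg 2) (hg 3)⟩

lemma exists_octad_map {A B : Finset GolayPt} (hA : A ∈ octads) (hB : B ∈ octads)
    (hn : none ∈ A ↔ none ∈ B) (h0 : some 0 ∈ A ↔ some 0 ∈ B) :
    ∃ g : M24, g.1 none = none ∧ g.1 (some 0) = some 0 ∧ ∀ q, g.1 q ∈ B ↔ q ∈ A := by
  have hne : (none : GolayPt) ≠ some 0 := by simp
  obtain ⟨g, hg, g1, g2⟩ : ∃ g : M24, g • A = B ∧ g.1 none = none ∧ g.1 (some 0) = some 0 := by
    by_cases a : none ∈ A <;> by_cases b : some 0 ∈ A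
    · exact exists_map_octad_in_in hA hB a b hne (hn.1 a) (h0.1 b) hne
    · exact exists_map_octad_in_out hA hB a b (hn.1 a) (mt h0.2 b)
    · obtain ⟨g, h, x, y⟩ := exists_map_octad_in_out hA hB b a (h0.1 b) (mt hn.2 a)
      exact ⟨g, h, y, x⟩
    · exact exists_map_octad_out_out hA hB a b hne (mt hn.2 a) (mt h0.2 b) hne
  exact ⟨g, g1, g2, fun q => hg ▸ Finset.smul_mem_smul_finset_iff g⟩

lemma min_support {x : GolayPt → ℤ} (hx : x ∈ leechLattice) (hn : sqNorm x = 32) :
    ((suppVec x).card = 2 ∧ ∀ l, l ∈ suppVec x → x l = 4 ∨ x l = -4) ∨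
    ((suppVec x).card = 8 ∧ suppVec x ∈ octads ∧ ∀ l, l ∈ suppVec x → x l = 2 ∨ x l = -2) ∨
    ((suppVec x).card = 24 ∧ ∃ i, (x i = 3 ∨ x i = -3) ∧ ∀ l, l ≠ i → x l = 1 ∨ x l = -1) := by
  rcases min_shape hx hn with ⟨i, j, hij, hi, hj, h0⟩ | ⟨o, ho, h1, h2⟩ | ⟨i, hi, h1⟩
  · left
    have e : suppVec x = {i, j} := by
      ext l
      simp only [suppVec, Finset.mem_filter, Finset.mem_univ, true_and, Finset.mem_insert,
        Finset.mem_singleton]
      by_cases a : l = i
      · subst a; simp only [true_or, iff_true]; omega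
      by_cases b : l = j
      · subst b; simp only [or_true, iff_true]; omega
      simp [a, b, h0 l a b]
    rw [e]
    refine ⟨Finset.card_pair hij, fun l hl => ?_⟩
    simp only [Finset.mem_insert, Finset.mem_singleton] at hl
    rcases hl with rfl | rfl
    exacts [hi, hj]
  · right; left
    have e : suppVec x = o := by
      ext l
      simp only [suppVec, Finset.mem_filter, Finset.mem_univ, true_and]
      by_cases a : l ∈ o
      · simp only [a, iff_true]; have := h1 l a; omega
      · simp [a, h2 l a]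
    rw [e]; exact ⟨ho.2, ho, h1⟩
  · right; right
    refine ⟨?_, i, hi, h1⟩
    rw [suppVec, Finset.filter_true_of_mem]
    · rfl
    · intro l _
      rcases eq_or_ne l i with rfl | h
      · omega
      · have := h1 l h; omega

theorem mono_of_key {w r : leechLattice} (hw : sqNorm w.1 = 32) (hr : sqNorm r.1 = 32)
    (hs : signsOK r.1 = true) (hk : keyVec w.1 = keyVec r.1) :
    ∃ k ∈ fixA, IsMono k ∧ k • w = r := by
  simp only [keyVec, Prod.mk.injEq] at hk
  obtain ⟨hP, hQ, hcard⟩ := hk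
  have memN : none ∈ suppVec w.1 ↔ none ∈ suppVec r.1 := by simp [suppVec, hP]
  have mem0 : some 0 ∈ suppVec w.1 ↔ some 0 ∈ suppVec r.1 := by simp [suppVec, hQ]
  -- even shapes
  have even : (suppVec r.1).card ≠ 24 → ∀ g : M24, g.1 none = none → g.1 (some 0) = some 0 →
      (∀ q, g.1 q ∈ suppVec r.1 ↔ q ∈ suppVec w.1) → ∀ k : ℤ,
      (∀ l ∈ suppVec w.1, w.1 l = k ∨ w.1 l = -k) → (∀ l ∈ suppVec r.1, r.1 l = k ∨ r.1 l = -k) →
      (suppVec r.1).card = 2 ∨ k = 2 → ∃ k ∈ fixA, IsMono k ∧ k • w = r := by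
    intro h24 g g1 g2 hg k hwk hrk hcase
    set w' := permAut g • w with hw'
    have hv : ∀ q, w'.1 (g.1 q) = w.1 q := permAut_apply g w
    have habs : ∀ l, r.1 l = w'.1 l ∨ r.1 l = -w'.1 l := by
      intro l
      obtain ⟨q, rfl⟩ : ∃ q, g.1 q = l := ⟨g.1.symm l, g.1.apply_symm_apply l⟩
      rw [hv]
      by_cases hq : q ∈ suppVec w.1
      · have := hwk q hq; have := hrk _ ((hg q).2 hq); omega
      · have a : w.1 q = 0 := by simpa [suppVec] using hq
        have b : r.1 (g.1 q) = 0 := by simpa [suppVec] using mt (hg q).1 hq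
        omega
    set s := (suppVec r.1).filter fun l => r.1 l ≠ w'.1 l with hsdef
    have hsP : none ∉ s := by
      simp only [hsdef, Finset.mem_filter, not_and, not_not]
      intro _; rw [← hP, ← hv, g1]
    have hsQ : some 0 ∉ s := by
      simp only [hsdef, Finset.mem_filter, not_and, not_not]
      intro _; rw [← hQ, ← hv, g2]
    have hsub : maskOf s &&& maskOf (suppVec r.1) = maskOf s := by
      refine ptSet_injOn (and_lt_full (maskOf_lt s)) (maskOf_lt s) ?_
      rw [ptSet_and, ptSet_maskOf, ptSet_maskOf, Finset.inter_eq_left]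
      exact Finset.filter_subset _ _
    rw [signsOK, Bool.or_eq_true, beq_iff_eq, List.all_eq_true] at hs
    have h := hs.resolve_left h24 _ (mem_spanList_bits (maskOf_lt _) hsub)
    have hb : (maskOf s).testBit 23 = false ∧ (maskOf s).testBit 0 = false := by
      constructor <;> rw [Bool.eq_false_iff]
      · intro e; apply hsP
        rw [← ptSet_maskOf s, mem_ptSet]; exact e
      · intro e; apply hsQ
        rw [← ptSet_maskOf s, mem_ptSet]; exact e
    rw [hb.1, hb.2, popCnt_maskOf] at h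
    simp only [Bool.false_or, Bool.or_eq_true, Bool.and_eq_true, beq_iff_eq] at h
    have hodd : ¬ ((suppVec r.1).card = 8 ∧ s.card % 2 = 1) := by
      rintro ⟨h8, hodd⟩
      have hk2 : k = 2 := hcase.resolve_left (by omega)
      subst hk2
      have hmem := (r - w').2
      obtain ⟨m, h1, h2, -⟩ := mem_leech_iff.1 hmem
      have hterm : ∀ l, (r - w').1 l = (if l ∈ s then 4 else 0) -
          8 * (if l ∈ s ∧ r.1 l = -2 then 1 else 0) := by
        intro l
        rw [AddSubgroup.coe_sub, Pi.sub_apply]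
        by_cases hl : l ∈ suppVec r.1
        · have := hrk l hl
          rcases habs l with e | e
          · rw [if_neg (by simp [hsdef, e]), if_neg (by simp [hsdef, e])]; omega
          · have hne : r.1 l ≠ w'.1 l := by omega
            rw [if_pos (Finset.mem_filter.2 ⟨hl, hne⟩)]
            rcases this with f | f
            · rw [if_neg (by simp [f])]; omega
            · rw [if_pos ⟨Finset.mem_filter.2 ⟨hl, hne⟩, f⟩]; omega
        · have e : r.1 l = 0 := by simpa [suppVec] using hl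
          have := habs l
          rw [if_neg (by simp [hsdef, hl]), if_neg (by simp [hsdef, hl])]; omega
      have hsum : (∑ l, (r - w').1 l) % 8 = 4 * (s.card : ℤ) % 8 := by
        rw [Finset.sum_congr rfl fun l _ => hterm l, Finset.sum_sub_distrib, ← Finset.mul_sum,
          Finset.sum_ite_mem, Finset.univ_inter, Finset.sum_const, nsmul_eq_mul]
        omega
      have hm0 := h1 none
      rw [hterm none, if_neg hsP, if_neg (fun h => hsP h.1)] at hm0
      omega
    obtain ⟨m, hm, hmb⟩ := List.any_eq_true.1 (h.resolve_left hodd)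
    simp only [Bool.and_eq_true, Bool.not_eq_true', beq_iff_eq] at hmb
    obtain ⟨⟨m23, m0⟩, hmand⟩ := hmb
    have hcs : ptSet m ∩ suppVec r.1 = s := by
      rw [← ptSet_maskOf (suppVec r.1), ← ptSet_and, hmand, ptSet_maskOf]
    refine mono_of_code g g1 g2 ((ptSet_mem_supports_iff (codeList_lt hm)).2 hm)
      (by rw [mem_ptSet, show idx none = 23 from rfl, m23]; simp)
      (by rw [mem_ptSet, show idx (some 0) = 0 from rfl, m0]; simp) fun l => ?_
    rw [← hw']
    by_cases hl : l ∈ suppVec r.1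
    · have hiff : l ∈ ptSet m ↔ r.1 l ≠ w'.1 l := by
        have : l ∈ ptSet m ∩ suppVec r.1 ↔ l ∈ s := by rw [hcs]
        simpa [hsdef, hl] using this
      have := habs l
      split <;> rename_i hlc <;> rw [hiff] at hlc <;> omega
    · have e : r.1 l = 0 := by simpa [suppVec] using hl
      have := habs l
      split <;> omega
  rcases min_support w.2 hw with ⟨cw, hw4⟩ | ⟨cw, how, hw2⟩ | ⟨cw, i, hi, hi1⟩ <;>
    rcases min_support r.2 hr with ⟨cr, hr4⟩ | ⟨cr, hor, hr2⟩ | ⟨cr, i', hi', hi1'⟩ <;>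
    try omega
  · obtain ⟨g, g1, g2, hg⟩ := exists_pair_map cw cr memN mem0
    exact even (by omega) g g1 g2 hg 4 hw4 hr4 (Or.inl cr)
  · obtain ⟨g, g1, g2, hg⟩ := exists_octad_map how hor memN mem0
    exact even (by omega) g g1 g2 hg 2 hw2 hr2 (Or.inr rfl)
  · -- odd shape
    obtain ⟨g, g1, g2, hgi⟩ : ∃ g : M24, g.1 none = none ∧ g.1 (some 0) = some 0 ∧ g.1 i = i' := by
      have three : ∀ (x : GolayPt → ℤ) j, (x j = 3 ∨ x j = -3) →
          (∀ l, l ≠ j → x l = 1 ∨ x l = -1) → ∀ l, (j = l ↔ (x l = 3 ∨ x l = -3)) := by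
        intro x j a b l
        refine ⟨fun e => e ▸ a, fun e => ?_⟩
        by_contra hne
        have := b l (Ne.symm hne); omega
      have e1 : i = none ↔ i' = none := by
        rw [three _ _ hi hi1, three _ _ hi' hi1', hP]
      have e2 : i = some 0 ↔ i' = some 0 := by
        rw [three _ _ hi hi1, three _ _ hi' hi1', hQ]
      by_cases a : i = none
      · exact ⟨1, rfl, rfl, by rw [a, e1.1 a]; rfl⟩
      by_cases b : i = some 0
      · exact ⟨1, rfl, rfl, by rw [b, e2.1 b]; rfl⟩
      have a' := mt e1.2 a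
      have b' := mt e2.2 b
      obtain ⟨g, hg⟩ := exists_M24_map_points (k := 3) (by norm_num)
        (a := ![none, some 0, i]) (b := ![none, some 0, i'])
        (by intro x y; fin_cases x <;> fin_cases y <;> simp [a, b, Ne.symm a, Ne.symm b])
        (by intro x y; fin_cases x <;> fin_cases y <;> simp [a', b', Ne.symm a', Ne.symm b'])
      exact ⟨g, hg 0, hg 1, hg 2⟩
    set w' := permAut g • w with hw'
    have hv : ∀ q, w'.1 (g.1 q) = w.1 q := permAut_apply g w
    obtain ⟨-, -, -, h3⟩ := mem_leech_iff.1 w'.2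
    obtain ⟨-, -, -, h3'⟩ := mem_leech_iff.1 r.2
    have vN : w'.1 none = r.1 none := by rw [← hP, ← hv, g1]
    have v0 : w'.1 (some 0) = r.1 (some 0) := by rw [← hQ, ← hv, g2]
    refine mono_of_code g g1 g2
      (symmDiff_mem_supports (support₂_mem_supports_iff.2 h3) (support₂_mem_supports_iff.2 h3'))
      (by simp [Finset.mem_symmDiff, mem_support₂, digitWord, ← hw', vN])
      (by simp [Finset.mem_symmDiff, mem_support₂, digitWord, ← hw', v0]) fun l => ?_
    rw [← hw']
    have hval : (w'.1 l = 3 ∨ w'.1 l = -3) ∧ (r.1 l = 3 ∨ r.1 l = -3) ∨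
        (w'.1 l = 1 ∨ w'.1 l = -1) ∧ (r.1 l = 1 ∨ r.1 l = -1) := by
      obtain ⟨q, rfl⟩ : ∃ q, g.1 q = l := ⟨g.1.symm l, g.1.apply_symm_apply l⟩
      rw [hv]
      rcases eq_or_ne q i with rfl | hq
      · exact Or.inl ⟨hi, hgi ▸ hi'⟩
      · exact Or.inr ⟨hi1 q hq, hi1' _ fun e => hq (g.1.injective (e.trans hgi.symm))⟩
    rcases hval with ⟨a | a, b | b⟩ | ⟨a | a, b | b⟩ <;>
      simp [Finset.mem_symmDiff, mem_support₂, digitWord, zmod2_eq_iff, a, b] <;> decide

theorem orbit_of_key {w r : leechLattice} (hw : sqNorm w.1 = 32) (hr : sqNorm r.1 = 32)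
    (hs : signsOK r.1 = true) (hk : keyVec w.1 = keyVec r.1) : w ∈ MulAction.orbit fixA r := by
  obtain ⟨k, hk', -, h⟩ := mono_of_key hw hr hs hk
  refine MulAction.mem_orbit_symm.1 ⟨⟨k, hk'⟩, ?_⟩
  exact h

end Cfsg.Agent.Golay
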