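import Cfsg.Agent.Golay.PairOrbit

/-!
The stabiliser of a minimal vector is transitive on minimal vectors with a given inner product.
-/

set_option autoImplicit false

namespace Cfsg.Agent.Golay

open Cfsg
open scoped Pointwise

/-- The permutation used after the sextet automorphism. -/
def etaTbl : ℕ := 649913743668542114324848162458043118

/-- Its inverse. -/
def etaTblInv : ℕ := 52803530930095711487270219660306882

/-- Roots for orthogonal. -/
def rootsZero : List (List ℤ) :=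
  [[-4, 0, 0, 0, 0, 0, 0, 0, 0, 0, 0, 0, 0, 0, 0, 0, 0, 0, 0, 0, 0, 0, 0, 4],
   [4, 0, 0, 0, 0, 0, 0, 0, 0, 0, 0, 0, 0, 0, 0, 0, 0, 0, 0, 0, 0, 0, 0, -4]]

/-- Linked representatives for orthogonal. -/
def chainZero : List (List ℤ) :=
  [[1, -1, 1, 3, 1, -1, -1, -1, 1, 1, 1, -1, -1, 1, 1, 1, 1, 1, 1, 1, 1, 1, 1, -1],
   [-1, 3, -1, -1, -1, 1, 1, -1, 1, 1, -1, 1, -1, 1, 1, 1, 1, 1, 1, 1, 1, 1, 1, 1],
   [2, 0, 0, -2, 0, 0, 0, 0, 0, 2, 2, 2, 2, 0, 2, 0, 0, 0, 0, 0, 0, 0, 0, -2],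
   [-2, 0, 0, -2, 0, 0, 0, 0, 0, 2, 2, 2, 2, 0, 2, 0, 0, 0, 0, 0, 0, 0, 0, 2],
   [0, 0, 0, -2, 0, 2, 0, 0, -2, 0, 0, 2, 2, 0, 2, 0, 0, 2, 2, 0, 0, 0, 0, 0],
   [0, 4, -4, 0, 0, 0, 0, 0, 0, 0, 0, 0, 0, 0, 0, 0, 0, 0, 0, 0, 0, 0, 0, 0]]

/-- Roots for inner product −16. -/
def rootsFour : List (List ℤ) :=
  [[-2, 0, 2, 0, 2, 2, 2, 0, 0, 0, 2, 2, 0, 0, 0, 0, 0, 0, 0, 0, 0, 0, 0, -2]]

/-- Linked representatives for inner product −16. -/
def chainFour : List (List ℤ) :=
  [[-3, 1, -1, 1, -1, 1, -1, -1, -1, 1, 1, 1, -1, -1, 1, 1, 1, 1, 1, 1, 1, 1, 1, -1],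
   [-1, -1, -1, -1, -1, 1, 1, -1, 1, 1, -1, 1, -1, 1, 1, 1, 1, 1, 1, 1, 1, 1, 1, -3],
   [0, -4, 0, 0, 0, 0, 0, 0, 0, 0, 0, 0, 0, 0, 0, 0, 0, 0, 0, 0, 0, 0, 0, -4],
   [-4, 0, 0, 4, 0, 0, 0, 0, 0, 0, 0, 0, 0, 0, 0, 0, 0, 0, 0, 0, 0, 0, 0, 0]]

/-- Roots for inner product −8. -/
def rootsTwo : List (List ℤ) :=
  [[-1, -3, -1, 1, -1, -1, -1, 1, 1, 1, -1, -1, 1, 1, 1, 1, 1, 1, 1, 1, 1, 1, 1, -1]]

/-- Linked representatives for inner product −8. -/
def chainTwo : List (List ℤ) :=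
  [[1, 1, 1, 1, 1, 1, 1, 1, 1, 1, 1, 1, 1, 1, 1, 1, 1, 1, 1, 1, 1, 1, 1, -3],
   [-3, 1, 1, 1, 1, 1, 1, 1, 1, 1, 1, 1, 1, 1, 1, 1, 1, 1, 1, 1, 1, 1, 1, 1],
   [0, -2, 0, 2, 0, 2, 2, 2, 0, 0, 0, 2, 2, 0, 0, 0, 0, 0, 0, 0, 0, 0, 0, -2],
   [-2, 2, 2, -2, 2, 0, 0, 2, 0, 0, 2, 0, 2, 0, 0, 0, 0, 0, 0, 0, 0, 0, 0, 0]]

/-- A vector given by its list of coordinates. -/
def vecOf (L : List ℤ) : GolayPt → ℤ := fun p => L.getD (idx p) 0

lemma eta_facts : inM24 etaTbl = true ∧
    (∀ l : GolayPt, tblFun etaTbl (tblFun etaTblInv l) = l) ∧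
    ∀ l : GolayPt, -zetaFun repFour (tblFun etaTblInv l) = repFour l := by
  decide +kernel

/-- A sextet automorphism moved so as to fix the reference vector. -/
noncomputable def etaAut : Co0 :=
  signAut ⟨Finset.univ, univ_mem_supports⟩ * permAut ⟨mkPerm etaTbl, mem_M24_of_inM24 eta_facts.1⟩
    * zeta

/-- The action of `etaAut` on coordinates. -/
def etaFun (x : GolayPt → ℤ) : GolayPt → ℤ := fun l => -zetaFun x (tblFun etaTblInv l)

lemma etaAut_apply (v : leechLattice) :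
    ((etaAut • v : leechLattice) : GolayPt → ℤ) = etaFun v.1 := by
  funext l
  rw [etaAut, mul_smul, mul_smul, signAut_apply, if_pos (Finset.mem_univ l)]
  have h := permAut_apply ⟨mkPerm etaTbl, mem_M24_of_inM24 eta_facts.1⟩ (zeta • v)
    (tblFun etaTblInv l)
  have hp : mkPerm etaTbl (tblFun etaTblInv l) = l := by
    rw [mkPerm_apply (validT_of_inM24 eta_facts.1)]; exact eta_facts.2.1 l
  rw [hp] at h
  rw [h, zeta_apply]
  rfl

lemma etaAut_mem : etaAut ∈ fixA := by
  show etaAut • repA = repA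
  refine Subtype.ext (funext fun l => ?_)
  rw [etaAut_apply]
  exact eta_facts.2.2 l

/-- A usable representative. -/
def repOK (L : List ℤ) : Bool :=
  inLeech (vecOf L) && decide (sqNorm (vecOf L) = 32) && signsOK (vecOf L)

/-- Each representative is carried to the key of an earlier one. -/
def linksOK (roots : List (List ℤ)) : List (List ℤ) → Bool
  | [] => roots.all repOK
  | L :: rest => repOK L &&
      ((roots ++ rest).any fun M => decide (keyVec (etaFun (vecOf L)) = keyVec (vecOf M))) &&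
        linksOK roots rest

lemma linksOK_spec (roots : List (List ℤ)) : ∀ (chain : List (List ℤ)),
    linksOK roots chain = true → ∀ L ∈ roots ++ chain,
      repOK L = true ∧ ∀ x : leechLattice, x.1 = vecOf L →
        ∃ M ∈ roots, ∃ z : leechLattice, z.1 = vecOf M ∧ x ∈ MulAction.orbit fixA z
  | [], h, L, hL => by
    rw [List.append_nil] at hL
    exact ⟨List.all_eq_true.1 h L hL, fun x hx => ⟨L, hL, x, hx, MulAction.mem_orbit_self x⟩⟩
  | C :: rest, h, L, hL => by
    simp only [linksOK, Bool.and_eq_true, List.any_eq_true, decide_eq_true_eq] at h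
    obtain ⟨⟨hC, M, hM, hkey⟩, hrest⟩ := h
    have ih := linksOK_spec roots rest hrest
    rcases List.mem_append.1 hL with hL | hL
    · exact ih L (List.mem_append.2 (Or.inl hL))
    rcases List.mem_cons.1 hL with rfl | hL
    swap
    · exact ih L (List.mem_append.2 (Or.inr hL))
    refine ⟨hC, fun x hx => ?_⟩
    obtain ⟨hM', hMo⟩ := ih M hM
    simp only [repOK, Bool.and_eq_true, decide_eq_true_eq] at hM' hC
    set m : leechLattice := ⟨vecOf M, mem_of_inLeech hM'.1.1⟩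
    obtain ⟨R, hR, z, hz, hmz⟩ := hMo m rfl
    have hy : etaAut • x ∈ MulAction.orbit fixA m := by
      refine orbit_of_key ?_ hM'.1.2 hM'.2 ?_
      · rw [co0_sqNorm, hx, hC.1.2]
      · rw [etaAut_apply, hx]; exact hkey
    refine ⟨R, hR, z, hz, ?_⟩
    have h1 : (⟨etaAut, etaAut_mem⟩ : fixA) • x ∈ MulAction.orbit fixA z := by
      rw [← MulAction.orbit_eq_iff.2 hmz]; exact hy
    have h2 := MulAction.mem_orbit_of_mem_orbit (⟨etaAut, etaAut_mem⟩ : fixA)⁻¹ h1
    rwa [inv_smul_smul] at h2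

lemma links_ok : linksOK rootsZero chainZero = true ∧ linksOK rootsFour chainFour = true ∧
    linksOK rootsTwo chainTwo = true := by
  decide +kernel

lemma dot_repA (w : GolayPt → ℤ) : dotInt repA.1 w = 4 * (w none + w (some 0)) := by
  show ∑ l, repFour l * w l = _
  rw [Finset.sum_congr rfl (g := fun l => (if l = none then 4 * w none else 0) +
    (if l = some 0 then 4 * w (some 0) else 0)) (fun l _ => by
      unfold repFour
      rcases eq_or_ne l none with rfl | a
      · simp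
      · rcases eq_or_ne l (some 0) with rfl | b
        · simp
        · simp [a, b]), Finset.sum_add_distrib, Finset.sum_ite_eq', Finset.sum_ite_eq']
  simp only [Finset.mem_univ, if_true]
  ring

/-- Reduction of any vector with a listed key to a root. -/
lemma orbit_root {roots chain : List (List ℤ)} (hok : linksOK roots chain = true)
    {w : leechLattice} (hw : sqNorm w.1 = 32)
    (hk : ∃ L ∈ roots ++ chain, keyVec w.1 = keyVec (vecOf L)) :
    ∃ M ∈ roots, ∃ z : leechLattice, z.1 = vecOf M ∧ w ∈ MulAction.orbit fixA z := by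
  obtain ⟨L, hL, hkey⟩ := hk
  obtain ⟨hrep, hLo⟩ := linksOK_spec roots chain hok L hL
  simp only [repOK, Bool.and_eq_true, decide_eq_true_eq] at hrep
  set r : leechLattice := ⟨vecOf L, mem_of_inLeech hrep.1.1⟩
  obtain ⟨M, hM, z, hz, hr⟩ := hLo r rfl
  refine ⟨M, hM, z, hz, ?_⟩
  rw [← MulAction.orbit_eq_iff.2 hr]
  exact orbit_of_key hw hrep.1.2 hrep.2 hkey

/-- Keys allowed for a given sum of the two reference values. -/
def keysFor (d : ℤ) : List (ℤ × ℤ × ℕ) :=
  [((2 : ℕ), [(0 : ℤ), 4, -4]), (8, [0, 2, -2]), (24, [1, -1, 3, -3])].flatMap fun sv =>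
    (sv.2.flatMap fun a => sv.2.map fun b => (a, b, sv.1)).filter fun k =>
      k.1 + k.2.1 == d && !(decide (3 ≤ k.1.natAbs ∧ 3 ≤ k.2.1.natAbs) && sv.1 == 24)

lemma key_mem_keysFor {w : leechLattice} (hw : sqNorm w.1 = 32) {d : ℤ}
    (hd : w.1 none + w.1 (some 0) = d) : keyVec w.1 ∈ keysFor d := by
  simp only [keysFor, List.mem_flatMap, List.mem_filter, List.mem_map, Bool.and_eq_true,
    beq_iff_eq, Bool.not_eq_true', keyVec]
  have val : ∀ l, l ∉ suppVec w.1 → w.1 l = 0 := fun l hl => by simpa [suppVec] using hl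
  rcases min_support w.2 hw with ⟨c, h⟩ | ⟨c, -, h⟩ | ⟨c, i, hi, h1⟩
  · refine ⟨(2, [0, 4, -4]), by simp, ⟨w.1 none, ?_, w.1 (some 0), ?_, ?_⟩, hd, by simp [c]⟩
    · by_cases a : none ∈ suppVec w.1
      · rcases h _ a with e | e <;> simp [e]
      · simp [val _ a]
    · by_cases a : some 0 ∈ suppVec w.1
      · rcases h _ a with e | e <;> simp [e]
      · simp [val _ a]
    · simp [c]
  · refine ⟨(8, [0, 2, -2]), by simp, ⟨w.1 none, ?_, w.1 (some 0), ?_, ?_⟩, hd, by simp [c]⟩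
    · by_cases a : none ∈ suppVec w.1
      · rcases h _ a with e | e <;> simp [e]
      · simp [val _ a]
    · by_cases a : some 0 ∈ suppVec w.1
      · rcases h _ a with e | e <;> simp [e]
      · simp [val _ a]
    · simp [c]
  · have v : ∀ l, w.1 l = 1 ∨ w.1 l = -1 ∨ w.1 l = 3 ∨ w.1 l = -3 := fun l => by
      rcases eq_or_ne l i with rfl | e
      · rcases hi with a | a <;> simp [a]
      · rcases h1 l e with a | a <;> simp [a]
    refine ⟨(24, [1, -1, 3, -3]), by simp, ⟨w.1 none, ?_, w.1 (some 0), ?_, ?_⟩, hd, ?_⟩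
    · rcases v none with e | e | e | e <;> simp [e]
    · rcases v (some 0) with e | e | e | e <;> simp [e]
    · simp [c]
    · by_cases e : i = none
      · have := h1 (some 0) (by simp [e])
        simp only [Bool.and_eq_false_iff, decide_eq_false_iff_not]
        exact Or.inl (by omega)
      · have := h1 none (Ne.symm e)
        simp only [Bool.and_eq_false_iff, decide_eq_false_iff_not]
        exact Or.inl (by omega)

lemma keys_covered :
    ((keysFor 0).all fun k => (rootsZero ++ chainZero).any fun L => decide (k = keyVec (vecOf L))) = true ∧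
    ((keysFor (-4)).all fun k => (rootsFour ++ chainFour).any fun L => decide (k = keyVec (vecOf L))) = true ∧
    ((keysFor (-2)).all fun k => (rootsTwo ++ chainTwo).any fun L => decide (k = keyVec (vecOf L))) = true ∧
    (∀ l : GolayPt, vecOf (rootsZero.getD 1 []) l = -vecOf (rootsZero.getD 0 []) l) := by
  decide +kernel

lemma orbit_by_dot {roots chain : List (List ℤ)} {d : ℤ} (hok : linksOK roots chain = true)
    (hcov : ((keysFor d).all fun k => (roots ++ chain).any fun L => decide (k = keyVec (vecOf L))) = true)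
    {w : leechLattice} (hw : sqNorm w.1 = 32) (hd : dotInt repA.1 w.1 = 4 * d) :
    ∃ M ∈ roots, ∃ z : leechLattice, z.1 = vecOf M ∧ w ∈ MulAction.orbit fixA z := by
  refine orbit_root hok hw ?_
  rw [dot_repA] at hd
  obtain ⟨L, hL, h⟩ := List.any_eq_true.1
    (List.all_eq_true.1 hcov _ (key_mem_keysFor hw (show _ = d by omega)))
  exact ⟨L, hL, of_decide_eq_true h⟩

lemma transport_base {v w w' : leechLattice} (hv : sqNorm v.1 = 32)
    (P : leechLattice → leechLattice → Prop)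
    (base : ∀ a b : leechLattice, sqNorm a.1 = 32 → sqNorm b.1 = 32 →
      dotInt repA.1 a.1 = dotInt v.1 w.1 → dotInt repA.1 b.1 = dotInt v.1 w'.1 →
      ∃ g ∈ fixA, P (g • a) b)
    (hP : ∀ (k : Co0) a b, P a b → P (k • a) (k • b))
    (hw : sqNorm w.1 = 32) (hw' : sqNorm w'.1 = 32) :
    ∃ g : Co0, g • v = v ∧ P (g • w) w' := by
  obtain ⟨k, hk⟩ := co0_transitive_min v repA hv (by decide +kernel)
  obtain ⟨g, hg, hgP⟩ := base (k • w) (k • w') (by rw [co0_sqNorm, hw]) (by rw [co0_sqNorm, hw'])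
    (by rw [← hk, co0_dot]) (by rw [← hk, co0_dot])
  refine ⟨k⁻¹ * g * k, ?_, ?_⟩
  · rw [mul_smul, mul_smul, hk, show g • repA = repA from hg, ← hk, inv_smul_smul]
  · have := hP k⁻¹ _ _ hgP
    rwa [inv_smul_smul, ← mul_smul, ← mul_smul] at this

lemma same_root {a b : leechLattice} {M : List ℤ} {z z' : leechLattice} (hz : z.1 = vecOf M)
    (hz' : z'.1 = vecOf M) (ha : a ∈ MulAction.orbit fixA z) (hb : b ∈ MulAction.orbit fixA z') :
    ∃ g ∈ fixA, g • a = b := by
  obtain rfl : z = z' := Subtype.ext (hz.trans hz'.symm)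
  obtain ⟨x, rfl⟩ := ha
  obtain ⟨y, rfl⟩ := hb
  refine ⟨(y * x⁻¹ : fixA).1, (y * x⁻¹).2, ?_⟩
  show (y * x⁻¹) • x • z = y • z
  rw [mul_smul, inv_smul_smul]

theorem min_trans_single {roots chain : List (List ℤ)} {d : ℤ} (hone : roots.length = 1)
    (hok : linksOK roots chain = true)
    (hcov : ((keysFor d).all fun k => (roots ++ chain).any fun L => decide (k = keyVec (vecOf L))) = true)
    {v w w' : leechLattice} (hv : sqNorm v.1 = 32) (hw : sqNorm w.1 = 32) (hw' : sqNorm w'.1 = 32)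
    (hd : dotInt v.1 w.1 = 4 * d) (hd' : dotInt v.1 w'.1 = 4 * d) :
    ∃ g : Co0, g • v = v ∧ g • w = w' := by
  obtain ⟨M₀, rfl⟩ := List.length_eq_one_iff.1 hone
  refine transport_base hv (fun a b => a = b) ?_ (fun k a b h => congrArg (k • ·) h) hw hw'
  intro a b ha hb da db
  obtain ⟨M, hM, z, hz, haz⟩ := orbit_by_dot hok hcov ha (da.trans hd)
  obtain ⟨M', hM', z', hz', hbz⟩ := orbit_by_dot hok hcov hb (db.trans hd')
  rw [List.mem_singleton.1 hM] at hz
  rw [List.mem_singleton.1 hM'] at hz'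
  exact same_root hz hz' haz hbz

theorem min_trans_sixteen {v w w' : leechLattice} (hv : sqNorm v.1 = 32) (hw : sqNorm w.1 = 32)
    (hw' : sqNorm w'.1 = 32) (hd : dotInt v.1 w.1 = -16) (hd' : dotInt v.1 w'.1 = -16) :
    ∃ g : Co0, g • v = v ∧ g • w = w' :=
  min_trans_single rfl links_ok.2.1 keys_covered.2.1 hv hw hw' (hd.trans rfl) (hd'.trans rfl)

theorem min_trans_eight {v w w' : leechLattice} (hv : sqNorm v.1 = 32) (hw : sqNorm w.1 = 32)
    (hw' : sqNorm w'.1 = 32) (hd : dotInt v.1 w.1 = -8) (hd' : dotInt v.1 w'.1 = -8) :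
    ∃ g : Co0, g • v = v ∧ g • w = w' :=
  min_trans_single rfl links_ok.2.2 keys_covered.2.2.1 hv hw hw' (hd.trans rfl) (hd'.trans rfl)

theorem min_trans_zero {v w w' : leechLattice} (hv : sqNorm v.1 = 32) (hw : sqNorm w.1 = 32)
    (hw' : sqNorm w'.1 = 32) (hd : dotInt v.1 w.1 = 0) (hd' : dotInt v.1 w'.1 = 0) :
    ∃ g : Co0, g • v = v ∧ (g • w = w' ∨ g • w = -w') := by
  refine transport_base hv (fun a b => a = b ∨ a = -b) ?_ ?_ hw hw'
  · intro a b ha hb da db
    obtain ⟨M, hM, z, hz, haz⟩ := orbit_by_dot links_ok.1 keys_covered.1 (d := 0) ha (da.trans hd)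
    obtain ⟨M', hM', z', hz', hbz⟩ := orbit_by_dot links_ok.1 keys_covered.1 (d := 0) hb (db.trans hd')
    have hneg := keys_covered.2.2.2
    have hbn : -b ∈ MulAction.orbit fixA (-z') := by
      obtain ⟨y, rfl⟩ := hbz
      exact ⟨y, co0_smul_neg y.1 z'⟩
    rcases eq_or_ne M M' with rfl | hne
    · obtain ⟨g, hg, he⟩ := same_root hz hz' haz hbz
      exact ⟨g, hg, Or.inl he⟩
    · have hnz : (-z').1 = vecOf M := by
        funext l
        rw [AddSubgroup.coe_neg, Pi.neg_apply, hz']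
        have h' := hneg l
        simp only [rootsZero, List.mem_cons, List.mem_nil_iff, or_false] at hM hM'
        simp only [rootsZero, List.getD_cons_succ, List.getD_cons_zero] at h'
        rcases hM with rfl | rfl <;> rcases hM' with rfl | rfl
        · exact absurd rfl hne
        · omega
        · omega
        · exact absurd rfl hne
      obtain ⟨g, hg, he⟩ := same_root hz hnz haz hbn
      exact ⟨g, hg, Or.inr he⟩
  · rintro k a b (rfl | rfl)
    · exact Or.inl rfl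
    · exact Or.inr (co0_smul_neg k b)

end Cfsg.Agent.Golay
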