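import Cfsg.Agent.H95.Plane21Ovals
import Cfsg.Agent.S5626
import Cfsg.Agent.Linear.Simple
import Cfsg.Agent.Linear.Order
import Cfsg.Agent.Golay.Transport

/-!
Groups of order 20160 on the plane of order four: a simple one is the only one, so the three-point
stabiliser in `M24` is `PSL(3, 4)`.
-/

set_option autoImplicit false

namespace Cfsg.Agent.Golay

open Cfsg
open H95.Plane21
open scoped Pointwise LinearAlgebra.Projectivization

section Abstract

variable {α : Type*} [Fintype α] [DecidableEq α] {L : Set (Finset α)}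

lemma mem_setSystemAut_of_maps {g : Equiv.Perm α} (h : ∀ l ∈ L, l.image g ∈ L) :
    g ∈ Cfsg.setSystemAut L := by
  rw [MulAction.mem_stabilizer_iff]
  refine Set.eq_of_subset_of_ncard_le ?_ ?_ (Set.toFinite _)
  · rintro _ ⟨l, hl, rfl⟩
    exact h l hl
  · exact (Set.ncard_image_of_injective _ (MulAction.injective g)).ge

lemma image_mem_of_setSystemAut {g : Equiv.Perm α} (hg : g ∈ Cfsg.setSystemAut L) {l : Finset α}
    (hl : l ∈ L) : l.image g ∈ L := by
  rw [MulAction.mem_stabilizer_iff] at hg
  have h : g • l ∈ g • L := ⟨l, hl, rfl⟩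
  rwa [hg, ← Finset.image_smul] at h

theorem card_setSystemAut_plane_le (hL : Cfsg.IsSteinerSystem 2 5 L) (hα : Fintype.card α = 21) :
    Nat.card (Cfsg.setSystemAut L) ≤ 120960 := by
  classical
  obtain ⟨O⟩ := exists_oval hL hα
  have hmem : ∀ g ∈ Cfsg.setSystemAut L, Finset.univ.image (fun i => g (O.pt i)) ∈ indSets L 6 := by
    intro g hg
    rw [mem_indSets]
    have hinj : Function.Injective fun i => g (O.pt i) := g.injective.comp O.inj
    refine ⟨by rw [Finset.card_image_of_injective _ hinj, Finset.card_univ, Fintype.card_fin], ?_⟩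
    intro l hl
    have hl' := image_mem_of_setSystemAut (inv_mem hg) hl
    by_contra hgt
    push Not at hgt
    obtain ⟨x, hx, y, hy, z, hz, hxy, hxz, hyz⟩ := Finset.two_lt_card.1 hgt
    simp only [Finset.mem_inter, Finset.mem_image, Finset.mem_univ, true_and] at hx hy hz
    obtain ⟨hxl, i, rfl⟩ := hx
    obtain ⟨hyl, j, rfl⟩ := hy
    obtain ⟨hzl, k, rfl⟩ := hz
    have hpre : ∀ m, g (O.pt m) ∈ l → O.pt m ∈ l.image (g⁻¹ : Equiv.Perm α) := fun m hm =>
      Finset.mem_image.2 ⟨_, hm, by simp⟩
    exact O.ind _ hl' i j k (fun e => hxy (by rw [e])) (fun e => hxz (by rw [e]))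
      (fun e => hyz (by rw [e])) (hpre i hxl) (hpre j hyl) (hpre k hzl)
  let Φ : Cfsg.setSystemAut L → Σ H : indSets L 6, (Fin 6 ≃ (H.1 : Finset α)) := fun g =>
    ⟨⟨_, hmem g.1 g.2⟩, Equiv.ofBijective
      (fun i => ⟨g.1 (O.pt i), Finset.mem_image.2 ⟨i, Finset.mem_univ i, rfl⟩⟩)
      ⟨fun i j e => (g.1.injective.comp O.inj) (congrArg Subtype.val e), fun y => by
        obtain ⟨i, -, hi⟩ := Finset.mem_image.1 y.2
        exact ⟨i, Subtype.ext hi⟩⟩⟩
  let val : (Σ H : indSets L 6, (Fin 6 ≃ (H.1 : Finset α))) → Fin 6 → α := fun x i => (x.2 i).1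
  have hΦ : Function.Injective Φ := by
    intro g h e
    have hi : ∀ i, g.1 (O.pt i) = h.1 (O.pt i) := fun i => congrFun (congrArg val e) i
    have := aut_ext hL hα O (g := (h⁻¹ * g : Cfsg.setSystemAut L).1)
      (fun l hl => image_mem_of_setSystemAut (h⁻¹ * g).2 hl) (fun i => by
        show (h.1⁻¹ * g.1) (O.pt i) = O.pt i
        rw [Equiv.Perm.mul_apply, hi i]; simp)
    refine Subtype.ext (Equiv.ext fun p => ?_)
    have hp : h.1.symm (g.1 p) = p := this p
    rwa [Equiv.symm_apply_eq] at hp
  refine (Nat.card_le_card_of_injective Φ hΦ).trans ?_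
  rw [Nat.card_sigma]
  have h720 : ∀ H : indSets L 6, Nat.card (Fin 6 ≃ (H.1 : Finset α)) = 720 := fun H => by
    rw [Nat.card_eq_fintype_card,
      Fintype.card_equiv ((H.1.equivFinOfCardEq (mem_indSets.1 H.2).1).symm), Fintype.card_fin]
    rfl
  rw [Finset.sum_congr rfl fun H _ => h720 H, Finset.sum_const, Finset.card_univ, Fintype.card_coe,
    card_indSets_six hL hα]
  exact le_refl _

end Abstract

/-- A simple group of order 20160 on a plane is the only group of that order there. -/
theorem nonempty_iso_of_plane {α β : Type*} [Fintype α] [DecidableEq α] [Fintype β] [DecidableEq β]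
    {A B : Type*} [Group A] [Group B] [IsSimpleGroup A] [MulAction A α] [MulAction B β]
    [FaithfulSMul A α] [FaithfulSMul B β] (hA : Nat.card A = 20160) (hB : Nat.card B = 20160)
    {L : Set (Finset α)} {L' : Set (Finset β)} (hL : Cfsg.IsSteinerSystem 2 5 L)
    (hL' : Cfsg.IsSteinerSystem 2 5 L') (hα : Fintype.card α = 21) (hβ : Fintype.card β = 21)
    (hAL : ∀ (a : A), ∀ l ∈ L, l.image (a • ·) ∈ L)
    (hBL : ∀ (b : B), ∀ l ∈ L', l.image (b • ·) ∈ L') : Nonempty (A ≃* B) := by
  classical
  obtain ⟨e, he⟩ := S5626.result hα hβ hL hL'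
  let φA : A →* Equiv.Perm β := e.permCongrHom.toMonoidHom.comp (MulAction.toPermHom A α)
  let φB : B →* Equiv.Perm β := MulAction.toPermHom B β
  have hφA : Function.Injective φA := e.permCongrHom.injective.comp MulAction.toPerm_injective
  have hφB : Function.Injective φB := MulAction.toPerm_injective
  have hAr : φA.range ≤ Cfsg.setSystemAut L' := by
    rintro _ ⟨a, rfl⟩
    refine mem_setSystemAut_of_maps fun l hl => ?_
    rw [← he] at hl ⊢
    obtain ⟨m, hm, rfl⟩ := hl
    refine ⟨_, hAL a m hm, ?_⟩
    show (m.image (a • ·)).image e = (m.image e).image (φA a)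
    rw [Finset.image_image, Finset.image_image]
    refine Finset.image_congr fun x _ => ?_
    simp [φA, Equiv.permCongr_apply]
  have hBr : φB.range ≤ Cfsg.setSystemAut L' := by
    rintro _ ⟨b, rfl⟩
    exact mem_setSystemAut_of_maps fun l hl => hBL b l hl
  have : Finite A := (Nat.card_pos_iff.1 (by omega)).2
  have : Finite B := (Nat.card_pos_iff.1 (by omega)).2
  have hcA : Nat.card φA.range = 20160 := by
    rw [← hA]; exact (Nat.card_congr (MonoidHom.ofInjective hφA).toEquiv).symm
  have hcB : Nat.card φB.range = 20160 := by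
    rw [← hB]; exact (Nat.card_congr (MonoidHom.ofInjective hφB).toEquiv).symm
  let S : Subgroup A := φB.range.comap φA
  have hS : S.index ≤ 6 := by
    rw [Subgroup.index_comap]
    refine (Subgroup.relIndex_le_of_le_right hAr ?_).trans ?_
    · exact Subgroup.index_ne_zero_of_finite
    have h1 := Subgroup.card_mul_index (φB.range.subgroupOf (Cfsg.setSystemAut L'))
    rw [Nat.card_congr (Subgroup.subgroupOfEquivOfLe hBr).toEquiv, hcB] at h1
    have h2 := card_setSystemAut_plane_le hL' hβ
    show (φB.range.subgroupOf (Cfsg.setSystemAut L')).index ≤ 6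
    omega
  have hStop : S = ⊤ := by
    rcases (Subgroup.normalCore_normal S).eq_bot_or_eq_top with h | h
    · exfalso
      have hk := S.normalCore_eq_ker
      rw [h] at hk
      have hinj : Function.Injective (MulAction.toPermHom A (A ⧸ S)) :=
        (MonoidHom.ker_eq_bot_iff _).1 hk.symm
      have h1 := Nat.card_le_card_of_injective _ hinj
      rw [hA, Nat.card_perm, ← Subgroup.index_eq_card] at h1
      have := Nat.factorial_le hS
      have : Nat.factorial 6 = 720 := rfl
      omega
    · exact top_le_iff.1 (h ▸ S.normalCore_le)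
  have hle : φA.range ≤ φB.range := by
    rintro _ ⟨a, rfl⟩
    exact (hStop ▸ Subgroup.mem_top a : a ∈ S)
  have heq : φA.range = φB.range := Subgroup.eq_of_le_of_card_ge hle (by rw [hcA, hcB])
  exact ⟨((MonoidHom.ofInjective hφA).trans (MulEquiv.subgroupCongr heq)).trans
    (MonoidHom.ofInjective hφB).symm⟩

section Projective

variable {F : Type*} [Field F]

/-- The lines of the projective plane. -/
def planeLines (F : Type*) [Field F] : Set (Finset (ℙ F (Fin 3 → F))) :=
  {s | ∃ W : Submodule F (Fin 3 → F), Module.finrank F W = 2 ∧ ∀ p, p ∈ s ↔ p.submodule ≤ W}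

lemma planeLines_steiner [Fintype F] [Fintype (ℙ F (Fin 3 → F))] (hF : Fintype.card F = 4) :
    Cfsg.IsSteinerSystem 2 5 (planeLines F) := by
  classical
  have hcard : ∀ (W : Submodule F (Fin 3 → F)) (s : Finset (ℙ F (Fin 3 → F))),
      Module.finrank F W = 2 → (∀ p, p ∈ s ↔ p.submodule ≤ W) → s.card = 5 := by
    intro W s hW hs
    let f : ℙ F W → ℙ F (Fin 3 → F) := Projectivization.map W.subtype W.injective_subtype
    have hinj : Function.Injective f := Projectivization.map_injective _ _
    have hrange : Set.range f = (s : Set (ℙ F (Fin 3 → F))) := by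
      ext p
      induction p using Projectivization.ind with
      | _ v hv =>
      rw [Finset.mem_coe, hs, Projectivization.submodule_mk, Submodule.span_singleton_le_iff_mem]
      constructor
      · rintro ⟨q, hq⟩
        induction q using Projectivization.ind with
        | _ w hw =>
        simp only [f, Projectivization.map_mk] at hq
        rw [Projectivization.mk_eq_mk_iff'] at hq
        obtain ⟨a, ha⟩ := hq
        have ha0 : a ≠ 0 := fun h => by
          rw [h, zero_smul] at ha
          exact hw (Subtype.ext ha.symm)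
        have hm : a • v ∈ W := by rw [ha]; exact w.2
        exact (W.smul_mem_iff ha0).1 hm
      · intro hvW
        exact ⟨Projectivization.mk F ⟨v, hvW⟩ fun h => hv (congrArg Subtype.val h), rfl⟩
    rw [← Set.ncard_coe_finset, ← hrange, Set.ncard_range_of_injective hinj,
      Projectivization.card_of_finrank_two (k := F) (V := W) hW, Nat.card_eq_fintype_card, hF]
  refine ⟨fun s ⟨W, hW, hs⟩ => hcard W s hW hs, fun s hs => ?_⟩
  obtain ⟨p, q, hpq, rfl⟩ := Finset.card_eq_two.1 hs
  have hW : Module.finrank F ↥(p.submodule ⊔ q.submodule) = 2 := by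
    have h1 := Submodule.finrank_sup_add_finrank_inf_eq p.submodule q.submodule
    rw [Projectivization.finrank_submodule, Projectivization.finrank_submodule] at h1
    have h2 : Module.finrank F ↥(p.submodule ⊓ q.submodule) = 0 := by
      by_contra h0
      have hle := Submodule.finrank_mono (inf_le_left : p.submodule ⊓ q.submodule ≤ p.submodule)
      rw [Projectivization.finrank_submodule] at hle
      have e1 : p.submodule ⊓ q.submodule = p.submodule :=
        Submodule.eq_of_le_of_finrank_eq inf_le_left (by rw [Projectivization.finrank_submodule]; omega)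
      have e2 : p.submodule ⊓ q.submodule = q.submodule :=
        Submodule.eq_of_le_of_finrank_eq inf_le_right (by rw [Projectivization.finrank_submodule]; omega)
      exact hpq (Projectivization.submodule_injective (e1.symm.trans e2))
    omega
  refine ⟨Finset.univ.filter fun x => x.submodule ≤ p.submodule ⊔ q.submodule,
    ⟨⟨_, hW, fun x => by simp⟩, ?_⟩, ?_⟩
  · intro x hx
    rcases Finset.mem_insert.1 hx with rfl | hx
    · simp
    · rw [Finset.mem_singleton] at hx; subst hx; simp
  · rintro b ⟨⟨W, hW', hb⟩, hsub⟩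
    have hle : p.submodule ⊔ q.submodule ≤ W := sup_le ((hb p).1 (hsub (by simp)))
      ((hb q).1 (hsub (by simp)))
    have heq := Submodule.eq_of_le_of_finrank_eq hle (by rw [hW, hW'])
    ext x
    simp [hb, ← heq]

lemma planeLines_smul [Fintype (ℙ F (Fin 3 → F))] [DecidableEq (ℙ F (Fin 3 → F))]
    (g : Matrix.ProjectiveSpecialLinearGroup (Fin 3) F) {s : Finset (ℙ F (Fin 3 → F))}
    (hs : s ∈ planeLines F) : s.image (g • ·) ∈ planeLines F := by
  obtain ⟨W, hW, hs⟩ := hs
  obtain ⟨g, rfl⟩ := QuotientGroup.mk_surjective g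
  set E := Matrix.SpecialLinearGroup.toLin'_equiv g with hE
  refine ⟨W.map (E.1 : (Fin 3 → F) ≃ₗ[F] (Fin 3 → F)).toLinearMap, ?_, fun p => ?_⟩
  · rw [LinearEquiv.finrank_map_eq]; exact hW
  induction p using Projectivization.ind with
  | _ v hv =>
  rw [Projectivization.submodule_mk, Submodule.span_singleton_le_iff_mem, Submodule.mem_map]
  constructor
  · intro hp
    obtain ⟨q, hq, hqe⟩ := Finset.mem_image.1 hp
    induction q using Projectivization.ind with
    | _ w hw =>
    rw [hs, Projectivization.submodule_mk, Submodule.span_singleton_le_iff_mem] at hq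
    rw [Matrix.ProjectiveSpecialLinearGroup.smul_proj_mk,
      Projectivization.matrixSpecialLinearGroup_smul_def, Projectivization.smul_mk,
      Projectivization.mk_eq_mk_iff'] at hqe
    obtain ⟨a, ha⟩ := hqe
    have ha0 : a ≠ 0 := fun h => by
      rw [h, zero_smul] at ha
      exact hw ((smul_eq_zero_iff_eq _).1 ha.symm)
    refine ⟨a⁻¹ • w, W.smul_mem _ hq, ?_⟩
    have : (E.1 : (Fin 3 → F) ≃ₗ[F] (Fin 3 → F)) w = a • v := ha.symm
    simp only [LinearEquiv.coe_coe, map_smul, this, inv_smul_smul₀ ha0]
  · rintro ⟨w, hw, hwv⟩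
    have hw0 : w ≠ 0 := fun h => hv (by rw [← hwv, h]; simp)
    refine Finset.mem_image.2 ⟨Projectivization.mk F w hw0, ?_, ?_⟩
    · rw [hs, Projectivization.submodule_mk, Submodule.span_singleton_le_iff_mem]; exact hw
    · rw [Matrix.ProjectiveSpecialLinearGroup.smul_proj_mk,
        Projectivization.matrixSpecialLinearGroup_smul_def, Projectivization.smul_mk,
        Projectivization.mk_eq_mk_iff']
      exact ⟨1, by rw [one_smul, ← hwv]; rfl⟩

lemma card_psl_three_four [Fintype F] (hF : Fintype.card F = 4) :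
    Nat.card (Matrix.ProjectiveSpecialLinearGroup (Fin 3) F) = 20160 := by
  have h2 := Linear.card_PSL_mul (F := F) 3 (by norm_num)
  rw [hF, Fin.prod_univ_three] at h2
  norm_num [Nat.gcd_self] at h2
  omega

end Projective

section Stabiliser

variable {p q r : GolayPt}

lemma card_three_point_stab (hpq : p ≠ q) (hpr : p ≠ r) (hqr : q ≠ r) :
    Nat.card ↥(MulAction.stabilizer M24 p ⊓ MulAction.stabilizer M24 q ⊓
      MulAction.stabilizer M24 r) = 20160 := by
  let t : Fin 3 ↪ GolayPt := ⟨![p, q, r], by
    intro i j; fin_cases i <;> fin_cases j <;> simp [hpq, hpr, hqr, hpq.symm, hpr.symm, hqr.symm]⟩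
  have hs : MulAction.stabilizer M24 p ⊓ MulAction.stabilizer M24 q ⊓ MulAction.stabilizer M24 r =
      MulAction.stabilizer M24 t := by
    ext g
    simp only [Subgroup.mem_inf, MulAction.mem_stabilizer_iff]
    constructor
    · rintro ⟨⟨h1, h2⟩, h3⟩
      refine DFunLike.ext _ _ fun i => ?_
      fin_cases i
      · exact h1
      · exact h2
      · exact h3
    · intro h
      exact ⟨⟨DFunLike.congr_fun h 0, DFunLike.congr_fun h 1⟩, DFunLike.congr_fun h 2⟩
  have horb : MulAction.orbit M24 t = Set.univ := by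
    refine Set.eq_univ_of_forall fun u => ?_
    obtain ⟨g, hg⟩ := exists_M24_map_points (k := 3) (by norm_num) t.injective u.injective
    exact ⟨g, DFunLike.ext _ _ hg⟩
  have h := Subgroup.card_mul_index (MulAction.stabilizer M24 t)
  rw [MulAction.index_stabilizer] at h
  erw [horb] at h
  rw [Set.ncard_univ, Nat.card_eq_fintype_card
    (α := Fin 3 ↪ GolayPt), Fintype.card_embedding_eq, Fintype.card_fin,
    show Fintype.card GolayPt = 24 from rfl, show Nat.descFactorial 24 3 = 12144 from by decide,
    card_M24, ← hs] at h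
  omega

/-- The three-point stabiliser is `PSL(3, 4)`. -/
theorem three_point_stab_iso (hpq : p ≠ q) (hpr : p ≠ r) (hqr : q ≠ r) (F : Type) [Field F]
    [Fintype F] (hF : Fintype.card F = 4) :
    Nonempty (↥(MulAction.stabilizer M24 p ⊓ MulAction.stabilizer M24 q ⊓
      MulAction.stabilizer M24 r) ≃* Matrix.ProjectiveSpecialLinearGroup (Fin 3) F) := by
  classical
  let T : Finset GolayPt := {p, q, r}
  have hT : T.card = 3 := Finset.card_eq_three.2 ⟨p, q, r, hpq, hpr, hqr, rfl⟩
  have hpT : p ∈ T := by simp [T]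
  have hqT : q ∈ T := by simp [T]
  have hrT : r ∈ T := by simp [T]
  let β := {x : GolayPt // x ∉ T}
  let ι : β ↪ GolayPt := Function.Embedding.subtype _
  set G := MulAction.stabilizer M24 p ⊓ MulAction.stabilizer M24 q ⊓ MulAction.stabilizer M24 r
    with hG
  have hfix : ∀ g : G, ∀ x ∈ T, (g.1.1 : Equiv.Perm GolayPt) x = x := by
    intro g x hx
    simp only [T, Finset.mem_insert, Finset.mem_singleton] at hx
    rcases hx with rfl | rfl | rfl
    exacts [g.2.1.1, g.2.1.2, g.2.2]
  have hmem : ∀ (g : G) x, x ∉ T → (g.1.1 : Equiv.Perm GolayPt) x ∉ T := fun g x hx h =>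
    hx ((g.1.1.injective (hfix g _ h)) ▸ h)
  letI act : MulAction G β :=
    { smul := fun g x => ⟨(g.1.1 : Equiv.Perm GolayPt) x.1, hmem g x.1 x.2⟩
      one_smul := fun x => rfl
      mul_smul := fun g h x => rfl }
  have : FaithfulSMul G β := by
    constructor
    intro g h e
    refine Subtype.ext (Subtype.ext (Equiv.ext fun x => ?_))
    by_cases hx : x ∈ T
    · rw [hfix g x hx, hfix h x hx]
    · exact congrArg Subtype.val (e ⟨x, hx⟩)
  let L' : Set (Finset β) := {s | T ∪ s.map ι ∈ octads}
  have hdis : ∀ s : Finset β, Disjoint T (s.map ι) := fun s => by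
    rw [Finset.disjoint_left]
    intro x hx hx'
    obtain ⟨y, -, rfl⟩ := Finset.mem_map.1 hx'
    exact y.2 hx
  have hlift : ∀ b : Finset GolayPt, T ⊆ b → T ∪ (b.subtype (· ∉ T)).map ι = b := by
    intro b hb
    ext x
    by_cases hx : x ∈ T
    · simp [hx, hb hx]
    · simp only [Finset.mem_union, hx, false_or, Finset.mem_map]
      exact ⟨fun ⟨a, ha, hax⟩ => hax ▸ Finset.mem_subtype.1 ha,
        fun h => ⟨⟨x, hx⟩, Finset.mem_subtype.2 h, rfl⟩⟩
  have hL' : Cfsg.IsSteinerSystem 2 5 L' := by
    refine ⟨fun s hs => ?_, fun s hs => ?_⟩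
    · have := hs.2
      rw [Finset.card_union_of_disjoint (hdis s), hT, Finset.card_map] at this
      omega
    · obtain ⟨b, ⟨hb, hsb⟩, hu⟩ := octads_isSteinerSystem.2 (T ∪ s.map ι)
        (by rw [Finset.card_union_of_disjoint (hdis s), hT, Finset.card_map, hs])
      have hTb : T ⊆ b := Finset.union_subset_left hsb
      refine ⟨b.subtype _, ⟨?_, fun x hx => ?_⟩, ?_⟩
      · show T ∪ _ ∈ octads
        rw [hlift b hTb]; exact hb
      · rw [Finset.mem_subtype]
        exact hsb (Finset.mem_union_right _ (Finset.mem_map_of_mem ι hx))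
      · rintro c ⟨hc, hsc⟩
        have := hu _ ⟨hc, Finset.union_subset_union_right (Finset.map_subset_map.2 hsc)⟩
        rw [← this]
        ext x
        rw [Finset.mem_subtype, Finset.mem_union]
        exact ⟨fun h => Or.inr (Finset.mem_map_of_mem ι h),
          fun h => (Finset.mem_map' ι).1 (h.resolve_left x.2)⟩
  have hβ : Fintype.card β = 21 := by
    rw [Fintype.card_subtype_compl, Fintype.card_coe, hT]; rfl
  have : IsSimpleGroup (Matrix.ProjectiveSpecialLinearGroup (Fin 3) F) :=
    Linear.isSimpleGroup_PSL_fin (by norm_num) (by norm_num)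
  have : Fintype (ℙ F (Fin 3 → F)) := Fintype.ofFinite _
  have h21 : Fintype.card (ℙ F (Fin 3 → F)) = 21 := by
    rw [← Nat.card_eq_fintype_card,
      Projectivization.card_of_finrank F (Fin 3 → F) (Module.finrank_fin_fun F),
      Nat.card_eq_fintype_card, hF]
    rfl
  obtain ⟨e⟩ := nonempty_iso_of_plane (β := β) (B := G) (card_psl_three_four hF)
    (card_three_point_stab hpq hpr hqr) (planeLines_steiner hF) hL' h21 hβ
    (fun a l hl => planeLines_smul a hl) (fun g l hl => by
      show T ∪ _ ∈ octads
      have hg := smul_mem_octads g.1.2 (show T ∪ l.map ι ∈ octads from hl)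
      convert hg using 1
      rw [Finset.smul_finset_union]
      congr 1
      · refine (Finset.ext fun x => ?_)
        rw [Finset.mem_smul_finset]
        constructor
        · intro hx; exact ⟨x, hx, hfix g x hx⟩
        · rintro ⟨y, hy, rfl⟩
          rw [Equiv.Perm.smul_def, hfix g y hy]; exact hy
      · rw [Finset.map_eq_image, Finset.map_eq_image, Finset.image_image,
          ← Finset.image_smul, Finset.image_image]
        rfl)
  exact ⟨e.symm⟩

end Stabiliser

end Cfsg.Agent.Golay
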