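import Cfsg.Agent.H95.GolayStab
import Cfsg.Agent.Golay.OctadMeet

/-!
Trios and sextets: their numbers, sextets through tetrads.
-/

set_option autoImplicit false

namespace Cfsg.Agent.Golay

open Cfsg
open scoped Pointwise

lemma ncard_of_orbitCert {A gs : List ℕ} {N : ℕ} {c : List ℕ × List (List ℕ)}
    (h : H95.orbitCert A gs N [c] = true) {X : Set (Finset (Finset GolayPt))}
    (hinv : ∀ g : M24, ∀ S ∈ X, g • S ∈ X) (hN : X.ncard ≤ N) (hroot : H95.sysOf c.1 ∈ X) :
    X.ncard = N := by
  have hr : ∀ d ∈ [c], H95.sysOf d.1 ∈ X := by simpa using hroot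
  refine le_antisymm hN ?_
  obtain ⟨-, hn⟩ := H95.orbitCert_orbit h hinv hN hr (List.mem_singleton_self c)
  have hlen : (H95.classL gs c).length = N := by
    simp only [H95.orbitCert, Bool.and_eq_true, beq_iff_eq] at h
    simpa using h.1.1.2
  rw [← hlen, ← hn]
  refine Set.ncard_le_ncard ?_ (Set.toFinite _)
  rintro _ ⟨g, rfl⟩
  exact hinv g.1 _ hroot

theorem ncard_trios : trios.ncard = 3795 :=
  ncard_of_orbitCert (H95.allTrio_eq ▸ H95.allTrio_cert) H95.trios_smul H95.ncard_trios_le
    (H95.trio_of_isTrioB (List.all_eq_true.1 H95.allTrio_roots H95.allTrio1 (by simp [H95.allTrio_eq])))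

theorem ncard_sextets : sextets.ncard = 1771 :=
  ncard_of_orbitCert (H95.allSext_eq ▸ H95.allSext_cert) H95.sextets_smul H95.ncard_sextets_le
    (H95.sextet_of_isSextB (List.all_eq_true.1 H95.allSext_roots H95.allSext1 (by simp [H95.allSext_eq])))

theorem existsUnique_sextet {t : Finset GolayPt} (ht : t.card = 4) :
    ∃! S : Finset (Finset GolayPt), S ∈ sextets ∧ t ∈ S := by
  have h0 := H95.sextet_of_isSextB
    (List.all_eq_true.1 H95.allSext_roots H95.allSext1 (by simp [H95.allSext_eq]))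
  obtain ⟨u, hu⟩ := Finset.card_pos.1 (h0.1 ▸ (by norm_num : 0 < 6))
  have hu4 := h0.2.1 u hu
  let a : Fin 4 → GolayPt := fun i => ((u.equivFinOfCardEq hu4).symm i).1
  let b : Fin 4 → GolayPt := fun i => ((t.equivFinOfCardEq ht).symm i).1
  have ha : Function.Injective a := Subtype.val_injective.comp (Equiv.injective _)
  have hb : Function.Injective b := Subtype.val_injective.comp (Equiv.injective _)
  obtain ⟨g, hg⟩ := exists_M24_map_points (by norm_num : 4 ≤ 5) ha hb
  have hgu : g • u = t := by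
    refine Finset.eq_of_subset_of_card_le ?_ (by rw [Finset.card_smul_finset, hu4, ht])
    intro p hp
    obtain ⟨q, hq, rfl⟩ := Finset.mem_smul_finset.1 hp
    obtain ⟨i, hi⟩ : ∃ i, a i = q :=
      ⟨u.equivFinOfCardEq hu4 ⟨q, hq⟩, by simp [a]⟩
    show (g : Equiv.Perm GolayPt) q ∈ t
    rw [← hi, hg i]
    exact Subtype.prop _
  refine ⟨g • H95.sysOf H95.allSext1.1,
    ⟨H95.sextets_smul g _ h0, hgu ▸ Finset.smul_mem_smul_finset hu⟩, ?_⟩
  rintro S ⟨hS, htS⟩
  exact H95.sextet_eq_of_mem hS (H95.sextets_smul g _ h0) htS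
    (hgu ▸ Finset.smul_mem_smul_finset hu)

lemma disjoint_third_check :
    (octadList.all fun x => !Nat.beq (Nat.land refOctad x) 0 ||
      octadList.contains (Nat.xor fullMask (Nat.lor refOctad x))) = true := by
  decide +kernel

theorem compl_union_mem_octads {o o' : Finset GolayPt} (ho : o ∈ octads) (ho' : o' ∈ octads)
    (hd : Disjoint o o') : (o ∪ o')ᶜ ∈ octads := by
  obtain ⟨g, hg⟩ := exists_M24_map_octad ho refOctad_mem
  have hg' : (g : Equiv.Perm GolayPt) • o = ptSet refOctad := hg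
  set x := (g : Equiv.Perm GolayPt) • o'
  have hx : x ∈ octads := smul_mem_octads g.2 ho'
  have h := List.all_eq_true.1 disjoint_third_check _ (mem_octads_iff.1 hx)
  rw [Bool.or_eq_true, Bool.not_eq_true'] at h
  have hz : Nat.beq (Nat.land refOctad (maskOf x)) 0 = true := by
    rw [Nat.beq_eq]
    refine ptSet_injOn (and_lt_full refOctad_lt) (by norm_num) ?_
    show ptSet (refOctad &&& maskOf x) = _
    rw [ptSet_and, ptSet_maskOf, ptSet_zero, ← hg', ← Finset.smul_finset_inter,
      Finset.disjoint_iff_inter_eq_empty.1 hd, Finset.smul_finset_empty]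
  rw [hz] at h
  have h' := ptSet_mem_octads (List.contains_iff_mem.1 (h.resolve_left (by simp)))
  have e : ptSet (Nat.xor fullMask (Nat.lor refOctad (maskOf x))) = (ptSet refOctad ∪ x)ᶜ := by
    show ptSet (fullMask ^^^ (refOctad ||| maskOf x)) = _
    rw [ptSet_xor, ptSet_fullMask, ptSet_or, ptSet_maskOf]
    ext p; simp [Finset.mem_symmDiff]
  rw [e] at h'
  have e2 : (o ∪ o')ᶜ = (g : Equiv.Perm GolayPt)⁻¹ • (ptSet refOctad ∪ x)ᶜ := by
    rw [← hg', eq_inv_smul_iff, ← Finset.smul_finset_union, Finset.compl_eq_univ_sdiff,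
      Finset.compl_eq_univ_sdiff, Finset.smul_finset_sdiff, Finset.smul_finset_univ]
  rw [e2]
  exact smul_mem_octads (inv_mem g.2) h'

end Cfsg.Agent.Golay
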