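import Cfsg.Agent.Golay.OctadList

/-!
Permutations of the 24 points as tables: five bits per bit position.
-/

set_option autoImplicit false

namespace Cfsg.Agent.Golay

open Cfsg
open scoped Pointwise

/-- Entry `i` of a table. -/
def app (T i : ℕ) : ℕ := (T >>> (5 * i)) &&& 31

/-- The table of a function, length `n`. -/
def mkTbl : ℕ → (ℕ → ℕ) → ℕ
  | 0, _ => 0
  | n + 1, f => f 0 + 32 * mkTbl n (fun i => f (i + 1))

lemma app_eq (T i : ℕ) : app T i = T / 32 ^ i % 32 := by
  rw [app, Nat.shiftRight_eq_div_pow, show (31 : ℕ) = 2 ^ 5 - 1 by norm_num,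
    Nat.and_two_pow_sub_one_eq_mod, pow_mul]
  norm_num

lemma app_mkTbl : ∀ {n : ℕ} {f : ℕ → ℕ} {i : ℕ}, i < n → (∀ j < n, f j < 32) →
    app (mkTbl n f) i = f i
  | 0, _, _, h, _ => absurd h (Nat.not_lt_zero _)
  | n + 1, f, i, hi, hf => by
    rw [app_eq]
    cases i with
    | zero =>
      have := hf 0 hi
      simp only [mkTbl, pow_zero, Nat.div_one]
      omega
    | succ i =>
      have ih := app_mkTbl (f := fun i => f (i + 1)) (Nat.lt_of_succ_lt_succ hi)
        (fun j hj => hf (j + 1) (Nat.succ_lt_succ hj))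
      rw [app_eq] at ih
      rw [← ih, pow_succ', ← Nat.div_div_eq_div_mul]
      have h0 := hf 0 (Nat.succ_pos n)
      have hq : (f 0 + 32 * mkTbl n fun i => f (i + 1)) / 32 = mkTbl n fun i => f (i + 1) := by
        omega
      simp only [mkTbl, hq]

/-- The function on points of a table. -/
def tblFun (T : ℕ) (p : GolayPt) : GolayPt := pt (app T (idx p))

/-- Image of a mask under a table. -/
def tblImg (T m : ℕ) : ℕ :=
  (List.range 24).foldl (fun acc i => acc ||| (((m >>> i) &&& 1) <<< app T i)) 0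

lemma testBit_tblImg_aux (T m : ℕ) (l : List ℕ) (acc j : ℕ) :
    (l.foldl (fun acc i => acc ||| (((m >>> i) &&& 1) <<< app T i)) acc).testBit j
      = true ↔ (acc.testBit j = true ∨ ∃ i ∈ l, m.testBit i = true ∧ app T i = j) := by
  induction l generalizing acc with
  | nil => simp
  | cons a t ih =>
    rw [List.foldl_cons, ih, Nat.testBit_or, Bool.or_eq_true]
    have h1 : ((m >>> a &&& 1) <<< app T a).testBit j = true
        ↔ (m.testBit a = true ∧ app T a = j) := by
      have : m >>> a &&& 1 = if m.testBit a then 1 else 0 := by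
        rw [Nat.and_one_is_mod, Nat.testBit_eq_decide_div_mod_eq, ← Nat.shiftRight_eq_div_pow]
        rcases Nat.mod_two_eq_zero_or_one (m >>> a) with h | h <;> simp [h]
      rw [this]
      by_cases hm : m.testBit a = true
      · simp [hm, Nat.one_shiftLeft, Nat.testBit_two_pow]
      · simp [hm]
    rw [h1]
    simp only [List.mem_cons, exists_eq_or_imp]
    tauto

lemma testBit_tblImg (T m j : ℕ) :
    (tblImg T m).testBit j = true ↔ ∃ i < 24, m.testBit i = true ∧ app T i = j := by
  rw [tblImg, testBit_tblImg_aux]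
  simp [List.mem_range]

/-- A table is a permutation of the 24 positions. -/
def validT (T : ℕ) : Bool := tblImg T fullMask == fullMask

lemma validT_bijective {T : ℕ} (h : validT T = true) :
    Function.Bijective (tblFun T) ∧ ∀ i < 24, app T i < 24 := by
  have himg : tblImg T fullMask = fullMask := eq_of_beq h
  have hfull : ∀ j, fullMask.testBit j = true ↔ j < 24 := by
    intro j; rw [fullMask, Nat.testBit_two_pow_sub_one]; simp
  have hlt : ∀ i < 24, app T i < 24 := by
    intro i hi
    rw [← hfull, ← himg, testBit_tblImg]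
    exact ⟨i, hi, (hfull i).2 hi, rfl⟩
  refine ⟨Finite.surjective_iff_bijective.1 fun q => ?_, hlt⟩
  obtain ⟨i, hi, -, hij⟩ := (testBit_tblImg _ _ _).1
    (by rw [himg]; exact (hfull _).2 (idx_lt q))
  exact ⟨pt i, by rw [tblFun, idx_pt i hi, hij, pt_idx]⟩

/-- The permutation of a table (identity if the table is invalid). -/
noncomputable def mkPerm (T : ℕ) : Equiv.Perm GolayPt :=
  if h : Function.Bijective (tblFun T) then Equiv.ofBijective _ h else 1

lemma mkPerm_apply {T : ℕ} (h : validT T = true) (p : GolayPt) :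
    mkPerm T p = pt (app T (idx p)) := by
  rw [mkPerm, dif_pos (validT_bijective h).1]; rfl

lemma mkPerm_pt {T : ℕ} (h : validT T = true) {i : ℕ} (hi : i < 24) :
    mkPerm T (pt i) = pt (app T i) := by
  rw [mkPerm_apply h, idx_pt i hi]

lemma idx_mkPerm {T : ℕ} (h : validT T = true) (p : GolayPt) :
    idx (mkPerm T p) = app T (idx p) := by
  rw [mkPerm_apply h, idx_pt _ ((validT_bijective h).2 _ (idx_lt p))]

/-- The table of a permutation. -/
def tblOf (σ : Equiv.Perm GolayPt) : ℕ := mkTbl 24 fun i => idx (σ (pt i))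

lemma app_tblOf (σ : Equiv.Perm GolayPt) {i : ℕ} (hi : i < 24) :
    app (tblOf σ) i = idx (σ (pt i)) :=
  app_mkTbl hi fun _ _ => (idx_lt _).trans (by norm_num)

lemma tblFun_tblOf (σ : Equiv.Perm GolayPt) (p : GolayPt) : tblFun (tblOf σ) p = σ p := by
  rw [tblFun, app_tblOf σ (idx_lt p), pt_idx, pt_idx]

lemma validT_tblOf (σ : Equiv.Perm GolayPt) : validT (tblOf σ) = true := by
  refine beq_iff_eq.2 (Nat.eq_of_testBit_eq fun j => Bool.eq_iff_iff.2 ?_)
  rw [testBit_tblImg, fullMask, Nat.testBit_two_pow_sub_one, decide_eq_true_eq]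
  constructor
  · rintro ⟨i, hi, -, rfl⟩; rw [app_tblOf σ hi]; exact idx_lt _
  · intro hj
    refine ⟨idx (σ.symm (pt j)), idx_lt _,
      (Nat.testBit_two_pow_sub_one 24 _).trans (decide_eq_true (idx_lt _)), ?_⟩
    rw [app_tblOf σ (idx_lt _), pt_idx, Equiv.apply_symm_apply, idx_pt j hj]

@[simp] lemma mkPerm_tblOf (σ : Equiv.Perm GolayPt) : mkPerm (tblOf σ) = σ := by
  ext p : 1
  rw [mkPerm_apply (validT_tblOf σ)]
  exact tblFun_tblOf σ p

lemma mem_smul_finset_iff (σ : Equiv.Perm GolayPt) (s : Finset GolayPt) (p : GolayPt) :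
    p ∈ σ • s ↔ σ.symm p ∈ s := by
  rw [← Finset.inv_smul_mem_iff]; rfl

lemma ptSet_tblImg_tblOf (σ : Equiv.Perm GolayPt) (m : ℕ) :
    ptSet (tblImg (tblOf σ) m) = σ • ptSet m := by
  ext p
  rw [mem_ptSet, mem_smul_finset_iff, mem_ptSet, testBit_tblImg]
  constructor
  · rintro ⟨i, hi, hm, h⟩
    rw [app_tblOf σ hi] at h
    rw [← idx_injective h, Equiv.symm_apply_apply, idx_pt i hi]
    exact hm
  · intro h
    refine ⟨idx (σ.symm p), idx_lt _, h, ?_⟩
    rw [app_tblOf σ (idx_lt _), pt_idx, Equiv.apply_symm_apply]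

lemma ptSet_tblImg {T : ℕ} (hT : validT T = true) (m : ℕ) :
    ptSet (tblImg T m) = mkPerm T • ptSet m := by
  ext p
  rw [mem_ptSet, mem_smul_finset_iff, mem_ptSet, testBit_tblImg]
  constructor
  · rintro ⟨i, hi, hm, h⟩
    have hp : p = mkPerm T (pt i) := by rw [mkPerm_pt hT hi, h, pt_idx]
    rw [hp, Equiv.symm_apply_apply, idx_pt i hi]
    exact hm
  · intro h
    refine ⟨idx ((mkPerm T).symm p), idx_lt _, h, ?_⟩
    rw [← idx_mkPerm hT, Equiv.apply_symm_apply]

lemma tblImg_lt {T : ℕ} (hT : validT T = true) (m : ℕ) : tblImg T m < 2 ^ 24 := by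
  apply Nat.lt_pow_two_of_testBit
  intro j hj
  by_contra h
  rw [Bool.not_eq_false] at h
  obtain ⟨i, hi, -, rfl⟩ := (testBit_tblImg _ _ _).1 h
  have := (validT_bijective hT).2 i hi
  omega

/-- Composition of tables, left after right. -/
def tblMul (A B : ℕ) : ℕ := mkTbl 24 fun i => app A (app B i)

lemma app_tblMul {A B : ℕ} {i : ℕ} (hi : i < 24) : app (tblMul A B) i = app A (app B i) :=
  app_mkTbl (f := fun i => app A (app B i)) hi fun j _ => by
    show app A (app B j) < 32
    rw [app_eq]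
    exact Nat.mod_lt _ (by norm_num)

lemma validT_of_pointwise {T : ℕ} (σ : Equiv.Perm GolayPt)
    (h : ∀ i < 24, app T i = idx (σ (pt i))) : validT T = true ∧ mkPerm T = σ := by
  have hv : validT T = true := by
    have h1 : ∀ m, tblImg T m = tblImg (tblOf σ) m := by
      intro m
      refine Nat.eq_of_testBit_eq fun j => Bool.eq_iff_iff.2 ?_
      rw [testBit_tblImg, testBit_tblImg]
      exact exists_congr fun i => and_congr_right fun hi => by rw [h i hi, app_tblOf σ hi]
    have := validT_tblOf σ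
    rwa [validT, h1]
  refine ⟨hv, ?_⟩
  ext p : 1
  rw [mkPerm_apply hv, h _ (idx_lt p), pt_idx, pt_idx]

lemma tblMul_spec {A B : ℕ} (hA : validT A = true) (hB : validT B = true) :
    validT (tblMul A B) = true ∧ mkPerm (tblMul A B) = mkPerm A * mkPerm B := by
  refine validT_of_pointwise _ fun i hi => ?_
  rw [app_tblMul hi, Equiv.Perm.mul_apply, idx_mkPerm hA, idx_mkPerm hB, idx_pt i hi]

/-- Identity table. -/
def idTbl : ℕ := mkTbl 24 id

lemma idTbl_spec : validT idTbl = true ∧ mkPerm idTbl = 1 := by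
  refine validT_of_pointwise _ fun i hi => ?_
  rw [Equiv.Perm.one_apply, idx_pt i hi, idTbl, app_mkTbl hi]
  · rfl
  · intro j hj; simp only [id]; omega

/-- Equality of tables on the 24 positions. -/
def tblEq (A B : ℕ) : Bool := (List.range 24).all fun i => app A i == app B i

lemma mkPerm_eq_of_tblEq {A B : ℕ} (hA : validT A = true) (hB : validT B = true)
    (h : tblEq A B = true) : mkPerm A = mkPerm B := by
  ext p : 1
  rw [mkPerm_apply hA, mkPerm_apply hB]
  rw [tblEq, List.all_eq_true] at h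
  rw [eq_of_beq (h (idx p) (List.mem_range.2 (idx_lt p)))]

/-! ### Membership in the group of the code -/

/-- The table is a permutation preserving the code. -/
def inM24 (T : ℕ) : Bool := validT T && basisList.all fun b => inCode (tblImg T b)

lemma mem_M24_iff {σ : Equiv.Perm GolayPt} :
    σ ∈ M24 ↔ ∀ m ∈ codeList, σ • ptSet m ∈ supports (golayCode : Set (GolayPt → ZMod 2)) := by
  rw [M24, setSystemAut, MulAction.mem_stabilizer_iff]
  constructor
  · intro h m hm
    rw [← h]
    exact Set.smul_mem_smul_set ((ptSet_mem_supports_iff (codeList_lt hm)).2 hm)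
  · intro h
    refine Set.eq_of_subset_of_ncard_le ?_ ?_ (Set.toFinite _)
    · rintro s ⟨t, ht, rfl⟩
      rw [supports_eq_image] at ht
      obtain ⟨m, hm, rfl⟩ := ht
      exact h m hm
    · rw [← Set.image_smul, Set.ncard_image_of_injective _ (MulAction.injective σ)]

lemma inM24_iff {T : ℕ} (hT : validT T = true) : inM24 T = true ↔ mkPerm T ∈ M24 := by
  rw [inM24, hT, Bool.true_and, List.all_eq_true, mem_M24_iff]
  constructor
  · intro h m hm
    refine spanList_induction (P := fun m => mkPerm T • ptSet m ∈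
      supports (golayCode : Set (GolayPt → ZMod 2))) _ ?_ ?_ ?_ m hm
    · rw [ptSet_zero, Finset.smul_finset_empty, mem_supports_iff, ← ptSet_zero,
        maskOf_ptSet (by norm_num)]
      exact zero_mem_spanList _
    · intro b hb
      rw [← ptSet_tblImg hT, ptSet_mem_supports_iff (tblImg_lt hT b)]
      exact inCode_iff.1 (h b (List.mem_reverse.1 hb))
    · intro a b ha hb
      rw [ptSet_xor, Finset.smul_finset_symmDiff]
      exact symmDiff_mem_supports ha hb
  · intro h b hb
    rw [inCode_iff, ← ptSet_mem_supports_iff (tblImg_lt hT b), ptSet_tblImg hT]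
    exact h b (mem_spanList_of_mem _ (List.mem_reverse.2 hb))

lemma mem_M24_of_inM24 {T : ℕ} (h : inM24 T = true) : mkPerm T ∈ M24 := by
  have hT : validT T = true := by
    rw [inM24, Bool.and_eq_true] at h; exact h.1
  exact (inM24_iff hT).1 h

lemma validT_of_inM24 {T : ℕ} (h : inM24 T = true) : validT T = true := by
  rw [inM24, Bool.and_eq_true] at h; exact h.1

lemma mem_M24_of_tblOf {σ : Equiv.Perm GolayPt} (h : inM24 (tblOf σ) = true) : σ ∈ M24 := by
  simpa using mem_M24_of_inM24 h

lemma smul_mem_supports {σ : Equiv.Perm GolayPt} (hσ : σ ∈ M24) {s : Finset GolayPt}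
    (hs : s ∈ supports (golayCode : Set (GolayPt → ZMod 2))) :
    σ • s ∈ supports (golayCode : Set (GolayPt → ZMod 2)) := by
  rw [M24, setSystemAut, MulAction.mem_stabilizer_iff] at hσ
  rw [← hσ]; exact Set.smul_mem_smul_set hs

lemma smul_mem_wordsOfWeight {σ : Equiv.Perm GolayPt} (hσ : σ ∈ M24) {k : ℕ}
    {s : Finset GolayPt} (hs : s ∈ wordsOfWeight (golayCode : Set (GolayPt → ZMod 2)) k) :
    σ • s ∈ wordsOfWeight (golayCode : Set (GolayPt → ZMod 2)) k :=
  ⟨smul_mem_supports hσ hs.1, by rw [Finset.card_smul_finset]; exact hs.2⟩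

lemma smul_mem_octads {σ : Equiv.Perm GolayPt} (hσ : σ ∈ M24) {o : Finset GolayPt}
    (ho : o ∈ octads) : σ • o ∈ octads :=
  smul_mem_wordsOfWeight hσ ho

lemma smul_mem_dodecads {σ : Equiv.Perm GolayPt} (hσ : σ ∈ M24) {d : Finset GolayPt}
    (hd : d ∈ dodecads) : σ • d ∈ dodecads :=
  smul_mem_wordsOfWeight hσ hd

/-- An element fixing five points of an octad maps the octad to itself. -/
lemma smul_octad_eq {σ : Equiv.Perm GolayPt} (hσ : σ ∈ M24) {o : Finset GolayPt}
    (ho : o ∈ octads) {F : Finset GolayPt} (hF : ∀ p ∈ F, σ p = p) (h5 : 5 ≤ (o ∩ F).card) :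
    σ • o = o := by
  refine octad_eq_of_five (smul_mem_octads hσ ho) ho (h5.trans (Finset.card_le_card ?_))
  intro p hp
  rw [Finset.mem_inter] at hp ⊢
  refine ⟨?_, hp.1⟩
  rw [mem_smul_finset_iff, show σ.symm p = p from (Equiv.symm_apply_eq σ).2 (hF p hp.2).symm]
  exact hp.1

end Cfsg.Agent.Golay
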