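import Cfsg.Agent.Golay.SmallSets

/-!
Duads and triads: counts, transitivity and maximality of their stabilisers.
-/

set_option autoImplicit false
set_option Elab.async false

namespace Cfsg.Agent.Golay

open Cfsg
open scoped Pointwise

/-- Some octad contains the mask. -/
def inOctadB (m : ℕ) : Bool := octadList.any fun o => Nat.beq (Nat.land o m) m

lemma inOctadB_iff {s : Finset GolayPt} :
    (∃ o ∈ octads, s ⊆ o) ↔ inOctadB (maskOf s) = true := by
  rw [inOctadB, List.any_eq_true]
  constructor
  · rintro ⟨o, ho, hso⟩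
    refine ⟨maskOf o, mem_octads_iff.1 ho, ?_⟩
    rw [Nat.beq_eq]
    refine ptSet_injOn (and_lt_full (maskOf_lt _)) (maskOf_lt _) ?_
    show ptSet (maskOf o &&& maskOf s) = _
    rw [ptSet_and, ptSet_maskOf, ptSet_maskOf, Finset.inter_eq_right.2 hso]
  · rintro ⟨o, ho, h⟩
    refine ⟨ptSet o, ptSet_mem_octads ho, ?_⟩
    rw [Nat.beq_eq] at h
    rw [← ptSet_maskOf s, ← h]
    show ptSet (o &&& maskOf s) ⊆ _
    rw [ptSet_and]; exact Finset.inter_subset_left

lemma octad_over_smul {g : Equiv.Perm GolayPt} (hg : g ∈ M24) {s : Finset GolayPt} :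
    (∃ o ∈ octads, g • s ⊆ o) ↔ ∃ o ∈ octads, s ⊆ o := by
  constructor
  · rintro ⟨o, ho, h⟩
    exact ⟨g⁻¹ • o, smul_mem_octads (inv_mem hg) ho, by
      rwa [← Finset.smul_finset_subset_smul_finset_iff (a := g), smul_inv_smul]⟩
  · rintro ⟨o, ho, h⟩
    exact ⟨g • o, smul_mem_octads hg ho, Finset.smul_finset_subset_smul_finset h⟩

/-- Reference triad and duad. -/
def refTriad : ℕ := 2 ^ 23 ||| 2 ^ 0 ||| 2 ^ 1

/-- Reference duad. -/
def refDuad : ℕ := 2 ^ 23 ||| 2 ^ 0

lemma triad_count0 :
    ((kMasks 24 3).filter fun m => Nat.beq (H95.pc24 (Nat.land refTriad m)) 3).length = 1 := by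
  decide +kernel

lemma triad_count1 :
    ((kMasks 24 3).filter fun m => Nat.beq (H95.pc24 (Nat.land refTriad m)) 2).length = 63 := by
  decide +kernel

lemma triad_count2 :
    ((kMasks 24 3).filter fun m => Nat.beq (H95.pc24 (Nat.land refTriad m)) 1).length = 630 := by
  decide +kernel

/-- The triads disjoint from the reference triad. -/
def farTriads : List ℕ := (kMasks 24 3).filter fun m => Nat.beq (H95.pc24 (Nat.land refTriad m)) 0

lemma farTriads_length : farTriads.length = 1330 := by decide +kernel

/-- Membership of the union with the reference triad in an octad, on a slice of the far triads. -/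
def farCount (i : ℕ) : ℕ :=
  (((farTriads.drop (333 * i)).take 333).filter fun m => inOctadB (Nat.lor refTriad m)).length

lemma farCount0 : farCount 0 = 55 := by decide +kernel

lemma farCount1 : farCount 1 = 51 := by decide +kernel

lemma farCount2 : farCount 2 = 51 := by decide +kernel

lemma farCount3 : farCount 3 = 53 := by decide +kernel

lemma length_filter_not {α : Type*} (l : List α) (p : α → Bool) :
    (l.filter fun a => !p a).length + (l.filter p).length = l.length := by
  induction l with
  | nil => rfl
  | cons a l ih => cases h : p a <;> simp [List.filter_cons, h] <;> omega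

lemma filter_and_length {α : Type*} (l : List α) (q p : α → Bool) :
    (l.filter fun a => q a && p a).length = ((l.filter q).filter p).length := by
  rw [List.filter_filter]
  exact congrArg List.length (List.filter_congr fun a _ => Bool.and_comm _ _)

lemma farTriads_octad :
    (farTriads.filter fun m => inOctadB (Nat.lor refTriad m)).length = 210 := by
  have h0 := farCount0
  have h1 := farCount1
  have h2 := farCount2
  have h3 := farCount3
  unfold farCount at h0 h1 h2 h3
  have h4 : farTriads.drop 1332 = [] := List.drop_eq_nil_of_le (by rw [farTriads_length]; omega)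
  have e : farTriads = farTriads.take 333 ++ ((farTriads.drop 333).take 333 ++
      ((farTriads.drop 666).take 333 ++ ((farTriads.drop 999).take 333 ++ farTriads.drop 1332))) := by
    conv_lhs => rw [← List.take_append_drop 333 farTriads, ← List.take_append_drop 333 (farTriads.drop 333),
      List.drop_drop, ← List.take_append_drop 333 (farTriads.drop 666), List.drop_drop,
      ← List.take_append_drop 333 (farTriads.drop 999), List.drop_drop]
  rw [e, h4]
  simp only [List.filter_append, List.length_append, List.filter_nil, List.length_nil]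
  simp only [Nat.mul_zero, List.drop_zero, Nat.reduceMul] at h0 h1 h2 h3
  omega

lemma farTriads_def :
    farTriads = (kMasks 24 3).filter fun m => Nat.beq (H95.pc24 (Nat.land refTriad m)) 0 := rfl

lemma split_filter_counts {α : Type*} {L l : List α} {q p : α → Bool} {a n : ℕ}
    (e : l = L.filter q) (h1 : (l.filter p).length = a) (h2 : l.length = n) :
    (L.filter fun x => q x && p x).length = a ∧ (L.filter fun x => q x && !p x).length = n - a := by
  subst e
  refine ⟨(filter_and_length L q p).trans h1, ?_⟩
  rw [filter_and_length L q fun x => !p x]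
  have := length_filter_not (L.filter q) p
  omega

lemma triad_counts :
    ((kMasks 24 3).filter fun m => Nat.beq (H95.pc24 (Nat.land refTriad m)) 3).length = 1 ∧
    ((kMasks 24 3).filter fun m => Nat.beq (H95.pc24 (Nat.land refTriad m)) 2).length = 63 ∧
    ((kMasks 24 3).filter fun m => Nat.beq (H95.pc24 (Nat.land refTriad m)) 1).length = 630 ∧
    ((kMasks 24 3).filter fun m => Nat.beq (H95.pc24 (Nat.land refTriad m)) 0 &&
      inOctadB (Nat.lor refTriad m)).length = 210 ∧
    ((kMasks 24 3).filter fun m => Nat.beq (H95.pc24 (Nat.land refTriad m)) 0 &&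
      !inOctadB (Nat.lor refTriad m)).length = 1120 ∧
    popCnt refTriad = 3 ∧ popCnt refDuad = 2 := by
  obtain ⟨h1, h2⟩ := split_filter_counts (q := fun m => Nat.beq (H95.pc24 (Nat.land refTriad m)) 0)
    (p := fun m => inOctadB (Nat.lor refTriad m)) farTriads_def farTriads_octad farTriads_length
  exact ⟨triad_count0, triad_count1, triad_count2, h1, h2, by decide +kernel, by decide +kernel⟩

lemma duad_counts :
    ((kMasks 24 2).filter fun m => Nat.beq (H95.pc24 (Nat.land refDuad m)) 2).length = 1 ∧
    ((kMasks 24 2).filter fun m => Nat.beq (H95.pc24 (Nat.land refDuad m)) 1).length = 44 ∧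
    ((kMasks 24 2).filter fun m => Nat.beq (H95.pc24 (Nat.land refDuad m)) 0).length = 231 := by
  decide +kernel

lemma exists_map_set_of_card_le_five {s t : Finset GolayPt} (h : s.card = t.card) (h5 : s.card ≤ 5) :
    ∃ g : M24, g • s = t := by
  obtain ⟨g, hg, -⟩ := exists_map_pair_sets (T := s) (U := ∅) (T' := t) (U' := ∅) h rfl
    (by simp) (by simp; omega) (by simp; omega)
  exact ⟨g, hg⟩

lemma ncard_triad_rel {T : Finset GolayPt} (hT : T.card = 3) (j : ℕ) :
    {U : Finset GolayPt | U.card = 3 ∧ (T ∩ U).card = j}.ncard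
      = ((kMasks 24 3).filter fun m => Nat.beq (H95.pc24 (Nat.land refTriad m)) j).length := by
  obtain ⟨g, hg⟩ := exists_map_set_of_card_le_five (s := T) (t := ptSet refTriad)
    (by rw [hT, card_ptSet]; exact triad_counts.2.2.2.2.2.1.symm) (by omega)
  have hg' : (g : Equiv.Perm GolayPt) • T = ptSet refTriad := hg
  rw [H44.ncard_eq_of_perm (g : Equiv.Perm GolayPt)
    (T := {U : Finset GolayPt | U.card = 3 ∧ (ptSet refTriad ∩ U).card = j})]
  · obtain ⟨-, h1, h2, h3⟩ := kMasks_checks
    refine ncard_kSets_filter (by rw [h1]; decide) h2 h3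
      (fun m => Nat.beq (H95.pc24 (Nat.land refTriad m)) j) fun s => ?_
    rw [Nat.beq_eq, H95.pc24_eq, H44.card_inter_ptSet, Nat.and_comm]
    rfl
  · intro U
    simp only [Set.mem_setOf_eq]
    rw [← hg', Finset.card_smul_finset, H44.card_inter_smul]

lemma ncard_triad_six {T : Finset GolayPt} (hT : T.card = 3) :
    {U : Finset GolayPt | U.card = 3 ∧ Disjoint T U ∧ (∃ o ∈ octads, T ∪ U ⊆ o)}.ncard = 210 ∧
    {U : Finset GolayPt | U.card = 3 ∧ Disjoint T U ∧ ¬ (∃ o ∈ octads, T ∪ U ⊆ o)}.ncard
      = 1120 := by
  obtain ⟨g, hg⟩ := exists_map_set_of_card_le_five (s := T) (t := ptSet refTriad)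
    (by rw [hT, card_ptSet]; exact triad_counts.2.2.2.2.2.1.symm) (by omega)
  have hg' : (g : Equiv.Perm GolayPt) • T = ptSet refTriad := hg
  obtain ⟨-, h1, h2, h3⟩ := kMasks_checks
  have key : ∀ (ε : Bool),
      {U : Finset GolayPt | U.card = 3 ∧ Disjoint T U ∧
        ((∃ o ∈ octads, T ∪ U ⊆ o) ↔ ε = true)}.ncard
      = ((kMasks 24 3).filter fun m => Nat.beq (H95.pc24 (Nat.land refTriad m)) 0 &&
          (inOctadB (Nat.lor refTriad m) == ε)).length := by
    intro ε
    rw [H44.ncard_eq_of_perm (g : Equiv.Perm GolayPt)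
      (T := {U : Finset GolayPt | U.card = 3 ∧ Disjoint (ptSet refTriad) U ∧
        ((∃ o ∈ octads, ptSet refTriad ∪ U ⊆ o) ↔ ε = true)})]
    · refine ncard_kSets_filter (by rw [h1]; decide) h2 h3
        (fun m => Nat.beq (H95.pc24 (Nat.land refTriad m)) 0 &&
          (inOctadB (Nat.lor refTriad m) == ε)) fun s => ?_
      rw [Bool.and_eq_true, Nat.beq_eq, H95.pc24_eq, Finset.disjoint_iff_inter_eq_empty,
        ← Finset.card_eq_zero, H44.card_inter_ptSet, Nat.and_comm]
      refine and_congr Iff.rfl ?_
      rw [inOctadB_iff, show maskOf (ptSet refTriad ∪ s) = Nat.lor refTriad (maskOf s) from ?_,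
        beq_iff_eq, ← Bool.eq_iff_iff]
      refine ptSet_injOn (maskOf_lt _) (Nat.or_lt_two_pow (by decide) (maskOf_lt _)) ?_
      rw [ptSet_maskOf]
      show _ = ptSet (refTriad ||| maskOf s)
      rw [ptSet_or, ptSet_maskOf]
    · intro U
      simp only [Set.mem_setOf_eq]
      rw [← hg', Finset.card_smul_finset, ← Finset.smul_finset_union, octad_over_smul g.2,
        Finset.disjoint_iff_inter_eq_empty, Finset.disjoint_iff_inter_eq_empty,
        ← Finset.card_eq_zero, H44.card_inter_smul, ← Finset.card_eq_zero]
  have ht := key true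
  have hf := key false
  simp only [iff_true, beq_true, Bool.false_eq_true, iff_false, beq_false] at ht hf
  exact ⟨ht.trans triad_counts.2.2.2.1, hf.trans triad_counts.2.2.2.2.1⟩

theorem isCoatom_triad_stabilizer {T : Finset GolayPt} (hT : T.card = 3) :
    IsCoatom (MulAction.stabilizer M24 T) := by
  classical
  have horb : MulAction.orbit M24 T = {U | U.card = 3} := by
    ext U
    constructor
    · rintro ⟨g, rfl⟩
      show (g • T).card = 3
      rw [Finset.card_smul_finset, hT]
    · intro hU
      obtain ⟨g, hg⟩ := exists_map_set_of_card_le_five (s := T) (t := U)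
        (hT.trans (Eq.symm hU)) (by omega)
      exact ⟨g, hg⟩
  let label : Finset GolayPt → Fin 5 := fun U =>
    if (T ∩ U).card = 3 then 0 else if (T ∩ U).card = 2 then 1 else if (T ∩ U).card = 1 then 2
      else if ∃ o ∈ octads, T ∪ U ⊆ o then 3 else 4
  have hle : ∀ U : Finset GolayPt, (T ∩ U).card ≤ 3 := fun U =>
    (Finset.card_le_card Finset.inter_subset_left).trans hT.le
  obtain ⟨c3, c2, c1, -, -, -, -⟩ := triad_counts
  obtain ⟨c0, c0'⟩ := ncard_triad_six hT
  refine isCoatom_stabilizer_of_labels label ![1, 63, 630, 210, 1120] (by simp [label, hT]) rfl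
    ?_ ?_ (by decide) (by decide +kernel)
  · intro i
    rw [horb]
    fin_cases i
    · refine Eq.trans (congrArg Set.ncard ?_) ((ncard_triad_rel hT 3).trans c3)
      ext U; simp only [Set.mem_setOf_eq, label]; have := hle U; split_ifs <;> simp_all
    · refine Eq.trans (congrArg Set.ncard ?_) ((ncard_triad_rel hT 2).trans c2)
      ext U; simp only [Set.mem_setOf_eq, label]; have := hle U; split_ifs <;> simp_all
    · refine Eq.trans (congrArg Set.ncard ?_) ((ncard_triad_rel hT 1).trans c1)
      ext U; simp only [Set.mem_setOf_eq, label]; have := hle U; split_ifs <;> simp_all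
    · refine Eq.trans (congrArg Set.ncard ?_) c0
      ext U
      simp only [Set.mem_setOf_eq, label, Finset.disjoint_iff_inter_eq_empty, ← Finset.card_eq_zero]
      have := hle U
      interval_cases hk : (T ∩ U).card <;> simp_all [-Finset.card_eq_zero]
    · refine Eq.trans (congrArg Set.ncard ?_) c0'
      ext U
      simp only [Set.mem_setOf_eq, label, Finset.disjoint_iff_inter_eq_empty, ← Finset.card_eq_zero]
      have := hle U
      interval_cases hk : (T ∩ U).card <;> simp_all [-Finset.card_eq_zero]
  · intro y hy z hz h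
    rw [horb] at hy hz
    have h1 : (T ∩ y).card = (T ∩ z).card ∧ ((T ∩ y).card = 0 →
        ((∃ o ∈ octads, T ∪ y ⊆ o) ↔ ∃ o ∈ octads, T ∪ z ⊆ o)) := by
      have hly := hle y
      have hlz := hle z
      simp only [label] at h
      have hc : (T ∩ y).card = (T ∩ z).card := by
        interval_cases hk : (T ∩ y).card <;> interval_cases hk' : (T ∩ z).card <;>
          first
            | rfl
            | (exfalso; simp [hk, hk'] at h; done)
            | (exfalso; simp [hk, hk'] at h; split_ifs at h <;> exact absurd h (by decide))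
      refine ⟨hc, fun h0 => ?_⟩
      rw [← hc, h0] at h
      simp only [show ¬ (0 = 3) by decide, show ¬ (0 = 2) by decide, show ¬ (0 = 1) by decide,
        if_false] at h
      constructor <;> intro h' <;> by_contra hn
      · rw [if_pos h', if_neg hn] at h; exact absurd h (by decide)
      · rw [if_pos h', if_neg hn] at h; exact absurd h (by decide)
    have hu := Finset.card_union_add_card_inter T y
    rw [hT, show y.card = 3 from hy] at hu
    obtain ⟨g, hgT, hgy⟩ := exists_map_pair_sets (T := T) (U := y) (T' := T) (U' := z) rfl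
      (Eq.trans hy (Eq.symm hz)) h1.1 (by omega) (fun _ => h1.2 (by omega))
    exact ⟨g, hgT, hgy⟩

lemma ncard_duad_rel {s : Finset GolayPt} (hs : s.card = 2) (j : ℕ) :
    {t : Finset GolayPt | t.card = 2 ∧ (s ∩ t).card = j}.ncard
      = ((kMasks 24 2).filter fun m => Nat.beq (H95.pc24 (Nat.land refDuad m)) j).length := by
  obtain ⟨g, hg⟩ := exists_map_set_of_card_le_five (s := s) (t := ptSet refDuad)
    (by rw [hs, card_ptSet]; exact triad_counts.2.2.2.2.2.2.symm) (by omega)
  have hg' : (g : Equiv.Perm GolayPt) • s = ptSet refDuad := hg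
  rw [H44.ncard_eq_of_perm (g : Equiv.Perm GolayPt)
    (T := {t : Finset GolayPt | t.card = 2 ∧ (ptSet refDuad ∩ t).card = j})]
  · obtain ⟨⟨h1, h2, h3⟩, -⟩ := kMasks_checks
    refine ncard_kSets_filter (by rw [h1]; decide) h2 h3
      (fun m => Nat.beq (H95.pc24 (Nat.land refDuad m)) j) fun t => ?_
    rw [Nat.beq_eq, H95.pc24_eq, H44.card_inter_ptSet, Nat.and_comm]
    rfl
  · intro t
    simp only [Set.mem_setOf_eq]
    rw [← hg', Finset.card_smul_finset, H44.card_inter_smul]

theorem isCoatom_duad_stabilizer {s : Finset GolayPt} (hs : s.card = 2) :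
    IsCoatom (MulAction.stabilizer M24 s) := by
  classical
  have horb : MulAction.orbit M24 s = {t | t.card = 2} := by
    ext t
    constructor
    · rintro ⟨g, rfl⟩
      show (g • s).card = 2
      rw [Finset.card_smul_finset, hs]
    · intro ht
      obtain ⟨g, hg⟩ := exists_map_set_of_card_le_five (s := s) (t := t)
        (hs.trans (Eq.symm ht)) (by omega)
      exact ⟨g, hg⟩
  let label : Finset GolayPt → Fin 3 := fun t =>
    if (s ∩ t).card = 2 then 0 else if (s ∩ t).card = 1 then 1 else 2
  have hle : ∀ t : Finset GolayPt, (s ∩ t).card ≤ 2 := fun t =>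
    (Finset.card_le_card Finset.inter_subset_left).trans hs.le
  obtain ⟨c2, c1, c0⟩ := duad_counts
  refine isCoatom_stabilizer_of_labels label ![1, 44, 231] (by simp [label, hs]) rfl
    ?_ ?_ (by decide) (by decide +kernel)
  · intro i
    rw [horb]
    fin_cases i
    · refine Eq.trans (congrArg Set.ncard ?_) ((ncard_duad_rel hs 2).trans c2)
      ext t; simp only [Set.mem_setOf_eq, label]; have := hle t; split_ifs <;> simp_all
    · refine Eq.trans (congrArg Set.ncard ?_) ((ncard_duad_rel hs 1).trans c1)
      ext t; simp only [Set.mem_setOf_eq, label]; have := hle t; split_ifs <;> simp_all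
    · refine Eq.trans (congrArg Set.ncard ?_) ((ncard_duad_rel hs 0).trans c0)
      ext t; simp only [Set.mem_setOf_eq, label]; have := hle t
      interval_cases hk : (s ∩ t).card <;> simp_all [-Finset.card_eq_zero]
  · intro y hy z hz h
    rw [horb] at hy hz
    have h1 : (s ∩ y).card = (s ∩ z).card := by
      have hly := hle y
      have hlz := hle z
      simp only [label] at h
      interval_cases hk : (s ∩ y).card <;> interval_cases hk' : (s ∩ z).card <;>
        simp_all [-Finset.card_eq_zero]
    have hu := Finset.card_union_add_card_inter s y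
    rw [hs, show y.card = 2 from hy] at hu
    obtain ⟨g, hgs, hgy⟩ := exists_map_pair_sets (T := s) (U := y) (T' := s) (U' := z) rfl
      (Eq.trans hy (Eq.symm hz)) h1 (by omega) (fun _ => by omega)
    exact ⟨g, hgs, hgy⟩

end Cfsg.Agent.Golay
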