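import Cfsg.Agent.H29.GolayExt
import Cfsg.Agent.Golay.CodeFacts

/-!
A doubly even self-dual code of length 24 without words of weight 4 is the code built from squares:
its words of weight 8 form a Steiner system, by counting cosets.
-/

set_option autoImplicit false

namespace Cfsg.Agent.Golay

open Cfsg
open scoped Pointwise symmDiff

/-- Indicator word of a set of positions. -/
def setWord (s : Finset (Fin 24)) : Fin 24 → ZMod 2 := fun i => if i ∈ s then 1 else 0

lemma setWord_add (s t : Finset (Fin 24)) : setWord s + setWord t = setWord (s ∆ t) := by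
  funext i
  simp only [setWord, Pi.add_apply, Finset.mem_symmDiff]
  by_cases h1 : i ∈ s <;> by_cases h2 : i ∈ t <;> simp [h1, h2]
  decide

lemma hammingNorm_setWord (s : Finset (Fin 24)) : hammingNorm (setWord s) = s.card := by
  rw [hammingNorm]
  congr 1
  ext i
  simp [setWord]

lemma zmod2_sub_eq_add (v w : Fin 24 → ZMod 2) : v - w = v + w := by
  funext i
  simp only [Pi.sub_apply, Pi.add_apply]
  generalize v i = a
  generalize w i = b
  revert a b; decide

variable (C : Submodule (ZMod 2) (Fin 24 → ZMod 2))

/-- The weight-eight supports of a code. -/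
def codeBlocks : Set (Finset (Fin 24)) := {b | b.card = 8 ∧ setWord b ∈ C}

variable {C}

lemma symmDiff_small (h4 : ∀ w ∈ C, 4 ∣ hammingNorm w) (hno4 : ∀ w ∈ C, hammingNorm w ≠ 4)
    {s t : Finset (Fin 24)} (h : setWord (s ∆ t) ∈ C) (hc : (s ∆ t).card < 8) : s = t := by
  have a := h4 _ h
  have b := hno4 _ h
  rw [hammingNorm_setWord] at a b
  have : (s ∆ t).card = 0 := by omega
  exact symmDiff_eq_bot.1 (Finset.card_eq_zero.1 this)

lemma card_symmDiff_le (s t : Finset (Fin 24)) : (s ∆ t).card ≤ s.card + t.card :=
  (Finset.card_le_card (show s ∆ t ⊆ s ∪ t from symmDiff_le_sup)).trans (Finset.card_union_le s t)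

theorem codeBlocks_isSteiner (hdim : Module.finrank (ZMod 2) C = 12)
    (h4 : ∀ w ∈ C, 4 ∣ hammingNorm w) (hno4 : ∀ w ∈ C, hammingNorm w ≠ 4) :
    IsSteinerSystem 5 8 (codeBlocks C) := by
  classical
  refine ⟨fun b hb => hb.1, fun s hs => ?_⟩
  refine existsUnique_of_exists_of_unique ?_ ?_
  swap
  · rintro b b' ⟨hb, hsb⟩ ⟨hb', hsb'⟩
    refine symmDiff_small h4 hno4 (setWord_add b b' ▸ C.add_mem hb.2 hb'.2) ?_
    have h1 : (b ∆ b').card + 2 * (b ∩ b').card = b.card + b'.card := by
      rw [Finset.symmDiff_def, Finset.card_union_of_disjoint disjoint_sdiff_sdiff,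
        ← Finset.card_sdiff_add_card_inter b b', ← Finset.card_sdiff_add_card_inter b' b,
        Finset.inter_comm b' b]
      omega
    have h2 := Finset.card_le_card (Finset.subset_inter hsb hsb')
    have := hb.1
    have := hb'.1
    omega
  -- classes of small sets
  let q : Finset (Fin 24) → (Fin 24 → ZMod 2) ⧸ C := fun t => Submodule.Quotient.mk (setWord t)
  have hq : ∀ {t u : Finset (Fin 24)}, q t = q u → setWord (t ∆ u) ∈ C := by
    intro t u h
    rw [← setWord_add, ← zmod2_sub_eq_add]
    exact (Submodule.Quotient.eq C).1 h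
  haveI : Fintype ((Fin 24 → ZMod 2) ⧸ C) := Fintype.ofFinite _
  have hQ : Fintype.card ((Fin 24 → ZMod 2) ⧸ C) = 4096 := by
    rw [Module.card_eq_pow_finrank (K := ZMod 2), ZMod.card, Submodule.finrank_quotient,
      Module.finrank_fin_fun, hdim]
    norm_num
  set L : Finset (Finset (Fin 24)) := Finset.univ.filter fun t => t.card ≤ 3 with hL
  set F : Finset (Finset (Fin 24)) := Finset.univ.powersetCard 4 with hF
  have hLcard : L.card = 2325 := by
    have e : L = (Finset.univ : Finset (Fin 24)).powersetCard 0 ∪
        (Finset.univ : Finset (Fin 24)).powersetCard 1 ∪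
        (Finset.univ : Finset (Fin 24)).powersetCard 2 ∪
        (Finset.univ : Finset (Fin 24)).powersetCard 3 := by
      ext t
      simp only [hL, Finset.mem_filter, Finset.mem_univ, true_and, Finset.mem_union,
        Finset.mem_powersetCard, Finset.subset_univ]
      omega
    rw [e, Finset.card_union_of_disjoint, Finset.card_union_of_disjoint,
      Finset.card_union_of_disjoint, Finset.card_powersetCard, Finset.card_powersetCard,
      Finset.card_powersetCard, Finset.card_powersetCard]
    · simp only [Finset.card_univ, Fintype.card_fin]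
      rfl
    all_goals
      rw [Finset.disjoint_left]
      intro t ht ht'
      simp only [Finset.mem_union, Finset.mem_powersetCard, Finset.subset_univ, true_and] at ht ht'
      omega
  have hFc : ∀ t ∈ F, t.card = 4 := fun t ht => (Finset.mem_powersetCard.1 ht).2
  have hLinj : Set.InjOn q (L : Set (Finset (Fin 24))) := by
    intro t ht u hu h
    refine symmDiff_small h4 hno4 (hq h) ?_
    have := card_symmDiff_le t u
    simp only [hL, Finset.coe_filter, Finset.mem_univ, true_and, Set.mem_setOf_eq] at ht hu
    omega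
  have hdis : Disjoint (L.image q) (F.image q) := by
    rw [Finset.disjoint_left]
    intro c hc hc'
    obtain ⟨t, ht, rfl⟩ := Finset.mem_image.1 hc
    obtain ⟨u, hu, he⟩ := Finset.mem_image.1 hc'
    simp only [hL, Finset.mem_filter] at ht
    have := symmDiff_small h4 hno4 (hq he) (by
      have := card_symmDiff_le u t
      have := hFc u hu
      omega)
    subst this
    have := hFc u hu
    omega
  have hFim : (F.image q).card ≤ 1771 := by
    have h1 := Finset.card_le_univ (L.image q ∪ F.image q)
    rw [Finset.card_union_of_disjoint hdis, Finset.card_image_of_injOn hLinj, hLcard, hQ] at h1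
    omega
  have hsix : ∀ c, (F.filter fun t => q t = c).card ≤ 6 ∧
      ((F.filter fun t => q t = c).card = 6 → ∀ p, ∃ u ∈ F, q u = c ∧ p ∈ u) := by
    intro c
    set S := F.filter fun t => q t = c with hS
    have hpd : (S : Set (Finset (Fin 24))).PairwiseDisjoint id := by
      intro t ht u hu hne
      simp only [hS, Finset.coe_filter, Set.mem_setOf_eq] at ht hu
      show Disjoint t u
      rw [Finset.disjoint_iff_inter_eq_empty]
      by_contra hi
      refine hne (symmDiff_small h4 hno4 (hq (ht.2.trans hu.2.symm)) ?_)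
      have hpos := Finset.card_pos.2 (Finset.nonempty_iff_ne_empty.2 hi)
      rw [Finset.symmDiff_def, Finset.card_union_of_disjoint disjoint_sdiff_sdiff]
      have := Finset.card_sdiff_add_card_inter t u
      have := Finset.card_sdiff_add_card_inter u t
      rw [Finset.inter_comm u t] at this
      have := hFc t ht.1
      have := hFc u hu.1
      omega
    have hcard : (S.biUnion id).card = 4 * S.card := by
      rw [Finset.card_biUnion hpd]
      refine (Finset.sum_congr rfl (g := fun _ => 4) fun t ht =>
        hFc t (Finset.mem_filter.1 ht).1).trans ?_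
      simp [hS, mul_comm]
    have hle := Finset.card_le_univ (S.biUnion id)
    rw [hcard, Fintype.card_fin] at hle
    refine ⟨by omega, fun h6 p => ?_⟩
    have huniv : S.biUnion id = Finset.univ :=
      Finset.card_eq_iff_eq_univ _ |>.1 (by rw [hcard, h6, Fintype.card_fin])
    have hp : p ∈ S.biUnion id := huniv.symm ▸ Finset.mem_univ p
    obtain ⟨u, hu, hpu⟩ := Finset.mem_biUnion.1 hp
    exact ⟨u, (Finset.mem_filter.1 hu).1, (Finset.mem_filter.1 hu).2, hpu⟩
  obtain ⟨p, hp⟩ := Finset.card_pos.1 (show 0 < s.card by omega)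
  set t := s.erase p with ht
  have htF : t ∈ F := Finset.mem_powersetCard.2
    ⟨Finset.subset_univ _, by rw [ht, Finset.card_erase_of_mem hp, hs]⟩
  have h6 : (F.filter fun u => q u = q t).card = 6 := by
    refine le_antisymm (hsix _).1 ?_
    by_contra hlt
    have hsum : F.card = ∑ c ∈ F.image q, (F.filter fun u => q u = c).card :=
      Finset.card_eq_sum_card_fiberwise fun u hu => Finset.mem_image_of_mem q hu
    have hlts : ∑ c ∈ F.image q, (F.filter fun u => q u = c).card < ∑ c ∈ F.image q, 6 :=
      Finset.sum_lt_sum (fun c _ => (hsix c).1)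
        ⟨q t, Finset.mem_image_of_mem q htF, by omega⟩
    have hFcard : F.card = 10626 := by
      rw [hF, Finset.card_powersetCard, Finset.card_univ, Fintype.card_fin]
      decide
    rw [← hsum, hFcard, Finset.sum_const, smul_eq_mul] at hlts
    have := Nat.mul_le_mul_right 6 hFim
    omega
  obtain ⟨u, huF, huc, hpu⟩ := (hsix _).2 h6 p
  have hne : u ≠ t := fun e => Finset.notMem_erase p s (by rw [← ht, ← e]; exact hpu)
  have hmem := hq huc
  have hd8 : (u ∆ t).card = 8 := by
    have := card_symmDiff_le u t
    have := hFc u huF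
    have := hFc t htF
    by_contra hlt
    exact hne (symmDiff_small h4 hno4 hmem (by omega))
  have hdisj : Disjoint u t := by
    rw [Finset.disjoint_iff_inter_eq_empty, ← Finset.card_eq_zero]
    have := Finset.card_union_add_card_inter u t
    have := Finset.card_le_card (show u ∆ t ⊆ u ∪ t from symmDiff_le_sup)
    have := hFc u huF
    have := hFc t htF
    omega
  refine ⟨u ∆ t, ⟨hd8, hmem⟩, ?_⟩
  rw [Disjoint.symmDiff_eq_sup hdisj]
  intro x hx
  rcases eq_or_ne x p with rfl | hxp
  · exact Finset.mem_union_left _ hpu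
  · exact Finset.mem_union_right _ (Finset.mem_erase.2 ⟨hxp, hx⟩)

lemma basisList_octads : ∀ b ∈ basisList, b ∈ octadList := by decide +kernel

theorem code_unique (C : Submodule (ZMod 2) (Fin 24 → ZMod 2))
    (hdim : Module.finrank (ZMod 2) C = 12)
    (h4 : ∀ w ∈ C, 4 ∣ hammingNorm w) (hno4 : ∀ w ∈ C, hammingNorm w ≠ 4) :
    ∃ e : Fin 24 ≃ GolayPt, ∀ w : GolayPt → ZMod 2, w ∈ golayCode ↔ (fun i => w (e i)) ∈ C := by
  classical
  obtain ⟨f, hfX, hf⟩ := H29.exists_embed24 (Fintype.card_fin 24) (codeBlocks_isSteiner hdim h4 hno4)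
  have hsurj : Function.Surjective f := fun p => by
    have : p ∈ Finset.univ.map f := hfX ▸ Finset.mem_univ p
    obtain ⟨i, -, hi⟩ := Finset.mem_map.1 this
    exact ⟨i, hi⟩
  let τ : Fin 24 ≃ GolayPt := Equiv.ofBijective f ⟨f.injective, hsurj⟩
  refine ⟨τ, ?_⟩
  let φ : (GolayPt → ZMod 2) ≃ₗ[ZMod 2] (Fin 24 → ZMod 2) :=
    LinearEquiv.funCongrLeft (ZMod 2) (ZMod 2) τ
  set D := C.comap φ.toLinearMap with hD
  have hDdim : Module.finrank (ZMod 2) D = 12 := by
    rw [hD, Submodule.comap_equiv_eq_map_symm, LinearEquiv.finrank_map_eq, hdim]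
  have hle : golayCode ≤ D := by
    intro w hw
    rw [← maskWord_wordMask w]
    refine (spanList_induction (P := fun m => m < 2 ^ 24 ∧ maskWord m ∈ D) _ ?_ ?_ ?_ _
      (mem_golayCode_iff.1 hw)).2
    · refine ⟨by norm_num, ?_⟩
      rw [show maskWord 0 = 0 by funext p; simp [maskWord]]
      exact Submodule.zero_mem _
    · intro b hb
      rw [List.mem_reverse] at hb
      have hbo := basisList_octads b hb
      refine ⟨octadList_lt hbo, ?_⟩
      have ho := ptSet_mem_octads hbo
      rw [← hf] at ho
      obtain ⟨b', hb', hbb⟩ := ho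
      show φ (maskWord b) ∈ C
      rw [show φ (maskWord b) = setWord b' from funext fun i => ?_]
      · exact hb'.2
      show maskWord b (f i) = setWord b' i
      have hiff : b.testBit (idx (f i)) = true ↔ i ∈ b' := by
        rw [← mem_ptSet, ← hbb]
        exact Finset.mem_map' f
      simp only [maskWord, setWord, hiff]
    · rintro a b ⟨ha, ha'⟩ ⟨hb, hb'⟩
      refine ⟨xor_lt_full ha hb, ?_⟩
      rw [show maskWord (a ^^^ b) = maskWord a + maskWord b from ?_]
      · exact Submodule.add_mem _ ha' hb'
      · apply support₂_injective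
        rw [support₂_add, support₂_maskWord, support₂_maskWord, support₂_maskWord, ptSet_xor]
  have heq : golayCode = D := Submodule.eq_of_le_of_finrank_eq hle (by rw [hDdim, finrank_golayCode])
  intro w
  rw [heq]
  exact Iff.rfl

end Cfsg.Agent.Golay
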