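import Cfsg.Agent.Golay.Monomial

/-!
A lattice automorphism outside the monomial group, attached to a sextet.
-/

set_option autoImplicit false

namespace Cfsg.Agent.Golay

open Cfsg
open scoped Pointwise

/-- The tetrad (numbered 0 to 5) containing a point, for a fixed sextet. -/
def tetIdx (i : GolayPt) : Fin 6 :=
  ⟨((409903395717677896192 >>> (3 * idx i)) &&& 7) % 6, Nat.mod_lt _ (by norm_num)⟩

lemma tetIdx_card : ∀ t : Fin 6, (Finset.univ.filter fun i => tetIdx i = t).card = 4 := by
  decide +kernel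

/-- Sum of the coordinates in a tetrad. -/
def tetSum (x : GolayPt → ℤ) (t : Fin 6) : ℤ := ∑ j ∈ Finset.univ.filter (fun i => tetIdx i = t), x j

/-- Sign attached to a tetrad. -/
def tetSign (t : Fin 6) : ℤ := if t = 0 then -1 else 1

/-- The map `x ↦ ± (half the tetrad sum − x)`. -/
def zetaFun (x : GolayPt → ℤ) : GolayPt → ℤ :=
  fun i => tetSign (tetIdx i) * (tetSum x (tetIdx i) / 2 - x i)

/-- Membership in the lattice, as a Boolean. -/
def inLeech (x : GolayPt → ℤ) : Bool :=
  decide (∀ i, x i % 2 = x none % 2) && decide ((∑ i, x i) % 8 = 4 * x none % 8) &&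
    inCode (wordMask (digitWord x))

lemma mem_of_inLeech {x : GolayPt → ℤ} (h : inLeech x = true) : x ∈ leechLattice := by
  simp only [inLeech, Bool.and_eq_true, decide_eq_true_eq] at h
  exact mem_leech_iff.2 ⟨x none, h.1.1, h.1.2, mem_golayCode_iff.2 (inCode_iff.1 h.2)⟩

lemma tetSum_add (x y : GolayPt → ℤ) (t : Fin 6) : tetSum (x + y) t = tetSum x t + tetSum y t := by
  simp [tetSum, Finset.sum_add_distrib]

/-- Vectors with even tetrad sums and image in the lattice. -/
def zetaDom : AddSubgroup (GolayPt → ℤ) where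
  carrier := {x | (∀ t, tetSum x t % 2 = 0) ∧ zetaFun x ∈ leechLattice}
  zero_mem' := by
    refine ⟨fun t => by simp [tetSum], ?_⟩
    rw [show zetaFun 0 = 0 by funext i; simp [zetaFun, tetSum]]
    exact zero_mem _
  add_mem' := by
    rintro x y ⟨h1, h2⟩ ⟨k1, k2⟩
    refine ⟨fun t => by rw [tetSum_add]; have := h1 t; have := k1 t; omega, ?_⟩
    rw [show zetaFun (x + y) = zetaFun x + zetaFun y by
      funext i
      simp only [zetaFun, Pi.add_apply, tetSum_add, ← mul_add]
      congr 1
      have := h1 (tetIdx i); have := k1 (tetIdx i)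
      omega]
    exact add_mem h2 k2
  neg_mem' := by
    rintro x ⟨h1, h2⟩
    have hs : ∀ t, tetSum (-x) t = -tetSum x t := fun t => by simp [tetSum]
    refine ⟨fun t => by rw [hs]; have := h1 t; omega, ?_⟩
    rw [show zetaFun (-x) = -zetaFun x by
      funext i
      simp only [zetaFun, Pi.neg_apply, hs, ← mul_neg]
      congr 1
      have := h1 (tetIdx i)
      omega]
    exact neg_mem h2

lemma zetaDom_gens :
    ((∀ t, tetSum oddMin t % 2 = 0) ∧ inLeech (zetaFun oddMin) = true) ∧
    (∀ b ∈ basisList, (∀ t, tetSum (fun i => if b.testBit (idx i) then (2 : ℤ) else 0) t % 2 = 0) ∧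
      inLeech (zetaFun fun i => if b.testBit (idx i) then (2 : ℤ) else 0) = true) ∧
    (∀ l : GolayPt, l ≠ none →
      (∀ t, tetSum (fun i => if i = l then (4 : ℤ) else if i = none then -4 else 0) t % 2 = 0) ∧
      inLeech (zetaFun fun i => if i = l then (4 : ℤ) else if i = none then -4 else 0) = true) ∧
    (∀ t, tetSum (fun i => if i = none then (8 : ℤ) else 0) t % 2 = 0) ∧
      inLeech (zetaFun fun i => if i = none then (8 : ℤ) else 0) = true := by
  decide +kernel

lemma leech_le_zetaDom : leechLattice ≤ zetaDom := by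
  obtain ⟨h1, h2, h3, h4, h5⟩ := zetaDom_gens
  refine leech_le_of_gens _ ⟨h1.1, mem_of_inLeech h1.2⟩
    (fun b hb => ⟨(h2 b hb).1, mem_of_inLeech (h2 b hb).2⟩) (fun l hl => ?_) ?_
  · rw [show (4 : ℕ) • (Pi.single l (1 : ℤ) - Pi.single none 1)
        = fun i => if i = l then (4 : ℤ) else if i = none then -4 else 0 by
      funext q
      rcases eq_or_ne q l with rfl | g1
      · simp [hl]
      · rcases eq_or_ne q none with rfl | g2
        · simp [g1]
        · simp [g1, g2]]
    exact ⟨(h3 l hl).1, mem_of_inLeech (h3 l hl).2⟩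
  · rw [show (8 : ℕ) • (Pi.single (none : GolayPt) (1 : ℤ))
        = fun i => if i = none then (8 : ℤ) else 0 by
      funext q
      rcases eq_or_ne q none with rfl | g2
      · simp
      · simp [g2]]
    exact ⟨h4, mem_of_inLeech h5⟩

lemma zetaFun_tetSum {x : GolayPt → ℤ} (hx : ∀ t, tetSum x t % 2 = 0) (t : Fin 6) :
    tetSum (zetaFun x) t = tetSign t * tetSum x t := by
  rw [tetSum, Finset.sum_congr rfl (g := fun i => tetSign t * (tetSum x t / 2) - tetSign t * x i)
    (fun i hi => by rw [zetaFun, (Finset.mem_filter.1 hi).2, mul_sub]),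
    Finset.sum_sub_distrib, Finset.sum_const, tetIdx_card, ← Finset.mul_sum]
  show 4 • _ - tetSign t * tetSum x t = _
  have := hx t
  rcases (show tetSign t = 1 ∨ tetSign t = -1 by unfold tetSign; split <;> simp) with h | h <;>
    rw [h] <;> simp only [nsmul_eq_mul, Nat.cast_ofNat] <;> omega

lemma zetaFun_zetaFun {x : GolayPt → ℤ} (hx : ∀ t, tetSum x t % 2 = 0) :
    zetaFun (zetaFun x) = x := by
  funext i
  have hs := hx (tetIdx i)
  conv_lhs => rw [zetaFun, zetaFun_tetSum hx]
  simp only [zetaFun]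
  rcases (show tetSign (tetIdx i) = 1 ∨ tetSign (tetIdx i) = -1 by
    unfold tetSign; split <;> simp) with h | h <;> rw [h] <;> omega

lemma sqNorm_zetaFun {x : GolayPt → ℤ} (hx : ∀ t, tetSum x t % 2 = 0) :
    sqNorm (zetaFun x) = sqNorm x := by
  rw [sqNorm, sqNorm, ← Finset.sum_fiberwise Finset.univ tetIdx (fun i => zetaFun x i ^ 2),
    ← Finset.sum_fiberwise Finset.univ tetIdx (fun i => x i ^ 2)]
  refine Finset.sum_congr rfl fun t _ => ?_
  set h := tetSum x t / 2 with hh
  rw [Finset.sum_congr rfl (g := fun i => h ^ 2 + (x i ^ 2 - 2 * h * x i)) (fun i hi => by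
      rw [zetaFun, (Finset.mem_filter.1 hi).2, mul_pow,
        show tetSign t ^ 2 = 1 by unfold tetSign; split <;> norm_num, ← hh]
      ring),
    Finset.sum_add_distrib, Finset.sum_sub_distrib, Finset.sum_const, tetIdx_card,
    ← Finset.mul_sum]
  show 4 • h ^ 2 + (_ - 2 * h * tetSum x t) = _
  have h2 : tetSum x t = 2 * h := by have := hx t; omega
  rw [h2]
  simp only [nsmul_eq_mul, Nat.cast_ofNat]
  ring

/-- The sextet automorphism of the lattice. -/
def zeta : Co0 :=
  ⟨{ toFun := fun v => ⟨zetaFun v.1, (leech_le_zetaDom v.2).2⟩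
     invFun := fun v => ⟨zetaFun v.1, (leech_le_zetaDom v.2).2⟩
     left_inv := fun v => Subtype.ext (zetaFun_zetaFun (leech_le_zetaDom v.2).1)
     right_inv := fun v => Subtype.ext (zetaFun_zetaFun (leech_le_zetaDom v.2).1) },
    fun v w => Subtype.ext (by
      funext i
      have h1 := (leech_le_zetaDom v.2).1 (tetIdx i)
      have h2 := (leech_le_zetaDom w.2).1 (tetIdx i)
      simp only [Equiv.coe_fn_mk, AddSubgroup.coe_add, Pi.add_apply, zetaFun, tetSum_add, ← mul_add]
      congr 1
      omega),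
    fun v => sqNorm_zetaFun (leech_le_zetaDom v.2).1⟩

lemma zeta_apply (v : leechLattice) :
    ((zeta • v : leechLattice) : GolayPt → ℤ) = zetaFun v.1 := rfl

end Cfsg.Agent.Golay
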